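import Cfsg.Agent.M24.Chain

/-! # The model of `Suz`: chains -/

set_option autoImplicit false
set_option maxRecDepth 100000

namespace Cfsg.Agent.SZ

open Cfsg.Agent.M24

def l0t_0 : T := (.node (.node (.node (.node (.node (.node (.node .nil (nat_lit 0) (nat_lit 88) (nat_lit 416)
  .nil) (nat_lit 1) (nat_lit 90) (nat_lit 941) (.node .nil (nat_lit 2) (nat_lit 85) (nat_lit 941) .nil))
  (nat_lit 3) (nat_lit 88) (nat_lit 798) (.node (.node .nil (nat_lit 4) (nat_lit 101) (nat_lit 467) .nil)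
  (nat_lit 5) (nat_lit 90) (nat_lit 798) .nil)) (nat_lit 6) (nat_lit 109) (nat_lit 26) (.node (.node (.node
  .nil (nat_lit 7) (nat_lit 110) (nat_lit 26) .nil) (nat_lit 8) (nat_lit 104) (nat_lit 1532) (.node .nil
  (nat_lit 9) (nat_lit 109) (nat_lit 31) .nil)) (nat_lit 10) (nat_lit 97) (nat_lit 100) (.node (.node .nil
  (nat_lit 11) (nat_lit 103) (nat_lit 1574) .nil) (nat_lit 12) (nat_lit 87) (nat_lit 1571) .nil))) (nat_lit
  13) (nat_lit 97) (nat_lit 99) (.node (.node (.node (.node .nil (nat_lit 14) (nat_lit 104) (nat_lit 426)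
  .nil) (nat_lit 15) (nat_lit 110) (nat_lit 73) (.node .nil (nat_lit 16) (nat_lit 134) (nat_lit 481) .nil))
  (nat_lit 17) (nat_lit 113) (nat_lit 514) (.node (.node .nil (nat_lit 18) (nat_lit 88) (nat_lit 1701) .nil)
  (nat_lit 19) (nat_lit 94) (nat_lit 415) .nil)) (nat_lit 20) (nat_lit 81) (nat_lit 201) (.node (.node (.node
  .nil (nat_lit 21) (nat_lit 81) (nat_lit 204) .nil) (nat_lit 22) (nat_lit 107) (nat_lit 1574) (.node .nil
  (nat_lit 23) (nat_lit 91) (nat_lit 1571) .nil)) (nat_lit 24) (nat_lit 88) (nat_lit 1569) (.node (.node .nil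
  (nat_lit 25) (nat_lit 80) (nat_lit 502) .nil) (nat_lit 26) (nat_lit 89) (nat_lit 1571) .nil)))) (nat_lit 27)
  (nat_lit 81) (nat_lit 700) (.node (.node (.node (.node (.node .nil (nat_lit 28) (nat_lit 87) (nat_lit 190)
  .nil) (nat_lit 29) (nat_lit 97) (nat_lit 696) (.node .nil (nat_lit 30) (nat_lit 104) (nat_lit 1574) .nil))
  (nat_lit 31) (nat_lit 88) (nat_lit 1571) (.node (.node .nil (nat_lit 32) (nat_lit 104) (nat_lit 797) .nil)
  (nat_lit 33) (nat_lit 103) (nat_lit 76) .nil)) (nat_lit 34) (nat_lit 84) (nat_lit 939) (.node (.node (.node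
  .nil (nat_lit 35) (nat_lit 99) (nat_lit 743) .nil) (nat_lit 36) (nat_lit 129) (nat_lit 513) (.node .nil
  (nat_lit 37) (nat_lit 103) (nat_lit 195) .nil)) (nat_lit 38) (nat_lit 104) (nat_lit 427) (.node (.node .nil
  (nat_lit 39) (nat_lit 118) (nat_lit 917) .nil) (nat_lit 40) (nat_lit 103) (nat_lit 108) .nil))) (nat_lit 41)
  (nat_lit 96) (nat_lit 597) (.node (.node (.node (.node .nil (nat_lit 42) (nat_lit 82) (nat_lit 93) .nil)
  (nat_lit 43) (nat_lit 98) (nat_lit 79) (.node .nil (nat_lit 44) (nat_lit 83) (nat_lit 1569) .nil)) (nat_lit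
  45) (nat_lit 139) (nat_lit 844) (.node (.node .nil (nat_lit 46) (nat_lit 135) (nat_lit 1008) .nil) (nat_lit
  47) (nat_lit 139) (nat_lit 937) .nil)) (nat_lit 48) (nat_lit 135) (nat_lit 1007) (.node (.node (.node .nil
  (nat_lit 49) (nat_lit 104) (nat_lit 492) .nil) (nat_lit 50) (nat_lit 120) (nat_lit 489) (.node .nil (nat_lit
  51) (nat_lit 104) (nat_lit 488) .nil)) (nat_lit 52) (nat_lit 120) (nat_lit 486) (.node (.node .nil (nat_lit
  53) (nat_lit 84) (nat_lit 502) .nil) (nat_lit 54) (nat_lit 94) (nat_lit 416) .nil))))) (nat_lit 55) (nat_lit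
  72) (nat_lit 1700) (.node (.node (.node (.node (.node (.node .nil (nat_lit 56) (nat_lit 123) (nat_lit 788)
  .nil) (nat_lit 57) (nat_lit 124) (nat_lit 420) (.node .nil (nat_lit 58) (nat_lit 132) (nat_lit 813) .nil))
  (nat_lit 59) (nat_lit 140) (nat_lit 829) (.node (.node .nil (nat_lit 60) (nat_lit 139) (nat_lit 731) .nil)
  (nat_lit 61) (nat_lit 118) (nat_lit 794) .nil)) (nat_lit 62) (nat_lit 142) (nat_lit 385) (.node (.node
  (.node .nil (nat_lit 63) (nat_lit 131) (nat_lit 912) .nil) (nat_lit 64) (nat_lit 120) (nat_lit 490) (.node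
  .nil (nat_lit 65) (nat_lit 120) (nat_lit 487) .nil)) (nat_lit 66) (nat_lit 84) (nat_lit 93) (.node (.node
  .nil (nat_lit 67) (nat_lit 101) (nat_lit 182) .nil) (nat_lit 68) (nat_lit 120) (nat_lit 491) .nil)))
  (nat_lit 69) (nat_lit 121) (nat_lit 51) (.node (.node (.node (.node .nil (nat_lit 70) (nat_lit 100) (nat_lit
  79) .nil) (nat_lit 71) (nat_lit 100) (nat_lit 78) (.node .nil (nat_lit 72) (nat_lit 109) (nat_lit 696)
  .nil)) (nat_lit 73) (nat_lit 93) (nat_lit 115) (.node (.node .nil (nat_lit 74) (nat_lit 116) (nat_lit 443)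
  .nil) (nat_lit 75) (nat_lit 122) (nat_lit 476) .nil)) (nat_lit 76) (nat_lit 84) (nat_lit 458) (.node (.node
  (.node .nil (nat_lit 77) (nat_lit 111) (nat_lit 108) .nil) (nat_lit 78) (nat_lit 94) (nat_lit 458) (.node
  .nil (nat_lit 79) (nat_lit 94) (nat_lit 459) .nil)) (nat_lit 80) (nat_lit 88) (nat_lit 93) (.node (.node
  .nil (nat_lit 81) (nat_lit 91) (nat_lit 93) .nil) (nat_lit 82) (nat_lit 85) (nat_lit 502) .nil)))) (nat_lit
  83) (nat_lit 92) (nat_lit 798) (.node (.node (.node (.node (.node .nil (nat_lit 84) (nat_lit 103) (nat_lit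
  1532) .nil) (nat_lit 85) (nat_lit 109) (nat_lit 12) (.node .nil (nat_lit 86) (nat_lit 124) (nat_lit 782)
  .nil)) (nat_lit 87) (nat_lit 100) (nat_lit 743) (.node (.node .nil (nat_lit 88) (nat_lit 140) (nat_lit 601)
  .nil) (nat_lit 89) (nat_lit 89) (nat_lit 190) .nil)) (nat_lit 90) (nat_lit 33) (nat_lit 1781) (.node (.node
  (.node .nil (nat_lit 91) (nat_lit 92) (nat_lit 1777) .nil) (nat_lit 92) (nat_lit 52) (nat_lit 90) (.node
  .nil (nat_lit 93) (nat_lit 78) (nat_lit 460) .nil)) (nat_lit 94) (nat_lit 94) (nat_lit 457) (.node (.node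
  .nil (nat_lit 95) (nat_lit 126) (nat_lit 593) .nil) (nat_lit 96) (nat_lit 108) (nat_lit 142) .nil)))
  (nat_lit 97) (nat_lit 108) (nat_lit 214) (.node (.node (.node (.node .nil (nat_lit 98) (nat_lit 108)
  (nat_lit 209) .nil) (nat_lit 99) (nat_lit 83) (nat_lit 1780) (.node .nil (nat_lit 100) (nat_lit 87) (nat_lit
  458) .nil)) (nat_lit 101) (nat_lit 124) (nat_lit 664) (.node (.node .nil (nat_lit 102) (nat_lit 124)
  (nat_lit 663) .nil) (nat_lit 103) (nat_lit 107) (nat_lit 597) .nil)) (nat_lit 104) (nat_lit 109) (nat_lit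
  116) (.node (.node (.node .nil (nat_lit 105) (nat_lit 142) (nat_lit 39) .nil) (nat_lit 106) (nat_lit 105)
  (nat_lit 195) (.node .nil (nat_lit 107) (nat_lit 111) (nat_lit 76) .nil)) (nat_lit 108) (nat_lit 85)
  (nat_lit 190) (.node (.node .nil (nat_lit 109) (nat_lit 106) (nat_lit 172) .nil) (nat_lit 110) (nat_lit 80)
  (nat_lit 458) .nil))))))
def l0t_1 : T := (.node (.node (.node (.node (.node (.node (.node .nil (nat_lit 112) (nat_lit 131) (nat_lit
  776) .nil) (nat_lit 113) (nat_lit 124) (nat_lit 119) (.node .nil (nat_lit 114) (nat_lit 130) (nat_lit 513)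
  .nil)) (nat_lit 115) (nat_lit 72) (nat_lit 460) (.node (.node .nil (nat_lit 116) (nat_lit 88) (nat_lit 459)
  .nil) (nat_lit 117) (nat_lit 138) (nat_lit 536) .nil)) (nat_lit 118) (nat_lit 138) (nat_lit 449) (.node
  (.node (.node .nil (nat_lit 119) (nat_lit 104) (nat_lit 627) .nil) (nat_lit 120) (nat_lit 136) (nat_lit 628)
  (.node .nil (nat_lit 121) (nat_lit 142) (nat_lit 1712) .nil)) (nat_lit 122) (nat_lit 119) (nat_lit 1480)
  (.node (.node .nil (nat_lit 123) (nat_lit 100) (nat_lit 209) .nil) (nat_lit 124) (nat_lit 115) (nat_lit 489)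
  .nil))) (nat_lit 125) (nat_lit 100) (nat_lit 750) (.node (.node (.node (.node .nil (nat_lit 126) (nat_lit
  117) (nat_lit 378) .nil) (nat_lit 127) (nat_lit 100) (nat_lit 142) (.node .nil (nat_lit 128) (nat_lit 100)
  (nat_lit 214) .nil)) (nat_lit 129) (nat_lit 101) (nat_lit 373) (.node (.node .nil (nat_lit 130) (nat_lit
  118) (nat_lit 930) .nil) (nat_lit 131) (nat_lit 136) (nat_lit 1008) .nil)) (nat_lit 132) (nat_lit 132)
  (nat_lit 1302) (.node (.node (.node .nil (nat_lit 133) (nat_lit 100) (nat_lit 205) .nil) (nat_lit 134)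
  (nat_lit 111) (nat_lit 373) (.node .nil (nat_lit 135) (nat_lit 120) (nat_lit 476) .nil)) (nat_lit 136)
  (nat_lit 136) (nat_lit 757) (.node (.node .nil (nat_lit 137) (nat_lit 113) (nat_lit 446) .nil) (nat_lit 138)
  (nat_lit 131) (nat_lit 1774) .nil)))) (nat_lit 139) (nat_lit 64) (nat_lit 460) (.node (.node (.node (.node
  (.node .nil (nat_lit 140) (nat_lit 90) (nat_lit 169) .nil) (nat_lit 141) (nat_lit 142) (nat_lit 1007) (.node
  .nil (nat_lit 142) (nat_lit 80) (nat_lit 93) .nil)) (nat_lit 143) (nat_lit 100) (nat_lit 168) (.node (.node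
  .nil (nat_lit 144) (nat_lit 100) (nat_lit 166) .nil) (nat_lit 145) (nat_lit 100) (nat_lit 595) .nil))
  (nat_lit 146) (nat_lit 140) (nat_lit 865) (.node (.node (.node .nil (nat_lit 147) (nat_lit 116) (nat_lit
  594) .nil) (nat_lit 148) (nat_lit 131) (nat_lit 923) (.node .nil (nat_lit 149) (nat_lit 116) (nat_lit 705)
  .nil)) (nat_lit 150) (nat_lit 140) (nat_lit 809) (.node (.node .nil (nat_lit 151) (nat_lit 135) (nat_lit
  385) .nil) (nat_lit 152) (nat_lit 116) (nat_lit 706) .nil))) (nat_lit 153) (nat_lit 120) (nat_lit 1456)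
  (.node (.node (.node (.node .nil (nat_lit 154) (nat_lit 123) (nat_lit 1456) .nil) (nat_lit 155) (nat_lit
  139) (nat_lit 1457) (.node .nil (nat_lit 156) (nat_lit 105) (nat_lit 264) .nil)) (nat_lit 157) (nat_lit 97)
  (nat_lit 2) (.node (.node .nil (nat_lit 158) (nat_lit 96) (nat_lit 79) .nil) (nat_lit 159) (nat_lit 143)
  (nat_lit 333) .nil)) (nat_lit 160) (nat_lit 129) (nat_lit 1017) (.node (.node (.node .nil (nat_lit 161)
  (nat_lit 132) (nat_lit 920) .nil) (nat_lit 162) (nat_lit 113) (nat_lit 745) (.node .nil (nat_lit 163)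
  (nat_lit 114) (nat_lit 106) .nil)) (nat_lit 164) (nat_lit 98) (nat_lit 89) (.node (.node .nil (nat_lit 165)
  (nat_lit 91) (nat_lit 599) .nil) (nat_lit 166) (nat_lit 80) (nat_lit 115) .nil))))) (nat_lit 167) (nat_lit
  93) (nat_lit 700) (.node (.node (.node (.node (.node (.node .nil (nat_lit 168) (nat_lit 90) (nat_lit 139)
  .nil) (nat_lit 169) (nat_lit 66) (nat_lit 460) (.node .nil (nat_lit 170) (nat_lit 104) (nat_lit 596) .nil))
  (nat_lit 171) (nat_lit 88) (nat_lit 599) (.node (.node .nil (nat_lit 172) (nat_lit 82) (nat_lit 459) .nil)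
  (nat_lit 173) (nat_lit 136) (nat_lit 1007) .nil)) (nat_lit 174) (nat_lit 138) (nat_lit 225) (.node (.node
  (.node .nil (nat_lit 175) (nat_lit 142) (nat_lit 17) .nil) (nat_lit 176) (nat_lit 140) (nat_lit 646) (.node
  .nil (nat_lit 177) (nat_lit 116) (nat_lit 593) .nil)) (nat_lit 178) (nat_lit 105) (nat_lit 76) (.node (.node
  .nil (nat_lit 179) (nat_lit 105) (nat_lit 108) .nil) (nat_lit 180) (nat_lit 100) (nat_lit 592) .nil)))
  (nat_lit 181) (nat_lit 100) (nat_lit 140) (.node (.node (.node (.node .nil (nat_lit 182) (nat_lit 95)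
  (nat_lit 190) .nil) (nat_lit 183) (nat_lit 140) (nat_lit 976) (.node .nil (nat_lit 184) (nat_lit 139)
  (nat_lit 978) .nil)) (nat_lit 185) (nat_lit 142) (nat_lit 1008) (.node (.node .nil (nat_lit 186) (nat_lit
  132) (nat_lit 964) .nil) (nat_lit 187) (nat_lit 111) (nat_lit 195) .nil)) (nat_lit 188) (nat_lit 116)
  (nat_lit 109) (.node (.node (.node .nil (nat_lit 189) (nat_lit 116) (nat_lit 709) .nil) (nat_lit 190)
  (nat_lit 68) (nat_lit 460) (.node .nil (nat_lit 191) (nat_lit 138) (nat_lit 741) .nil)) (nat_lit 192)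
  (nat_lit 135) (nat_lit 386) (.node (.node .nil (nat_lit 193) (nat_lit 140) (nat_lit 948) .nil) (nat_lit 194)
  (nat_lit 140) (nat_lit 960) .nil)))) (nat_lit 195) (nat_lit 84) (nat_lit 459) (.node (.node (.node (.node
  (.node .nil (nat_lit 196) (nat_lit 116) (nat_lit 704) .nil) (nat_lit 197) (nat_lit 114) (nat_lit 178) (.node
  .nil (nat_lit 198) (nat_lit 100) (nat_lit 116) .nil)) (nat_lit 199) (nat_lit 84) (nat_lit 115) (.node (.node
  .nil (nat_lit 200) (nat_lit 116) (nat_lit 203) .nil) (nat_lit 201) (nat_lit 71) (nat_lit 460) .nil))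
  (nat_lit 202) (nat_lit 97) (nat_lit 5) (.node (.node (.node .nil (nat_lit 203) (nat_lit 107) (nat_lit 264)
  .nil) (nat_lit 204) (nat_lit 67) (nat_lit 1769) (.node .nil (nat_lit 205) (nat_lit 88) (nat_lit 458) .nil))
  (nat_lit 206) (nat_lit 88) (nat_lit 457) (.node (.node .nil (nat_lit 207) (nat_lit 131) (nat_lit 344) .nil)
  (nat_lit 208) (nat_lit 136) (nat_lit 741) .nil))) (nat_lit 209) (nat_lit 94) (nat_lit 169) (.node (.node
  (.node (.node .nil (nat_lit 210) (nat_lit 107) (nat_lit 79) .nil) (nat_lit 211) (nat_lit 116) (nat_lit 934)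
  (.node .nil (nat_lit 212) (nat_lit 134) (nat_lit 912) .nil)) (nat_lit 213) (nat_lit 94) (nat_lit 115) (.node
  (.node .nil (nat_lit 214) (nat_lit 94) (nat_lit 139) .nil) (nat_lit 215) (nat_lit 132) (nat_lit 912) .nil))
  (nat_lit 216) (nat_lit 124) (nat_lit 504) (.node (.node (.node .nil (nat_lit 217) (nat_lit 101) (nat_lit
  938) .nil) (nat_lit 218) (nat_lit 85) (nat_lit 718) .nil) (nat_lit 219) (nat_lit 110) (nat_lit 23) (.node
  (.node .nil (nat_lit 220) (nat_lit 109) (nat_lit 23) .nil) (nat_lit 221) (nat_lit 140) (nat_lit 783)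
  .nil))))))
def l0t_2 : T := (.node (.node (.node (.node (.node (.node (.node .nil (nat_lit 223) (nat_lit 140) (nat_lit
  832) .nil) (nat_lit 224) (nat_lit 129) (nat_lit 308) (.node .nil (nat_lit 225) (nat_lit 124) (nat_lit 774)
  .nil)) (nat_lit 226) (nat_lit 124) (nat_lit 931) (.node (.node .nil (nat_lit 227) (nat_lit 131) (nat_lit
  878) .nil) (nat_lit 228) (nat_lit 129) (nat_lit 305) .nil)) (nat_lit 229) (nat_lit 99) (nat_lit 492) (.node
  (.node (.node .nil (nat_lit 230) (nat_lit 100) (nat_lit 44) .nil) (nat_lit 231) (nat_lit 103) (nat_lit 495)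
  (.node .nil (nat_lit 232) (nat_lit 104) (nat_lit 495) .nil)) (nat_lit 233) (nat_lit 100) (nat_lit 42) (.node
  (.node .nil (nat_lit 234) (nat_lit 112) (nat_lit 107) .nil) (nat_lit 235) (nat_lit 103) (nat_lit 499)
  .nil))) (nat_lit 236) (nat_lit 104) (nat_lit 499) (.node (.node (.node (.node .nil (nat_lit 237) (nat_lit
  116) (nat_lit 987) .nil) (nat_lit 238) (nat_lit 139) (nat_lit 662) (.node .nil (nat_lit 239) (nat_lit 134)
  (nat_lit 967) .nil)) (nat_lit 240) (nat_lit 141) (nat_lit 385) (.node (.node .nil (nat_lit 241) (nat_lit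
  123) (nat_lit 975) .nil) (nat_lit 242) (nat_lit 132) (nat_lit 672) .nil)) (nat_lit 243) (nat_lit 128)
  (nat_lit 17) (.node (.node (.node .nil (nat_lit 244) (nat_lit 134) (nat_lit 864) .nil) (nat_lit 245)
  (nat_lit 98) (nat_lit 373) (.node .nil (nat_lit 246) (nat_lit 114) (nat_lit 378) .nil)) (nat_lit 247)
  (nat_lit 100) (nat_lit 699) (.node (.node .nil (nat_lit 248) (nat_lit 100) (nat_lit 696) .nil) (nat_lit 249)
  (nat_lit 114) (nat_lit 377) .nil)))) (nat_lit 250) (nat_lit 116) (nat_lit 462) (.node (.node (.node (.node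
  (.node .nil (nat_lit 251) (nat_lit 84) (nat_lit 700) .nil) (nat_lit 252) (nat_lit 100) (nat_lit 695) (.node
  .nil (nat_lit 253) (nat_lit 92) (nat_lit 1778) .nil)) (nat_lit 254) (nat_lit 115) (nat_lit 788) (.node
  (.node .nil (nat_lit 255) (nat_lit 123) (nat_lit 119) .nil) (nat_lit 256) (nat_lit 36) (nat_lit 509) .nil))
  (nat_lit 257) (nat_lit 136) (nat_lit 1708) (.node (.node (.node .nil (nat_lit 258) (nat_lit 135) (nat_lit
  716) .nil) (nat_lit 259) (nat_lit 93) (nat_lit 169) (.node .nil (nat_lit 260) (nat_lit 131) (nat_lit 68)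
  .nil)) (nat_lit 261) (nat_lit 131) (nat_lit 152) (.node (.node .nil (nat_lit 262) (nat_lit 115) (nat_lit
  144) .nil) (nat_lit 263) (nat_lit 93) (nat_lit 139) .nil))) (nat_lit 264) (nat_lit 81) (nat_lit 798) (.node
  (.node (.node (.node .nil (nat_lit 265) (nat_lit 83) (nat_lit 414) .nil) (nat_lit 266) (nat_lit 131)
  (nat_lit 50) (.node .nil (nat_lit 267) (nat_lit 112) (nat_lit 717) .nil)) (nat_lit 268) (nat_lit 129)
  (nat_lit 726) (.node (.node .nil (nat_lit 269) (nat_lit 122) (nat_lit 1150) .nil) (nat_lit 270) (nat_lit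
  120) (nat_lit 1672) .nil)) (nat_lit 271) (nat_lit 138) (nat_lit 1271) (.node (.node (.node .nil (nat_lit
  272) (nat_lit 115) (nat_lit 476) .nil) (nat_lit 273) (nat_lit 140) (nat_lit 1340) (.node .nil (nat_lit 274)
  (nat_lit 137) (nat_lit 1262) .nil)) (nat_lit 275) (nat_lit 132) (nat_lit 1192) (.node (.node .nil (nat_lit
  276) (nat_lit 133) (nat_lit 1262) .nil) (nat_lit 277) (nat_lit 120) (nat_lit 1141) .nil))))) (nat_lit 278)
  (nat_lit 119) (nat_lit 550) (.node (.node (.node (.node (.node (.node .nil (nat_lit 279) (nat_lit 131)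
  (nat_lit 731) .nil) (nat_lit 280) (nat_lit 135) (nat_lit 1192) (.node .nil (nat_lit 281) (nat_lit 120)
  (nat_lit 1356) .nil)) (nat_lit 282) (nat_lit 139) (nat_lit 334) (.node (.node .nil (nat_lit 283) (nat_lit
  125) (nat_lit 314) .nil) (nat_lit 284) (nat_lit 138) (nat_lit 635) .nil)) (nat_lit 285) (nat_lit 140)
  (nat_lit 1308) (.node (.node (.node .nil (nat_lit 286) (nat_lit 138) (nat_lit 736) .nil) (nat_lit 287)
  (nat_lit 120) (nat_lit 1717) (.node .nil (nat_lit 288) (nat_lit 114) (nat_lit 514) .nil)) (nat_lit 289)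
  (nat_lit 133) (nat_lit 716) (.node (.node .nil (nat_lit 290) (nat_lit 136) (nat_lit 1726) .nil) (nat_lit
  291) (nat_lit 140) (nat_lit 334) .nil))) (nat_lit 292) (nat_lit 117) (nat_lit 1237) (.node (.node (.node
  (.node .nil (nat_lit 293) (nat_lit 122) (nat_lit 1484) .nil) (nat_lit 294) (nat_lit 115) (nat_lit 781)
  (.node .nil (nat_lit 295) (nat_lit 128) (nat_lit 1273) .nil)) (nat_lit 296) (nat_lit 128) (nat_lit 1389)
  (.node (.node .nil (nat_lit 297) (nat_lit 136) (nat_lit 1308) .nil) (nat_lit 298) (nat_lit 136) (nat_lit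
  1340) .nil)) (nat_lit 299) (nat_lit 132) (nat_lit 1228) (.node (.node (.node .nil (nat_lit 300) (nat_lit
  139) (nat_lit 1339) .nil) (nat_lit 301) (nat_lit 139) (nat_lit 1340) (.node .nil (nat_lit 302) (nat_lit 139)
  (nat_lit 1308) .nil)) (nat_lit 303) (nat_lit 137) (nat_lit 1227) (.node (.node .nil (nat_lit 304) (nat_lit
  138) (nat_lit 1138) .nil) (nat_lit 305) (nat_lit 120) (nat_lit 1702) .nil)))) (nat_lit 306) (nat_lit 120)
  (nat_lit 1775) (.node (.node (.node (.node (.node .nil (nat_lit 307) (nat_lit 120) (nat_lit 1755) .nil)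
  (nat_lit 308) (nat_lit 125) (nat_lit 514) (.node .nil (nat_lit 309) (nat_lit 130) (nat_lit 510) .nil))
  (nat_lit 310) (nat_lit 116) (nat_lit 1074) (.node (.node .nil (nat_lit 311) (nat_lit 131) (nat_lit 775)
  .nil) (nat_lit 312) (nat_lit 137) (nat_lit 1491) .nil)) (nat_lit 313) (nat_lit 112) (nat_lit 1237) (.node
  (.node (.node .nil (nat_lit 314) (nat_lit 99) (nat_lit 499) .nil) (nat_lit 315) (nat_lit 115) (nat_lit 496)
  (.node .nil (nat_lit 316) (nat_lit 121) (nat_lit 1240) .nil)) (nat_lit 317) (nat_lit 131) (nat_lit 970)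
  (.node (.node .nil (nat_lit 318) (nat_lit 131) (nat_lit 783) .nil) (nat_lit 319) (nat_lit 139) (nat_lit
  1373) .nil))) (nat_lit 320) (nat_lit 142) (nat_lit 336) (.node (.node (.node (.node .nil (nat_lit 321)
  (nat_lit 139) (nat_lit 1372) .nil) (nat_lit 322) (nat_lit 139) (nat_lit 1371) (.node .nil (nat_lit 323)
  (nat_lit 136) (nat_lit 1371) .nil)) (nat_lit 324) (nat_lit 141) (nat_lit 277) (.node (.node .nil (nat_lit
  325) (nat_lit 136) (nat_lit 1373) .nil) (nat_lit 326) (nat_lit 133) (nat_lit 1083) .nil)) (nat_lit 327)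
  (nat_lit 131) (nat_lit 480) (.node (.node (.node .nil (nat_lit 328) (nat_lit 139) (nat_lit 631) .nil)
  (nat_lit 329) (nat_lit 142) (nat_lit 510) (.node .nil (nat_lit 330) (nat_lit 120) (nat_lit 1647) .nil))
  (nat_lit 331) (nat_lit 122) (nat_lit 1074) (.node (.node .nil (nat_lit 332) (nat_lit 123) (nat_lit 1518)
  .nil) (nat_lit 333) (nat_lit 120) (nat_lit 1518) .nil))))))
def l0t_3 : T := (.node (.node (.node (.node (.node (.node (.node .nil (nat_lit 335) (nat_lit 121) (nat_lit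
  1284) .nil) (nat_lit 336) (nat_lit 113) (nat_lit 746) (.node .nil (nat_lit 337) (nat_lit 129) (nat_lit 763)
  .nil)) (nat_lit 338) (nat_lit 119) (nat_lit 717) (.node (.node .nil (nat_lit 339) (nat_lit 120) (nat_lit
  1160) .nil) (nat_lit 340) (nat_lit 115) (nat_lit 913) .nil)) (nat_lit 341) (nat_lit 142) (nat_lit 1757)
  (.node (.node (.node .nil (nat_lit 342) (nat_lit 125) (nat_lit 119) .nil) (nat_lit 343) (nat_lit 120)
  (nat_lit 1676) (.node .nil (nat_lit 344) (nat_lit 120) (nat_lit 1170) .nil)) (nat_lit 345) (nat_lit 135)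
  (nat_lit 587) (.node (.node .nil (nat_lit 346) (nat_lit 123) (nat_lit 1676) .nil) (nat_lit 347) (nat_lit
  120) (nat_lit 1646) .nil))) (nat_lit 348) (nat_lit 136) (nat_lit 1675) (.node (.node (.node (.node .nil
  (nat_lit 349) (nat_lit 126) (nat_lit 1745) .nil) (nat_lit 350) (nat_lit 138) (nat_lit 1069) (.node .nil
  (nat_lit 351) (nat_lit 138) (nat_lit 1302) .nil)) (nat_lit 352) (nat_lit 131) (nat_lit 1763) (.node (.node
  .nil (nat_lit 353) (nat_lit 113) (nat_lit 1046) .nil) (nat_lit 354) (nat_lit 131) (nat_lit 269) .nil))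
  (nat_lit 355) (nat_lit 129) (nat_lit 1010) (.node (.node (.node .nil (nat_lit 356) (nat_lit 129) (nat_lit
  1048) .nil) (nat_lit 357) (nat_lit 116) (nat_lit 1150) (.node .nil (nat_lit 358) (nat_lit 134) (nat_lit
  1263) .nil)) (nat_lit 359) (nat_lit 118) (nat_lit 550) (.node (.node .nil (nat_lit 360) (nat_lit 115)
  (nat_lit 500) .nil) (nat_lit 361) (nat_lit 125) (nat_lit 364) .nil)))) (nat_lit 362) (nat_lit 134) (nat_lit
  716) (.node (.node (.node (.node (.node .nil (nat_lit 363) (nat_lit 115) (nat_lit 232) .nil) (nat_lit 364)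
  (nat_lit 99) (nat_lit 495) (.node .nil (nat_lit 365) (nat_lit 115) (nat_lit 782) .nil)) (nat_lit 366)
  (nat_lit 137) (nat_lit 589) (.node (.node .nil (nat_lit 367) (nat_lit 138) (nat_lit 1387) .nil) (nat_lit
  368) (nat_lit 131) (nat_lit 869) .nil)) (nat_lit 369) (nat_lit 115) (nat_lit 774) (.node (.node (.node .nil
  (nat_lit 370) (nat_lit 137) (nat_lit 1479) .nil) (nat_lit 371) (nat_lit 140) (nat_lit 1372) (.node .nil
  (nat_lit 372) (nat_lit 140) (nat_lit 1371) .nil)) (nat_lit 373) (nat_lit 90) (nat_lit 190) (.node (.node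
  .nil (nat_lit 374) (nat_lit 106) (nat_lit 108) .nil) (nat_lit 375) (nat_lit 100) (nat_lit 678) .nil)))
  (nat_lit 376) (nat_lit 100) (nat_lit 689) (.node (.node (.node (.node .nil (nat_lit 377) (nat_lit 106)
  (nat_lit 195) .nil) (nat_lit 378) (nat_lit 106) (nat_lit 76) (.node .nil (nat_lit 379) (nat_lit 100)
  (nat_lit 683) .nil)) (nat_lit 380) (nat_lit 100) (nat_lit 682) (.node (.node .nil (nat_lit 381) (nat_lit
  131) (nat_lit 149) .nil) (nat_lit 382) (nat_lit 131) (nat_lit 64) .nil)) (nat_lit 383) (nat_lit 130)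
  (nat_lit 386) (.node (.node (.node .nil (nat_lit 384) (nat_lit 124) (nat_lit 947) .nil) (nat_lit 385)
  (nat_lit 115) (nat_lit 143) (.node .nil (nat_lit 386) (nat_lit 115) (nat_lit 49) .nil)) (nat_lit 387)
  (nat_lit 140) (nat_lit 424) (.node (.node .nil (nat_lit 388) (nat_lit 140) (nat_lit 945) .nil) (nat_lit 389)
  (nat_lit 123) (nat_lit 1254) .nil))))) (nat_lit 390) (nat_lit 113) (nat_lit 769) (.node (.node (.node (.node
  (.node (.node .nil (nat_lit 391) (nat_lit 113) (nat_lit 725) .nil) (nat_lit 392) (nat_lit 129) (nat_lit 765)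
  (.node .nil (nat_lit 393) (nat_lit 139) (nat_lit 1030) .nil)) (nat_lit 394) (nat_lit 113) (nat_lit 740)
  (.node (.node .nil (nat_lit 395) (nat_lit 113) (nat_lit 764) .nil) (nat_lit 396) (nat_lit 113) (nat_lit 503)
  .nil)) (nat_lit 397) (nat_lit 140) (nat_lit 1245) (.node (.node (.node .nil (nat_lit 398) (nat_lit 140)
  (nat_lit 1246) .nil) (nat_lit 399) (nat_lit 113) (nat_lit 1049) (.node .nil (nat_lit 400) (nat_lit 129)
  (nat_lit 1016) .nil)) (nat_lit 401) (nat_lit 115) (nat_lit 1698) (.node (.node .nil (nat_lit 402) (nat_lit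
  129) (nat_lit 1012) .nil) (nat_lit 403) (nat_lit 115) (nat_lit 1730) .nil))) (nat_lit 404) (nat_lit 129)
  (nat_lit 1014) (.node (.node (.node (.node .nil (nat_lit 405) (nat_lit 136) (nat_lit 1617) .nil) (nat_lit
  406) (nat_lit 136) (nat_lit 1433) (.node .nil (nat_lit 407) (nat_lit 134) (nat_lit 1389) .nil)) (nat_lit
  408) (nat_lit 132) (nat_lit 1404) (.node (.node .nil (nat_lit 409) (nat_lit 136) (nat_lit 1613) .nil)
  (nat_lit 410) (nat_lit 126) (nat_lit 364) .nil)) (nat_lit 411) (nat_lit 94) (nat_lit 55) (.node (.node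
  (.node .nil (nat_lit 412) (nat_lit 110) (nat_lit 18) .nil) (nat_lit 413) (nat_lit 94) (nat_lit 1701) (.node
  .nil (nat_lit 414) (nat_lit 78) (nat_lit 1700) .nil)) (nat_lit 415) (nat_lit 65) (nat_lit 528) (.node (.node
  .nil (nat_lit 416) (nat_lit 65) (nat_lit 652) .nil) (nat_lit 417) (nat_lit 127) (nat_lit 790) .nil))))
  (nat_lit 418) (nat_lit 108) (nat_lit 108) (.node (.node (.node (.node (.node .nil (nat_lit 419) (nat_lit
  123) (nat_lit 378) .nil) (nat_lit 420) (nat_lit 107) (nat_lit 199) (.node .nil (nat_lit 421) (nat_lit 124)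
  (nat_lit 477) .nil)) (nat_lit 422) (nat_lit 122) (nat_lit 443) (.node (.node .nil (nat_lit 423) (nat_lit
  123) (nat_lit 71) .nil) (nat_lit 424) (nat_lit 123) (nat_lit 33) .nil)) (nat_lit 425) (nat_lit 110) (nat_lit
  597) (.node (.node (.node .nil (nat_lit 426) (nat_lit 94) (nat_lit 599) .nil) (nat_lit 427) (nat_lit 83)
  (nat_lit 93) (.node .nil (nat_lit 428) (nat_lit 110) (nat_lit 596) .nil)) (nat_lit 429) (nat_lit 107)
  (nat_lit 42) (.node (.node .nil (nat_lit 430) (nat_lit 99) (nat_lit 20) .nil) (nat_lit 431) (nat_lit 99)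
  (nat_lit 21) .nil))) (nat_lit 432) (nat_lit 107) (nat_lit 44) (.node (.node (.node (.node .nil (nat_lit 433)
  (nat_lit 121) (nat_lit 781) .nil) (nat_lit 434) (nat_lit 110) (nat_lit 687) (.node .nil (nat_lit 435)
  (nat_lit 101) (nat_lit 213) .nil)) (nat_lit 436) (nat_lit 115) (nat_lit 119) (.node (.node .nil (nat_lit
  437) (nat_lit 113) (nat_lit 931) .nil) (nat_lit 438) (nat_lit 140) (nat_lit 524) .nil)) (nat_lit 439)
  (nat_lit 119) (nat_lit 1718) (.node (.node (.node .nil (nat_lit 440) (nat_lit 131) (nat_lit 1316) .nil)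
  (nat_lit 441) (nat_lit 133) (nat_lit 1712) .nil) (nat_lit 442) (nat_lit 129) (nat_lit 985) (.node (.node
  .nil (nat_lit 443) (nat_lit 108) (nat_lit 28) .nil) (nat_lit 444) (nat_lit 126) (nat_lit 479) .nil))))))
def l0t_4 : T := (.node (.node (.node (.node (.node (.node (.node .nil (nat_lit 446) (nat_lit 104) (nat_lit
  199) .nil) (nat_lit 447) (nat_lit 143) (nat_lit 757) (.node .nil (nat_lit 448) (nat_lit 103) (nat_lit 199)
  .nil)) (nat_lit 449) (nat_lit 115) (nat_lit 574) (.node (.node .nil (nat_lit 450) (nat_lit 138) (nat_lit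
  113) .nil) (nat_lit 451) (nat_lit 119) (nat_lit 1515) .nil)) (nat_lit 452) (nat_lit 142) (nat_lit 870)
  (.node (.node (.node .nil (nat_lit 453) (nat_lit 137) (nat_lit 1659) .nil) (nat_lit 454) (nat_lit 123)
  (nat_lit 1174) (.node .nil (nat_lit 455) (nat_lit 134) (nat_lit 1537) .nil)) (nat_lit 456) (nat_lit 119)
  (nat_lit 1719) (.node (.node .nil (nat_lit 457) (nat_lit 69) (nat_lit 460) .nil) (nat_lit 458) (nat_lit 67)
  (nat_lit 652) .nil))) (nat_lit 459) (nat_lit 67) (nat_lit 92) (.node (.node (.node (.node .nil (nat_lit 460)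
  (nat_lit 51) (nat_lit 256) .nil) (nat_lit 461) (nat_lit 99) (nat_lit 34) (.node .nil (nat_lit 462) (nat_lit
  97) (nat_lit 780) .nil)) (nat_lit 463) (nat_lit 97) (nat_lit 583) (.node (.node .nil (nat_lit 464) (nat_lit
  99) (nat_lit 53) .nil) (nat_lit 465) (nat_lit 121) (nat_lit 1671) .nil)) (nat_lit 466) (nat_lit 124)
  (nat_lit 247) (.node (.node (.node .nil (nat_lit 467) (nat_lit 89) (nat_lit 1701) .nil) (nat_lit 468)
  (nat_lit 91) (nat_lit 1701) (.node .nil (nat_lit 469) (nat_lit 84) (nat_lit 940) .nil)) (nat_lit 470)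
  (nat_lit 107) (nat_lit 492) (.node (.node .nil (nat_lit 471) (nat_lit 140) (nat_lit 163) .nil) (nat_lit 472)
  (nat_lit 124) (nat_lit 491) .nil)))) (nat_lit 473) (nat_lit 121) (nat_lit 1764) (.node (.node (.node (.node
  (.node .nil (nat_lit 474) (nat_lit 129) (nat_lit 910) .nil) (nat_lit 475) (nat_lit 132) (nat_lit 1268)
  (.node .nil (nat_lit 476) (nat_lit 108) (nat_lit 914) .nil)) (nat_lit 477) (nat_lit 101) (nat_lit 89) (.node
  (.node .nil (nat_lit 478) (nat_lit 92) (nat_lit 93) .nil) (nat_lit 479) (nat_lit 107) (nat_lit 195) .nil))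
  (nat_lit 480) (nat_lit 125) (nat_lit 574) (.node (.node (.node .nil (nat_lit 481) (nat_lit 124) (nat_lit
  106) .nil) (nat_lit 482) (nat_lit 113) (nat_lit 1356) (.node .nil (nat_lit 483) (nat_lit 131) (nat_lit 976)
  .nil)) (nat_lit 484) (nat_lit 139) (nat_lit 1301) (.node (.node .nil (nat_lit 485) (nat_lit 111) (nat_lit
  488) .nil) (nat_lit 486) (nat_lit 100) (nat_lit 110) .nil))) (nat_lit 487) (nat_lit 100) (nat_lit 265)
  (.node (.node (.node (.node .nil (nat_lit 488) (nat_lit 84) (nat_lit 139) .nil) (nat_lit 489) (nat_lit 100)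
  (nat_lit 172) (.node .nil (nat_lit 490) (nat_lit 105) (nat_lit 488) .nil)) (nat_lit 491) (nat_lit 100)
  (nat_lit 264) (.node (.node .nil (nat_lit 492) (nat_lit 84) (nat_lit 169) .nil) (nat_lit 493) (nat_lit 105)
  (nat_lit 199) .nil)) (nat_lit 494) (nat_lit 100) (nat_lit 99) (.node (.node (.node .nil (nat_lit 495)
  (nat_lit 84) (nat_lit 201) .nil) (nat_lit 496) (nat_lit 111) (nat_lit 499) (.node .nil (nat_lit 497)
  (nat_lit 102) (nat_lit 373) .nil)) (nat_lit 498) (nat_lit 100) (nat_lit 100) (.node (.node .nil (nat_lit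
  499) (nat_lit 84) (nat_lit 204) .nil) (nat_lit 500) (nat_lit 111) (nat_lit 495) .nil))))) (nat_lit 501)
  (nat_lit 104) (nat_lit 914) (.node (.node (.node (.node (.node (.node .nil (nat_lit 502) (nat_lit 71)
  (nat_lit 1700) .nil) (nat_lit 503) (nat_lit 105) (nat_lit 28) (.node .nil (nat_lit 504) (nat_lit 107)
  (nat_lit 251) .nil)) (nat_lit 505) (nat_lit 135) (nat_lit 737) (.node (.node .nil (nat_lit 506) (nat_lit
  123) (nat_lit 145) .nil) (nat_lit 507) (nat_lit 138) (nat_lit 1689) .nil)) (nat_lit 508) (nat_lit 124)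
  (nat_lit 1755) (.node (.node (.node .nil (nat_lit 509) (nat_lit 17) (nat_lit 1752) .nil) (nat_lit 510)
  (nat_lit 120) (nat_lit 1718) (.node .nil (nat_lit 511) (nat_lit 136) (nat_lit 1725) .nil)) (nat_lit 512)
  (nat_lit 136) (nat_lit 1706) (.node (.node .nil (nat_lit 513) (nat_lit 120) (nat_lit 1732) .nil) (nat_lit
  514) (nat_lit 104) (nat_lit 1722) .nil))) (nat_lit 515) (nat_lit 120) (nat_lit 1719) (.node (.node (.node
  (.node .nil (nat_lit 516) (nat_lit 116) (nat_lit 550) .nil) (nat_lit 517) (nat_lit 127) (nat_lit 514) (.node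
  .nil (nat_lit 518) (nat_lit 142) (nat_lit 277) .nil)) (nat_lit 519) (nat_lit 126) (nat_lit 314) (.node
  (.node .nil (nat_lit 520) (nat_lit 136) (nat_lit 1688) .nil) (nat_lit 521) (nat_lit 142) (nat_lit 359)
  .nil)) (nat_lit 522) (nat_lit 132) (nat_lit 1133) (.node (.node (.node .nil (nat_lit 523) (nat_lit 122)
  (nat_lit 1254) .nil) (nat_lit 524) (nat_lit 119) (nat_lit 1284) (.node .nil (nat_lit 525) (nat_lit 134)
  (nat_lit 1245) .nil)) (nat_lit 526) (nat_lit 136) (nat_lit 1659) (.node (.node .nil (nat_lit 527) (nat_lit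
  92) (nat_lit 1768) .nil) (nat_lit 528) (nat_lit 55) (nat_lit 256) .nil)))) (nat_lit 529) (nat_lit 48)
  (nat_lit 90) (.node (.node (.node (.node (.node .nil (nat_lit 530) (nat_lit 138) (nat_lit 1438) .nil)
  (nat_lit 531) (nat_lit 120) (nat_lit 1645) (.node .nil (nat_lit 532) (nat_lit 128) (nat_lit 1222) .nil))
  (nat_lit 533) (nat_lit 138) (nat_lit 1413) (.node (.node .nil (nat_lit 534) (nat_lit 139) (nat_lit 1712)
  .nil) (nat_lit 535) (nat_lit 136) (nat_lit 1468) .nil)) (nat_lit 536) (nat_lit 119) (nat_lit 1356) (.node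
  (.node (.node .nil (nat_lit 537) (nat_lit 133) (nat_lit 336) .nil) (nat_lit 538) (nat_lit 117) (nat_lit
  1764) (.node .nil (nat_lit 539) (nat_lit 122) (nat_lit 479) .nil)) (nat_lit 540) (nat_lit 103) (nat_lit 901)
  (.node (.node .nil (nat_lit 541) (nat_lit 126) (nat_lit 418) .nil) (nat_lit 542) (nat_lit 112) (nat_lit
  1672) .nil))) (nat_lit 543) (nat_lit 131) (nat_lit 960) (.node (.node (.node (.node .nil (nat_lit 544)
  (nat_lit 136) (nat_lit 1712) .nil) (nat_lit 545) (nat_lit 142) (nat_lit 465) (.node .nil (nat_lit 546)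
  (nat_lit 133) (nat_lit 1697) .nil)) (nat_lit 547) (nat_lit 136) (nat_lit 716) (.node (.node .nil (nat_lit
  548) (nat_lit 136) (nat_lit 856) .nil) (nat_lit 549) (nat_lit 115) (nat_lit 957) .nil)) (nat_lit 550)
  (nat_lit 106) (nat_lit 627) (.node (.node (.node .nil (nat_lit 551) (nat_lit 137) (nat_lit 1697) .nil)
  (nat_lit 552) (nat_lit 123) (nat_lit 1775) (.node .nil (nat_lit 553) (nat_lit 137) (nat_lit 1184) .nil))
  (nat_lit 554) (nat_lit 119) (nat_lit 1647) (.node (.node .nil (nat_lit 555) (nat_lit 129) (nat_lit 789)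
  .nil) (nat_lit 556) (nat_lit 120) (nat_lit 1724) .nil))))))
def l0t_5 : T := (.node (.node (.node (.node (.node (.node (.node .nil (nat_lit 558) (nat_lit 133) (nat_lit
  1245) .nil) (nat_lit 559) (nat_lit 139) (nat_lit 1184) (.node .nil (nat_lit 560) (nat_lit 120) (nat_lit
  1730) .nil)) (nat_lit 561) (nat_lit 132) (nat_lit 449) (.node (.node .nil (nat_lit 562) (nat_lit 133)
  (nat_lit 567) .nil) (nat_lit 563) (nat_lit 123) (nat_lit 1150) .nil)) (nat_lit 564) (nat_lit 124) (nat_lit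
  1645) (.node (.node (.node .nil (nat_lit 565) (nat_lit 132) (nat_lit 998) .nil) (nat_lit 566) (nat_lit 143)
  (nat_lit 736) (.node .nil (nat_lit 567) (nat_lit 122) (nat_lit 1755) .nil)) (nat_lit 568) (nat_lit 135)
  (nat_lit 1708) (.node (.node .nil (nat_lit 569) (nat_lit 131) (nat_lit 343) .nil) (nat_lit 570) (nat_lit
  137) (nat_lit 1371) .nil))) (nat_lit 571) (nat_lit 137) (nat_lit 308) (.node (.node (.node (.node .nil
  (nat_lit 572) (nat_lit 111) (nat_lit 914) .nil) (nat_lit 573) (nat_lit 108) (nat_lit 199) (.node .nil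
  (nat_lit 574) (nat_lit 108) (nat_lit 195) .nil)) (nat_lit 575) (nat_lit 139) (nat_lit 716) (.node (.node
  .nil (nat_lit 576) (nat_lit 138) (nat_lit 343) .nil) (nat_lit 577) (nat_lit 137) (nat_lit 1343) .nil))
  (nat_lit 578) (nat_lit 122) (nat_lit 470) (.node (.node (.node .nil (nat_lit 579) (nat_lit 126) (nat_lit
  831) .nil) (nat_lit 580) (nat_lit 135) (nat_lit 834) (.node .nil (nat_lit 581) (nat_lit 85) (nat_lit 416)
  .nil)) (nat_lit 582) (nat_lit 85) (nat_lit 1701) (.node (.node .nil (nat_lit 583) (nat_lit 89) (nat_lit 798)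
  .nil) (nat_lit 584) (nat_lit 139) (nat_lit 1293) .nil)))) (nat_lit 585) (nat_lit 140) (nat_lit 1083) (.node
  (.node (.node (.node (.node .nil (nat_lit 586) (nat_lit 130) (nat_lit 1537) .nil) (nat_lit 587) (nat_lit
  115) (nat_lit 377) (.node .nil (nat_lit 588) (nat_lit 115) (nat_lit 134) .nil)) (nat_lit 589) (nat_lit 115)
  (nat_lit 778) (.node (.node .nil (nat_lit 590) (nat_lit 114) (nat_lit 1593) .nil) (nat_lit 591) (nat_lit
  119) (nat_lit 314) .nil)) (nat_lit 592) (nat_lit 82) (nat_lit 115) (.node (.node (.node .nil (nat_lit 593)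
  (nat_lit 98) (nat_lit 116) .nil) (nat_lit 594) (nat_lit 96) (nat_lit 696) (.node .nil (nat_lit 595) (nat_lit
  80) (nat_lit 700) .nil)) (nat_lit 596) (nat_lit 93) (nat_lit 459) (.node (.node .nil (nat_lit 597) (nat_lit
  93) (nat_lit 458) .nil) (nat_lit 598) (nat_lit 93) (nat_lit 457) .nil))) (nat_lit 599) (nat_lit 77) (nat_lit
  460) (.node (.node (.node (.node .nil (nat_lit 600) (nat_lit 127) (nat_lit 720) .nil) (nat_lit 601) (nat_lit
  116) (nat_lit 947) (.node .nil (nat_lit 602) (nat_lit 95) (nat_lit 1569) .nil)) (nat_lit 603) (nat_lit 129)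
  (nat_lit 386) (.node (.node .nil (nat_lit 604) (nat_lit 137) (nat_lit 1653) .nil) (nat_lit 605) (nat_lit
  135) (nat_lit 691) .nil)) (nat_lit 606) (nat_lit 138) (nat_lit 1340) (.node (.node (.node .nil (nat_lit 607)
  (nat_lit 133) (nat_lit 1293) .nil) (nat_lit 608) (nat_lit 137) (nat_lit 1585) (.node .nil (nat_lit 609)
  (nat_lit 132) (nat_lit 1473) .nil)) (nat_lit 610) (nat_lit 132) (nat_lit 1462) (.node (.node .nil (nat_lit
  611) (nat_lit 116) (nat_lit 1484) .nil) (nat_lit 612) (nat_lit 132) (nat_lit 1494) .nil))))) (nat_lit 613)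
  (nat_lit 117) (nat_lit 717) (.node (.node (.node (.node (.node (.node .nil (nat_lit 614) (nat_lit 141)
  (nat_lit 617) .nil) (nat_lit 615) (nat_lit 134) (nat_lit 1468) (.node .nil (nat_lit 616) (nat_lit 117)
  (nat_lit 1480) .nil)) (nat_lit 617) (nat_lit 115) (nat_lit 494) (.node (.node .nil (nat_lit 618) (nat_lit
  117) (nat_lit 550) .nil) (nat_lit 619) (nat_lit 122) (nat_lit 1593) .nil)) (nat_lit 620) (nat_lit 115)
  (nat_lit 129) (.node (.node (.node .nil (nat_lit 621) (nat_lit 118) (nat_lit 1480) .nil) (nat_lit 622)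
  (nat_lit 115) (nat_lit 498) (.node .nil (nat_lit 623) (nat_lit 132) (nat_lit 870) .nil)) (nat_lit 624)
  (nat_lit 124) (nat_lit 1717) (.node (.node .nil (nat_lit 625) (nat_lit 141) (nat_lit 1143) .nil) (nat_lit
  626) (nat_lit 113) (nat_lit 664) .nil))) (nat_lit 627) (nat_lit 83) (nat_lit 190) (.node (.node (.node
  (.node .nil (nat_lit 628) (nat_lit 115) (nat_lit 187) .nil) (nat_lit 629) (nat_lit 131) (nat_lit 900) (.node
  .nil (nat_lit 630) (nat_lit 133) (nat_lit 1618) .nil)) (nat_lit 631) (nat_lit 114) (nat_lit 1456) (.node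
  (.node .nil (nat_lit 632) (nat_lit 136) (nat_lit 622) .nil) (nat_lit 633) (nat_lit 121) (nat_lit 1755)
  .nil)) (nat_lit 634) (nat_lit 139) (nat_lit 1726) (.node (.node (.node .nil (nat_lit 635) (nat_lit 126)
  (nat_lit 1254) .nil) (nat_lit 636) (nat_lit 129) (nat_lit 731) (.node .nil (nat_lit 637) (nat_lit 113)
  (nat_lit 229) .nil)) (nat_lit 638) (nat_lit 115) (nat_lit 1150) (.node (.node .nil (nat_lit 639) (nat_lit
  113) (nat_lit 1074) .nil) (nat_lit 640) (nat_lit 115) (nat_lit 947) .nil)))) (nat_lit 641) (nat_lit 133)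
  (nat_lit 870) (.node (.node (.node (.node (.node .nil (nat_lit 642) (nat_lit 130) (nat_lit 1172) .nil)
  (nat_lit 643) (nat_lit 115) (nat_lit 379) (.node .nil (nat_lit 644) (nat_lit 130) (nat_lit 985) .nil))
  (nat_lit 645) (nat_lit 114) (nat_lit 975) (.node (.node .nil (nat_lit 646) (nat_lit 126) (nat_lit 470) .nil)
  (nat_lit 647) (nat_lit 129) (nat_lit 983) .nil)) (nat_lit 648) (nat_lit 113) (nat_lit 236) (.node (.node
  (.node .nil (nat_lit 649) (nat_lit 136) (nat_lit 1644) .nil) (nat_lit 650) (nat_lit 141) (nat_lit 523)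
  (.node .nil (nat_lit 651) (nat_lit 76) (nat_lit 1767) .nil)) (nat_lit 652) (nat_lit 52) (nat_lit 655) (.node
  (.node .nil (nat_lit 653) (nat_lit 120) (nat_lit 1174) .nil) (nat_lit 654) (nat_lit 132) (nat_lit 1389)
  .nil))) (nat_lit 655) (nat_lit 35) (nat_lit 1781) (.node (.node (.node (.node .nil (nat_lit 656) (nat_lit
  136) (nat_lit 1630) .nil) (nat_lit 657) (nat_lit 140) (nat_lit 1172) (.node .nil (nat_lit 658) (nat_lit 113)
  (nat_lit 717) .nil)) (nat_lit 659) (nat_lit 123) (nat_lit 745) (.node (.node .nil (nat_lit 660) (nat_lit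
  132) (nat_lit 976) .nil) (nat_lit 661) (nat_lit 137) (nat_lit 424) .nil)) (nat_lit 662) (nat_lit 126)
  (nat_lit 790) (.node (.node (.node .nil (nat_lit 663) (nat_lit 106) (nat_lit 914) .nil) (nat_lit 664)
  (nat_lit 110) (nat_lit 914) .nil) (nat_lit 665) (nat_lit 126) (nat_lit 917) (.node (.node .nil (nat_lit 666)
  (nat_lit 124) (nat_lit 766) .nil) (nat_lit 667) (nat_lit 123) (nat_lit 40) .nil))))))
def l0t_6 : T := (.node (.node (.node (.node (.node (.node (.node .nil (nat_lit 669) (nat_lit 124) (nat_lit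
  37) .nil) (nat_lit 670) (nat_lit 119) (nat_lit 574) (.node .nil (nat_lit 671) (nat_lit 126) (nat_lit 931)
  .nil)) (nat_lit 672) (nat_lit 121) (nat_lit 790) (.node (.node .nil (nat_lit 673) (nat_lit 121) (nat_lit
  418) .nil) (nat_lit 674) (nat_lit 103) (nat_lit 596) .nil)) (nat_lit 675) (nat_lit 137) (nat_lit 757) (.node
  (.node (.node .nil (nat_lit 676) (nat_lit 137) (nat_lit 741) .nil) (nat_lit 677) (nat_lit 93) (nat_lit 204)
  (.node .nil (nat_lit 678) (nat_lit 80) (nat_lit 201) .nil)) (nat_lit 679) (nat_lit 132) (nat_lit 978) (.node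
  (.node .nil (nat_lit 680) (nat_lit 139) (nat_lit 579) .nil) (nat_lit 681) (nat_lit 131) (nat_lit 842)
  .nil))) (nat_lit 682) (nat_lit 80) (nat_lit 204) (.node (.node (.node (.node .nil (nat_lit 683) (nat_lit 89)
  (nat_lit 139) .nil) (nat_lit 684) (nat_lit 139) (nat_lit 881) (.node .nil (nat_lit 685) (nat_lit 134)
  (nat_lit 658) .nil)) (nat_lit 686) (nat_lit 93) (nat_lit 201) (.node (.node .nil (nat_lit 687) (nat_lit 87)
  (nat_lit 599) .nil) (nat_lit 688) (nat_lit 121) (nat_lit 476) .nil)) (nat_lit 689) (nat_lit 89) (nat_lit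
  169) (.node (.node (.node .nil (nat_lit 690) (nat_lit 112) (nat_lit 540) .nil) (nat_lit 691) (nat_lit 123)
  (nat_lit 51) (.node .nil (nat_lit 692) (nat_lit 105) (nat_lit 581) .nil)) (nat_lit 693) (nat_lit 87)
  (nat_lit 1569) (.node (.node .nil (nat_lit 694) (nat_lit 126) (nat_lit 476) .nil) (nat_lit 695) (nat_lit 83)
  (nat_lit 1777) .nil)))) (nat_lit 696) (nat_lit 83) (nat_lit 1778) (.node (.node (.node (.node (.node .nil
  (nat_lit 697) (nat_lit 123) (nat_lit 987) .nil) (nat_lit 698) (nat_lit 142) (nat_lit 741) (.node .nil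
  (nat_lit 699) (nat_lit 83) (nat_lit 1768) .nil)) (nat_lit 700) (nat_lit 67) (nat_lit 1767) (.node (.node
  .nil (nat_lit 701) (nat_lit 139) (nat_lit 672) .nil) (nat_lit 702) (nat_lit 131) (nat_lit 691) .nil))
  (nat_lit 703) (nat_lit 132) (nat_lit 1566) (.node (.node (.node .nil (nat_lit 704) (nat_lit 99) (nat_lit
  943) .nil) (nat_lit 705) (nat_lit 97) (nat_lit 82) (.node .nil (nat_lit 706) (nat_lit 108) (nat_lit 264)
  .nil)) (nat_lit 707) (nat_lit 134) (nat_lit 849) (.node (.node .nil (nat_lit 708) (nat_lit 129) (nat_lit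
  653) .nil) (nat_lit 709) (nat_lit 106) (nat_lit 264) .nil))) (nat_lit 710) (nat_lit 113) (nat_lit 1480)
  (.node (.node (.node (.node .nil (nat_lit 711) (nat_lit 140) (nat_lit 1644) .nil) (nat_lit 712) (nat_lit
  120) (nat_lit 364) (.node .nil (nat_lit 713) (nat_lit 137) (nat_lit 1302) .nil)) (nat_lit 714) (nat_lit 123)
  (nat_lit 375) (.node (.node .nil (nat_lit 715) (nat_lit 140) (nat_lit 152) .nil) (nat_lit 716) (nat_lit 122)
  (nat_lit 1518) .nil)) (nat_lit 717) (nat_lit 106) (nat_lit 1722) (.node (.node (.node .nil (nat_lit 718)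
  (nat_lit 74) (nat_lit 1700) .nil) (nat_lit 719) (nat_lit 90) (nat_lit 414) (.node .nil (nat_lit 720)
  (nat_lit 107) (nat_lit 495) .nil)) (nat_lit 721) (nat_lit 122) (nat_lit 917) (.node (.node .nil (nat_lit
  722) (nat_lit 118) (nat_lit 788) .nil) (nat_lit 723) (nat_lit 110) (nat_lit 100) .nil))))) (nat_lit 724)
  (nat_lit 134) (nat_lit 776) (.node (.node (.node (.node (.node (.node .nil (nat_lit 725) (nat_lit 105)
  (nat_lit 66) .nil) (nat_lit 726) (nat_lit 120) (nat_lit 248) (.node .nil (nat_lit 727) (nat_lit 141)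
  (nat_lit 757) .nil)) (nat_lit 728) (nat_lit 99) (nat_lit 213) (.node (.node .nil (nat_lit 729) (nat_lit 110)
  (nat_lit 165) .nil) (nat_lit 730) (nat_lit 123) (nat_lit 493) .nil)) (nat_lit 731) (nat_lit 122) (nat_lit
  574) (.node (.node (.node .nil (nat_lit 732) (nat_lit 136) (nat_lit 338) .nil) (nat_lit 733) (nat_lit 136)
  (nat_lit 353) (.node .nil (nat_lit 734) (nat_lit 129) (nat_lit 1437) .nil)) (nat_lit 735) (nat_lit 120)
  (nat_lit 1252) (.node (.node .nil (nat_lit 736) (nat_lit 119) (nat_lit 1518) .nil) (nat_lit 737) (nat_lit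
  121) (nat_lit 1141) .nil))) (nat_lit 738) (nat_lit 122) (nat_lit 930) (.node (.node (.node (.node .nil
  (nat_lit 739) (nat_lit 107) (nat_lit 373) .nil) (nat_lit 740) (nat_lit 104) (nat_lit 373) (.node .nil
  (nat_lit 741) (nat_lit 124) (nat_lit 777) .nil)) (nat_lit 742) (nat_lit 110) (nat_lit 699) (.node (.node
  .nil (nat_lit 743) (nat_lit 94) (nat_lit 201) .nil) (nat_lit 744) (nat_lit 116) (nat_lit 573) .nil))
  (nat_lit 745) (nat_lit 104) (nat_lit 89) (.node (.node (.node .nil (nat_lit 746) (nat_lit 103) (nat_lit 89)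
  .nil) (nat_lit 747) (nat_lit 124) (nat_lit 720) (.node .nil (nat_lit 748) (nat_lit 125) (nat_lit 476) .nil))
  (nat_lit 749) (nat_lit 101) (nat_lit 750) (.node (.node .nil (nat_lit 750) (nat_lit 87) (nat_lit 93) .nil)
  (nat_lit 751) (nat_lit 94) (nat_lit 700) .nil)))) (nat_lit 752) (nat_lit 124) (nat_lit 778) (.node (.node
  (.node (.node (.node .nil (nat_lit 753) (nat_lit 124) (nat_lit 501) .nil) (nat_lit 754) (nat_lit 103)
  (nat_lit 426) (.node .nil (nat_lit 755) (nat_lit 110) (nat_lit 686) .nil)) (nat_lit 756) (nat_lit 127)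
  (nat_lit 476) (.node (.node .nil (nat_lit 757) (nat_lit 124) (nat_lit 479) .nil) (nat_lit 758) (nat_lit 108)
  (nat_lit 79) .nil)) (nat_lit 759) (nat_lit 103) (nat_lit 78) (.node (.node (.node .nil (nat_lit 760)
  (nat_lit 116) (nat_lit 788) .nil) (nat_lit 761) (nat_lit 118) (nat_lit 781) (.node .nil (nat_lit 762)
  (nat_lit 101) (nat_lit 743) .nil)) (nat_lit 763) (nat_lit 121) (nat_lit 71) (.node (.node .nil (nat_lit 764)
  (nat_lit 104) (nat_lit 251) .nil) (nat_lit 765) (nat_lit 121) (nat_lit 37) .nil))) (nat_lit 766) (nat_lit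
  106) (nat_lit 28) (.node (.node (.node (.node .nil (nat_lit 767) (nat_lit 106) (nat_lit 66) .nil) (nat_lit
  768) (nat_lit 119) (nat_lit 198) (.node .nil (nat_lit 769) (nat_lit 100) (nat_lit 213) .nil)) (nat_lit 770)
  (nat_lit 124) (nat_lit 178) (.node (.node .nil (nat_lit 771) (nat_lit 123) (nat_lit 494) .nil) (nat_lit 772)
  (nat_lit 126) (nat_lit 443) .nil)) (nat_lit 773) (nat_lit 124) (nat_lit 494) (.node (.node (.node .nil
  (nat_lit 774) (nat_lit 107) (nat_lit 89) .nil) (nat_lit 775) (nat_lit 121) (nat_lit 479) (.node .nil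
  (nat_lit 776) (nat_lit 124) (nat_lit 377) .nil)) (nat_lit 777) (nat_lit 107) (nat_lit 76) (.node (.node .nil
  (nat_lit 778) (nat_lit 107) (nat_lit 108) .nil) (nat_lit 779) (nat_lit 103) (nat_lit 581) .nil))))))
def l0t_7 : T := (.node (.node (.node (.node (.node (.node (.node .nil (nat_lit 781) (nat_lit 108) (nat_lit
  373) .nil) (nat_lit 782) (nat_lit 105) (nat_lit 914) (.node .nil (nat_lit 783) (nat_lit 123) (nat_lit 106)
  .nil)) (nat_lit 784) (nat_lit 124) (nat_lit 498) (.node (.node .nil (nat_lit 785) (nat_lit 124) (nat_lit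
  497) .nil) (nat_lit 786) (nat_lit 123) (nat_lit 498) .nil)) (nat_lit 787) (nat_lit 123) (nat_lit 497) (.node
  (.node (.node .nil (nat_lit 788) (nat_lit 106) (nat_lit 901) .nil) (nat_lit 789) (nat_lit 120) (nat_lit 479)
  (.node .nil (nat_lit 790) (nat_lit 108) (nat_lit 76) .nil)) (nat_lit 791) (nat_lit 115) (nat_lit 1484)
  (.node (.node .nil (nat_lit 792) (nat_lit 123) (nat_lit 198) .nil) (nat_lit 793) (nat_lit 123) (nat_lit 374)
  .nil))) (nat_lit 794) (nat_lit 108) (nat_lit 251) (.node (.node (.node (.node .nil (nat_lit 795) (nat_lit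
  113) (nat_lit 1150) .nil) (nat_lit 796) (nat_lit 103) (nat_lit 1567) (.node .nil (nat_lit 797) (nat_lit 81)
  (nat_lit 458) .nil)) (nat_lit 798) (nat_lit 69) (nat_lit 1700) (.node (.node .nil (nat_lit 799) (nat_lit 85)
  (nat_lit 415) .nil) (nat_lit 800) (nat_lit 118) (nat_lit 717) .nil)) (nat_lit 801) (nat_lit 123) (nat_lit
  491) (.node (.node (.node .nil (nat_lit 802) (nat_lit 124) (nat_lit 380) .nil) (nat_lit 803) (nat_lit 134)
  (nat_lit 1293) (.node .nil (nat_lit 804) (nat_lit 135) (nat_lit 1297) .nil)) (nat_lit 805) (nat_lit 138)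
  (nat_lit 1172) (.node (.node .nil (nat_lit 806) (nat_lit 122) (nat_lit 119) .nil) (nat_lit 807) (nat_lit
  119) (nat_lit 1672) .nil)))) (nat_lit 808) (nat_lit 124) (nat_lit 375) (.node (.node (.node (.node (.node
  .nil (nat_lit 809) (nat_lit 114) (nat_lit 664) .nil) (nat_lit 810) (nat_lit 140) (nat_lit 65) (.node .nil
  (nat_lit 811) (nat_lit 123) (nat_lit 487) .nil)) (nat_lit 812) (nat_lit 127) (nat_lit 816) (.node (.node
  .nil (nat_lit 813) (nat_lit 124) (nat_lit 379) .nil) (nat_lit 814) (nat_lit 140) (nat_lit 200) .nil))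
  (nat_lit 815) (nat_lit 123) (nat_lit 486) (.node (.node (.node .nil (nat_lit 816) (nat_lit 107) (nat_lit
  488) .nil) (nat_lit 817) (nat_lit 140) (nat_lit 197) (.node .nil (nat_lit 818) (nat_lit 141) (nat_lit 1268)
  .nil)) (nat_lit 819) (nat_lit 139) (nat_lit 399) (.node (.node .nil (nat_lit 820) (nat_lit 128) (nat_lit
  1746) .nil) (nat_lit 821) (nat_lit 124) (nat_lit 487) .nil))) (nat_lit 822) (nat_lit 123) (nat_lit 380)
  (.node (.node (.node (.node .nil (nat_lit 823) (nat_lit 141) (nat_lit 1191) .nil) (nat_lit 824) (nat_lit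
  129) (nat_lit 867) (.node .nil (nat_lit 825) (nat_lit 122) (nat_lit 1645) .nil)) (nat_lit 826) (nat_lit 139)
  (nat_lit 177) (.node (.node .nil (nat_lit 827) (nat_lit 136) (nat_lit 472) .nil) (nat_lit 828) (nat_lit 140)
  (nat_lit 189) .nil)) (nat_lit 829) (nat_lit 119) (nat_lit 816) (.node (.node (.node .nil (nat_lit 830)
  (nat_lit 139) (nat_lit 250) .nil) (nat_lit 831) (nat_lit 108) (nat_lit 488) (.node .nil (nat_lit 832)
  (nat_lit 125) (nat_lit 816) .nil)) (nat_lit 833) (nat_lit 123) (nat_lit 164) (.node (.node .nil (nat_lit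
  834) (nat_lit 124) (nat_lit 486) .nil) (nat_lit 835) (nat_lit 127) (nat_lit 831) .nil))))) (nat_lit 836)
  (nat_lit 139) (nat_lit 246) (.node (.node (.node (.node (.node (.node .nil (nat_lit 837) (nat_lit 120)
  (nat_lit 918) .nil) (nat_lit 838) (nat_lit 136) (nat_lit 916) (.node .nil (nat_lit 839) (nat_lit 136)
  (nat_lit 903) .nil)) (nat_lit 840) (nat_lit 114) (nat_lit 788) (.node (.node .nil (nat_lit 841) (nat_lit
  124) (nat_lit 145) .nil) (nat_lit 842) (nat_lit 120) (nat_lit 470) .nil)) (nat_lit 843) (nat_lit 123)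
  (nat_lit 181) (.node (.node (.node .nil (nat_lit 844) (nat_lit 125) (nat_lit 831) .nil) (nat_lit 845)
  (nat_lit 124) (nat_lit 245) (.node .nil (nat_lit 846) (nat_lit 139) (nat_lit 188) .nil)) (nat_lit 847)
  (nat_lit 123) (nat_lit 376) (.node (.node .nil (nat_lit 848) (nat_lit 137) (nat_lit 1759) .nil) (nat_lit
  849) (nat_lit 124) (nat_lit 51) .nil))) (nat_lit 850) (nat_lit 130) (nat_lit 539) (.node (.node (.node
  (.node .nil (nat_lit 851) (nat_lit 141) (nat_lit 1297) .nil) (nat_lit 852) (nat_lit 136) (nat_lit 1030)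
  (.node .nil (nat_lit 853) (nat_lit 140) (nat_lit 1048) .nil)) (nat_lit 854) (nat_lit 128) (nat_lit 444)
  (.node (.node .nil (nat_lit 855) (nat_lit 122) (nat_lit 1730) .nil) (nat_lit 856) (nat_lit 115) (nat_lit
  198) .nil)) (nat_lit 857) (nat_lit 115) (nat_lit 479) (.node (.node (.node .nil (nat_lit 858) (nat_lit 123)
  (nat_lit 123) .nil) (nat_lit 859) (nat_lit 140) (nat_lit 1003) (.node .nil (nat_lit 860) (nat_lit 130)
  (nat_lit 672) .nil)) (nat_lit 861) (nat_lit 123) (nat_lit 127) (.node (.node .nil (nat_lit 862) (nat_lit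
  112) (nat_lit 913) .nil) (nat_lit 863) (nat_lit 114) (nat_lit 663) .nil)))) (nat_lit 864) (nat_lit 124)
  (nat_lit 1046) (.node (.node (.node (.node (.node .nil (nat_lit 865) (nat_lit 126) (nat_lit 816) .nil)
  (nat_lit 866) (nat_lit 139) (nat_lit 50) (.node .nil (nat_lit 867) (nat_lit 119) (nat_lit 918) .nil))
  (nat_lit 868) (nat_lit 125) (nat_lit 1593) (.node (.node .nil (nat_lit 869) (nat_lit 125) (nat_lit 1484)
  .nil) (nat_lit 870) (nat_lit 115) (nat_lit 106) .nil)) (nat_lit 871) (nat_lit 124) (nat_lit 128) (.node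
  (.node (.node .nil (nat_lit 872) (nat_lit 139) (nat_lit 1003) .nil) (nat_lit 873) (nat_lit 129) (nat_lit
  1239) (.node .nil (nat_lit 874) (nat_lit 133) (nat_lit 1699) .nil)) (nat_lit 875) (nat_lit 133) (nat_lit
  269) (.node (.node .nil (nat_lit 876) (nat_lit 112) (nat_lit 501) .nil) (nat_lit 877) (nat_lit 135) (nat_lit
  916) .nil))) (nat_lit 878) (nat_lit 123) (nat_lit 49) (.node (.node (.node (.node .nil (nat_lit 879)
  (nat_lit 115) (nat_lit 180) .nil) (nat_lit 880) (nat_lit 131) (nat_lit 907) (.node .nil (nat_lit 881)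
  (nat_lit 126) (nat_lit 918) .nil)) (nat_lit 882) (nat_lit 122) (nat_lit 816) (.node (.node .nil (nat_lit
  883) (nat_lit 112) (nat_lit 975) .nil) (nat_lit 884) (nat_lit 140) (nat_lit 69) .nil)) (nat_lit 885)
  (nat_lit 123) (nat_lit 1046) (.node (.node (.node .nil (nat_lit 886) (nat_lit 139) (nat_lit 1222) .nil)
  (nat_lit 887) (nat_lit 115) (nat_lit 572) .nil) (nat_lit 888) (nat_lit 122) (nat_lit 1170) (.node (.node
  .nil (nat_lit 889) (nat_lit 138) (nat_lit 333) .nil) (nat_lit 890) (nat_lit 142) (nat_lit 439) .nil))))))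
def l0t_8 : T := (.node (.node (.node (.node (.node (.node (.node .nil (nat_lit 892) (nat_lit 137) (nat_lit
  1774) .nil) (nat_lit 893) (nat_lit 138) (nat_lit 339) (.node .nil (nat_lit 894) (nat_lit 127) (nat_lit 574)
  .nil)) (nat_lit 895) (nat_lit 111) (nat_lit 901) (.node (.node .nil (nat_lit 896) (nat_lit 124) (nat_lit
  376) .nil) (nat_lit 897) (nat_lit 123) (nat_lit 490) .nil)) (nat_lit 898) (nat_lit 123) (nat_lit 133) (.node
  (.node (.node .nil (nat_lit 899) (nat_lit 127) (nat_lit 739) .nil) (nat_lit 900) (nat_lit 123) (nat_lit 377)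
  (.node .nil (nat_lit 901) (nat_lit 92) (nat_lit 190) .nil)) (nat_lit 902) (nat_lit 124) (nat_lit 164) (.node
  (.node .nil (nat_lit 903) (nat_lit 123) (nat_lit 489) .nil) (nat_lit 904) (nat_lit 124) (nat_lit 490)
  .nil))) (nat_lit 905) (nat_lit 124) (nat_lit 248) (.node (.node (.node (.node .nil (nat_lit 906) (nat_lit
  121) (nat_lit 739) .nil) (nat_lit 907) (nat_lit 123) (nat_lit 379) (.node .nil (nat_lit 908) (nat_lit 140)
  (nat_lit 149) .nil)) (nat_lit 909) (nat_lit 119) (nat_lit 470) (.node (.node .nil (nat_lit 910) (nat_lit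
  127) (nat_lit 479) .nil) (nat_lit 911) (nat_lit 124) (nat_lit 198) .nil)) (nat_lit 912) (nat_lit 120)
  (nat_lit 831) (.node (.node (.node .nil (nat_lit 913) (nat_lit 109) (nat_lit 901) .nil) (nat_lit 914)
  (nat_lit 91) (nat_lit 190) (.node .nil (nat_lit 915) (nat_lit 139) (nat_lit 249) .nil)) (nat_lit 916)
  (nat_lit 124) (nat_lit 489) (.node (.node .nil (nat_lit 917) (nat_lit 108) (nat_lit 89) .nil) (nat_lit 918)
  (nat_lit 108) (nat_lit 492) .nil)))) (nat_lit 919) (nat_lit 123) (nat_lit 245) (.node (.node (.node (.node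
  (.node .nil (nat_lit 920) (nat_lit 124) (nat_lit 144) .nil) (nat_lit 921) (nat_lit 136) (nat_lit 815) (.node
  .nil (nat_lit 922) (nat_lit 123) (nat_lit 247) .nil)) (nat_lit 923) (nat_lit 120) (nat_lit 816) (.node
  (.node .nil (nat_lit 924) (nat_lit 140) (nat_lit 177) .nil) (nat_lit 925) (nat_lit 114) (nat_lit 931) .nil))
  (nat_lit 926) (nat_lit 107) (nat_lit 499) (.node (.node (.node .nil (nat_lit 927) (nat_lit 127) (nat_lit
  930) .nil) (nat_lit 928) (nat_lit 124) (nat_lit 180) (.node .nil (nat_lit 929) (nat_lit 125) (nat_lit 470)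
  .nil)) (nat_lit 930) (nat_lit 108) (nat_lit 495) (.node (.node .nil (nat_lit 931) (nat_lit 109) (nat_lit
  914) .nil) (nat_lit 932) (nat_lit 123) (nat_lit 144) .nil))) (nat_lit 933) (nat_lit 114) (nat_lit 913)
  (.node (.node (.node (.node .nil (nat_lit 934) (nat_lit 108) (nat_lit 499) .nil) (nat_lit 935) (nat_lit 125)
  (nat_lit 479) (.node .nil (nat_lit 936) (nat_lit 123) (nat_lit 143) .nil)) (nat_lit 937) (nat_lit 125)
  (nat_lit 918) (.node (.node .nil (nat_lit 938) (nat_lit 90) (nat_lit 1701) .nil) (nat_lit 939) (nat_lit 76)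
  (nat_lit 1700) .nil)) (nat_lit 940) (nat_lit 75) (nat_lit 1700) (.node (.node (.node .nil (nat_lit 941)
  (nat_lit 73) (nat_lit 1700) .nil) (nat_lit 942) (nat_lit 94) (nat_lit 941) (.node .nil (nat_lit 943)
  (nat_lit 84) (nat_lit 55) .nil)) (nat_lit 944) (nat_lit 124) (nat_lit 769) (.node (.node .nil (nat_lit 945)
  (nat_lit 123) (nat_lit 37) .nil) (nat_lit 946) (nat_lit 112) (nat_lit 931) .nil))))) (nat_lit 947) (nat_lit
  107) (nat_lit 28) (.node (.node (.node (.node (.node (.node .nil (nat_lit 948) (nat_lit 123) (nat_lit 1049)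
  .nil) (nat_lit 949) (nat_lit 140) (nat_lit 64) (.node .nil (nat_lit 950) (nat_lit 124) (nat_lit 740) .nil))
  (nat_lit 951) (nat_lit 140) (nat_lit 68) (.node (.node .nil (nat_lit 952) (nat_lit 124) (nat_lit 49) .nil)
  (nat_lit 953) (nat_lit 119) (nat_lit 913) .nil)) (nat_lit 954) (nat_lit 123) (nat_lit 70) (.node (.node
  (.node .nil (nat_lit 955) (nat_lit 130) (nat_lit 976) .nil) (nat_lit 956) (nat_lit 139) (nat_lit 1014)
  (.node .nil (nat_lit 957) (nat_lit 107) (nat_lit 66) .nil)) (nat_lit 958) (nat_lit 124) (nat_lit 448) (.node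
  (.node .nil (nat_lit 959) (nat_lit 126) (nat_lit 778) .nil) (nat_lit 960) (nat_lit 126) (nat_lit 777)
  .nil))) (nat_lit 961) (nat_lit 123) (nat_lit 128) (.node (.node (.node (.node .nil (nat_lit 962) (nat_lit
  114) (nat_lit 987) .nil) (nat_lit 963) (nat_lit 124) (nat_lit 40) (.node .nil (nat_lit 964) (nat_lit 124)
  (nat_lit 33) .nil)) (nat_lit 965) (nat_lit 121) (nat_lit 957) (.node (.node .nil (nat_lit 966) (nat_lit 118)
  (nat_lit 663) .nil) (nat_lit 967) (nat_lit 124) (nat_lit 1049) .nil)) (nat_lit 968) (nat_lit 140) (nat_lit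
  1047) (.node (.node (.node .nil (nat_lit 969) (nat_lit 121) (nat_lit 913) .nil) (nat_lit 970) (nat_lit 123)
  (nat_lit 503) (.node .nil (nat_lit 971) (nat_lit 112) (nat_lit 664) .nil)) (nat_lit 972) (nat_lit 116)
  (nat_lit 663) (.node (.node .nil (nat_lit 973) (nat_lit 126) (nat_lit 574) .nil) (nat_lit 974) (nat_lit 113)
  (nat_lit 1254) .nil)))) (nat_lit 975) (nat_lit 110) (nat_lit 901) (.node (.node (.node (.node (.node .nil
  (nat_lit 976) (nat_lit 122) (nat_lit 777) .nil) (nat_lit 977) (nat_lit 123) (nat_lit 229) (.node .nil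
  (nat_lit 978) (nat_lit 119) (nat_lit 831) .nil)) (nat_lit 979) (nat_lit 139) (nat_lit 52) (.node (.node .nil
  (nat_lit 980) (nat_lit 121) (nat_lit 947) .nil) (nat_lit 981) (nat_lit 119) (nat_lit 418) .nil)) (nat_lit
  982) (nat_lit 128) (nat_lit 973) (.node (.node (.node .nil (nat_lit 983) (nat_lit 119) (nat_lit 790) .nil)
  (nat_lit 984) (nat_lit 126) (nat_lit 774) (.node .nil (nat_lit 985) (nat_lit 121) (nat_lit 574) .nil))
  (nat_lit 986) (nat_lit 122) (nat_lit 782) (.node (.node .nil (nat_lit 987) (nat_lit 105) (nat_lit 901) .nil)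
  (nat_lit 988) (nat_lit 121) (nat_lit 831) .nil))) (nat_lit 989) (nat_lit 138) (nat_lit 907) (.node (.node
  (.node (.node .nil (nat_lit 990) (nat_lit 108) (nat_lit 44) .nil) (nat_lit 991) (nat_lit 123) (nat_lit 1724)
  (.node .nil (nat_lit 992) (nat_lit 116) (nat_lit 1254) .nil)) (nat_lit 993) (nat_lit 96) (nat_lit 687)
  (.node (.node .nil (nat_lit 994) (nat_lit 99) (nat_lit 693) .nil) (nat_lit 995) (nat_lit 105) (nat_lit 44)
  .nil)) (nat_lit 996) (nat_lit 131) (nat_lit 196) (.node (.node (.node .nil (nat_lit 997) (nat_lit 140)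
  (nat_lit 801) .nil) (nat_lit 998) (nat_lit 124) (nat_lit 1732) (.node .nil (nat_lit 999) (nat_lit 140)
  (nat_lit 1689) .nil)) (nat_lit 1000) (nat_lit 118) (nat_lit 49) (.node (.node .nil (nat_lit 1001) (nat_lit
  116) (nat_lit 990) .nil) (nat_lit 1002) (nat_lit 119) (nat_lit 143) .nil))))))
def l0t_9 : T := (.node (.node (.node (.node (.node (.node (.node .nil (nat_lit 1004) (nat_lit 131) (nat_lit
  188) .nil) (nat_lit 1005) (nat_lit 131) (nat_lit 52) (.node .nil (nat_lit 1006) (nat_lit 140) (nat_lit 903)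
  .nil)) (nat_lit 1007) (nat_lit 124) (nat_lit 816) (.node (.node .nil (nat_lit 1008) (nat_lit 115) (nat_lit
  51) .nil) (nat_lit 1009) (nat_lit 115) (nat_lit 181) .nil)) (nat_lit 1010) (nat_lit 116) (nat_lit 1029)
  (.node (.node (.node .nil (nat_lit 1011) (nat_lit 117) (nat_lit 245) .nil) (nat_lit 1012) (nat_lit 116)
  (nat_lit 1023) (.node .nil (nat_lit 1013) (nat_lit 116) (nat_lit 1022) .nil)) (nat_lit 1014) (nat_lit 119)
  (nat_lit 487) (.node (.node .nil (nat_lit 1015) (nat_lit 119) (nat_lit 490) .nil) (nat_lit 1016) (nat_lit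
  127) (nat_lit 1049) .nil))) (nat_lit 1017) (nat_lit 119) (nat_lit 491) (.node (.node (.node (.node .nil
  (nat_lit 1018) (nat_lit 136) (nat_lit 385) .nil) (nat_lit 1019) (nat_lit 136) (nat_lit 386) (.node .nil
  (nat_lit 1020) (nat_lit 132) (nat_lit 840) .nil)) (nat_lit 1021) (nat_lit 139) (nat_lit 912) (.node (.node
  .nil (nat_lit 1022) (nat_lit 110) (nat_lit 682) .nil) (nat_lit 1023) (nat_lit 110) (nat_lit 683) .nil))
  (nat_lit 1024) (nat_lit 110) (nat_lit 166) (.node (.node (.node .nil (nat_lit 1025) (nat_lit 106) (nat_lit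
  214) .nil) (nat_lit 1026) (nat_lit 107) (nat_lit 142) (.node .nil (nat_lit 1027) (nat_lit 110) (nat_lit 168)
  .nil)) (nat_lit 1028) (nat_lit 110) (nat_lit 678) (.node (.node .nil (nat_lit 1029) (nat_lit 105) (nat_lit
  214) .nil) (nat_lit 1030) (nat_lit 121) (nat_lit 1732) .nil)))) (nat_lit 1031) (nat_lit 132) (nat_lit 857)
  (.node (.node (.node (.node (.node .nil (nat_lit 1032) (nat_lit 140) (nat_lit 1774) .nil) (nat_lit 1033)
  (nat_lit 138) (nat_lit 1712) (.node .nil (nat_lit 1034) (nat_lit 115) (nat_lit 720) .nil)) (nat_lit 1035)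
  (nat_lit 115) (nat_lit 247) (.node (.node .nil (nat_lit 1036) (nat_lit 121) (nat_lit 1686) .nil) (nat_lit
  1037) (nat_lit 127) (nat_lit 1254) .nil)) (nat_lit 1038) (nat_lit 137) (nat_lit 332) (.node (.node (.node
  .nil (nat_lit 1039) (nat_lit 128) (nat_lit 1753) .nil) (nat_lit 1040) (nat_lit 142) (nat_lit 1192) (.node
  .nil (nat_lit 1041) (nat_lit 125) (nat_lit 1150) .nil)) (nat_lit 1042) (nat_lit 139) (nat_lit 1494) (.node
  (.node .nil (nat_lit 1043) (nat_lit 136) (nat_lit 1387) .nil) (nat_lit 1044) (nat_lit 140) (nat_lit 653)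
  .nil))) (nat_lit 1045) (nat_lit 132) (nat_lit 1455) (.node (.node (.node (.node .nil (nat_lit 1046) (nat_lit
  103) (nat_lit 492) .nil) (nat_lit 1047) (nat_lit 119) (nat_lit 486) (.node .nil (nat_lit 1048) (nat_lit 119)
  (nat_lit 489) .nil)) (nat_lit 1049) (nat_lit 103) (nat_lit 488) (.node (.node .nil (nat_lit 1050) (nat_lit
  132) (nat_lit 472) .nil) (nat_lit 1051) (nat_lit 141) (nat_lit 1007) .nil)) (nat_lit 1052) (nat_lit 132)
  (nat_lit 821) (.node (.node (.node .nil (nat_lit 1053) (nat_lit 141) (nat_lit 1008) .nil) (nat_lit 1054)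
  (nat_lit 96) (nat_lit 171) (.node .nil (nat_lit 1055) (nat_lit 96) (nat_lit 73) .nil)) (nat_lit 1056)
  (nat_lit 106) (nat_lit 44) (.node (.node .nil (nat_lit 1057) (nat_lit 99) (nat_lit 24) .nil) (nat_lit 1058)
  (nat_lit 121) (nat_lit 1696) .nil))))) (nat_lit 1059) (nat_lit 139) (nat_lit 1720) (.node (.node (.node
  (.node (.node (.node .nil (nat_lit 1060) (nat_lit 138) (nat_lit 1659) .nil) (nat_lit 1061) (nat_lit 138)
  (nat_lit 1378) (.node .nil (nat_lit 1062) (nat_lit 120) (nat_lit 717) .nil)) (nat_lit 1063) (nat_lit 123)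
  (nat_lit 1730) (.node (.node .nil (nat_lit 1064) (nat_lit 132) (nat_lit 1030) .nil) (nat_lit 1065) (nat_lit
  140) (nat_lit 523) .nil)) (nat_lit 1066) (nat_lit 132) (nat_lit 1098) (.node (.node (.node .nil (nat_lit
  1067) (nat_lit 139) (nat_lit 1440) .nil) (nat_lit 1068) (nat_lit 139) (nat_lit 869) (.node .nil (nat_lit
  1069) (nat_lit 119) (nat_lit 1141) .nil)) (nat_lit 1070) (nat_lit 135) (nat_lit 1689) (.node (.node .nil
  (nat_lit 1071) (nat_lit 127) (nat_lit 1150) .nil) (nat_lit 1072) (nat_lit 108) (nat_lit 1722) .nil)))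
  (nat_lit 1073) (nat_lit 113) (nat_lit 540) (.node (.node (.node (.node .nil (nat_lit 1074) (nat_lit 99)
  (nat_lit 901) .nil) (nat_lit 1075) (nat_lit 139) (nat_lit 1387) (.node .nil (nat_lit 1076) (nat_lit 133)
  (nat_lit 1184) .nil)) (nat_lit 1077) (nat_lit 113) (nat_lit 1593) (.node (.node .nil (nat_lit 1078) (nat_lit
  137) (nat_lit 1726) .nil) (nat_lit 1079) (nat_lit 135) (nat_lit 288) .nil)) (nat_lit 1080) (nat_lit 138)
  (nat_lit 1726) (.node (.node (.node .nil (nat_lit 1081) (nat_lit 140) (nat_lit 637) .nil) (nat_lit 1082)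
  (nat_lit 141) (nat_lit 1214) (.node .nil (nat_lit 1083) (nat_lit 120) (nat_lit 1150) .nil)) (nat_lit 1084)
  (nat_lit 116) (nat_lit 1252) (.node (.node .nil (nat_lit 1085) (nat_lit 123) (nat_lit 1745) .nil) (nat_lit
  1086) (nat_lit 140) (nat_lit 1708) .nil)))) (nat_lit 1087) (nat_lit 130) (nat_lit 439) (.node (.node (.node
  (.node (.node .nil (nat_lit 1088) (nat_lit 131) (nat_lit 541) .nil) (nat_lit 1089) (nat_lit 121) (nat_lit
  1676) (.node .nil (nat_lit 1090) (nat_lit 138) (nat_lit 513) .nil)) (nat_lit 1091) (nat_lit 138) (nat_lit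
  332) (.node (.node .nil (nat_lit 1092) (nat_lit 117) (nat_lit 1745) .nil) (nat_lit 1093) (nat_lit 137)
  (nat_lit 1705) .nil)) (nat_lit 1094) (nat_lit 137) (nat_lit 1712) (.node (.node (.node .nil (nat_lit 1095)
  (nat_lit 137) (nat_lit 1720) .nil) (nat_lit 1096) (nat_lit 121) (nat_lit 1745) (.node .nil (nat_lit 1097)
  (nat_lit 118) (nat_lit 514) .nil)) (nat_lit 1098) (nat_lit 122) (nat_lit 514) (.node (.node .nil (nat_lit
  1099) (nat_lit 134) (nat_lit 513) .nil) (nat_lit 1100) (nat_lit 113) (nat_lit 895) .nil))) (nat_lit 1101)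
  (nat_lit 135) (nat_lit 1725) (.node (.node (.node (.node .nil (nat_lit 1102) (nat_lit 129) (nat_lit 894)
  .nil) (nat_lit 1103) (nat_lit 135) (nat_lit 1733) (.node .nil (nat_lit 1104) (nat_lit 119) (nat_lit 1686)
  .nil)) (nat_lit 1105) (nat_lit 124) (nat_lit 1686) (.node (.node .nil (nat_lit 1106) (nat_lit 122) (nat_lit
  1764) .nil) (nat_lit 1107) (nat_lit 140) (nat_lit 1685) .nil)) (nat_lit 1108) (nat_lit 139) (nat_lit 736)
  (.node (.node (.node .nil (nat_lit 1109) (nat_lit 139) (nat_lit 635) .nil) (nat_lit 1110) (nat_lit 129)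
  (nat_lit 737) .nil) (nat_lit 1111) (nat_lit 115) (nat_lit 443) (.node (.node .nil (nat_lit 1112) (nat_lit
  139) (nat_lit 1473) .nil) (nat_lit 1113) (nat_lit 141) (nat_lit 857) .nil))))))
def l0t_10 : T := (.node (.node (.node (.node (.node (.node (.node .nil (nat_lit 1115) (nat_lit 131) (nat_lit
  670) .nil) (nat_lit 1116) (nat_lit 123) (nat_lit 1484) (.node .nil (nat_lit 1117) (nat_lit 128) (nat_lit
  1763) .nil)) (nat_lit 1118) (nat_lit 115) (nat_lit 540) (.node (.node .nil (nat_lit 1119) (nat_lit 112)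
  (nat_lit 1764) .nil) (nat_lit 1120) (nat_lit 117) (nat_lit 1150) .nil)) (nat_lit 1121) (nat_lit 136)
  (nat_lit 587) (.node (.node (.node .nil (nat_lit 1122) (nat_lit 129) (nat_lit 870) .nil) (nat_lit 1123)
  (nat_lit 125) (nat_lit 1237) (.node .nil (nat_lit 1124) (nat_lit 136) (nat_lit 624) .nil)) (nat_lit 1125)
  (nat_lit 121) (nat_lit 1717) (.node (.node .nil (nat_lit 1126) (nat_lit 128) (nat_lit 1759) .nil) (nat_lit
  1127) (nat_lit 137) (nat_lit 1708) .nil))) (nat_lit 1128) (nat_lit 143) (nat_lit 1358) (.node (.node (.node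
  (.node .nil (nat_lit 1129) (nat_lit 112) (nat_lit 1671) .nil) (nat_lit 1130) (nat_lit 132) (nat_lit 1188)
  (.node .nil (nat_lit 1131) (nat_lit 138) (nat_lit 1120) .nil)) (nat_lit 1132) (nat_lit 131) (nat_lit 1184)
  (.node (.node .nil (nat_lit 1133) (nat_lit 122) (nat_lit 1717) .nil) (nat_lit 1134) (nat_lit 124) (nat_lit
  1174) .nil)) (nat_lit 1135) (nat_lit 138) (nat_lit 1708) (.node (.node (.node .nil (nat_lit 1136) (nat_lit
  138) (nat_lit 857) .nil) (nat_lit 1137) (nat_lit 126) (nat_lit 1593) (.node .nil (nat_lit 1138) (nat_lit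
  121) (nat_lit 1645) .nil)) (nat_lit 1139) (nat_lit 139) (nat_lit 1433) (.node (.node .nil (nat_lit 1140)
  (nat_lit 139) (nat_lit 637) .nil) (nat_lit 1141) (nat_lit 99) (nat_lit 76) .nil)))) (nat_lit 1142) (nat_lit
  139) (nat_lit 1302) (.node (.node (.node (.node (.node .nil (nat_lit 1143) (nat_lit 115) (nat_lit 178) .nil)
  (nat_lit 1144) (nat_lit 129) (nat_lit 587) (.node .nil (nat_lit 1145) (nat_lit 135) (nat_lit 1438) .nil))
  (nat_lit 1146) (nat_lit 134) (nat_lit 293) (.node (.node .nil (nat_lit 1147) (nat_lit 115) (nat_lit 794)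
  .nil) (nat_lit 1148) (nat_lit 140) (nat_lit 1695) .nil)) (nat_lit 1149) (nat_lit 130) (nat_lit 1293) (.node
  (.node (.node .nil (nat_lit 1150) (nat_lit 103) (nat_lit 1722) .nil) (nat_lit 1151) (nat_lit 138) (nat_lit
  1774) (.node .nil (nat_lit 1152) (nat_lit 143) (nat_lit 1097) .nil)) (nat_lit 1153) (nat_lit 129) (nat_lit
  775) (.node (.node .nil (nat_lit 1154) (nat_lit 132) (nat_lit 1035) .nil) (nat_lit 1155) (nat_lit 113)
  (nat_lit 782) .nil))) (nat_lit 1156) (nat_lit 121) (nat_lit 1724) (.node (.node (.node (.node .nil (nat_lit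
  1157) (nat_lit 137) (nat_lit 1699) .nil) (nat_lit 1158) (nat_lit 133) (nat_lit 1302) (.node .nil (nat_lit
  1159) (nat_lit 121) (nat_lit 1730) .nil)) (nat_lit 1160) (nat_lit 98) (nat_lit 627) (.node (.node .nil
  (nat_lit 1161) (nat_lit 115) (nat_lit 664) .nil) (nat_lit 1162) (nat_lit 113) (nat_lit 125) .nil)) (nat_lit
  1163) (nat_lit 140) (nat_lit 1726) (.node (.node (.node .nil (nat_lit 1164) (nat_lit 138) (nat_lit 1433)
  .nil) (nat_lit 1165) (nat_lit 126) (nat_lit 1480) (.node .nil (nat_lit 1166) (nat_lit 140) (nat_lit 1728)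
  .nil)) (nat_lit 1167) (nat_lit 115) (nat_lit 663) (.node (.node .nil (nat_lit 1168) (nat_lit 133) (nat_lit
  1753) .nil) (nat_lit 1169) (nat_lit 133) (nat_lit 162) .nil))))) (nat_lit 1170) (nat_lit 96) (nat_lit 627)
  (.node (.node (.node (.node (.node (.node .nil (nat_lit 1171) (nat_lit 136) (nat_lit 619) .nil) (nat_lit
  1172) (nat_lit 121) (nat_lit 1718) (.node .nil (nat_lit 1173) (nat_lit 140) (nat_lit 1433) .nil)) (nat_lit
  1174) (nat_lit 100) (nat_lit 627) (.node (.node .nil (nat_lit 1175) (nat_lit 127) (nat_lit 1518) .nil)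
  (nat_lit 1176) (nat_lit 141) (nat_lit 465) .nil)) (nat_lit 1177) (nat_lit 135) (nat_lit 622) (.node (.node
  (.node .nil (nat_lit 1178) (nat_lit 137) (nat_lit 1675) .nil) (nat_lit 1179) (nat_lit 115) (nat_lit 934)
  (.node .nil (nat_lit 1180) (nat_lit 131) (nat_lit 1302) .nil)) (nat_lit 1181) (nat_lit 122) (nat_lit 1724)
  (.node (.node .nil (nat_lit 1182) (nat_lit 113) (nat_lit 987) .nil) (nat_lit 1183) (nat_lit 122) (nat_lit
  1698) .nil))) (nat_lit 1184) (nat_lit 119) (nat_lit 1732) (.node (.node (.node (.node .nil (nat_lit 1185)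
  (nat_lit 124) (nat_lit 1696) .nil) (nat_lit 1186) (nat_lit 124) (nat_lit 1718) (.node .nil (nat_lit 1187)
  (nat_lit 127) (nat_lit 1072) .nil)) (nat_lit 1188) (nat_lit 120) (nat_lit 1254) (.node (.node .nil (nat_lit
  1189) (nat_lit 129) (nat_lit 736) .nil) (nat_lit 1190) (nat_lit 139) (nat_lit 1585) .nil)) (nat_lit 1191)
  (nat_lit 115) (nat_lit 378) (.node (.node (.node .nil (nat_lit 1192) (nat_lit 122) (nat_lit 1671) .nil)
  (nat_lit 1193) (nat_lit 114) (nat_lit 1217) (.node .nil (nat_lit 1194) (nat_lit 123) (nat_lit 1237) .nil))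
  (nat_lit 1195) (nat_lit 133) (nat_lit 1746) (.node (.node .nil (nat_lit 1196) (nat_lit 139) (nat_lit 1216)
  .nil) (nat_lit 1197) (nat_lit 139) (nat_lit 1613) .nil)))) (nat_lit 1198) (nat_lit 139) (nat_lit 1659)
  (.node (.node (.node (.node (.node .nil (nat_lit 1199) (nat_lit 142) (nat_lit 857) .nil) (nat_lit 1200)
  (nat_lit 132) (nat_lit 1172) (.node .nil (nat_lit 1201) (nat_lit 140) (nat_lit 305) .nil)) (nat_lit 1202)
  (nat_lit 139) (nat_lit 1759) (.node (.node .nil (nat_lit 1203) (nat_lit 121) (nat_lit 1174) .nil) (nat_lit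
  1204) (nat_lit 139) (nat_lit 1756) .nil)) (nat_lit 1205) (nat_lit 140) (nat_lit 308) (.node (.node (.node
  .nil (nat_lit 1206) (nat_lit 136) (nat_lit 564) .nil) (nat_lit 1207) (nat_lit 116) (nat_lit 1237) (.node
  .nil (nat_lit 1208) (nat_lit 128) (nat_lit 1428) .nil)) (nat_lit 1209) (nat_lit 125) (nat_lit 1284) (.node
  (.node .nil (nat_lit 1210) (nat_lit 129) (nat_lit 832) .nil) (nat_lit 1211) (nat_lit 114) (nat_lit 1254)
  .nil))) (nat_lit 1212) (nat_lit 136) (nat_lit 1302) (.node (.node (.node (.node .nil (nat_lit 1213) (nat_lit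
  139) (nat_lit 1657) .nil) (nat_lit 1214) (nat_lit 123) (nat_lit 1645) (.node .nil (nat_lit 1215) (nat_lit
  130) (nat_lit 1030) .nil)) (nat_lit 1216) (nat_lit 112) (nat_lit 1745) (.node (.node .nil (nat_lit 1217)
  (nat_lit 99) (nat_lit 251) .nil) (nat_lit 1218) (nat_lit 112) (nat_lit 1074) .nil)) (nat_lit 1219) (nat_lit
  128) (nat_lit 1712) (.node (.node (.node .nil (nat_lit 1220) (nat_lit 143) (nat_lit 1259) .nil) (nat_lit
  1221) (nat_lit 138) (nat_lit 1675) (.node .nil (nat_lit 1222) (nat_lit 122) (nat_lit 1676) .nil)) (nat_lit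
  1223) (nat_lit 142) (nat_lit 1134) (.node (.node .nil (nat_lit 1224) (nat_lit 115) (nat_lit 926) .nil)
  (nat_lit 1225) (nat_lit 141) (nat_lit 1192) .nil))))))
def l0t_11 : T := (.node (.node (.node (.node (.node (.node (.node .nil (nat_lit 1227) (nat_lit 114) (nat_lit
  1150) .nil) (nat_lit 1228) (nat_lit 122) (nat_lit 1174) (.node .nil (nat_lit 1229) (nat_lit 140) (nat_lit
  353) .nil)) (nat_lit 1230) (nat_lit 136) (nat_lit 1138) (.node (.node .nil (nat_lit 1231) (nat_lit 140)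
  (nat_lit 1759) .nil) (nat_lit 1232) (nat_lit 124) (nat_lit 1775) .nil)) (nat_lit 1233) (nat_lit 137)
  (nat_lit 1537) (.node (.node (.node .nil (nat_lit 1234) (nat_lit 114) (nat_lit 717) .nil) (nat_lit 1235)
  (nat_lit 124) (nat_lit 1702) (.node .nil (nat_lit 1236) (nat_lit 131) (nat_lit 1506) .nil)) (nat_lit 1237)
  (nat_lit 99) (nat_lit 914) (.node (.node .nil (nat_lit 1238) (nat_lit 117) (nat_lit 1484) .nil) (nat_lit
  1239) (nat_lit 122) (nat_lit 1646) .nil))) (nat_lit 1240) (nat_lit 99) (nat_lit 199) (.node (.node (.node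
  (.node .nil (nat_lit 1241) (nat_lit 133) (nat_lit 1763) .nil) (nat_lit 1242) (nat_lit 129) (nat_lit 1387)
  (.node .nil (nat_lit 1243) (nat_lit 140) (nat_lit 1613) .nil)) (nat_lit 1244) (nat_lit 129) (nat_lit 988)
  (.node (.node .nil (nat_lit 1245) (nat_lit 122) (nat_lit 1702) .nil) (nat_lit 1246) (nat_lit 125) (nat_lit
  717) .nil)) (nat_lit 1247) (nat_lit 137) (nat_lit 1773) (.node (.node (.node .nil (nat_lit 1248) (nat_lit
  121) (nat_lit 1698) .nil) (nat_lit 1249) (nat_lit 120) (nat_lit 1072) (.node .nil (nat_lit 1250) (nat_lit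
  121) (nat_lit 1646) .nil)) (nat_lit 1251) (nat_lit 137) (nat_lit 1706) (.node (.node .nil (nat_lit 1252)
  (nat_lit 105) (nat_lit 627) .nil) (nat_lit 1253) (nat_lit 121) (nat_lit 1719) .nil)))) (nat_lit 1254)
  (nat_lit 105) (nat_lit 1722) (.node (.node (.node (.node (.node .nil (nat_lit 1255) (nat_lit 121) (nat_lit
  1170) .nil) (nat_lit 1256) (nat_lit 141) (nat_lit 1445) (.node .nil (nat_lit 1257) (nat_lit 139) (nat_lit
  1685) .nil)) (nat_lit 1258) (nat_lit 139) (nat_lit 1689) (.node (.node .nil (nat_lit 1259) (nat_lit 116)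
  (nat_lit 1284) .nil) (nat_lit 1260) (nat_lit 142) (nat_lit 1261) .nil)) (nat_lit 1261) (nat_lit 123)
  (nat_lit 1686) (.node (.node (.node .nil (nat_lit 1262) (nat_lit 116) (nat_lit 514) .nil) (nat_lit 1263)
  (nat_lit 112) (nat_lit 514) (.node .nil (nat_lit 1264) (nat_lit 129) (nat_lit 1468) .nil)) (nat_lit 1265)
  (nat_lit 129) (nat_lit 1318) (.node (.node .nil (nat_lit 1266) (nat_lit 126) (nat_lit 717) .nil) (nat_lit
  1267) (nat_lit 132) (nat_lit 1320) .nil))) (nat_lit 1268) (nat_lit 123) (nat_lit 1732) (.node (.node (.node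
  (.node .nil (nat_lit 1269) (nat_lit 122) (nat_lit 1719) .nil) (nat_lit 1270) (nat_lit 122) (nat_lit 1686)
  (.node .nil (nat_lit 1271) (nat_lit 119) (nat_lit 1671) .nil)) (nat_lit 1272) (nat_lit 120) (nat_lit 550)
  (.node (.node .nil (nat_lit 1273) (nat_lit 127) (nat_lit 1284) .nil) (nat_lit 1274) (nat_lit 119) (nat_lit
  1646) .nil)) (nat_lit 1275) (nat_lit 137) (nat_lit 1372) (.node (.node (.node .nil (nat_lit 1276) (nat_lit
  136) (nat_lit 1438) .nil) (nat_lit 1277) (nat_lit 128) (nat_lit 1727) (.node .nil (nat_lit 1278) (nat_lit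
  139) (nat_lit 1428) .nil)) (nat_lit 1279) (nat_lit 136) (nat_lit 1759) (.node (.node .nil (nat_lit 1280)
  (nat_lit 129) (nat_lit 1008) .nil) (nat_lit 1281) (nat_lit 139) (nat_lit 1753) .nil))))) (nat_lit 1282)
  (nat_lit 139) (nat_lit 1763) (.node (.node (.node (.node (.node (.node .nil (nat_lit 1283) (nat_lit 113)
  (nat_lit 572) .nil) (nat_lit 1284) (nat_lit 107) (nat_lit 1722) (.node .nil (nat_lit 1285) (nat_lit 123)
  (nat_lit 1764) .nil)) (nat_lit 1286) (nat_lit 119) (nat_lit 1730) (.node (.node .nil (nat_lit 1287) (nat_lit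
  124) (nat_lit 1724) .nil) (nat_lit 1288) (nat_lit 122) (nat_lit 1515) .nil)) (nat_lit 1289) (nat_lit 124)
  (nat_lit 1698) (.node (.node (.node .nil (nat_lit 1290) (nat_lit 123) (nat_lit 514) .nil) (nat_lit 1291)
  (nat_lit 138) (nat_lit 1746) (.node .nil (nat_lit 1292) (nat_lit 122) (nat_lit 1745) .nil)) (nat_lit 1293)
  (nat_lit 122) (nat_lit 1732) (.node (.node .nil (nat_lit 1294) (nat_lit 138) (nat_lit 1706) .nil) (nat_lit
  1295) (nat_lit 141) (nat_lit 638) .nil))) (nat_lit 1296) (nat_lit 140) (nat_lit 513) (.node (.node (.node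
  (.node .nil (nat_lit 1297) (nat_lit 123) (nat_lit 1718) .nil) (nat_lit 1298) (nat_lit 113) (nat_lit 501)
  (.node .nil (nat_lit 1299) (nat_lit 123) (nat_lit 1698) .nil)) (nat_lit 1300) (nat_lit 124) (nat_lit 514)
  (.node (.node .nil (nat_lit 1301) (nat_lit 119) (nat_lit 1775) .nil) (nat_lit 1302) (nat_lit 119) (nat_lit
  1702) .nil)) (nat_lit 1303) (nat_lit 141) (nat_lit 1186) (.node (.node (.node .nil (nat_lit 1304) (nat_lit
  139) (nat_lit 288) .nil) (nat_lit 1305) (nat_lit 119) (nat_lit 1755) (.node .nil (nat_lit 1306) (nat_lit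
  142) (nat_lit 1693) .nil)) (nat_lit 1307) (nat_lit 134) (nat_lit 1119) (.node (.node .nil (nat_lit 1308)
  (nat_lit 117) (nat_lit 1718) .nil) (nat_lit 1309) (nat_lit 132) (nat_lit 624) .nil)))) (nat_lit 1310)
  (nat_lit 115) (nat_lit 446) (.node (.node (.node (.node (.node .nil (nat_lit 1311) (nat_lit 124) (nat_lit
  1237) .nil) (nat_lit 1312) (nat_lit 121) (nat_lit 119) (.node .nil (nat_lit 1313) (nat_lit 113) (nat_lit
  1237) .nil)) (nat_lit 1314) (nat_lit 133) (nat_lit 1062) (.node (.node .nil (nat_lit 1315) (nat_lit 135)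
  (nat_lit 1602) .nil) (nat_lit 1316) (nat_lit 116) (nat_lit 1072) .nil)) (nat_lit 1317) (nat_lit 130)
  (nat_lit 737) (.node (.node (.node .nil (nat_lit 1318) (nat_lit 122) (nat_lit 1356) .nil) (nat_lit 1319)
  (nat_lit 131) (nat_lit 267) (.node .nil (nat_lit 1320) (nat_lit 121) (nat_lit 1150) .nil)) (nat_lit 1321)
  (nat_lit 131) (nat_lit 346) (.node (.node .nil (nat_lit 1322) (nat_lit 120) (nat_lit 1217) .nil) (nat_lit
  1323) (nat_lit 129) (nat_lit 334) .nil))) (nat_lit 1324) (nat_lit 115) (nat_lit 71) (.node (.node (.node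
  (.node .nil (nat_lit 1325) (nat_lit 115) (nat_lit 107) .nil) (nat_lit 1326) (nat_lit 142) (nat_lit 1690)
  (.node .nil (nat_lit 1327) (nat_lit 131) (nat_lit 342) .nil)) (nat_lit 1328) (nat_lit 142) (nat_lit 648)
  (.node (.node .nil (nat_lit 1329) (nat_lit 129) (nat_lit 611) .nil) (nat_lit 1330) (nat_lit 128) (nat_lit
  1720) .nil)) (nat_lit 1331) (nat_lit 129) (nat_lit 339) (.node (.node (.node .nil (nat_lit 1332) (nat_lit
  131) (nat_lit 419) .nil) (nat_lit 1333) (nat_lit 128) (nat_lit 1705) .nil) (nat_lit 1334) (nat_lit 140)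
  (nat_lit 613) (.node (.node .nil (nat_lit 1335) (nat_lit 137) (nat_lit 449) .nil) (nat_lit 1336) (nat_lit
  131) (nat_lit 672) .nil))))))
def l0t_12 : T := (.node (.node (.node (.node (.node (.node (.node .nil (nat_lit 1338) (nat_lit 139) (nat_lit
  267) .nil) (nat_lit 1339) (nat_lit 125) (nat_lit 1356) (.node .nil (nat_lit 1340) (nat_lit 112) (nat_lit
  1718) .nil)) (nat_lit 1341) (nat_lit 137) (nat_lit 1463) (.node (.node .nil (nat_lit 1342) (nat_lit 132)
  (nat_lit 293) .nil) (nat_lit 1343) (nat_lit 112) (nat_lit 1707) .nil)) (nat_lit 1344) (nat_lit 137) (nat_lit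
  1235) (.node (.node (.node .nil (nat_lit 1345) (nat_lit 128) (nat_lit 1537) .nil) (nat_lit 1346) (nat_lit
  141) (nat_lit 1360) (.node .nil (nat_lit 1347) (nat_lit 139) (nat_lit 1418) .nil)) (nat_lit 1348) (nat_lit
  140) (nat_lit 1138) (.node (.node .nil (nat_lit 1349) (nat_lit 129) (nat_lit 1009) .nil) (nat_lit 1350)
  (nat_lit 138) (nat_lit 1209) .nil))) (nat_lit 1351) (nat_lit 137) (nat_lit 624) (.node (.node (.node (.node
  .nil (nat_lit 1352) (nat_lit 139) (nat_lit 613) .nil) (nat_lit 1353) (nat_lit 113) (nat_lit 119) (.node .nil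
  (nat_lit 1354) (nat_lit 136) (nat_lit 357) .nil)) (nat_lit 1355) (nat_lit 115) (nat_lit 33) (.node (.node
  .nil (nat_lit 1356) (nat_lit 99) (nat_lit 108) .nil) (nat_lit 1357) (nat_lit 142) (nat_lit 1691) .nil))
  (nat_lit 1358) (nat_lit 119) (nat_lit 1254) (.node (.node (.node .nil (nat_lit 1359) (nat_lit 135) (nat_lit
  1172) .nil) (nat_lit 1360) (nat_lit 120) (nat_lit 1745) (.node .nil (nat_lit 1361) (nat_lit 135) (nat_lit
  1030) .nil)) (nat_lit 1362) (nat_lit 137) (nat_lit 1116) (.node (.node .nil (nat_lit 1363) (nat_lit 141)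
  (nat_lit 737) .nil) (nat_lit 1364) (nat_lit 131) (nat_lit 973) .nil)))) (nat_lit 1365) (nat_lit 129)
  (nat_lit 449) (.node (.node (.node (.node (.node .nil (nat_lit 1366) (nat_lit 135) (nat_lit 1675) .nil)
  (nat_lit 1367) (nat_lit 128) (nat_lit 1353) (.node .nil (nat_lit 1368) (nat_lit 137) (nat_lit 1272) .nil))
  (nat_lit 1369) (nat_lit 121) (nat_lit 1074) (.node (.node .nil (nat_lit 1370) (nat_lit 140) (nat_lit 611)
  .nil) (nat_lit 1371) (nat_lit 125) (nat_lit 1141) .nil)) (nat_lit 1372) (nat_lit 115) (nat_lit 1676) (.node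
  (.node (.node .nil (nat_lit 1373) (nat_lit 112) (nat_lit 1686) .nil) (nat_lit 1374) (nat_lit 126) (nat_lit
  1515) (.node .nil (nat_lit 1375) (nat_lit 142) (nat_lit 1644) .nil)) (nat_lit 1376) (nat_lit 120) (nat_lit
  314) (.node (.node .nil (nat_lit 1377) (nat_lit 135) (nat_lit 1594) .nil) (nat_lit 1378) (nat_lit 119)
  (nat_lit 1593) .nil))) (nat_lit 1379) (nat_lit 129) (nat_lit 342) (.node (.node (.node (.node .nil (nat_lit
  1380) (nat_lit 133) (nat_lit 1720) .nil) (nat_lit 1381) (nat_lit 133) (nat_lit 1705) (.node .nil (nat_lit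
  1382) (nat_lit 136) (nat_lit 269) .nil)) (nat_lit 1383) (nat_lit 131) (nat_lit 653) (.node (.node .nil
  (nat_lit 1384) (nat_lit 135) (nat_lit 1774) .nil) (nat_lit 1385) (nat_lit 131) (nat_lit 773) .nil)) (nat_lit
  1386) (nat_lit 141) (nat_lit 870) (.node (.node (.node .nil (nat_lit 1387) (nat_lit 119) (nat_lit 1676)
  .nil) (nat_lit 1388) (nat_lit 129) (nat_lit 536) (.node .nil (nat_lit 1389) (nat_lit 122) (nat_lit 1718)
  .nil)) (nat_lit 1390) (nat_lit 113) (nat_lit 975) (.node (.node .nil (nat_lit 1391) (nat_lit 138) (nat_lit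
  1688) .nil) (nat_lit 1392) (nat_lit 140) (nat_lit 1753) .nil))))) (nat_lit 1393) (nat_lit 122) (nat_lit
  1696) (.node (.node (.node (.node (.node (.node .nil (nat_lit 1394) (nat_lit 120) (nat_lit 1284) .nil)
  (nat_lit 1395) (nat_lit 136) (nat_lit 1268) (.node .nil (nat_lit 1396) (nat_lit 138) (nat_lit 1758) .nil))
  (nat_lit 1397) (nat_lit 129) (nat_lit 973) (.node (.node .nil (nat_lit 1398) (nat_lit 127) (nat_lit 717)
  .nil) (nat_lit 1399) (nat_lit 119) (nat_lit 1698) .nil)) (nat_lit 1400) (nat_lit 132) (nat_lit 277) (.node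
  (.node (.node .nil (nat_lit 1401) (nat_lit 113) (nat_lit 788) .nil) (nat_lit 1402) (nat_lit 124) (nat_lit
  1764) (.node .nil (nat_lit 1403) (nat_lit 142) (nat_lit 1069) .nil)) (nat_lit 1404) (nat_lit 119) (nat_lit
  1645) (.node (.node .nil (nat_lit 1405) (nat_lit 128) (nat_lit 399) .nil) (nat_lit 1406) (nat_lit 141)
  (nat_lit 1105) .nil))) (nat_lit 1407) (nat_lit 129) (nat_lit 978) (.node (.node (.node (.node .nil (nat_lit
  1408) (nat_lit 138) (nat_lit 1756) .nil) (nat_lit 1409) (nat_lit 135) (nat_lit 637) (.node .nil (nat_lit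
  1410) (nat_lit 119) (nat_lit 1174) .nil)) (nat_lit 1411) (nat_lit 120) (nat_lit 1686) (.node (.node .nil
  (nat_lit 1412) (nat_lit 136) (nat_lit 1685) .nil) (nat_lit 1413) (nat_lit 124) (nat_lit 1254) .nil))
  (nat_lit 1414) (nat_lit 140) (nat_lit 1030) (.node (.node (.node .nil (nat_lit 1415) (nat_lit 131) (nat_lit
  1268) .nil) (nat_lit 1416) (nat_lit 125) (nat_lit 1072) (.node .nil (nat_lit 1417) (nat_lit 123) (nat_lit
  1702) .nil)) (nat_lit 1418) (nat_lit 115) (nat_lit 1072) (.node (.node .nil (nat_lit 1419) (nat_lit 135)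
  (nat_lit 1748) .nil) (nat_lit 1420) (nat_lit 132) (nat_lit 1089) .nil)))) (nat_lit 1421) (nat_lit 131)
  (nat_lit 1297) (.node (.node (.node (.node (.node .nil (nat_lit 1422) (nat_lit 141) (nat_lit 998) .nil)
  (nat_lit 1423) (nat_lit 129) (nat_lit 844) (.node .nil (nat_lit 1424) (nat_lit 135) (nat_lit 1726) .nil))
  (nat_lit 1425) (nat_lit 139) (nat_lit 1695) (.node (.node .nil (nat_lit 1426) (nat_lit 134) (nat_lit 305)
  .nil) (nat_lit 1427) (nat_lit 123) (nat_lit 1755) .nil)) (nat_lit 1428) (nat_lit 119) (nat_lit 1717) (.node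
  (.node (.node .nil (nat_lit 1429) (nat_lit 136) (nat_lit 1437) .nil) (nat_lit 1430) (nat_lit 129) (nat_lit
  1238) (.node .nil (nat_lit 1431) (nat_lit 125) (nat_lit 1254) .nil)) (nat_lit 1432) (nat_lit 137) (nat_lit
  1457) (.node (.node .nil (nat_lit 1433) (nat_lit 115) (nat_lit 1732) .nil) (nat_lit 1434) (nat_lit 116)
  (nat_lit 1456) .nil))) (nat_lit 1435) (nat_lit 137) (nat_lit 1387) (.node (.node (.node (.node .nil (nat_lit
  1436) (nat_lit 135) (nat_lit 1089) .nil) (nat_lit 1437) (nat_lit 112) (nat_lit 1150) (.node .nil (nat_lit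
  1438) (nat_lit 121) (nat_lit 1702) .nil)) (nat_lit 1439) (nat_lit 126) (nat_lit 1252) (.node (.node .nil
  (nat_lit 1440) (nat_lit 121) (nat_lit 1518) .nil) (nat_lit 1441) (nat_lit 135) (nat_lit 617) .nil)) (nat_lit
  1442) (nat_lit 141) (nat_lit 1261) (.node (.node (.node .nil (nat_lit 1443) (nat_lit 136) (nat_lit 508)
  .nil) (nat_lit 1444) (nat_lit 129) (nat_lit 1491) (.node .nil (nat_lit 1445) (nat_lit 115) (nat_lit 930)
  .nil)) (nat_lit 1446) (nat_lit 136) (nat_lit 1235) (.node (.node .nil (nat_lit 1447) (nat_lit 136) (nat_lit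
  1232) .nil) (nat_lit 1448) (nat_lit 132) (nat_lit 1297) .nil))))))
def l0t_13 : T := (.node (.node (.node (.node (.node (.node (.node .nil (nat_lit 1450) (nat_lit 116) (nat_lit
  1217) .nil) (nat_lit 1451) (nat_lit 139) (nat_lit 1708) (.node .nil (nat_lit 1452) (nat_lit 139) (nat_lit
  1728) .nil)) (nat_lit 1453) (nat_lit 115) (nat_lit 1284) (.node (.node .nil (nat_lit 1454) (nat_lit 132)
  (nat_lit 1143) .nil) (nat_lit 1455) (nat_lit 123) (nat_lit 1717) .nil)) (nat_lit 1456) (nat_lit 110)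
  (nat_lit 1722) (.node (.node (.node .nil (nat_lit 1457) (nat_lit 112) (nat_lit 1732) .nil) (nat_lit 1458)
  (nat_lit 117) (nat_lit 1698) (.node .nil (nat_lit 1459) (nat_lit 117) (nat_lit 1593) .nil)) (nat_lit 1460)
  (nat_lit 140) (nat_lit 857) (.node (.node .nil (nat_lit 1461) (nat_lit 136) (nat_lit 1263) .nil) (nat_lit
  1462) (nat_lit 119) (nat_lit 1170) .nil))) (nat_lit 1463) (nat_lit 113) (nat_lit 1252) (.node (.node (.node
  (.node .nil (nat_lit 1464) (nat_lit 132) (nat_lit 737) .nil) (nat_lit 1465) (nat_lit 142) (nat_lit 1186)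
  (.node .nil (nat_lit 1466) (nat_lit 117) (nat_lit 1696) .nil)) (nat_lit 1467) (nat_lit 131) (nat_lit 423)
  (.node (.node .nil (nat_lit 1468) (nat_lit 122) (nat_lit 1141) .nil) (nat_lit 1469) (nat_lit 139) (nat_lit
  1263) .nil)) (nat_lit 1470) (nat_lit 131) (nat_lit 1440) (.node (.node (.node .nil (nat_lit 1471) (nat_lit
  115) (nat_lit 975) .nil) (nat_lit 1472) (nat_lit 136) (nat_lit 1255) (.node .nil (nat_lit 1473) (nat_lit
  119) (nat_lit 1456) .nil)) (nat_lit 1474) (nat_lit 115) (nat_lit 764) (.node (.node .nil (nat_lit 1475)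
  (nat_lit 129) (nat_lit 1192) .nil) (nat_lit 1476) (nat_lit 131) (nat_lit 716) .nil)))) (nat_lit 1477)
  (nat_lit 135) (nat_lit 357) (.node (.node (.node (.node (.node .nil (nat_lit 1478) (nat_lit 136) (nat_lit
  1262) .nil) (nat_lit 1479) (nat_lit 118) (nat_lit 119) (.node .nil (nat_lit 1480) (nat_lit 99) (nat_lit 373)
  .nil)) (nat_lit 1481) (nat_lit 133) (nat_lit 1774) (.node (.node .nil (nat_lit 1482) (nat_lit 133) (nat_lit
  439) .nil) (nat_lit 1483) (nat_lit 129) (nat_lit 465) .nil)) (nat_lit 1484) (nat_lit 103) (nat_lit 627)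
  (.node (.node (.node .nil (nat_lit 1485) (nat_lit 137) (nat_lit 333) .nil) (nat_lit 1486) (nat_lit 128)
  (nat_lit 269) (.node .nil (nat_lit 1487) (nat_lit 119) (nat_lit 364) .nil)) (nat_lit 1488) (nat_lit 115)
  (nat_lit 133) (.node (.node .nil (nat_lit 1489) (nat_lit 139) (nat_lit 1262) .nil) (nat_lit 1490) (nat_lit
  133) (nat_lit 1758) .nil))) (nat_lit 1491) (nat_lit 115) (nat_lit 777) (.node (.node (.node (.node .nil
  (nat_lit 1492) (nat_lit 129) (nat_lit 857) .nil) (nat_lit 1493) (nat_lit 137) (nat_lit 1340) (.node .nil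
  (nat_lit 1494) (nat_lit 112) (nat_lit 1254) .nil)) (nat_lit 1495) (nat_lit 137) (nat_lit 344) (.node (.node
  .nil (nat_lit 1496) (nat_lit 113) (nat_lit 550) .nil) (nat_lit 1497) (nat_lit 117) (nat_lit 364) .nil))
  (nat_lit 1498) (nat_lit 142) (nat_lit 1297) (.node (.node (.node .nil (nat_lit 1499) (nat_lit 116) (nat_lit
  119) .nil) (nat_lit 1500) (nat_lit 141) (nat_lit 1479) (.node .nil (nat_lit 1501) (nat_lit 134) (nat_lit
  333) .nil)) (nat_lit 1502) (nat_lit 120) (nat_lit 1240) (.node (.node .nil (nat_lit 1503) (nat_lit 113)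
  (nat_lit 1217) .nil) (nat_lit 1504) (nat_lit 134) (nat_lit 267) .nil))))) (nat_lit 1505) (nat_lit 136)
  (nat_lit 1612) (.node (.node (.node (.node (.node (.node .nil (nat_lit 1506) (nat_lit 112) (nat_lit 1698)
  .nil) (nat_lit 1507) (nat_lit 126) (nat_lit 1072) (.node .nil (nat_lit 1508) (nat_lit 115) (nat_lit 790)
  .nil)) (nat_lit 1509) (nat_lit 119) (nat_lit 1160) (.node (.node .nil (nat_lit 1510) (nat_lit 128) (nat_lit
  1697) .nil) (nat_lit 1511) (nat_lit 142) (nat_lit 998) .nil)) (nat_lit 1512) (nat_lit 126) (nat_lit 1724)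
  (.node (.node (.node .nil (nat_lit 1513) (nat_lit 133) (nat_lit 1358) .nil) (nat_lit 1514) (nat_lit 142)
  (nat_lit 1727) (.node .nil (nat_lit 1515) (nat_lit 97) (nat_lit 66) .nil)) (nat_lit 1516) (nat_lit 112)
  (nat_lit 1730) (.node (.node .nil (nat_lit 1517) (nat_lit 132) (nat_lit 399) .nil) (nat_lit 1518) (nat_lit
  96) (nat_lit 1722) .nil))) (nat_lit 1519) (nat_lit 129) (nat_lit 65) (.node (.node (.node (.node .nil
  (nat_lit 1520) (nat_lit 129) (nat_lit 68) .nil) (nat_lit 1521) (nat_lit 115) (nat_lit 987) (.node .nil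
  (nat_lit 1522) (nat_lit 142) (nat_lit 1756) .nil)) (nat_lit 1523) (nat_lit 100) (nat_lit 26) (.node (.node
  .nil (nat_lit 1524) (nat_lit 109) (nat_lit 1528) .nil) (nat_lit 1525) (nat_lit 80) (nat_lit 414) .nil))
  (nat_lit 1526) (nat_lit 82) (nat_lit 1569) (.node (.node (.node .nil (nat_lit 1527) (nat_lit 80) (nat_lit
  416) .nil) (nat_lit 1528) (nat_lit 90) (nat_lit 1571) (.node .nil (nat_lit 1529) (nat_lit 80) (nat_lit 55)
  .nil)) (nat_lit 1530) (nat_lit 95) (nat_lit 1571) (.node (.node .nil (nat_lit 1531) (nat_lit 98) (nat_lit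
  1567) .nil) (nat_lit 1532) (nat_lit 93) (nat_lit 1571) .nil)))) (nat_lit 1533) (nat_lit 100) (nat_lit 25)
  (.node (.node (.node (.node (.node .nil (nat_lit 1534) (nat_lit 110) (nat_lit 1528) .nil) (nat_lit 1535)
  (nat_lit 123) (nat_lit 717) (.node .nil (nat_lit 1536) (nat_lit 139) (nat_lit 1389) .nil)) (nat_lit 1537)
  (nat_lit 115) (nat_lit 514) (.node (.node .nil (nat_lit 1538) (nat_lit 135) (nat_lit 1417) .nil) (nat_lit
  1539) (nat_lit 134) (nat_lit 1394) .nil)) (nat_lit 1540) (nat_lit 134) (nat_lit 1292) (.node (.node (.node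
  .nil (nat_lit 1541) (nat_lit 132) (nat_lit 1292) .nil) (nat_lit 1542) (nat_lit 133) (nat_lit 1644) (.node
  .nil (nat_lit 1543) (nat_lit 138) (nat_lit 992) .nil)) (nat_lit 1544) (nat_lit 131) (nat_lit 305) (.node
  (.node .nil (nat_lit 1545) (nat_lit 135) (nat_lit 1098) .nil) (nat_lit 1546) (nat_lit 131) (nat_lit 287)
  .nil))) (nat_lit 1547) (nat_lit 128) (nat_lit 1644) (.node (.node (.node (.node .nil (nat_lit 1548) (nat_lit
  140) (nat_lit 1125) .nil) (nat_lit 1549) (nat_lit 137) (nat_lit 1234) (.node .nil (nat_lit 1550) (nat_lit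
  132) (nat_lit 1394) .nil)) (nat_lit 1551) (nat_lit 123) (nat_lit 129) (.node (.node .nil (nat_lit 1552)
  (nat_lit 135) (nat_lit 481) .nil) (nat_lit 1553) (nat_lit 126) (nat_lit 782) .nil)) (nat_lit 1554) (nat_lit
  119) (nat_lit 917) (.node (.node (.node .nil (nat_lit 1555) (nat_lit 127) (nat_lit 987) .nil) (nat_lit 1556)
  (nat_lit 122) (nat_lit 774) .nil) (nat_lit 1557) (nat_lit 121) (nat_lit 664) (.node (.node .nil (nat_lit
  1558) (nat_lit 124) (nat_lit 764) .nil) (nat_lit 1559) (nat_lit 130) (nat_lit 983) .nil))))))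
def l0t_14 : T := (.node (.node (.node (.node (.node (.node (.node .nil (nat_lit 1561) (nat_lit 142) (nat_lit
  829) .nil) (nat_lit 1562) (nat_lit 114) (nat_lit 540) (.node .nil (nat_lit 1563) (nat_lit 124) (nat_lit 230)
  .nil)) (nat_lit 1564) (nat_lit 136) (nat_lit 948) (.node (.node .nil (nat_lit 1565) (nat_lit 141) (nat_lit
  882) .nil) (nat_lit 1566) (nat_lit 124) (nat_lit 229) .nil)) (nat_lit 1567) (nat_lit 81) (nat_lit 459)
  (.node (.node (.node .nil (nat_lit 1568) (nat_lit 103) (nat_lit 797) .nil) (nat_lit 1569) (nat_lit 65)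
  (nat_lit 460) (.node .nil (nat_lit 1570) (nat_lit 109) (nat_lit 583) .nil)) (nat_lit 1571) (nat_lit 64)
  (nat_lit 1700) (.node (.node .nil (nat_lit 1572) (nat_lit 106) (nat_lit 1527) .nil) (nat_lit 1573) (nat_lit
  96) (nat_lit 0) .nil))) (nat_lit 1574) (nat_lit 80) (nat_lit 1701) (.node (.node (.node (.node .nil (nat_lit
  1575) (nat_lit 131) (nat_lit 513) .nil) (nat_lit 1576) (nat_lit 137) (nat_lit 1404) (.node .nil (nat_lit
  1577) (nat_lit 131) (nat_lit 1413) .nil)) (nat_lit 1578) (nat_lit 131) (nat_lit 510) (.node (.node .nil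
  (nat_lit 1579) (nat_lit 136) (nat_lit 399) .nil) (nat_lit 1580) (nat_lit 137) (nat_lit 638) .nil)) (nat_lit
  1581) (nat_lit 140) (nat_lit 1438) (.node (.node (.node .nil (nat_lit 1582) (nat_lit 135) (nat_lit 1455)
  .nil) (nat_lit 1583) (nat_lit 129) (nat_lit 1191) (.node .nil (nat_lit 1584) (nat_lit 131) (nat_lit 771)
  .nil)) (nat_lit 1585) (nat_lit 117) (nat_lit 1254) (.node (.node .nil (nat_lit 1586) (nat_lit 133) (nat_lit
  1030) .nil) (nat_lit 1587) (nat_lit 129) (nat_lit 856) .nil)))) (nat_lit 1588) (nat_lit 113) (nat_lit 1240)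
  (.node (.node (.node (.node (.node .nil (nat_lit 1589) (nat_lit 141) (nat_lit 587) .nil) (nat_lit 1590)
  (nat_lit 141) (nat_lit 1468) (.node .nil (nat_lit 1591) (nat_lit 112) (nat_lit 1696) .nil)) (nat_lit 1592)
  (nat_lit 128) (nat_lit 1699) (.node (.node .nil (nat_lit 1593) (nat_lit 99) (nat_lit 89) .nil) (nat_lit
  1594) (nat_lit 124) (nat_lit 1252) .nil)) (nat_lit 1595) (nat_lit 126) (nat_lit 1284) (.node (.node (.node
  .nil (nat_lit 1596) (nat_lit 128) (nat_lit 1758) .nil) (nat_lit 1597) (nat_lit 115) (nat_lit 248) (.node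
  .nil (nat_lit 1598) (nat_lit 115) (nat_lit 725) .nil)) (nat_lit 1599) (nat_lit 140) (nat_lit 1457) (.node
  (.node .nil (nat_lit 1600) (nat_lit 124) (nat_lit 1518) .nil) (nat_lit 1601) (nat_lit 131) (nat_lit 1473)
  .nil))) (nat_lit 1602) (nat_lit 124) (nat_lit 1456) (.node (.node (.node (.node .nil (nat_lit 1603) (nat_lit
  121) (nat_lit 1237) .nil) (nat_lit 1604) (nat_lit 131) (nat_lit 922) (.node .nil (nat_lit 1605) (nat_lit
  125) (nat_lit 1074) .nil)) (nat_lit 1606) (nat_lit 128) (nat_lit 1172) (.node (.node .nil (nat_lit 1607)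
  (nat_lit 136) (nat_lit 737) .nil) (nat_lit 1608) (nat_lit 136) (nat_lit 870) .nil)) (nat_lit 1609) (nat_lit
  137) (nat_lit 277) (.node (.node (.node .nil (nat_lit 1610) (nat_lit 129) (nat_lit 1509) .nil) (nat_lit
  1611) (nat_lit 133) (nat_lit 513) (.node .nil (nat_lit 1612) (nat_lit 117) (nat_lit 514) .nil)) (nat_lit
  1613) (nat_lit 115) (nat_lit 1718) (.node (.node .nil (nat_lit 1614) (nat_lit 117) (nat_lit 1730) .nil)
  (nat_lit 1615) (nat_lit 119) (nat_lit 1252) .nil))))) (nat_lit 1616) (nat_lit 129) (nat_lit 64) (.node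
  (.node (.node (.node (.node (.node .nil (nat_lit 1617) (nat_lit 113) (nat_lit 49) .nil) (nat_lit 1618)
  (nat_lit 121) (nat_lit 1484) (.node .nil (nat_lit 1619) (nat_lit 142) (nat_lit 1763) .nil)) (nat_lit 1620)
  (nat_lit 115) (nat_lit 504) (.node (.node .nil (nat_lit 1621) (nat_lit 115) (nat_lit 931) .nil) (nat_lit
  1622) (nat_lit 131) (nat_lit 935) .nil)) (nat_lit 1623) (nat_lit 141) (nat_lit 346) (.node (.node (.node
  .nil (nat_lit 1624) (nat_lit 126) (nat_lit 1764) .nil) (nat_lit 1625) (nat_lit 124) (nat_lit 1676) (.node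
  .nil (nat_lit 1626) (nat_lit 142) (nat_lit 1753) .nil)) (nat_lit 1627) (nat_lit 137) (nat_lit 857) (.node
  (.node .nil (nat_lit 1628) (nat_lit 136) (nat_lit 1615) .nil) (nat_lit 1629) (nat_lit 119) (nat_lit 1217)
  .nil))) (nat_lit 1630) (nat_lit 115) (nat_lit 1717) (.node (.node (.node (.node .nil (nat_lit 1631) (nat_lit
  129) (nat_lit 126) .nil) (nat_lit 1632) (nat_lit 137) (nat_lit 736) (.node .nil (nat_lit 1633) (nat_lit 135)
  (nat_lit 1440) .nil)) (nat_lit 1634) (nat_lit 113) (nat_lit 235) (.node (.node .nil (nat_lit 1635) (nat_lit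
  135) (nat_lit 1371) .nil) (nat_lit 1636) (nat_lit 141) (nat_lit 1069) .nil)) (nat_lit 1637) (nat_lit 136)
  (nat_lit 1597) (.node (.node (.node .nil (nat_lit 1638) (nat_lit 129) (nat_lit 1508) .nil) (nat_lit 1639)
  (nat_lit 129) (nat_lit 1271) (.node .nil (nat_lit 1640) (nat_lit 113) (nat_lit 1484) .nil)) (nat_lit 1641)
  (nat_lit 141) (nat_lit 449) (.node (.node .nil (nat_lit 1642) (nat_lit 130) (nat_lit 1222) .nil) (nat_lit
  1643) (nat_lit 129) (nat_lit 69) .nil)))) (nat_lit 1644) (nat_lit 113) (nat_lit 51) (.node (.node (.node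
  (.node (.node .nil (nat_lit 1645) (nat_lit 99) (nat_lit 1722) .nil) (nat_lit 1646) (nat_lit 97) (nat_lit
  627) (.node .nil (nat_lit 1647) (nat_lit 99) (nat_lit 66) .nil)) (nat_lit 1648) (nat_lit 142) (nat_lit 1705)
  (.node (.node .nil (nat_lit 1649) (nat_lit 143) (nat_lit 1512) .nil) (nat_lit 1650) (nat_lit 142) (nat_lit
  1720) .nil)) (nat_lit 1651) (nat_lit 112) (nat_lit 1724) (.node (.node (.node .nil (nat_lit 1652) (nat_lit
  142) (nat_lit 1738) .nil) (nat_lit 1653) (nat_lit 115) (nat_lit 739) (.node .nil (nat_lit 1654) (nat_lit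
  131) (nat_lit 444) .nil)) (nat_lit 1655) (nat_lit 129) (nat_lit 357) (.node (.node .nil (nat_lit 1656)
  (nat_lit 115) (nat_lit 1696) .nil) (nat_lit 1657) (nat_lit 113) (nat_lit 128) .nil))) (nat_lit 1658)
  (nat_lit 129) (nat_lit 50) (.node (.node (.node (.node .nil (nat_lit 1659) (nat_lit 112) (nat_lit 1717)
  .nil) (nat_lit 1660) (nat_lit 117) (nat_lit 1724) (.node .nil (nat_lit 1661) (nat_lit 125) (nat_lit 1170)
  .nil)) (nat_lit 1662) (nat_lit 115) (nat_lit 917) (.node (.node .nil (nat_lit 1663) (nat_lit 158) (nat_lit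
  1694) .nil) (nat_lit 1664) (nat_lit 128) (nat_lit 1692) .nil)) (nat_lit 1665) (nat_lit 131) (nat_lit 539)
  (.node (.node (.node .nil (nat_lit 1666) (nat_lit 138) (nat_lit 1491) .nil) (nat_lit 1667) (nat_lit 136)
  (nat_lit 1600) .nil) (nat_lit 1668) (nat_lit 133) (nat_lit 1320) (.node (.node .nil (nat_lit 1669) (nat_lit
  136) (nat_lit 611) .nil) (nat_lit 1670) (nat_lit 126) (nat_lit 1730) .nil))))))
def l0t_15 : T := (.node (.node (.node (.node (.node (.node (.node .nil (nat_lit 1672) (nat_lit 99) (nat_lit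
  28) .nil) (nat_lit 1673) (nat_lit 131) (nat_lit 153) (.node .nil (nat_lit 1674) (nat_lit 132) (nat_lit 335)
  .nil)) (nat_lit 1675) (nat_lit 117) (nat_lit 1732) (.node (.node .nil (nat_lit 1676) (nat_lit 101) (nat_lit
  1722) .nil) (nat_lit 1677) (nat_lit 132) (nat_lit 338) .nil)) (nat_lit 1678) (nat_lit 136) (nat_lit 617)
  (.node (.node (.node .nil (nat_lit 1679) (nat_lit 135) (nat_lit 465) .nil) (nat_lit 1680) (nat_lit 137)
  (nat_lit 1271) (.node .nil (nat_lit 1681) (nat_lit 136) (nat_lit 332) .nil)) (nat_lit 1682) (nat_lit 135)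
  (nat_lit 1437) (.node (.node .nil (nat_lit 1683) (nat_lit 131) (nat_lit 985) .nil) (nat_lit 1684) (nat_lit
  113) (nat_lit 71) .nil))) (nat_lit 1685) (nat_lit 113) (nat_lit 37) (.node (.node (.node (.node .nil
  (nat_lit 1686) (nat_lit 97) (nat_lit 28) .nil) (nat_lit 1687) (nat_lit 113) (nat_lit 67) (.node .nil
  (nat_lit 1688) (nat_lit 113) (nat_lit 33) .nil)) (nat_lit 1689) (nat_lit 116) (nat_lit 1671) (.node (.node
  .nil (nat_lit 1690) (nat_lit 124) (nat_lit 717) .nil) (nat_lit 1691) (nat_lit 113) (nat_lit 129) .nil))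
  (nat_lit 1692) (nat_lit 122) (nat_lit 1072) (.node (.node (.node .nil (nat_lit 1693) (nat_lit 113) (nat_lit
  87) .nil) (nat_lit 1694) (nat_lit 131) (nat_lit 1712) (.node .nil (nat_lit 1695) (nat_lit 113) (nat_lit 486)
  .nil)) (nat_lit 1696) (nat_lit 97) (nat_lit 251) (.node (.node .nil (nat_lit 1697) (nat_lit 113) (nat_lit
  378) .nil) (nat_lit 1698) (nat_lit 97) (nat_lit 199) .nil)))) (nat_lit 1699) (nat_lit 113) (nat_lit 178)
  (.node (.node (.node (.node (.node .nil (nat_lit 1700) (nat_lit 49) (nat_lit 256) .nil) (nat_lit 1701)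
  (nat_lit 65) (nat_lit 92) (.node .nil (nat_lit 1702) (nat_lit 97) (nat_lit 488) .nil)) (nat_lit 1703)
  (nat_lit 131) (nat_lit 1699) (.node (.node .nil (nat_lit 1704) (nat_lit 113) (nat_lit 500) .nil) (nat_lit
  1705) (nat_lit 113) (nat_lit 494) .nil)) (nat_lit 1706) (nat_lit 113) (nat_lit 187) (.node (.node (.node
  .nil (nat_lit 1707) (nat_lit 111) (nat_lit 1722) .nil) (nat_lit 1708) (nat_lit 113) (nat_lit 489) (.node
  .nil (nat_lit 1709) (nat_lit 125) (nat_lit 1730) .nil)) (nat_lit 1710) (nat_lit 113) (nat_lit 376) (.node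
  (.node .nil (nat_lit 1711) (nat_lit 130) (nat_lit 1697) .nil) (nat_lit 1712) (nat_lit 113) (nat_lit 106)
  .nil))) (nat_lit 1713) (nat_lit 113) (nat_lit 252) (.node (.node (.node (.node .nil (nat_lit 1714) (nat_lit
  113) (nat_lit 180) .nil) (nat_lit 1715) (nat_lit 125) (nat_lit 1696) (.node .nil (nat_lit 1716) (nat_lit
  115) (nat_lit 1745) .nil)) (nat_lit 1717) (nat_lit 97) (nat_lit 492) (.node (.node .nil (nat_lit 1718)
  (nat_lit 97) (nat_lit 76) .nil) (nat_lit 1719) (nat_lit 97) (nat_lit 182) .nil)) (nat_lit 1720) (nat_lit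
  113) (nat_lit 498) (.node (.node (.node .nil (nat_lit 1721) (nat_lit 113) (nat_lit 496) .nil) (nat_lit 1722)
  (nat_lit 81) (nat_lit 190) (.node .nil (nat_lit 1723) (nat_lit 118) (nat_lit 1764) .nil)) (nat_lit 1724)
  (nat_lit 97) (nat_lit 495) (.node (.node .nil (nat_lit 1725) (nat_lit 113) (nat_lit 107) .nil) (nat_lit
  1726) (nat_lit 125) (nat_lit 1718) .nil))))) (nat_lit 1727) (nat_lit 113) (nat_lit 181) (.node (.node (.node
  (.node (.node (.node .nil (nat_lit 1728) (nat_lit 113) (nat_lit 491) .nil) (nat_lit 1729) (nat_lit 129)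
  (nat_lit 188) (.node .nil (nat_lit 1730) (nat_lit 97) (nat_lit 499) .nil)) (nat_lit 1731) (nat_lit 113)
  (nat_lit 493) (.node (.node .nil (nat_lit 1732) (nat_lit 97) (nat_lit 195) .nil) (nat_lit 1733) (nat_lit
  116) (nat_lit 1718) .nil)) (nat_lit 1734) (nat_lit 120) (nat_lit 1764) (.node (.node (.node .nil (nat_lit
  1735) (nat_lit 138) (nat_lit 1084) .nil) (nat_lit 1736) (nat_lit 136) (nat_lit 1774) (.node .nil (nat_lit
  1737) (nat_lit 136) (nat_lit 1697) .nil)) (nat_lit 1738) (nat_lit 124) (nat_lit 1284) (.node (.node .nil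
  (nat_lit 1739) (nat_lit 136) (nat_lit 1763) .nil) (nat_lit 1740) (nat_lit 120) (nat_lit 1698) .nil)))
  (nat_lit 1741) (nat_lit 140) (nat_lit 1297) (.node (.node (.node (.node .nil (nat_lit 1742) (nat_lit 129)
  (nat_lit 250) .nil) (nat_lit 1743) (nat_lit 113) (nat_lit 380) (.node .nil (nat_lit 1744) (nat_lit 114)
  (nat_lit 1745) .nil)) (nat_lit 1745) (nat_lit 97) (nat_lit 89) (.node (.node .nil (nat_lit 1746) (nat_lit
  113) (nat_lit 248) .nil) (nat_lit 1747) (nat_lit 125) (nat_lit 1764) .nil)) (nat_lit 1748) (nat_lit 125)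
  (nat_lit 1745) (.node (.node (.node .nil (nat_lit 1749) (nat_lit 114) (nat_lit 1764) .nil) (nat_lit 1750)
  (nat_lit 141) (nat_lit 1697) (.node .nil (nat_lit 1751) (nat_lit 113) (nat_lit 134) .nil)) (nat_lit 1752)
  (nat_lit 0) (nat_lit 1752) (.node (.node .nil (nat_lit 1753) (nat_lit 113) (nat_lit 377) .nil) (nat_lit
  1754) (nat_lit 131) (nat_lit 1753) .nil)))) (nat_lit 1755) (nat_lit 109) (nat_lit 1722) (.node (.node (.node
  (.node (.node .nil (nat_lit 1756) (nat_lit 113) (nat_lit 143) .nil) (nat_lit 1757) (nat_lit 124) (nat_lit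
  1150) (.node .nil (nat_lit 1758) (nat_lit 113) (nat_lit 247) .nil)) (nat_lit 1759) (nat_lit 113) (nat_lit
  379) (.node (.node .nil (nat_lit 1760) (nat_lit 130) (nat_lit 1753) .nil) (nat_lit 1761) (nat_lit 113)
  (nat_lit 145) .nil)) (nat_lit 1762) (nat_lit 131) (nat_lit 1697) (.node (.node (.node .nil (nat_lit 1763)
  (nat_lit 113) (nat_lit 133) .nil) (nat_lit 1764) (nat_lit 97) (nat_lit 373) (.node .nil (nat_lit 1765)
  (nat_lit 110) (nat_lit 468) .nil)) (nat_lit 1766) (nat_lit 94) (nat_lit 502) (.node (.node .nil (nat_lit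
  1767) (nat_lit 59) (nat_lit 256) .nil) (nat_lit 1768) (nat_lit 75) (nat_lit 92) .nil))) (nat_lit 1769)
  (nat_lit 60) (nat_lit 256) (.node (.node (.node (.node .nil (nat_lit 1770) (nat_lit 76) (nat_lit 92) .nil)
  (nat_lit 1771) (nat_lit 94) (nat_lit 940) (.node .nil (nat_lit 1772) (nat_lit 94) (nat_lit 939) .nil))
  (nat_lit 1773) (nat_lit 113) (nat_lit 374) (.node (.node .nil (nat_lit 1774) (nat_lit 113) (nat_lit 198)
  .nil) (nat_lit 1775) (nat_lit 110) (nat_lit 627) .nil)) (nat_lit 1776) (nat_lit 113) (nat_lit 144) (.node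
  (.node (.node .nil (nat_lit 1777) (nat_lit 75) (nat_lit 528) .nil) (nat_lit 1778) (nat_lit 75) (nat_lit 652)
  .nil) (nat_lit 1779) (nat_lit 76) (nat_lit 528) (.node (.node .nil (nat_lit 1780) (nat_lit 76) (nat_lit 652)
  .nil) (nat_lit 1781) (nat_lit 16) (nat_lit 1752) .nil))))))
def l0t : T := (.node (.node (.node (.node l0t_0 (nat_lit 111) (nat_lit 139) (nat_lit 867) l0t_1) (nat_lit
  222) (nat_lit 140) (nat_lit 935) (.node l0t_2 (nat_lit 334) (nat_lit 120) (nat_lit 1671) l0t_3)) (nat_lit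
  445) (nat_lit 123) (nat_lit 746) (.node (.node l0t_4 (nat_lit 557) (nat_lit 132) (nat_lit 1069) l0t_5)
  (nat_lit 668) (nat_lit 120) (nat_lit 947) (.node l0t_6 (nat_lit 780) (nat_lit 87) (nat_lit 798) l0t_7)))
  (nat_lit 891) (nat_lit 126) (nat_lit 550) (.node (.node (.node l0t_8 (nat_lit 1003) (nat_lit 118) (nat_lit
  51) l0t_9) (nat_lit 1114) (nat_lit 120) (nat_lit 1480) (.node l0t_10 (nat_lit 1226) (nat_lit 138) (nat_lit
  1727) l0t_11)) (nat_lit 1337) (nat_lit 131) (nat_lit 1259) (.node (.node l0t_12 (nat_lit 1449) (nat_lit 129)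
  (nat_lit 909) l0t_13) (nat_lit 1560) (nat_lit 141) (nat_lit 578) (.node l0t_14 (nat_lit 1671) (nat_lit 99)
  (nat_lit 195) l0t_15))))
def l0 : Lvl := ⟨nat_lit 1752, [nat_lit 21, nat_lit 17, nat_lit 16, nat_lit 24, nat_lit 15, nat_lit 22,
  nat_lit 13, nat_lit 5, nat_lit 6, nat_lit 7, nat_lit 8, nat_lit 9, nat_lit 10, nat_lit 11, nat_lit 12,
  nat_lit 3], [], l0t⟩
def l1t_0 : T := (.node (.node (.node (.node (.node (.node (.node (.node .nil (nat_lit 14) (nat_lit 111)
  (nat_lit 723) .nil) (nat_lit 15) (nat_lit 101) (nat_lit 425) .nil) (nat_lit 16) (nat_lit 120) (nat_lit 776)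
  (.node (.node .nil (nat_lit 17) (nat_lit 140) (nat_lit 795) .nil) (nat_lit 28) (nat_lit 100) (nat_lit 190)
  .nil)) (nat_lit 33) (nat_lit 84) (nat_lit 76) (.node (.node (.node .nil (nat_lit 35) (nat_lit 110) (nat_lit
  758) .nil) (nat_lit 36) (nat_lit 124) (nat_lit 770) .nil) (nat_lit 37) (nat_lit 100) (nat_lit 195) (.node
  .nil (nat_lit 38) (nat_lit 111) (nat_lit 759) .nil))) (nat_lit 39) (nat_lit 136) (nat_lit 781) (.node (.node
  (.node (.node .nil (nat_lit 40) (nat_lit 100) (nat_lit 108) .nil) (nat_lit 56) (nat_lit 124) (nat_lit 905)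
  .nil) (nat_lit 57) (nat_lit 141) (nat_lit 738) (.node (.node .nil (nat_lit 60) (nat_lit 121) (nat_lit 898)
  .nil) (nat_lit 61) (nat_lit 125) (nat_lit 905) .nil)) (nat_lit 66) (nat_lit 109) (nat_lit 93) (.node (.node
  (.node .nil (nat_lit 67) (nat_lit 109) (nat_lit 94) .nil) (nat_lit 70) (nat_lit 109) (nat_lit 79) .nil)
  (nat_lit 71) (nat_lit 93) (nat_lit 78) (.node .nil (nat_lit 72) (nat_lit 90) (nat_lit 696) .nil)))) (nat_lit
  73) (nat_lit 101) (nat_lit 598) (.node (.node (.node (.node (.node .nil (nat_lit 74) (nat_lit 141) (nat_lit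
  443) .nil) (nat_lit 75) (nat_lit 135) (nat_lit 476) .nil) (nat_lit 76) (nat_lit 77) (nat_lit 458) (.node
  (.node .nil (nat_lit 77) (nat_lit 109) (nat_lit 598) .nil) (nat_lit 78) (nat_lit 75) (nat_lit 458) .nil))
  (nat_lit 79) (nat_lit 91) (nat_lit 459) (.node (.node (.node .nil (nat_lit 80) (nat_lit 104) (nat_lit 94)
  .nil) (nat_lit 81) (nat_lit 91) (nat_lit 205) .nil) (nat_lit 86) (nat_lit 121) (nat_lit 782) (.node .nil
  (nat_lit 87) (nat_lit 125) (nat_lit 743) .nil))) (nat_lit 88) (nat_lit 137) (nat_lit 601) (.node (.node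
  (.node (.node .nil (nat_lit 89) (nat_lit 102) (nat_lit 190) .nil) (nat_lit 90) (nat_lit 59) (nat_lit 529)
  .nil) (nat_lit 91) (nat_lit 89) (nat_lit 1777) (.node .nil (nat_lit 92) (nat_lit 52) (nat_lit 652) .nil))
  (nat_lit 93) (nat_lit 91) (nat_lit 460) (.node (.node (.node .nil (nat_lit 94) (nat_lit 91) (nat_lit 457)
  .nil) (nat_lit 99) (nat_lit 79) (nat_lit 1780) .nil) (nat_lit 100) (nat_lit 68) (nat_lit 458) (.node .nil
  (nat_lit 101) (nat_lit 137) (nat_lit 664) .nil))))) (nat_lit 102) (nat_lit 137) (nat_lit 663) (.node (.node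
  (.node (.node (.node (.node .nil (nat_lit 103) (nat_lit 88) (nat_lit 597) .nil) (nat_lit 104) (nat_lit 85)
  (nat_lit 597) .nil) (nat_lit 105) (nat_lit 134) (nat_lit 61) (.node (.node .nil (nat_lit 106) (nat_lit 102)
  (nat_lit 195) .nil) (nat_lit 107) (nat_lit 93) (nat_lit 597) .nil)) (nat_lit 108) (nat_lit 93) (nat_lit 457)
  (.node (.node (.node .nil (nat_lit 112) (nat_lit 127) (nat_lit 776) .nil) (nat_lit 113) (nat_lit 133)
  (nat_lit 542) .nil) (nat_lit 114) (nat_lit 123) (nat_lit 622) (.node .nil (nat_lit 115) (nat_lit 85)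
  (nat_lit 460) .nil))) (nat_lit 116) (nat_lit 85) (nat_lit 459) (.node (.node (.node (.node .nil (nat_lit
  117) (nat_lit 135) (nat_lit 536) .nil) (nat_lit 118) (nat_lit 116) (nat_lit 1468) .nil) (nat_lit 119)
  (nat_lit 117) (nat_lit 627) (.node (.node .nil (nat_lit 120) (nat_lit 127) (nat_lit 741) .nil) (nat_lit 121)
  (nat_lit 138) (nat_lit 1620) .nil)) (nat_lit 122) (nat_lit 143) (nat_lit 573) (.node (.node (.node .nil
  (nat_lit 125) (nat_lit 126) (nat_lit 374) .nil) (nat_lit 126) (nat_lit 109) (nat_lit 723) .nil) (nat_lit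
  129) (nat_lit 109) (nat_lit 759) (.node .nil (nat_lit 130) (nat_lit 125) (nat_lit 773) .nil)))) (nat_lit
  132) (nat_lit 138) (nat_lit 315) (.node (.node (.node (.node (.node .nil (nat_lit 133) (nat_lit 93) (nat_lit
  205) .nil) (nat_lit 134) (nat_lit 109) (nat_lit 206) .nil) (nat_lit 135) (nat_lit 137) (nat_lit 957) (.node
  (.node .nil (nat_lit 136) (nat_lit 137) (nat_lit 954) .nil) (nat_lit 137) (nat_lit 141) (nat_lit 1678)
  .nil)) (nat_lit 138) (nat_lit 139) (nat_lit 312) (.node (.node (.node .nil (nat_lit 153) (nat_lit 131)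
  (nat_lit 324) .nil) (nat_lit 154) (nat_lit 154) (nat_lit 1604) .nil) (nat_lit 155) (nat_lit 143) (nat_lit
  1464) (.node .nil (nat_lit 159) (nat_lit 141) (nat_lit 1310) .nil))) (nat_lit 160) (nat_lit 155) (nat_lit
  278) (.node (.node (.node (.node .nil (nat_lit 162) (nat_lit 139) (nat_lit 322) .nil) (nat_lit 165) (nat_lit
  104) (nat_lit 599) .nil) (nat_lit 167) (nat_lit 106) (nat_lit 700) (.node .nil (nat_lit 170) (nat_lit 90)
  (nat_lit 205) .nil)) (nat_lit 171) (nat_lit 106) (nat_lit 206) (.node (.node (.node .nil (nat_lit 174)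
  (nat_lit 137) (nat_lit 986) .nil) (nat_lit 175) (nat_lit 137) (nat_lit 984) .nil) (nat_lit 178) (nat_lit 86)
  (nat_lit 76) (.node .nil (nat_lit 179) (nat_lit 102) (nat_lit 108) .nil)))))) (nat_lit 182) (nat_lit 109)
  (nat_lit 599) (.node (.node (.node (.node (.node (.node (.node .nil (nat_lit 183) (nat_lit 121) (nat_lit
  976) .nil) (nat_lit 186) (nat_lit 125) (nat_lit 964) .nil) (nat_lit 187) (nat_lit 109) (nat_lit 596) (.node
  (.node .nil (nat_lit 190) (nat_lit 93) (nat_lit 460) .nil) (nat_lit 191) (nat_lit 119) (nat_lit 741) .nil))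
  (nat_lit 194) (nat_lit 121) (nat_lit 960) (.node (.node (.node .nil (nat_lit 195) (nat_lit 93) (nat_lit 459)
  .nil) (nat_lit 198) (nat_lit 109) (nat_lit 116) .nil) (nat_lit 199) (nat_lit 109) (nat_lit 115) (.node .nil
  (nat_lit 201) (nat_lit 84) (nat_lit 460) .nil))) (nat_lit 204) (nat_lit 95) (nat_lit 1769) (.node (.node
  (.node (.node .nil (nat_lit 205) (nat_lit 69) (nat_lit 458) .nil) (nat_lit 206) (nat_lit 85) (nat_lit 457)
  .nil) (nat_lit 207) (nat_lit 137) (nat_lit 668) (.node (.node .nil (nat_lit 208) (nat_lit 121) (nat_lit 423)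
  .nil) (nat_lit 210) (nat_lit 85) (nat_lit 78) .nil)) (nat_lit 211) (nat_lit 124) (nat_lit 784) (.node (.node
  (.node .nil (nat_lit 213) (nat_lit 88) (nat_lit 78) .nil) (nat_lit 216) (nat_lit 125) (nat_lit 784) .nil)
  (nat_lit 221) (nat_lit 121) (nat_lit 783) (.node .nil (nat_lit 222) (nat_lit 121) (nat_lit 935) .nil))))
  (nat_lit 225) (nat_lit 137) (nat_lit 774) (.node (.node (.node (.node (.node .nil (nat_lit 226) (nat_lit
  137) (nat_lit 931) .nil) (nat_lit 231) (nat_lit 101) (nat_lit 494) .nil) (nat_lit 232) (nat_lit 100)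
  (nat_lit 494) (.node (.node .nil (nat_lit 235) (nat_lit 101) (nat_lit 498) .nil) (nat_lit 236) (nat_lit 100)
  (nat_lit 498) .nil)) (nat_lit 237) (nat_lit 141) (nat_lit 987) (.node (.node (.node .nil (nat_lit 238)
  (nat_lit 120) (nat_lit 662) .nil) (nat_lit 241) (nat_lit 136) (nat_lit 975) .nil) (nat_lit 242) (nat_lit
  125) (nat_lit 672) (.node .nil (nat_lit 247) (nat_lit 109) (nat_lit 699) .nil))) (nat_lit 248) (nat_lit 93)
  (nat_lit 696) (.node (.node (.node (.node .nil (nat_lit 251) (nat_lit 109) (nat_lit 700) .nil) (nat_lit 252)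
  (nat_lit 109) (nat_lit 695) .nil) (nat_lit 253) (nat_lit 73) (nat_lit 1778) (.node .nil (nat_lit 254)
  (nat_lit 143) (nat_lit 788) .nil)) (nat_lit 255) (nat_lit 117) (nat_lit 482) (.node (.node (.node .nil
  (nat_lit 256) (nat_lit 61) (nat_lit 509) .nil) (nat_lit 257) (nat_lit 125) (nat_lit 1191) .nil) (nat_lit
  258) (nat_lit 137) (nat_lit 1339) (.node .nil (nat_lit 267) (nat_lit 133) (nat_lit 1457) .nil))))) (nat_lit
  268) (nat_lit 150) (nat_lit 1084) (.node (.node (.node (.node (.node (.node .nil (nat_lit 269) (nat_lit 157)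
  (nat_lit 1514) .nil) (nat_lit 270) (nat_lit 136) (nat_lit 281) .nil) (nat_lit 271) (nat_lit 135) (nat_lit
  1271) (.node (.node .nil (nat_lit 272) (nat_lit 133) (nat_lit 1129) .nil) (nat_lit 273) (nat_lit 137)
  (nat_lit 1340) .nil)) (nat_lit 274) (nat_lit 131) (nat_lit 614) (.node (.node (.node .nil (nat_lit 275)
  (nat_lit 141) (nat_lit 1192) .nil) (nat_lit 276) (nat_lit 139) (nat_lit 619) .nil) (nat_lit 277) (nat_lit
  101) (nat_lit 1141) (.node .nil (nat_lit 278) (nat_lit 135) (nat_lit 1274) .nil))) (nat_lit 279) (nat_lit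
  127) (nat_lit 731) (.node (.node (.node (.node .nil (nat_lit 280) (nat_lit 119) (nat_lit 1508) .nil)
  (nat_lit 281) (nat_lit 117) (nat_lit 1356) .nil) (nat_lit 282) (nat_lit 117) (nat_lit 1355) (.node .nil
  (nat_lit 283) (nat_lit 138) (nat_lit 314) .nil)) (nat_lit 284) (nat_lit 138) (nat_lit 313) (.node (.node
  (.node .nil (nat_lit 285) (nat_lit 143) (nat_lit 1635) .nil) (nat_lit 286) (nat_lit 137) (nat_lit 1343)
  .nil) (nat_lit 287) (nat_lit 141) (nat_lit 856) (.node .nil (nat_lit 288) (nat_lit 139) (nat_lit 618)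
  .nil)))) (nat_lit 289) (nat_lit 139) (nat_lit 615) (.node (.node (.node (.node (.node .nil (nat_lit 290)
  (nat_lit 141) (nat_lit 641) .nil) (nat_lit 291) (nat_lit 117) (nat_lit 1324) .nil) (nat_lit 292) (nat_lit
  117) (nat_lit 1325) (.node (.node .nil (nat_lit 293) (nat_lit 135) (nat_lit 1484) .nil) (nat_lit 294)
  (nat_lit 143) (nat_lit 781) .nil)) (nat_lit 295) (nat_lit 138) (nat_lit 365) (.node (.node (.node .nil
  (nat_lit 296) (nat_lit 133) (nat_lit 1343) .nil) (nat_lit 297) (nat_lit 130) (nat_lit 324) .nil) (nat_lit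
  298) (nat_lit 138) (nat_lit 281) (.node .nil (nat_lit 299) (nat_lit 133) (nat_lit 1339) .nil))) (nat_lit
  300) (nat_lit 136) (nat_lit 1339) (.node (.node (.node (.node .nil (nat_lit 301) (nat_lit 136) (nat_lit
  1340) .nil) (nat_lit 302) (nat_lit 152) (nat_lit 1308) .nil) (nat_lit 303) (nat_lit 141) (nat_lit 536)
  (.node .nil (nat_lit 304) (nat_lit 139) (nat_lit 620) .nil)) (nat_lit 305) (nat_lit 136) (nat_lit 1228)
  (.node (.node (.node .nil (nat_lit 306) (nat_lit 133) (nat_lit 1775) .nil) (nat_lit 307) (nat_lit 139)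
  (nat_lit 119) .nil) (nat_lit 308) (nat_lit 139) (nat_lit 344) (.node .nil (nat_lit 309) (nat_lit 139)
  (nat_lit 616) .nil)))))))
def l1t_1 : T := (.node (.node (.node (.node (.node (.node (.node (.node .nil (nat_lit 311) (nat_lit 143)
  (nat_lit 775) .nil) (nat_lit 312) (nat_lit 118) (nat_lit 1491) .nil) (nat_lit 313) (nat_lit 127) (nat_lit
  236) (.node (.node .nil (nat_lit 314) (nat_lit 127) (nat_lit 499) .nil) (nat_lit 315) (nat_lit 127) (nat_lit
  496) .nil)) (nat_lit 316) (nat_lit 143) (nat_lit 125) (.node (.node (.node .nil (nat_lit 317) (nat_lit 134)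
  (nat_lit 590) .nil) (nat_lit 318) (nat_lit 127) (nat_lit 783) .nil) (nat_lit 319) (nat_lit 136) (nat_lit
  1373) (.node .nil (nat_lit 320) (nat_lit 136) (nat_lit 1374) .nil))) (nat_lit 321) (nat_lit 136) (nat_lit
  1372) (.node (.node (.node (.node .nil (nat_lit 322) (nat_lit 120) (nat_lit 1371) .nil) (nat_lit 323)
  (nat_lit 117) (nat_lit 1371) .nil) (nat_lit 324) (nat_lit 122) (nat_lit 277) (.node (.node .nil (nat_lit
  325) (nat_lit 138) (nat_lit 292) .nil) (nat_lit 326) (nat_lit 133) (nat_lit 1374) .nil)) (nat_lit 327)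
  (nat_lit 116) (nat_lit 1488) (.node (.node (.node .nil (nat_lit 328) (nat_lit 152) (nat_lit 631) .nil)
  (nat_lit 329) (nat_lit 125) (nat_lit 1488) .nil) (nat_lit 330) (nat_lit 137) (nat_lit 281) (.node .nil
  (nat_lit 331) (nat_lit 132) (nat_lit 1318) .nil)))) (nat_lit 332) (nat_lit 136) (nat_lit 1518) (.node (.node
  (.node (.node (.node .nil (nat_lit 333) (nat_lit 133) (nat_lit 1518) .nil) (nat_lit 334) (nat_lit 117)
  (nat_lit 1671) .nil) (nat_lit 335) (nat_lit 155) (nat_lit 258) (.node (.node .nil (nat_lit 336) (nat_lit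
  150) (nat_lit 1154) .nil) (nat_lit 337) (nat_lit 157) (nat_lit 332) .nil)) (nat_lit 338) (nat_lit 157)
  (nat_lit 1677) (.node (.node (.node .nil (nat_lit 339) (nat_lit 121) (nat_lit 277) .nil) (nat_lit 340)
  (nat_lit 132) (nat_lit 588) .nil) (nat_lit 341) (nat_lit 150) (nat_lit 1123) (.node .nil (nat_lit 342)
  (nat_lit 138) (nat_lit 119) .nil))) (nat_lit 343) (nat_lit 141) (nat_lit 587) (.node (.node (.node (.node
  .nil (nat_lit 344) (nat_lit 120) (nat_lit 277) .nil) (nat_lit 345) (nat_lit 127) (nat_lit 911) .nil)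
  (nat_lit 346) (nat_lit 152) (nat_lit 1676) (.node .nil (nat_lit 347) (nat_lit 143) (nat_lit 752) .nil))
  (nat_lit 348) (nat_lit 125) (nat_lit 1468) (.node (.node (.node .nil (nat_lit 349) (nat_lit 136) (nat_lit
  1675) .nil) (nat_lit 350) (nat_lit 119) (nat_lit 1069) .nil) (nat_lit 351) (nat_lit 155) (nat_lit 293)
  (.node .nil (nat_lit 352) (nat_lit 137) (nat_lit 1135) .nil))))) (nat_lit 353) (nat_lit 148) (nat_lit 567)
  (.node (.node (.node (.node (.node (.node .nil (nat_lit 354) (nat_lit 134) (nat_lit 1454) .nil) (nat_lit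
  355) (nat_lit 139) (nat_lit 318) .nil) (nat_lit 356) (nat_lit 141) (nat_lit 632) (.node (.node .nil (nat_lit
  357) (nat_lit 138) (nat_lit 360) .nil) (nat_lit 358) (nat_lit 131) (nat_lit 613) .nil)) (nat_lit 359)
  (nat_lit 135) (nat_lit 1217) (.node (.node (.node .nil (nat_lit 360) (nat_lit 127) (nat_lit 500) .nil)
  (nat_lit 361) (nat_lit 138) (nat_lit 364) .nil) (nat_lit 362) (nat_lit 138) (nat_lit 363) (.node .nil
  (nat_lit 363) (nat_lit 127) (nat_lit 232) .nil))) (nat_lit 364) (nat_lit 127) (nat_lit 495) (.node (.node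
  (.node (.node .nil (nat_lit 365) (nat_lit 127) (nat_lit 782) .nil) (nat_lit 366) (nat_lit 134) (nat_lit 589)
  .nil) (nat_lit 367) (nat_lit 137) (nat_lit 1373) (.node (.node .nil (nat_lit 368) (nat_lit 138) (nat_lit
  279) .nil) (nat_lit 369) (nat_lit 143) (nat_lit 774) .nil)) (nat_lit 370) (nat_lit 143) (nat_lit 965) (.node
  (.node (.node .nil (nat_lit 371) (nat_lit 135) (nat_lit 890) .nil) (nat_lit 372) (nat_lit 121) (nat_lit
  1371) .nil) (nat_lit 373) (nat_lit 103) (nat_lit 190) (.node .nil (nat_lit 374) (nat_lit 103) (nat_lit 108)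
  .nil)))) (nat_lit 377) (nat_lit 103) (nat_lit 195) (.node (.node (.node (.node (.node .nil (nat_lit 378)
  (nat_lit 87) (nat_lit 76) .nil) (nat_lit 383) (nat_lit 137) (nat_lit 667) .nil) (nat_lit 384) (nat_lit 137)
  (nat_lit 947) (.node (.node .nil (nat_lit 387) (nat_lit 121) (nat_lit 424) .nil) (nat_lit 388) (nat_lit 137)
  (nat_lit 945) .nil)) (nat_lit 389) (nat_lit 155) (nat_lit 371) (.node (.node (.node .nil (nat_lit 390)
  (nat_lit 139) (nat_lit 372) .nil) (nat_lit 391) (nat_lit 157) (nat_lit 1604) .nil) (nat_lit 392) (nat_lit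
  157) (nat_lit 1603) (.node .nil (nat_lit 393) (nat_lit 158) (nat_lit 1406) .nil))) (nat_lit 394) (nat_lit
  151) (nat_lit 439) (.node (.node (.node (.node .nil (nat_lit 395) (nat_lit 157) (nat_lit 1621) .nil)
  (nat_lit 396) (nat_lit 157) (nat_lit 1628) .nil) (nat_lit 397) (nat_lit 139) (nat_lit 365) (.node .nil
  (nat_lit 398) (nat_lit 155) (nat_lit 366) .nil)) (nat_lit 399) (nat_lit 155) (nat_lit 271) (.node (.node
  (.node .nil (nat_lit 400) (nat_lit 132) (nat_lit 1135) .nil) (nat_lit 401) (nat_lit 141) (nat_lit 1620)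
  .nil) (nat_lit 402) (nat_lit 153) (nat_lit 567) (.node .nil (nat_lit 403) (nat_lit 139) (nat_lit 280)
  .nil)))))) (nat_lit 404) (nat_lit 139) (nat_lit 279) (.node (.node (.node (.node (.node (.node (.node .nil
  (nat_lit 405) (nat_lit 139) (nat_lit 360) .nil) (nat_lit 406) (nat_lit 133) (nat_lit 1433) .nil) (nat_lit
  407) (nat_lit 159) (nat_lit 525) (.node (.node .nil (nat_lit 408) (nat_lit 158) (nat_lit 1227) .nil)
  (nat_lit 409) (nat_lit 139) (nat_lit 281) .nil)) (nat_lit 410) (nat_lit 139) (nat_lit 364) (.node (.node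
  (.node .nil (nat_lit 417) (nat_lit 105) (nat_lit 107) .nil) (nat_lit 418) (nat_lit 105) (nat_lit 108) .nil)
  (nat_lit 419) (nat_lit 104) (nat_lit 378) (.node .nil (nat_lit 420) (nat_lit 120) (nat_lit 199) .nil)))
  (nat_lit 421) (nat_lit 116) (nat_lit 731) (.node (.node (.node (.node .nil (nat_lit 422) (nat_lit 121)
  (nat_lit 446) .nil) (nat_lit 423) (nat_lit 104) (nat_lit 71) .nil) (nat_lit 424) (nat_lit 104) (nat_lit 33)
  (.node (.node .nil (nat_lit 425) (nat_lit 91) (nat_lit 597) .nil) (nat_lit 426) (nat_lit 107) (nat_lit 599)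
  .nil)) (nat_lit 427) (nat_lit 107) (nat_lit 598) (.node (.node (.node .nil (nat_lit 428) (nat_lit 110)
  (nat_lit 94) .nil) (nat_lit 433) (nat_lit 121) (nat_lit 236) .nil) (nat_lit 434) (nat_lit 107) (nat_lit 687)
  (.node .nil (nat_lit 435) (nat_lit 111) (nat_lit 758) .nil)))) (nat_lit 436) (nat_lit 137) (nat_lit 789)
  (.node (.node (.node (.node (.node .nil (nat_lit 437) (nat_lit 157) (nat_lit 1110) .nil) (nat_lit 438)
  (nat_lit 133) (nat_lit 1400) .nil) (nat_lit 439) (nat_lit 141) (nat_lit 364) (.node (.node .nil (nat_lit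
  440) (nat_lit 136) (nat_lit 1590) .nil) (nat_lit 441) (nat_lit 137) (nat_lit 1482) .nil)) (nat_lit 442)
  (nat_lit 148) (nat_lit 1630) (.node (.node (.node .nil (nat_lit 443) (nat_lit 121) (nat_lit 28) .nil)
  (nat_lit 444) (nat_lit 123) (nat_lit 479) .nil) (nat_lit 445) (nat_lit 123) (nat_lit 771) (.node .nil
  (nat_lit 446) (nat_lit 100) (nat_lit 133) .nil))) (nat_lit 447) (nat_lit 125) (nat_lit 480) (.node (.node
  (.node (.node .nil (nat_lit 448) (nat_lit 101) (nat_lit 133) .nil) (nat_lit 449) (nat_lit 127) (nat_lit 574)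
  .nil) (nat_lit 450) (nat_lit 137) (nat_lit 1463) (.node .nil (nat_lit 451) (nat_lit 139) (nat_lit 1635)
  .nil)) (nat_lit 452) (nat_lit 139) (nat_lit 870) (.node (.node (.node .nil (nat_lit 453) (nat_lit 139)
  (nat_lit 1594) .nil) (nat_lit 454) (nat_lit 120) (nat_lit 1174) .nil) (nat_lit 455) (nat_lit 136) (nat_lit
  1434) (.node .nil (nat_lit 456) (nat_lit 155) (nat_lit 869) .nil))))) (nat_lit 457) (nat_lit 79) (nat_lit
  528) (.node (.node (.node (.node (.node (.node .nil (nat_lit 458) (nat_lit 63) (nat_lit 652) .nil) (nat_lit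
  459) (nat_lit 79) (nat_lit 92) .nil) (nat_lit 460) (nat_lit 79) (nat_lit 256) (.node (.node .nil (nat_lit
  465) (nat_lit 118) (nat_lit 1671) .nil) (nat_lit 466) (nat_lit 121) (nat_lit 247) .nil)) (nat_lit 473)
  (nat_lit 152) (nat_lit 1515) (.node (.node (.node .nil (nat_lit 474) (nat_lit 154) (nat_lit 1206) .nil)
  (nat_lit 475) (nat_lit 137) (nat_lit 1363) .nil) (nat_lit 476) (nat_lit 121) (nat_lit 914) (.node .nil
  (nat_lit 477) (nat_lit 109) (nat_lit 210) .nil))) (nat_lit 478) (nat_lit 107) (nat_lit 695) (.node (.node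
  (.node (.node .nil (nat_lit 479) (nat_lit 104) (nat_lit 195) .nil) (nat_lit 480) (nat_lit 105) (nat_lit 378)
  .nil) (nat_lit 481) (nat_lit 121) (nat_lit 106) (.node .nil (nat_lit 482) (nat_lit 97) (nat_lit 1141) .nil))
  (nat_lit 483) (nat_lit 127) (nat_lit 976) (.node (.node (.node .nil (nat_lit 484) (nat_lit 155) (nat_lit
  630) .nil) (nat_lit 493) (nat_lit 109) (nat_lit 674) .nil) (nat_lit 494) (nat_lit 93) (nat_lit 99) (.node
  .nil (nat_lit 495) (nat_lit 109) (nat_lit 201) .nil)))) (nat_lit 496) (nat_lit 103) (nat_lit 248) (.node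
  (.node (.node (.node (.node .nil (nat_lit 497) (nat_lit 109) (nat_lit 687) .nil) (nat_lit 498) (nat_lit 93)
  (nat_lit 100) .nil) (nat_lit 499) (nat_lit 109) (nat_lit 204) (.node (.node .nil (nat_lit 500) (nat_lit 102)
  (nat_lit 133) .nil) (nat_lit 501) (nat_lit 104) (nat_lit 107) .nil)) (nat_lit 503) (nat_lit 101) (nat_lit
  178) (.node (.node (.node .nil (nat_lit 504) (nat_lit 102) (nat_lit 777) .nil) (nat_lit 505) (nat_lit 116)
  (nat_lit 737) .nil) (nat_lit 507) (nat_lit 135) (nat_lit 1689) (.node .nil (nat_lit 508) (nat_lit 141)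
  (nat_lit 1335) .nil))) (nat_lit 509) (nat_lit 43) (nat_lit 655) (.node (.node (.node (.node .nil (nat_lit
  510) (nat_lit 141) (nat_lit 1240) .nil) (nat_lit 511) (nat_lit 141) (nat_lit 1239) .nil) (nat_lit 512)
  (nat_lit 157) (nat_lit 716) (.node .nil (nat_lit 513) (nat_lit 149) (nat_lit 1732) .nil)) (nat_lit 514)
  (nat_lit 157) (nat_lit 1262) (.node (.node (.node .nil (nat_lit 515) (nat_lit 155) (nat_lit 342) .nil)
  (nat_lit 516) (nat_lit 141) (nat_lit 550) .nil) (nat_lit 517) (nat_lit 141) (nat_lit 888) (.node .nil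
  (nat_lit 518) (nat_lit 123) (nat_lit 277) .nil)))))))
def l1t_2 : T := (.node (.node (.node (.node (.node (.node (.node (.node .nil (nat_lit 520) (nat_lit 155)
  (nat_lit 299) .nil) (nat_lit 521) (nat_lit 155) (nat_lit 359) .nil) (nat_lit 522) (nat_lit 133) (nat_lit
  1434) (.node (.node .nil (nat_lit 523) (nat_lit 142) (nat_lit 825) .nil) (nat_lit 524) (nat_lit 143)
  (nat_lit 114) .nil)) (nat_lit 525) (nat_lit 139) (nat_lit 363) (.node (.node (.node .nil (nat_lit 526)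
  (nat_lit 139) (nat_lit 282) .nil) (nat_lit 527) (nat_lit 89) (nat_lit 1768) .nil) (nat_lit 528) (nat_lit 61)
  (nat_lit 529) (.node .nil (nat_lit 529) (nat_lit 42) (nat_lit 655) .nil))) (nat_lit 530) (nat_lit 131)
  (nat_lit 310) (.node (.node (.node (.node .nil (nat_lit 531) (nat_lit 133) (nat_lit 1645) .nil) (nat_lit
  532) (nat_lit 155) (nat_lit 298) .nil) (nat_lit 533) (nat_lit 159) (nat_lit 1201) (.node (.node .nil
  (nat_lit 534) (nat_lit 151) (nat_lit 516) .nil) (nat_lit 535) (nat_lit 117) (nat_lit 1468) .nil)) (nat_lit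
  536) (nat_lit 116) (nat_lit 1356) (.node (.node (.node .nil (nat_lit 537) (nat_lit 138) (nat_lit 1121) .nil)
  (nat_lit 538) (nat_lit 152) (nat_lit 1315) .nil) (nat_lit 539) (nat_lit 119) (nat_lit 479) (.node .nil
  (nat_lit 540) (nat_lit 121) (nat_lit 66) .nil)))) (nat_lit 541) (nat_lit 123) (nat_lit 418) (.node (.node
  (.node (.node (.node .nil (nat_lit 542) (nat_lit 127) (nat_lit 67) .nil) (nat_lit 543) (nat_lit 127)
  (nat_lit 960) .nil) (nat_lit 544) (nat_lit 136) (nat_lit 1400) (.node (.node .nil (nat_lit 545) (nat_lit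
  139) (nat_lit 465) .nil) (nat_lit 546) (nat_lit 152) (nat_lit 1221) .nil)) (nat_lit 547) (nat_lit 154)
  (nat_lit 1502) (.node (.node (.node .nil (nat_lit 548) (nat_lit 133) (nat_lit 856) .nil) (nat_lit 549)
  (nat_lit 143) (nat_lit 957) .nil) (nat_lit 550) (nat_lit 119) (nat_lit 627) (.node .nil (nat_lit 551)
  (nat_lit 143) (nat_lit 1454) .nil))) (nat_lit 552) (nat_lit 136) (nat_lit 1775) (.node (.node (.node (.node
  .nil (nat_lit 553) (nat_lit 157) (nat_lit 1265) .nil) (nat_lit 554) (nat_lit 127) (nat_lit 964) .nil)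
  (nat_lit 555) (nat_lit 141) (nat_lit 1441) (.node .nil (nat_lit 556) (nat_lit 141) (nat_lit 1115) .nil))
  (nat_lit 557) (nat_lit 125) (nat_lit 1069) (.node (.node (.node .nil (nat_lit 558) (nat_lit 141) (nat_lit
  1636) .nil) (nat_lit 559) (nat_lit 141) (nat_lit 1635) .nil) (nat_lit 560) (nat_lit 141) (nat_lit 1111)
  (.node .nil (nat_lit 561) (nat_lit 141) (nat_lit 449) .nil))))) (nat_lit 562) (nat_lit 158) (nat_lit 567)
  (.node (.node (.node (.node (.node (.node .nil (nat_lit 563) (nat_lit 139) (nat_lit 613) .nil) (nat_lit 564)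
  (nat_lit 137) (nat_lit 1645) .nil) (nat_lit 565) (nat_lit 154) (nat_lit 1323) (.node (.node .nil (nat_lit
  566) (nat_lit 141) (nat_lit 619) .nil) (nat_lit 567) (nat_lit 139) (nat_lit 888) .nil)) (nat_lit 568)
  (nat_lit 139) (nat_lit 1271) (.node (.node (.node .nil (nat_lit 569) (nat_lit 141) (nat_lit 112) .nil)
  (nat_lit 570) (nat_lit 118) (nat_lit 1371) .nil) (nat_lit 571) (nat_lit 155) (nat_lit 1472) (.node .nil
  (nat_lit 572) (nat_lit 101) (nat_lit 777) .nil))) (nat_lit 573) (nat_lit 119) (nat_lit 418) (.node (.node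
  (.node (.node .nil (nat_lit 574) (nat_lit 105) (nat_lit 195) .nil) (nat_lit 575) (nat_lit 141) (nat_lit
  1629) .nil) (nat_lit 576) (nat_lit 154) (nat_lit 548) (.node (.node .nil (nat_lit 577) (nat_lit 138)
  (nat_lit 1594) .nil) (nat_lit 584) (nat_lit 159) (nat_lit 1547) .nil)) (nat_lit 585) (nat_lit 155) (nat_lit
  1381) (.node (.node (.node .nil (nat_lit 586) (nat_lit 157) (nat_lit 1407) .nil) (nat_lit 587) (nat_lit 127)
  (nat_lit 377) .nil) (nat_lit 588) (nat_lit 127) (nat_lit 134) (.node .nil (nat_lit 589) (nat_lit 127)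
  (nat_lit 778) .nil)))) (nat_lit 590) (nat_lit 127) (nat_lit 501) (.node (.node (.node (.node (.node .nil
  (nat_lit 591) (nat_lit 132) (nat_lit 314) .nil) (nat_lit 596) (nat_lit 90) (nat_lit 459) .nil) (nat_lit 597)
  (nat_lit 74) (nat_lit 458) (.node (.node .nil (nat_lit 598) (nat_lit 90) (nat_lit 457) .nil) (nat_lit 599)
  (nat_lit 90) (nat_lit 460) .nil)) (nat_lit 600) (nat_lit 117) (nat_lit 771) (.node (.node (.node .nil
  (nat_lit 601) (nat_lit 120) (nat_lit 235) .nil) (nat_lit 603) (nat_lit 139) (nat_lit 1369) .nil) (nat_lit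
  604) (nat_lit 143) (nat_lit 1553) (.node .nil (nat_lit 606) (nat_lit 138) (nat_lit 588) .nil))) (nat_lit
  607) (nat_lit 135) (nat_lit 1493) (.node (.node (.node (.node .nil (nat_lit 608) (nat_lit 138) (nat_lit 616)
  .nil) (nat_lit 609) (nat_lit 138) (nat_lit 615) .nil) (nat_lit 610) (nat_lit 138) (nat_lit 620) (.node .nil
  (nat_lit 611) (nat_lit 141) (nat_lit 1484) .nil)) (nat_lit 612) (nat_lit 130) (nat_lit 614) (.node (.node
  (.node .nil (nat_lit 613) (nat_lit 122) (nat_lit 622) .nil) (nat_lit 614) (nat_lit 122) (nat_lit 617) .nil)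
  (nat_lit 615) (nat_lit 119) (nat_lit 1597) (.node .nil (nat_lit 616) (nat_lit 127) (nat_lit 231) .nil))))))
  (nat_lit 617) (nat_lit 111) (nat_lit 494) (.node (.node (.node (.node (.node (.node (.node .nil (nat_lit
  618) (nat_lit 127) (nat_lit 493) .nil) (nat_lit 619) (nat_lit 127) (nat_lit 235) .nil) (nat_lit 620)
  (nat_lit 127) (nat_lit 129) (.node (.node .nil (nat_lit 621) (nat_lit 127) (nat_lit 497) .nil) (nat_lit 622)
  (nat_lit 111) (nat_lit 498) .nil)) (nat_lit 623) (nat_lit 141) (nat_lit 870) (.node (.node (.node .nil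
  (nat_lit 624) (nat_lit 137) (nat_lit 1717) .nil) (nat_lit 625) (nat_lit 122) (nat_lit 1143) .nil) (nat_lit
  626) (nat_lit 139) (nat_lit 625) (.node .nil (nat_lit 627) (nat_lit 111) (nat_lit 190) .nil))) (nat_lit 628)
  (nat_lit 127) (nat_lit 187) (.node (.node (.node (.node .nil (nat_lit 629) (nat_lit 143) (nat_lit 900) .nil)
  (nat_lit 630) (nat_lit 143) (nat_lit 899) .nil) (nat_lit 631) (nat_lit 131) (nat_lit 1339) (.node (.node
  .nil (nat_lit 632) (nat_lit 117) (nat_lit 622) .nil) (nat_lit 633) (nat_lit 139) (nat_lit 1255) .nil))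
  (nat_lit 634) (nat_lit 139) (nat_lit 1463) (.node (.node (.node .nil (nat_lit 635) (nat_lit 138) (nat_lit
  1035) .nil) (nat_lit 636) (nat_lit 154) (nat_lit 624) .nil) (nat_lit 637) (nat_lit 123) (nat_lit 482) (.node
  .nil (nat_lit 638) (nat_lit 137) (nat_lit 1434) .nil)))) (nat_lit 639) (nat_lit 133) (nat_lit 465) (.node
  (.node (.node (.node (.node .nil (nat_lit 640) (nat_lit 137) (nat_lit 589) .nil) (nat_lit 641) (nat_lit 127)
  (nat_lit 768) .nil) (nat_lit 642) (nat_lit 146) (nat_lit 1211) (.node (.node .nil (nat_lit 647) (nat_lit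
  159) (nat_lit 568) .nil) (nat_lit 648) (nat_lit 157) (nat_lit 1600) .nil)) (nat_lit 649) (nat_lit 142)
  (nat_lit 1586) (.node (.node (.node .nil (nat_lit 650) (nat_lit 139) (nat_lit 315) .nil) (nat_lit 651)
  (nat_lit 89) (nat_lit 1767) .nil) (nat_lit 652) (nat_lit 45) (nat_lit 655) (.node .nil (nat_lit 653)
  (nat_lit 117) (nat_lit 1174) .nil))) (nat_lit 654) (nat_lit 139) (nat_lit 291) (.node (.node (.node (.node
  .nil (nat_lit 655) (nat_lit 31) (nat_lit 1781) .nil) (nat_lit 656) (nat_lit 149) (nat_lit 1630) .nil)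
  (nat_lit 657) (nat_lit 157) (nat_lit 567) (.node .nil (nat_lit 658) (nat_lit 121) (nat_lit 232) .nil))
  (nat_lit 659) (nat_lit 123) (nat_lit 786) (.node (.node (.node .nil (nat_lit 660) (nat_lit 120) (nat_lit
  763) .nil) (nat_lit 661) (nat_lit 120) (nat_lit 726) .nil) (nat_lit 662) (nat_lit 107) (nat_lit 790) (.node
  .nil (nat_lit 663) (nat_lit 119) (nat_lit 914) .nil))))) (nat_lit 664) (nat_lit 123) (nat_lit 914) (.node
  (.node (.node (.node (.node (.node .nil (nat_lit 665) (nat_lit 116) (nat_lit 776) .nil) (nat_lit 666)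
  (nat_lit 121) (nat_lit 766) .nil) (nat_lit 667) (nat_lit 120) (nat_lit 40) (.node (.node .nil (nat_lit 668)
  (nat_lit 120) (nat_lit 67) .nil) (nat_lit 669) (nat_lit 121) (nat_lit 37) .nil)) (nat_lit 670) (nat_lit 121)
  (nat_lit 70) (.node (.node (.node .nil (nat_lit 671) (nat_lit 120) (nat_lit 231) .nil) (nat_lit 672)
  (nat_lit 102) (nat_lit 790) .nil) (nat_lit 673) (nat_lit 118) (nat_lit 418) (.node .nil (nat_lit 674)
  (nat_lit 90) (nat_lit 100) .nil))) (nat_lit 675) (nat_lit 134) (nat_lit 757) (.node (.node (.node (.node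
  .nil (nat_lit 676) (nat_lit 118) (nat_lit 741) .nil) (nat_lit 677) (nat_lit 84) (nat_lit 597) .nil) (nat_lit
  685) (nat_lit 134) (nat_lit 752) (.node .nil (nat_lit 686) (nat_lit 100) (nat_lit 598) .nil)) (nat_lit 687)
  (nat_lit 90) (nat_lit 99) (.node (.node (.node .nil (nat_lit 688) (nat_lit 134) (nat_lit 476) .nil) (nat_lit
  694) (nat_lit 141) (nat_lit 540) .nil) (nat_lit 695) (nat_lit 95) (nat_lit 1777) (.node .nil (nat_lit 696)
  (nat_lit 79) (nat_lit 1778) .nil)))) (nat_lit 697) (nat_lit 136) (nat_lit 987) (.node (.node (.node (.node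
  (.node .nil (nat_lit 698) (nat_lit 125) (nat_lit 983) .nil) (nat_lit 699) (nat_lit 95) (nat_lit 1768) .nil)
  (nat_lit 700) (nat_lit 95) (nat_lit 1767) (.node (.node .nil (nat_lit 701) (nat_lit 120) (nat_lit 672) .nil)
  (nat_lit 710) (nat_lit 143) (nat_lit 1556) .nil)) (nat_lit 711) (nat_lit 139) (nat_lit 1118) (.node (.node
  (.node .nil (nat_lit 712) (nat_lit 133) (nat_lit 364) .nil) (nat_lit 713) (nat_lit 139) (nat_lit 1618) .nil)
  (nat_lit 716) (nat_lit 135) (nat_lit 1518) (.node .nil (nat_lit 717) (nat_lit 158) (nat_lit 1125) .nil)))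
  (nat_lit 720) (nat_lit 120) (nat_lit 495) (.node (.node (.node (.node .nil (nat_lit 721) (nat_lit 121)
  (nat_lit 496) .nil) (nat_lit 722) (nat_lit 121) (nat_lit 771) .nil) (nat_lit 723) (nat_lit 91) (nat_lit 100)
  (.node .nil (nat_lit 724) (nat_lit 125) (nat_lit 417) .nil)) (nat_lit 725) (nat_lit 116) (nat_lit 251)
  (.node (.node (.node .nil (nat_lit 726) (nat_lit 101) (nat_lit 248) .nil) (nat_lit 727) (nat_lit 124)
  (nat_lit 480) .nil) (nat_lit 728) (nat_lit 107) (nat_lit 72) (.node .nil (nat_lit 729) (nat_lit 110)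
  (nat_lit 723) .nil)))))))
def l1t_3 : T := (.node (.node (.node (.node (.node (.node (.node (.node .nil (nat_lit 731) (nat_lit 105)
  (nat_lit 133) .nil) (nat_lit 732) (nat_lit 159) (nat_lit 522) .nil) (nat_lit 733) (nat_lit 155) (nat_lit
  1130) (.node (.node .nil (nat_lit 734) (nat_lit 138) (nat_lit 1385) .nil) (nat_lit 735) (nat_lit 133)
  (nat_lit 1252) .nil)) (nat_lit 736) (nat_lit 132) (nat_lit 1518) (.node (.node (.node .nil (nat_lit 737)
  (nat_lit 102) (nat_lit 1141) .nil) (nat_lit 738) (nat_lit 121) (nat_lit 252) .nil) (nat_lit 739) (nat_lit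
  120) (nat_lit 373) (.node .nil (nat_lit 740) (nat_lit 100) (nat_lit 378) .nil))) (nat_lit 741) (nat_lit 105)
  (nat_lit 777) (.node (.node (.node (.node .nil (nat_lit 742) (nat_lit 89) (nat_lit 78) .nil) (nat_lit 743)
  (nat_lit 107) (nat_lit 201) .nil) (nat_lit 744) (nat_lit 124) (nat_lit 911) (.node (.node .nil (nat_lit 745)
  (nat_lit 109) (nat_lit 742) .nil) (nat_lit 746) (nat_lit 125) (nat_lit 751) .nil)) (nat_lit 747) (nat_lit
  125) (nat_lit 911) (.node (.node (.node .nil (nat_lit 748) (nat_lit 140) (nat_lit 913) .nil) (nat_lit 749)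
  (nat_lit 111) (nat_lit 81) .nil) (nat_lit 750) (nat_lit 107) (nat_lit 204) (.node .nil (nat_lit 751)
  (nat_lit 105) (nat_lit 94) .nil)))) (nat_lit 752) (nat_lit 121) (nat_lit 778) (.node (.node (.node (.node
  (.node .nil (nat_lit 753) (nat_lit 121) (nat_lit 501) .nil) (nat_lit 754) (nat_lit 107) (nat_lit 674) .nil)
  (nat_lit 755) (nat_lit 110) (nat_lit 81) (.node (.node .nil (nat_lit 756) (nat_lit 121) (nat_lit 572) .nil)
  (nat_lit 757) (nat_lit 121) (nat_lit 479) .nil)) (nat_lit 758) (nat_lit 91) (nat_lit 696) (.node (.node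
  (.node .nil (nat_lit 759) (nat_lit 91) (nat_lit 99) .nil) (nat_lit 760) (nat_lit 121) (nat_lit 786) .nil)
  (nat_lit 761) (nat_lit 141) (nat_lit 791) (.node .nil (nat_lit 762) (nat_lit 111) (nat_lit 210) .nil)))
  (nat_lit 763) (nat_lit 100) (nat_lit 248) (.node (.node (.node (.node .nil (nat_lit 764) (nat_lit 117)
  (nat_lit 251) .nil) (nat_lit 765) (nat_lit 109) (nat_lit 758) .nil) (nat_lit 766) (nat_lit 109) (nat_lit 81)
  (.node .nil (nat_lit 767) (nat_lit 116) (nat_lit 134) .nil)) (nat_lit 768) (nat_lit 103) (nat_lit 71) (.node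
  (.node (.node .nil (nat_lit 769) (nat_lit 109) (nat_lit 213) .nil) (nat_lit 770) (nat_lit 105) (nat_lit 178)
  .nil) (nat_lit 771) (nat_lit 104) (nat_lit 494) (.node .nil (nat_lit 772) (nat_lit 121) (nat_lit 493)
  .nil))))) (nat_lit 773) (nat_lit 105) (nat_lit 494) (.node (.node (.node (.node (.node (.node .nil (nat_lit
  774) (nat_lit 122) (nat_lit 778) .nil) (nat_lit 775) (nat_lit 120) (nat_lit 252) .nil) (nat_lit 776)
  (nat_lit 106) (nat_lit 790) (.node (.node .nil (nat_lit 777) (nat_lit 88) (nat_lit 76) .nil) (nat_lit 778)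
  (nat_lit 104) (nat_lit 108) .nil)) (nat_lit 781) (nat_lit 122) (nat_lit 418) (.node (.node (.node .nil
  (nat_lit 782) (nat_lit 104) (nat_lit 248) .nil) (nat_lit 783) (nat_lit 106) (nat_lit 777) .nil) (nat_lit
  784) (nat_lit 105) (nat_lit 498) (.node .nil (nat_lit 785) (nat_lit 121) (nat_lit 497) .nil))) (nat_lit 786)
  (nat_lit 104) (nat_lit 498) (.node (.node (.node (.node .nil (nat_lit 787) (nat_lit 120) (nat_lit 497) .nil)
  (nat_lit 788) (nat_lit 121) (nat_lit 134) .nil) (nat_lit 789) (nat_lit 120) (nat_lit 77) (.node .nil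
  (nat_lit 790) (nat_lit 89) (nat_lit 76) .nil)) (nat_lit 791) (nat_lit 121) (nat_lit 77) (.node (.node (.node
  .nil (nat_lit 792) (nat_lit 120) (nat_lit 198) .nil) (nat_lit 793) (nat_lit 120) (nat_lit 374) .nil)
  (nat_lit 794) (nat_lit 121) (nat_lit 251) (.node .nil (nat_lit 795) (nat_lit 121) (nat_lit 179) .nil))))
  (nat_lit 800) (nat_lit 159) (nat_lit 519) (.node (.node (.node (.node (.node .nil (nat_lit 803) (nat_lit
  158) (nat_lit 1040) .nil) (nat_lit 804) (nat_lit 159) (nat_lit 309) .nil) (nat_lit 805) (nat_lit 142)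
  (nat_lit 1135) (.node (.node .nil (nat_lit 806) (nat_lit 133) (nat_lit 888) .nil) (nat_lit 807) (nat_lit
  127) (nat_lit 983) .nil)) (nat_lit 818) (nat_lit 155) (nat_lit 1471) (.node (.node (.node .nil (nat_lit 819)
  (nat_lit 141) (nat_lit 1127) .nil) (nat_lit 820) (nat_lit 137) (nat_lit 1493) .nil) (nat_lit 823) (nat_lit
  122) (nat_lit 1191) (.node .nil (nat_lit 824) (nat_lit 134) (nat_lit 518) .nil))) (nat_lit 825) (nat_lit
  123) (nat_lit 1468) (.node (.node (.node (.node .nil (nat_lit 848) (nat_lit 132) (nat_lit 257) .nil)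
  (nat_lit 851) (nat_lit 155) (nat_lit 1487) .nil) (nat_lit 852) (nat_lit 159) (nat_lit 1234) (.node .nil
  (nat_lit 855) (nat_lit 143) (nat_lit 1410) .nil)) (nat_lit 856) (nat_lit 127) (nat_lit 198) (.node (.node
  (.node .nil (nat_lit 857) (nat_lit 127) (nat_lit 479) .nil) (nat_lit 868) (nat_lit 138) (nat_lit 1593) .nil)
  (nat_lit 869) (nat_lit 138) (nat_lit 1484) (.node .nil (nat_lit 870) (nat_lit 127) (nat_lit 106) .nil))))))
  (nat_lit 873) (nat_lit 143) (nat_lit 730) (.node (.node (.node (.node (.node (.node (.node .nil (nat_lit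
  874) (nat_lit 135) (nat_lit 348) .nil) (nat_lit 875) (nat_lit 152) (nat_lit 1266) .nil) (nat_lit 886)
  (nat_lit 152) (nat_lit 1222) (.node (.node .nil (nat_lit 887) (nat_lit 127) (nat_lit 572) .nil) (nat_lit
  888) (nat_lit 127) (nat_lit 374) .nil)) (nat_lit 889) (nat_lit 149) (nat_lit 1266) (.node (.node (.node .nil
  (nat_lit 890) (nat_lit 125) (nat_lit 622) .nil) (nat_lit 891) (nat_lit 139) (nat_lit 550) .nil) (nat_lit
  892) (nat_lit 152) (nat_lit 1630) (.node .nil (nat_lit 893) (nat_lit 133) (nat_lit 641) .nil))) (nat_lit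
  894) (nat_lit 121) (nat_lit 187) (.node (.node (.node (.node .nil (nat_lit 895) (nat_lit 121) (nat_lit 182)
  .nil) (nat_lit 898) (nat_lit 104) (nat_lit 133) .nil) (nat_lit 899) (nat_lit 120) (nat_lit 134) (.node
  (.node .nil (nat_lit 900) (nat_lit 120) (nat_lit 377) .nil) (nat_lit 901) (nat_lit 105) (nat_lit 190) .nil))
  (nat_lit 905) (nat_lit 105) (nat_lit 248) (.node (.node (.node .nil (nat_lit 906) (nat_lit 120) (nat_lit
  496) .nil) (nat_lit 910) (nat_lit 117) (nat_lit 778) .nil) (nat_lit 911) (nat_lit 103) (nat_lit 790) (.node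
  .nil (nat_lit 913) (nat_lit 121) (nat_lit 374) .nil)))) (nat_lit 914) (nat_lit 104) (nat_lit 190) (.node
  (.node (.node (.node (.node .nil (nat_lit 917) (nat_lit 121) (nat_lit 89) .nil) (nat_lit 922) (nat_lit 118)
  (nat_lit 778) .nil) (nat_lit 926) (nat_lit 120) (nat_lit 499) (.node (.node .nil (nat_lit 927) (nat_lit 121)
  (nat_lit 500) .nil) (nat_lit 930) (nat_lit 121) (nat_lit 495) .nil)) (nat_lit 931) (nat_lit 120) (nat_lit
  179) (.node (.node (.node .nil (nat_lit 934) (nat_lit 121) (nat_lit 499) .nil) (nat_lit 935) (nat_lit 104)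
  (nat_lit 178) .nil) (nat_lit 944) (nat_lit 118) (nat_lit 784) (.node .nil (nat_lit 945) (nat_lit 120)
  (nat_lit 37) .nil))) (nat_lit 947) (nat_lit 120) (nat_lit 28) (.node (.node (.node (.node .nil (nat_lit 950)
  (nat_lit 123) (nat_lit 905) .nil) (nat_lit 953) (nat_lit 121) (nat_lit 768) .nil) (nat_lit 954) (nat_lit
  120) (nat_lit 70) (.node .nil (nat_lit 957) (nat_lit 120) (nat_lit 66) .nil)) (nat_lit 958) (nat_lit 121)
  (nat_lit 448) (.node (.node (.node .nil (nat_lit 959) (nat_lit 123) (nat_lit 778) .nil) (nat_lit 960)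
  (nat_lit 107) (nat_lit 777) .nil) (nat_lit 963) (nat_lit 121) (nat_lit 40) (.node .nil (nat_lit 964)
  (nat_lit 105) (nat_lit 33) .nil))))) (nat_lit 965) (nat_lit 120) (nat_lit 765) (.node (.node (.node (.node
  (.node (.node .nil (nat_lit 966) (nat_lit 121) (nat_lit 231) .nil) (nat_lit 969) (nat_lit 121) (nat_lit 235)
  .nil) (nat_lit 970) (nat_lit 120) (nat_lit 503) (.node (.node .nil (nat_lit 972) (nat_lit 131) (nat_lit 774)
  .nil) (nat_lit 973) (nat_lit 123) (nat_lit 574) .nil)) (nat_lit 974) (nat_lit 119) (nat_lit 778) (.node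
  (.node (.node .nil (nat_lit 975) (nat_lit 123) (nat_lit 901) .nil) (nat_lit 976) (nat_lit 103) (nat_lit 777)
  .nil) (nat_lit 980) (nat_lit 115) (nat_lit 783) (.node .nil (nat_lit 981) (nat_lit 121) (nat_lit 67) .nil)))
  (nat_lit 983) (nat_lit 105) (nat_lit 71) (.node (.node (.node (.node .nil (nat_lit 984) (nat_lit 120)
  (nat_lit 232) .nil) (nat_lit 985) (nat_lit 118) (nat_lit 574) .nil) (nat_lit 986) (nat_lit 119) (nat_lit
  782) (.node .nil (nat_lit 987) (nat_lit 118) (nat_lit 901) .nil)) (nat_lit 991) (nat_lit 157) (nat_lit 1437)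
  (.node (.node (.node .nil (nat_lit 992) (nat_lit 148) (nat_lit 517) .nil) (nat_lit 998) (nat_lit 150)
  (nat_lit 517) .nil) (nat_lit 999) (nat_lit 137) (nat_lit 1689) (.node .nil (nat_lit 1030) (nat_lit 155)
  (nat_lit 1432) .nil)))) (nat_lit 1031) (nat_lit 141) (nat_lit 857) (.node (.node (.node (.node (.node .nil
  (nat_lit 1032) (nat_lit 157) (nat_lit 1377) .nil) (nat_lit 1033) (nat_lit 154) (nat_lit 1173) .nil) (nat_lit
  1034) (nat_lit 143) (nat_lit 720) (.node (.node .nil (nat_lit 1035) (nat_lit 127) (nat_lit 247) .nil)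
  (nat_lit 1036) (nat_lit 139) (nat_lit 1363) .nil)) (nat_lit 1037) (nat_lit 143) (nat_lit 1127) (.node (.node
  (.node .nil (nat_lit 1038) (nat_lit 138) (nat_lit 1238) .nil) (nat_lit 1039) (nat_lit 136) (nat_lit 890)
  .nil) (nat_lit 1040) (nat_lit 139) (nat_lit 1192) (.node .nil (nat_lit 1041) (nat_lit 130) (nat_lit 1428)
  .nil))) (nat_lit 1042) (nat_lit 152) (nat_lit 1494) (.node (.node (.node (.node .nil (nat_lit 1043) (nat_lit
  154) (nat_lit 640) .nil) (nat_lit 1044) (nat_lit 132) (nat_lit 114) .nil) (nat_lit 1045) (nat_lit 133)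
  (nat_lit 1585) (.node .nil (nat_lit 1058) (nat_lit 157) (nat_lit 633) .nil)) (nat_lit 1059) (nat_lit 141)
  (nat_lit 1250) (.node (.node (.node .nil (nat_lit 1060) (nat_lit 139) (nat_lit 1318) .nil) (nat_lit 1061)
  (nat_lit 132) (nat_lit 615) .nil) (nat_lit 1062) (nat_lit 157) (nat_lit 1114) (.node .nil (nat_lit 1063)
  (nat_lit 142) (nat_lit 1410) .nil)))))))
def l1t_4 : T := (.node (.node (.node (.node (.node (.node (.node (.node .nil (nat_lit 1065) (nat_lit 154)
  (nat_lit 1139) .nil) (nat_lit 1066) (nat_lit 133) (nat_lit 1318) .nil) (nat_lit 1067) (nat_lit 133) (nat_lit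
  890) (.node (.node .nil (nat_lit 1068) (nat_lit 138) (nat_lit 1637) .nil) (nat_lit 1069) (nat_lit 100)
  (nat_lit 1141) .nil)) (nat_lit 1070) (nat_lit 132) (nat_lit 1689) (.node (.node (.node .nil (nat_lit 1071)
  (nat_lit 141) (nat_lit 360) .nil) (nat_lit 1072) (nat_lit 150) (nat_lit 510) .nil) (nat_lit 1073) (nat_lit
  153) (nat_lit 1515) (.node .nil (nat_lit 1074) (nat_lit 127) (nat_lit 901) .nil))) (nat_lit 1075) (nat_lit
  138) (nat_lit 1609) (.node (.node (.node (.node .nil (nat_lit 1076) (nat_lit 131) (nat_lit 1482) .nil)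
  (nat_lit 1077) (nat_lit 133) (nat_lit 1310) .nil) (nat_lit 1078) (nat_lit 139) (nat_lit 1218) (.node (.node
  .nil (nat_lit 1079) (nat_lit 139) (nat_lit 1177) .nil) (nat_lit 1080) (nat_lit 139) (nat_lit 641) .nil))
  (nat_lit 1081) (nat_lit 137) (nat_lit 637) (.node (.node (.node .nil (nat_lit 1082) (nat_lit 157) (nat_lit
  1139) .nil) (nat_lit 1083) (nat_lit 157) (nat_lit 1431) .nil) (nat_lit 1084) (nat_lit 141) (nat_lit 1252)
  (.node .nil (nat_lit 1085) (nat_lit 159) (nat_lit 1442) .nil)))) (nat_lit 1086) (nat_lit 153) (nat_lit 1708)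
  (.node (.node (.node (.node (.node .nil (nat_lit 1087) (nat_lit 135) (nat_lit 1434) .nil) (nat_lit 1088)
  (nat_lit 143) (nat_lit 541) .nil) (nat_lit 1089) (nat_lit 138) (nat_lit 1217) (.node (.node .nil (nat_lit
  1090) (nat_lit 157) (nat_lit 450) .nil) (nat_lit 1091) (nat_lit 154) (nat_lit 1224) .nil)) (nat_lit 1092)
  (nat_lit 154) (nat_lit 1066) (.node (.node (.node .nil (nat_lit 1093) (nat_lit 159) (nat_lit 1079) .nil)
  (nat_lit 1094) (nat_lit 158) (nat_lit 1234) .nil) (nat_lit 1095) (nat_lit 148) (nat_lit 1736) (.node .nil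
  (nat_lit 1096) (nat_lit 148) (nat_lit 516) .nil))) (nat_lit 1097) (nat_lit 157) (nat_lit 1432) (.node (.node
  (.node (.node .nil (nat_lit 1098) (nat_lit 157) (nat_lit 1066) .nil) (nat_lit 1099) (nat_lit 142) (nat_lit
  1403) .nil) (nat_lit 1100) (nat_lit 157) (nat_lit 1352) (.node .nil (nat_lit 1101) (nat_lit 141) (nat_lit
  363) .nil)) (nat_lit 1102) (nat_lit 159) (nat_lit 1149) (.node (.node (.node .nil (nat_lit 1103) (nat_lit
  157) (nat_lit 359) .nil) (nat_lit 1104) (nat_lit 138) (nat_lit 1410) .nil) (nat_lit 1105) (nat_lit 143)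
  (nat_lit 1403) (.node .nil (nat_lit 1106) (nat_lit 139) (nat_lit 1636) .nil))))) (nat_lit 1107) (nat_lit
  153) (nat_lit 1685) (.node (.node (.node (.node (.node (.node .nil (nat_lit 1108) (nat_lit 133) (nat_lit
  1493) .nil) (nat_lit 1109) (nat_lit 138) (nat_lit 1194) .nil) (nat_lit 1110) (nat_lit 133) (nat_lit 588)
  (.node (.node .nil (nat_lit 1111) (nat_lit 116) (nat_lit 1324) .nil) (nat_lit 1112) (nat_lit 154) (nat_lit
  1639) .nil)) (nat_lit 1113) (nat_lit 138) (nat_lit 857) (.node (.node (.node .nil (nat_lit 1114) (nat_lit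
  135) (nat_lit 281) .nil) (nat_lit 1115) (nat_lit 120) (nat_lit 1508) .nil) (nat_lit 1116) (nat_lit 132)
  (nat_lit 542) (.node .nil (nat_lit 1117) (nat_lit 138) (nat_lit 1607) .nil))) (nat_lit 1118) (nat_lit 116)
  (nat_lit 1355) (.node (.node (.node (.node .nil (nat_lit 1119) (nat_lit 149) (nat_lit 1275) .nil) (nat_lit
  1120) (nat_lit 138) (nat_lit 887) .nil) (nat_lit 1121) (nat_lit 119) (nat_lit 277) (.node (.node .nil
  (nat_lit 1122) (nat_lit 117) (nat_lit 1488) .nil) (nat_lit 1123) (nat_lit 138) (nat_lit 1237) .nil))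
  (nat_lit 1124) (nat_lit 149) (nat_lit 624) (.node (.node (.node .nil (nat_lit 1125) (nat_lit 139) (nat_lit
  1217) .nil) (nat_lit 1126) (nat_lit 155) (nat_lit 1088) .nil) (nat_lit 1127) (nat_lit 123) (nat_lit 1143)
  (.node .nil (nat_lit 1128) (nat_lit 153) (nat_lit 1154) .nil)))) (nat_lit 1129) (nat_lit 127) (nat_lit 77)
  (.node (.node (.node (.node (.node .nil (nat_lit 1130) (nat_lit 143) (nat_lit 793) .nil) (nat_lit 1131)
  (nat_lit 154) (nat_lit 1353) .nil) (nat_lit 1132) (nat_lit 137) (nat_lit 1657) (.node (.node .nil (nat_lit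
  1133) (nat_lit 139) (nat_lit 856) .nil) (nat_lit 1134) (nat_lit 121) (nat_lit 1174) .nil)) (nat_lit 1135)
  (nat_lit 123) (nat_lit 1191) (.node (.node (.node .nil (nat_lit 1136) (nat_lit 143) (nat_lit 792) .nil)
  (nat_lit 1137) (nat_lit 139) (nat_lit 1593) .nil) (nat_lit 1138) (nat_lit 123) (nat_lit 737) (.node .nil
  (nat_lit 1139) (nat_lit 136) (nat_lit 1433) .nil))) (nat_lit 1140) (nat_lit 133) (nat_lit 1228) (.node
  (.node (.node (.node .nil (nat_lit 1141) (nat_lit 95) (nat_lit 76) .nil) (nat_lit 1142) (nat_lit 141)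
  (nat_lit 1609) .nil) (nat_lit 1143) (nat_lit 111) (nat_lit 178) (.node .nil (nat_lit 1144) (nat_lit 143)
  (nat_lit 906) .nil)) (nat_lit 1145) (nat_lit 150) (nat_lit 1301) (.node (.node (.node .nil (nat_lit 1146)
  (nat_lit 133) (nat_lit 363) .nil) (nat_lit 1147) (nat_lit 118) (nat_lit 1069) .nil) (nat_lit 1148) (nat_lit
  141) (nat_lit 1336) (.node .nil (nat_lit 1149) (nat_lit 139) (nat_lit 536) .nil)))))) (nat_lit 1150)
  (nat_lit 155) (nat_lit 736) (.node (.node (.node (.node (.node (.node (.node .nil (nat_lit 1151) (nat_lit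
  154) (nat_lit 1234) .nil) (nat_lit 1152) (nat_lit 141) (nat_lit 1255) .nil) (nat_lit 1153) (nat_lit 137)
  (nat_lit 557) (.node (.node .nil (nat_lit 1154) (nat_lit 141) (nat_lit 1035) .nil) (nat_lit 1155) (nat_lit
  151) (nat_lit 510) .nil)) (nat_lit 1156) (nat_lit 149) (nat_lit 507) (.node (.node (.node .nil (nat_lit
  1157) (nat_lit 158) (nat_lit 1305) .nil) (nat_lit 1158) (nat_lit 157) (nat_lit 1438) .nil) (nat_lit 1159)
  (nat_lit 138) (nat_lit 454) (.node .nil (nat_lit 1160) (nat_lit 127) (nat_lit 70) .nil))) (nat_lit 1161)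
  (nat_lit 143) (nat_lit 664) (.node (.node (.node (.node .nil (nat_lit 1162) (nat_lit 148) (nat_lit 1393)
  .nil) (nat_lit 1163) (nat_lit 139) (nat_lit 1496) .nil) (nat_lit 1164) (nat_lit 139) (nat_lit 588) (.node
  (.node .nil (nat_lit 1165) (nat_lit 141) (nat_lit 281) .nil) (nat_lit 1166) (nat_lit 153) (nat_lit 1728)
  .nil)) (nat_lit 1167) (nat_lit 143) (nat_lit 663) (.node (.node (.node .nil (nat_lit 1168) (nat_lit 154)
  (nat_lit 1034) .nil) (nat_lit 1169) (nat_lit 138) (nat_lit 535) .nil) (nat_lit 1170) (nat_lit 113) (nat_lit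
  627) (.node .nil (nat_lit 1171) (nat_lit 136) (nat_lit 1678) .nil)))) (nat_lit 1172) (nat_lit 155) (nat_lit
  1176) (.node (.node (.node (.node (.node .nil (nat_lit 1173) (nat_lit 137) (nat_lit 1433) .nil) (nat_lit
  1174) (nat_lit 107) (nat_lit 1141) .nil) (nat_lit 1175) (nat_lit 130) (nat_lit 1518) (.node (.node .nil
  (nat_lit 1176) (nat_lit 138) (nat_lit 465) .nil) (nat_lit 1177) (nat_lit 116) (nat_lit 622) .nil)) (nat_lit
  1178) (nat_lit 134) (nat_lit 1675) (.node (.node (.node .nil (nat_lit 1179) (nat_lit 143) (nat_lit 934)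
  .nil) (nat_lit 1180) (nat_lit 150) (nat_lit 1414) .nil) (nat_lit 1181) (nat_lit 159) (nat_lit 711) (.node
  .nil (nat_lit 1182) (nat_lit 155) (nat_lit 1611) .nil))) (nat_lit 1183) (nat_lit 155) (nat_lit 1612) (.node
  (.node (.node (.node .nil (nat_lit 1184) (nat_lit 142) (nat_lit 518) .nil) (nat_lit 1185) (nat_lit 142)
  (nat_lit 653) .nil) (nat_lit 1186) (nat_lit 157) (nat_lit 1323) (.node .nil (nat_lit 1187) (nat_lit 141)
  (nat_lit 543) .nil)) (nat_lit 1188) (nat_lit 157) (nat_lit 1130) (.node (.node (.node .nil (nat_lit 1189)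
  (nat_lit 136) (nat_lit 1586) .nil) (nat_lit 1190) (nat_lit 136) (nat_lit 1585) .nil) (nat_lit 1191) (nat_lit
  111) (nat_lit 378) (.node .nil (nat_lit 1192) (nat_lit 119) (nat_lit 1671) .nil))))) (nat_lit 1193) (nat_lit
  143) (nat_lit 954) (.node (.node (.node (.node (.node (.node .nil (nat_lit 1194) (nat_lit 117) (nat_lit
  1508) .nil) (nat_lit 1195) (nat_lit 154) (nat_lit 1110) .nil) (nat_lit 1196) (nat_lit 137) (nat_lit 1464)
  (.node (.node .nil (nat_lit 1197) (nat_lit 152) (nat_lit 1613) .nil) (nat_lit 1198) (nat_lit 136) (nat_lit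
  1659) .nil)) (nat_lit 1199) (nat_lit 139) (nat_lit 857) (.node (.node (.node .nil (nat_lit 1200) (nat_lit
  155) (nat_lit 640) .nil) (nat_lit 1201) (nat_lit 141) (nat_lit 1177) .nil) (nat_lit 1202) (nat_lit 139)
  (nat_lit 1385) (.node .nil (nat_lit 1203) (nat_lit 118) (nat_lit 1174) .nil))) (nat_lit 1204) (nat_lit 139)
  (nat_lit 1474) (.node (.node (.node (.node .nil (nat_lit 1205) (nat_lit 157) (nat_lit 1179) .nil) (nat_lit
  1206) (nat_lit 137) (nat_lit 257) .nil) (nat_lit 1207) (nat_lit 123) (nat_lit 1597) (.node .nil (nat_lit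
  1208) (nat_lit 139) (nat_lit 1598) .nil)) (nat_lit 1209) (nat_lit 133) (nat_lit 1134) (.node (.node (.node
  .nil (nat_lit 1210) (nat_lit 139) (nat_lit 1492) .nil) (nat_lit 1211) (nat_lit 139) (nat_lit 1237) .nil)
  (nat_lit 1212) (nat_lit 139) (nat_lit 1238) (.node .nil (nat_lit 1213) (nat_lit 136) (nat_lit 1657) .nil))))
  (nat_lit 1214) (nat_lit 139) (nat_lit 1122) (.node (.node (.node (.node (.node .nil (nat_lit 1215) (nat_lit
  139) (nat_lit 887) .nil) (nat_lit 1216) (nat_lit 132) (nat_lit 613) .nil) (nat_lit 1217) (nat_lit 127)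
  (nat_lit 251) (.node (.node .nil (nat_lit 1218) (nat_lit 127) (nat_lit 763) .nil) (nat_lit 1219) (nat_lit
  154) (nat_lit 1179) .nil)) (nat_lit 1220) (nat_lit 153) (nat_lit 577) (.node (.node (.node .nil (nat_lit
  1221) (nat_lit 135) (nat_lit 1675) .nil) (nat_lit 1222) (nat_lit 138) (nat_lit 856) .nil) (nat_lit 1223)
  (nat_lit 143) (nat_lit 986) (.node .nil (nat_lit 1224) (nat_lit 143) (nat_lit 926) .nil))) (nat_lit 1225)
  (nat_lit 138) (nat_lit 1192) (.node (.node (.node (.node .nil (nat_lit 1226) (nat_lit 133) (nat_lit 1203)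
  .nil) (nat_lit 1227) (nat_lit 139) (nat_lit 587) .nil) (nat_lit 1228) (nat_lit 123) (nat_lit 1488) (.node
  .nil (nat_lit 1229) (nat_lit 139) (nat_lit 1609) .nil)) (nat_lit 1230) (nat_lit 133) (nat_lit 1138) (.node
  (.node (.node .nil (nat_lit 1231) (nat_lit 139) (nat_lit 1310) .nil) (nat_lit 1232) (nat_lit 137) (nat_lit
  1775) .nil) (nat_lit 1233) (nat_lit 132) (nat_lit 1434) (.node .nil (nat_lit 1234) (nat_lit 132) (nat_lit
  1433) .nil)))))))
def l1t_5 : T := (.node (.node (.node (.node (.node (.node (.node (.node .nil (nat_lit 1236) (nat_lit 138)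
  (nat_lit 1122) .nil) (nat_lit 1237) (nat_lit 127) (nat_lit 914) .nil) (nat_lit 1238) (nat_lit 121) (nat_lit
  1491) (.node (.node .nil (nat_lit 1239) (nat_lit 127) (nat_lit 448) .nil) (nat_lit 1240) (nat_lit 127)
  (nat_lit 199) .nil)) (nat_lit 1241) (nat_lit 152) (nat_lit 1476) (.node (.node (.node .nil (nat_lit 1242)
  (nat_lit 152) (nat_lit 606) .nil) (nat_lit 1243) (nat_lit 153) (nat_lit 1613) .nil) (nat_lit 1244) (nat_lit
  137) (nat_lit 1659) (.node .nil (nat_lit 1245) (nat_lit 139) (nat_lit 1239) .nil))) (nat_lit 1246) (nat_lit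
  139) (nat_lit 1240) (.node (.node (.node (.node .nil (nat_lit 1247) (nat_lit 154) (nat_lit 1044) .nil)
  (nat_lit 1248) (nat_lit 157) (nat_lit 1446) .nil) (nat_lit 1249) (nat_lit 142) (nat_lit 114) (.node (.node
  .nil (nat_lit 1250) (nat_lit 127) (nat_lit 726) .nil) (nat_lit 1251) (nat_lit 155) (nat_lit 1437) .nil))
  (nat_lit 1252) (nat_lit 118) (nat_lit 627) (.node (.node (.node .nil (nat_lit 1253) (nat_lit 155) (nat_lit
  1440) .nil) (nat_lit 1254) (nat_lit 159) (nat_lit 1125) .nil) (nat_lit 1255) (nat_lit 127) (nat_lit 179)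
  (.node .nil (nat_lit 1256) (nat_lit 154) (nat_lit 1445) .nil)))) (nat_lit 1257) (nat_lit 152) (nat_lit 1685)
  (.node (.node (.node (.node (.node .nil (nat_lit 1258) (nat_lit 136) (nat_lit 1689) .nil) (nat_lit 1259)
  (nat_lit 132) (nat_lit 614) .nil) (nat_lit 1260) (nat_lit 138) (nat_lit 1441) (.node (.node .nil (nat_lit
  1261) (nat_lit 152) (nat_lit 1686) .nil) (nat_lit 1262) (nat_lit 138) (nat_lit 888) .nil)) (nat_lit 1263)
  (nat_lit 138) (nat_lit 550) (.node (.node (.node .nil (nat_lit 1264) (nat_lit 143) (nat_lit 600) .nil)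
  (nat_lit 1265) (nat_lit 134) (nat_lit 1332) .nil) (nat_lit 1266) (nat_lit 138) (nat_lit 1240) (.node .nil
  (nat_lit 1267) (nat_lit 143) (nat_lit 984) .nil))) (nat_lit 1268) (nat_lit 159) (nat_lit 1415) (.node (.node
  (.node (.node .nil (nat_lit 1269) (nat_lit 142) (nat_lit 1127) .nil) (nat_lit 1270) (nat_lit 141) (nat_lit
  324) .nil) (nat_lit 1271) (nat_lit 116) (nat_lit 1671) (.node .nil (nat_lit 1272) (nat_lit 133) (nat_lit
  550) .nil)) (nat_lit 1273) (nat_lit 141) (nat_lit 1444) (.node (.node (.node .nil (nat_lit 1274) (nat_lit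
  127) (nat_lit 418) .nil) (nat_lit 1275) (nat_lit 138) (nat_lit 1497) .nil) (nat_lit 1276) (nat_lit 136)
  (nat_lit 114) (.node .nil (nat_lit 1277) (nat_lit 137) (nat_lit 1207) .nil))))) (nat_lit 1278) (nat_lit 139)
  (nat_lit 1666) (.node (.node (.node (.node (.node (.node .nil (nat_lit 1279) (nat_lit 139) (nat_lit 1680)
  .nil) (nat_lit 1280) (nat_lit 134) (nat_lit 1428) .nil) (nat_lit 1281) (nat_lit 155) (nat_lit 577) (.node
  (.node .nil (nat_lit 1282) (nat_lit 141) (nat_lit 1194) .nil) (nat_lit 1283) (nat_lit 157) (nat_lit 1260)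
  .nil)) (nat_lit 1284) (nat_lit 159) (nat_lit 1453) (.node (.node (.node .nil (nat_lit 1285) (nat_lit 159)
  (nat_lit 633) .nil) (nat_lit 1286) (nat_lit 157) (nat_lit 1378) .nil) (nat_lit 1287) (nat_lit 139) (nat_lit
  1586) (.node .nil (nat_lit 1288) (nat_lit 139) (nat_lit 1585) .nil))) (nat_lit 1289) (nat_lit 157) (nat_lit
  1362) (.node (.node (.node (.node .nil (nat_lit 1290) (nat_lit 141) (nat_lit 1369) .nil) (nat_lit 1291)
  (nat_lit 150) (nat_lit 1543) .nil) (nat_lit 1292) (nat_lit 159) (nat_lit 1423) (.node (.node .nil (nat_lit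
  1293) (nat_lit 155) (nat_lit 1262) .nil) (nat_lit 1294) (nat_lit 155) (nat_lit 1263) .nil)) (nat_lit 1295)
  (nat_lit 149) (nat_lit 555) (.node (.node (.node .nil (nat_lit 1296) (nat_lit 134) (nat_lit 1689) .nil)
  (nat_lit 1297) (nat_lit 157) (nat_lit 1448) .nil) (nat_lit 1298) (nat_lit 157) (nat_lit 1445) (.node .nil
  (nat_lit 1299) (nat_lit 139) (nat_lit 570) .nil)))) (nat_lit 1300) (nat_lit 135) (nat_lit 557) (.node (.node
  (.node (.node (.node .nil (nat_lit 1301) (nat_lit 139) (nat_lit 1274) .nil) (nat_lit 1302) (nat_lit 139)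
  (nat_lit 554) .nil) (nat_lit 1303) (nat_lit 141) (nat_lit 483) (.node (.node .nil (nat_lit 1304) (nat_lit
  149) (nat_lit 1439) .nil) (nat_lit 1305) (nat_lit 139) (nat_lit 1484) .nil)) (nat_lit 1306) (nat_lit 143)
  (nat_lit 329) (.node (.node (.node .nil (nat_lit 1307) (nat_lit 137) (nat_lit 348) .nil) (nat_lit 1308)
  (nat_lit 138) (nat_lit 542) .nil) (nat_lit 1309) (nat_lit 138) (nat_lit 1336) (.node .nil (nat_lit 1310)
  (nat_lit 127) (nat_lit 446) .nil))) (nat_lit 1311) (nat_lit 113) (nat_lit 1491) (.node (.node (.node (.node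
  .nil (nat_lit 1312) (nat_lit 134) (nat_lit 119) .nil) (nat_lit 1313) (nat_lit 135) (nat_lit 1618) .nil)
  (nat_lit 1314) (nat_lit 141) (nat_lit 1492) (.node .nil (nat_lit 1315) (nat_lit 138) (nat_lit 1318) .nil))
  (nat_lit 1316) (nat_lit 138) (nat_lit 543) (.node (.node (.node .nil (nat_lit 1317) (nat_lit 143) (nat_lit
  668) .nil) (nat_lit 1318) (nat_lit 119) (nat_lit 1356) .nil) (nat_lit 1319) (nat_lit 141) (nat_lit 279)
  (.node .nil (nat_lit 1320) (nat_lit 155) (nat_lit 1682) .nil)))))) (nat_lit 1321) (nat_lit 141) (nat_lit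
  1474) (.node (.node (.node (.node (.node (.node (.node .nil (nat_lit 1322) (nat_lit 133) (nat_lit 1217)
  .nil) (nat_lit 1323) (nat_lit 143) (nat_lit 974) .nil) (nat_lit 1324) (nat_lit 111) (nat_lit 71) (.node
  (.node .nil (nat_lit 1325) (nat_lit 111) (nat_lit 107) .nil) (nat_lit 1326) (nat_lit 149) (nat_lit 283)
  .nil)) (nat_lit 1327) (nat_lit 159) (nat_lit 342) (.node (.node (.node .nil (nat_lit 1328) (nat_lit 159)
  (nat_lit 299) .nil) (nat_lit 1329) (nat_lit 137) (nat_lit 329) .nil) (nat_lit 1330) (nat_lit 138) (nat_lit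
  483) (.node .nil (nat_lit 1331) (nat_lit 143) (nat_lit 959) .nil))) (nat_lit 1332) (nat_lit 127) (nat_lit
  419) (.node (.node (.node (.node .nil (nat_lit 1333) (nat_lit 136) (nat_lit 614) .nil) (nat_lit 1334)
  (nat_lit 137) (nat_lit 613) .nil) (nat_lit 1335) (nat_lit 127) (nat_lit 770) (.node (.node .nil (nat_lit
  1336) (nat_lit 127) (nat_lit 672) .nil) (nat_lit 1337) (nat_lit 138) (nat_lit 505) .nil)) (nat_lit 1338)
  (nat_lit 138) (nat_lit 1147) (.node (.node (.node .nil (nat_lit 1339) (nat_lit 122) (nat_lit 1356) .nil)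
  (nat_lit 1340) (nat_lit 122) (nat_lit 1355) .nil) (nat_lit 1341) (nat_lit 143) (nat_lit 722) (.node .nil
  (nat_lit 1342) (nat_lit 156) (nat_lit 278) .nil)))) (nat_lit 1343) (nat_lit 114) (nat_lit 1371) (.node
  (.node (.node (.node (.node .nil (nat_lit 1344) (nat_lit 153) (nat_lit 453) .nil) (nat_lit 1345) (nat_lit
  132) (nat_lit 1127) .nil) (nat_lit 1346) (nat_lit 155) (nat_lit 1683) (.node (.node .nil (nat_lit 1347)
  (nat_lit 135) (nat_lit 1450) .nil) (nat_lit 1348) (nat_lit 141) (nat_lit 1607) .nil)) (nat_lit 1349)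
  (nat_lit 148) (nat_lit 633) (.node (.node (.node .nil (nat_lit 1350) (nat_lit 155) (nat_lit 1521) .nil)
  (nat_lit 1351) (nat_lit 151) (nat_lit 1415) .nil) (nat_lit 1352) (nat_lit 136) (nat_lit 613) (.node .nil
  (nat_lit 1353) (nat_lit 143) (nat_lit 420) .nil))) (nat_lit 1354) (nat_lit 143) (nat_lit 323) (.node (.node
  (.node (.node .nil (nat_lit 1355) (nat_lit 111) (nat_lit 33) .nil) (nat_lit 1356) (nat_lit 111) (nat_lit
  108) .nil) (nat_lit 1357) (nat_lit 141) (nat_lit 280) (.node .nil (nat_lit 1358) (nat_lit 157) (nat_lit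
  1034) .nil)) (nat_lit 1359) (nat_lit 153) (nat_lit 1152) (.node (.node (.node .nil (nat_lit 1360) (nat_lit
  150) (nat_lit 439) .nil) (nat_lit 1361) (nat_lit 156) (nat_lit 1290) .nil) (nat_lit 1362) (nat_lit 143)
  (nat_lit 673) (.node .nil (nat_lit 1363) (nat_lit 122) (nat_lit 737) .nil))))) (nat_lit 1364) (nat_lit 143)
  (nat_lit 973) (.node (.node (.node (.node (.node (.node .nil (nat_lit 1365) (nat_lit 117) (nat_lit 1143)
  .nil) (nat_lit 1366) (nat_lit 132) (nat_lit 1675) .nil) (nat_lit 1367) (nat_lit 133) (nat_lit 315) (.node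
  (.node .nil (nat_lit 1368) (nat_lit 140) (nat_lit 280) .nil) (nat_lit 1369) (nat_lit 116) (nat_lit 1597)
  .nil)) (nat_lit 1370) (nat_lit 136) (nat_lit 329) (.node (.node (.node .nil (nat_lit 1371) (nat_lit 106)
  (nat_lit 1141) .nil) (nat_lit 1372) (nat_lit 125) (nat_lit 1355) .nil) (nat_lit 1373) (nat_lit 122) (nat_lit
  1324) (.node .nil (nat_lit 1374) (nat_lit 122) (nat_lit 1325) .nil))) (nat_lit 1375) (nat_lit 133) (nat_lit
  313) (.node (.node (.node (.node .nil (nat_lit 1376) (nat_lit 133) (nat_lit 314) .nil) (nat_lit 1377)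
  (nat_lit 132) (nat_lit 1594) .nil) (nat_lit 1378) (nat_lit 134) (nat_lit 536) (.node .nil (nat_lit 1379)
  (nat_lit 154) (nat_lit 1377) .nil)) (nat_lit 1380) (nat_lit 132) (nat_lit 1493) (.node (.node (.node .nil
  (nat_lit 1381) (nat_lit 138) (nat_lit 1369) .nil) (nat_lit 1382) (nat_lit 143) (nat_lit 518) .nil) (nat_lit
  1383) (nat_lit 143) (nat_lit 653) (.node .nil (nat_lit 1384) (nat_lit 141) (nat_lit 291) .nil)))) (nat_lit
  1385) (nat_lit 127) (nat_lit 773) (.node (.node (.node (.node (.node .nil (nat_lit 1386) (nat_lit 138)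
  (nat_lit 870) .nil) (nat_lit 1387) (nat_lit 138) (nat_lit 1271) .nil) (nat_lit 1388) (nat_lit 133) (nat_lit
  1218) (.node (.node .nil (nat_lit 1389) (nat_lit 155) (nat_lit 1225) .nil) (nat_lit 1390) (nat_lit 139)
  (nat_lit 823) .nil)) (nat_lit 1391) (nat_lit 142) (nat_lit 1207) (.node (.node (.node .nil (nat_lit 1392)
  (nat_lit 152) (nat_lit 510) .nil) (nat_lit 1393) (nat_lit 138) (nat_lit 1134) .nil) (nat_lit 1394) (nat_lit
  159) (nat_lit 1276) (.node .nil (nat_lit 1395) (nat_lit 155) (nat_lit 1190) .nil))) (nat_lit 1396) (nat_lit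
  157) (nat_lit 1537) (.node (.node (.node (.node .nil (nat_lit 1397) (nat_lit 143) (nat_lit 1228) .nil)
  (nat_lit 1398) (nat_lit 143) (nat_lit 1135) .nil) (nat_lit 1399) (nat_lit 141) (nat_lit 255) (.node .nil
  (nat_lit 1400) (nat_lit 125) (nat_lit 277) .nil)) (nat_lit 1401) (nat_lit 152) (nat_lit 516) (.node (.node
  (.node .nil (nat_lit 1402) (nat_lit 152) (nat_lit 517) .nil) (nat_lit 1403) (nat_lit 123) (nat_lit 1069)
  .nil) (nat_lit 1404) (nat_lit 132) (nat_lit 1645) (.node .nil (nat_lit 1405) (nat_lit 149) (nat_lit 453)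
  .nil)))))))
def l1t_6 : T := (.node (.node (.node (.node (.node (.node (.node (.node .nil (nat_lit 1407) (nat_lit 133)
  (nat_lit 1207) .nil) (nat_lit 1408) (nat_lit 150) (nat_lit 409) .nil) (nat_lit 1409) (nat_lit 139) (nat_lit
  1111) (.node (.node .nil (nat_lit 1410) (nat_lit 116) (nat_lit 1174) .nil) (nat_lit 1411) (nat_lit 138)
  (nat_lit 653) .nil)) (nat_lit 1412) (nat_lit 139) (nat_lit 324) (.node (.node (.node .nil (nat_lit 1413)
  (nat_lit 139) (nat_lit 323) .nil) (nat_lit 1414) (nat_lit 133) (nat_lit 1689) .nil) (nat_lit 1415) (nat_lit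
  139) (nat_lit 589) (.node .nil (nat_lit 1416) (nat_lit 136) (nat_lit 310) .nil))) (nat_lit 1417) (nat_lit
  141) (nat_lit 535) (.node (.node (.node (.node .nil (nat_lit 1418) (nat_lit 139) (nat_lit 807) .nil)
  (nat_lit 1419) (nat_lit 133) (nat_lit 1127) .nil) (nat_lit 1420) (nat_lit 130) (nat_lit 1450) (.node (.node
  .nil (nat_lit 1421) (nat_lit 139) (nat_lit 1479) .nil) (nat_lit 1422) (nat_lit 152) (nat_lit 303) .nil))
  (nat_lit 1423) (nat_lit 139) (nat_lit 1365) (.node (.node (.node .nil (nat_lit 1424) (nat_lit 141) (nat_lit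
  313) .nil) (nat_lit 1425) (nat_lit 149) (nat_lit 567) .nil) (nat_lit 1426) (nat_lit 137) (nat_lit 114)
  (.node .nil (nat_lit 1427) (nat_lit 141) (nat_lit 1122) .nil)))) (nat_lit 1428) (nat_lit 123) (nat_lit 1508)
  (.node (.node (.node (.node (.node .nil (nat_lit 1429) (nat_lit 154) (nat_lit 1472) .nil) (nat_lit 1430)
  (nat_lit 143) (nat_lit 966) .nil) (nat_lit 1431) (nat_lit 134) (nat_lit 1775) (.node (.node .nil (nat_lit
  1432) (nat_lit 138) (nat_lit 1255) .nil) (nat_lit 1433) (nat_lit 123) (nat_lit 1356) .nil)) (nat_lit 1434)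
  (nat_lit 123) (nat_lit 1355) (.node (.node (.node .nil (nat_lit 1435) (nat_lit 138) (nat_lit 1629) .nil)
  (nat_lit 1436) (nat_lit 152) (nat_lit 299) .nil) (nat_lit 1437) (nat_lit 138) (nat_lit 1252) (.node .nil
  (nat_lit 1438) (nat_lit 139) (nat_lit 1250) .nil))) (nat_lit 1439) (nat_lit 139) (nat_lit 1252) (.node
  (.node (.node (.node .nil (nat_lit 1440) (nat_lit 134) (nat_lit 1518) .nil) (nat_lit 1441) (nat_lit 116)
  (nat_lit 617) .nil) (nat_lit 1442) (nat_lit 139) (nat_lit 1441) (.node .nil (nat_lit 1443) (nat_lit 139)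
  (nat_lit 1444) .nil)) (nat_lit 1444) (nat_lit 127) (nat_lit 662) (.node (.node (.node .nil (nat_lit 1445)
  (nat_lit 143) (nat_lit 930) .nil) (nat_lit 1446) (nat_lit 132) (nat_lit 310) .nil) (nat_lit 1447) (nat_lit
  149) (nat_lit 1232) (.node .nil (nat_lit 1448) (nat_lit 132) (nat_lit 620) .nil))))) (nat_lit 1449) (nat_lit
  141) (nat_lit 1218) (.node (.node (.node (.node (.node (.node .nil (nat_lit 1450) (nat_lit 123) (nat_lit
  1491) .nil) (nat_lit 1451) (nat_lit 135) (nat_lit 257) .nil) (nat_lit 1452) (nat_lit 133) (nat_lit 1135)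
  (.node (.node .nil (nat_lit 1453) (nat_lit 141) (nat_lit 465) .nil) (nat_lit 1454) (nat_lit 125) (nat_lit
  1143) .nil)) (nat_lit 1455) (nat_lit 136) (nat_lit 1717) (.node (.node (.node .nil (nat_lit 1456) (nat_lit
  138) (nat_lit 1646) .nil) (nat_lit 1457) (nat_lit 115) (nat_lit 1371) .nil) (nat_lit 1458) (nat_lit 152)
  (nat_lit 1225) (.node .nil (nat_lit 1459) (nat_lit 143) (nat_lit 767) .nil))) (nat_lit 1460) (nat_lit 127)
  (nat_lit 424) (.node (.node (.node (.node .nil (nat_lit 1461) (nat_lit 154) (nat_lit 806) .nil) (nat_lit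
  1462) (nat_lit 143) (nat_lit 981) .nil) (nat_lit 1463) (nat_lit 117) (nat_lit 1191) (.node (.node .nil
  (nat_lit 1464) (nat_lit 125) (nat_lit 737) .nil) (nat_lit 1465) (nat_lit 152) (nat_lit 1612) .nil)) (nat_lit
  1466) (nat_lit 135) (nat_lit 329) (.node (.node (.node .nil (nat_lit 1467) (nat_lit 127) (nat_lit 423) .nil)
  (nat_lit 1468) (nat_lit 103) (nat_lit 1141) .nil) (nat_lit 1469) (nat_lit 141) (nat_lit 1680) (.node .nil
  (nat_lit 1470) (nat_lit 134) (nat_lit 1339) .nil)))) (nat_lit 1471) (nat_lit 143) (nat_lit 975) (.node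
  (.node (.node (.node (.node .nil (nat_lit 1472) (nat_lit 133) (nat_lit 1255) .nil) (nat_lit 1473) (nat_lit
  138) (nat_lit 554) .nil) (nat_lit 1474) (nat_lit 118) (nat_lit 1325) (.node (.node .nil (nat_lit 1475)
  (nat_lit 143) (nat_lit 601) .nil) (nat_lit 1476) (nat_lit 135) (nat_lit 1339) .nil)) (nat_lit 1477) (nat_lit
  157) (nat_lit 591) (.node (.node (.node .nil (nat_lit 1478) (nat_lit 141) (nat_lit 1463) .nil) (nat_lit
  1479) (nat_lit 120) (nat_lit 1491) .nil) (nat_lit 1480) (nat_lit 127) (nat_lit 373) (.node .nil (nat_lit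
  1481) (nat_lit 138) (nat_lit 1496) .nil))) (nat_lit 1482) (nat_lit 122) (nat_lit 1491) (.node (.node (.node
  (.node .nil (nat_lit 1483) (nat_lit 133) (nat_lit 1192) .nil) (nat_lit 1484) (nat_lit 116) (nat_lit 627)
  .nil) (nat_lit 1485) (nat_lit 149) (nat_lit 1432) (.node .nil (nat_lit 1486) (nat_lit 141) (nat_lit 1666)
  .nil)) (nat_lit 1487) (nat_lit 132) (nat_lit 364) (.node (.node (.node .nil (nat_lit 1488) (nat_lit 111)
  (nat_lit 133) .nil) (nat_lit 1489) (nat_lit 138) (nat_lit 1584) .nil) (nat_lit 1490) (nat_lit 133) (nat_lit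
  823) (.node .nil (nat_lit 1491) (nat_lit 111) (nat_lit 777) .nil)))))) (nat_lit 1492) (nat_lit 127) (nat_lit
  784) (.node (.node (.node (.node (.node (.node (.node .nil (nat_lit 1493) (nat_lit 122) (nat_lit 1597) .nil)
  (nat_lit 1494) (nat_lit 138) (nat_lit 1274) .nil) (nat_lit 1495) (nat_lit 133) (nat_lit 1250) (.node (.node
  .nil (nat_lit 1496) (nat_lit 127) (nat_lit 786) .nil) (nat_lit 1497) (nat_lit 127) (nat_lit 252) .nil))
  (nat_lit 1498) (nat_lit 134) (nat_lit 372) (.node (.node (.node .nil (nat_lit 1499) (nat_lit 138) (nat_lit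
  1480) .nil) (nat_lit 1500) (nat_lit 138) (nat_lit 1479) .nil) (nat_lit 1501) (nat_lit 136) (nat_lit 570)
  (.node .nil (nat_lit 1502) (nat_lit 133) (nat_lit 1240) .nil))) (nat_lit 1503) (nat_lit 133) (nat_lit 1239)
  (.node (.node (.node (.node .nil (nat_lit 1504) (nat_lit 138) (nat_lit 589) .nil) (nat_lit 1505) (nat_lit
  138) (nat_lit 1460) .nil) (nat_lit 1506) (nat_lit 138) (nat_lit 1365) (.node (.node .nil (nat_lit 1507)
  (nat_lit 133) (nat_lit 625) .nil) (nat_lit 1508) (nat_lit 111) (nat_lit 790) .nil)) (nat_lit 1509) (nat_lit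
  113) (nat_lit 1508) (.node (.node (.node .nil (nat_lit 1510) (nat_lit 134) (nat_lit 329) .nil) (nat_lit
  1511) (nat_lit 136) (nat_lit 1635) .nil) (nat_lit 1512) (nat_lit 138) (nat_lit 1678) (.node .nil (nat_lit
  1513) (nat_lit 141) (nat_lit 1365) .nil)))) (nat_lit 1514) (nat_lit 133) (nat_lit 620) (.node (.node (.node
  (.node (.node .nil (nat_lit 1515) (nat_lit 141) (nat_lit 628) .nil) (nat_lit 1516) (nat_lit 137) (nat_lit
  323) .nil) (nat_lit 1517) (nat_lit 138) (nat_lit 632) (.node (.node .nil (nat_lit 1518) (nat_lit 122)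
  (nat_lit 627) .nil) (nat_lit 1519) (nat_lit 153) (nat_lit 1234) .nil)) (nat_lit 1520) (nat_lit 141) (nat_lit
  350) (.node (.node (.node .nil (nat_lit 1521) (nat_lit 143) (nat_lit 987) .nil) (nat_lit 1522) (nat_lit 135)
  (nat_lit 1637) .nil) (nat_lit 1535) (nat_lit 148) (nat_lit 1296) (.node .nil (nat_lit 1536) (nat_lit 154)
  (nat_lit 1537) .nil))) (nat_lit 1537) (nat_lit 132) (nat_lit 1207) (.node (.node (.node (.node .nil (nat_lit
  1538) (nat_lit 152) (nat_lit 1234) .nil) (nat_lit 1539) (nat_lit 155) (nat_lit 1338) .nil) (nat_lit 1540)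
  (nat_lit 155) (nat_lit 1380) (.node .nil (nat_lit 1541) (nat_lit 148) (nat_lit 1031) .nil)) (nat_lit 1542)
  (nat_lit 157) (nat_lit 1173) (.node (.node (.node .nil (nat_lit 1543) (nat_lit 143) (nat_lit 257) .nil)
  (nat_lit 1544) (nat_lit 159) (nat_lit 305) .nil) (nat_lit 1545) (nat_lit 149) (nat_lit 137) (.node .nil
  (nat_lit 1546) (nat_lit 159) (nat_lit 287) .nil))))) (nat_lit 1547) (nat_lit 137) (nat_lit 1127) (.node
  (.node (.node (.node (.node (.node .nil (nat_lit 1548) (nat_lit 155) (nat_lit 1323) .nil) (nat_lit 1549)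
  (nat_lit 155) (nat_lit 1377) .nil) (nat_lit 1550) (nat_lit 155) (nat_lit 1362) (.node (.node .nil (nat_lit
  1551) (nat_lit 120) (nat_lit 129) .nil) (nat_lit 1552) (nat_lit 121) (nat_lit 763) .nil)) (nat_lit 1553)
  (nat_lit 123) (nat_lit 782) (.node (.node (.node .nil (nat_lit 1554) (nat_lit 121) (nat_lit 726) .nil)
  (nat_lit 1555) (nat_lit 132) (nat_lit 795) .nil) (nat_lit 1556) (nat_lit 122) (nat_lit 976) (.node .nil
  (nat_lit 1557) (nat_lit 123) (nat_lit 504) .nil))) (nat_lit 1558) (nat_lit 116) (nat_lit 770) (.node (.node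
  (.node (.node .nil (nat_lit 1575) (nat_lit 139) (nat_lit 1336) .nil) (nat_lit 1576) (nat_lit 139) (nat_lit
  1335) .nil) (nat_lit 1577) (nat_lit 139) (nat_lit 1147) (.node .nil (nat_lit 1578) (nat_lit 139) (nat_lit
  505) .nil)) (nat_lit 1579) (nat_lit 153) (nat_lit 633) (.node (.node (.node .nil (nat_lit 1580) (nat_lit
  139) (nat_lit 1332) .nil) (nat_lit 1581) (nat_lit 136) (nat_lit 1410) .nil) (nat_lit 1582) (nat_lit 139)
  (nat_lit 483) (.node .nil (nat_lit 1583) (nat_lit 141) (nat_lit 1618) .nil)))) (nat_lit 1584) (nat_lit 127)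
  (nat_lit 771) (.node (.node (.node (.node (.node .nil (nat_lit 1585) (nat_lit 122) (nat_lit 1488) .nil)
  (nat_lit 1586) (nat_lit 119) (nat_lit 1371) .nil) (nat_lit 1587) (nat_lit 143) (nat_lit 1551) (.node (.node
  .nil (nat_lit 1588) (nat_lit 143) (nat_lit 787) .nil) (nat_lit 1589) (nat_lit 138) (nat_lit 587) .nil))
  (nat_lit 1590) (nat_lit 122) (nat_lit 1468) (.node (.node (.node .nil (nat_lit 1591) (nat_lit 148) (nat_lit
  283) .nil) (nat_lit 1592) (nat_lit 150) (nat_lit 258) .nil) (nat_lit 1593) (nat_lit 127) (nat_lit 89) (.node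
  .nil (nat_lit 1594) (nat_lit 118) (nat_lit 1356) .nil))) (nat_lit 1595) (nat_lit 153) (nat_lit 1437) (.node
  (.node (.node (.node .nil (nat_lit 1596) (nat_lit 138) (nat_lit 1492) .nil) (nat_lit 1597) (nat_lit 111)
  (nat_lit 248) .nil) (nat_lit 1598) (nat_lit 113) (nat_lit 1597) (.node .nil (nat_lit 1599) (nat_lit 137)
  (nat_lit 1457) .nil)) (nat_lit 1600) (nat_lit 137) (nat_lit 1518) (.node (.node (.node .nil (nat_lit 1601)
  (nat_lit 148) (nat_lit 606) .nil) (nat_lit 1602) (nat_lit 143) (nat_lit 1636) .nil) (nat_lit 1603) (nat_lit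
  134) (nat_lit 1237) (.node .nil (nat_lit 1604) (nat_lit 143) (nat_lit 922) .nil)))))))
def l1t_7 : T := (.node (.node (.node (.node (.node (.node (.node (.node .nil (nat_lit 1606) (nat_lit 132)
  (nat_lit 1343) .nil) (nat_lit 1607) (nat_lit 117) (nat_lit 737) .nil) (nat_lit 1608) (nat_lit 133) (nat_lit
  870) (.node (.node .nil (nat_lit 1609) (nat_lit 118) (nat_lit 277) .nil) (nat_lit 1610) (nat_lit 133)
  (nat_lit 1474) .nil)) (nat_lit 1611) (nat_lit 132) (nat_lit 1339) (.node (.node (.node .nil (nat_lit 1612)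
  (nat_lit 138) (nat_lit 536) .nil) (nat_lit 1613) (nat_lit 139) (nat_lit 1129) .nil) (nat_lit 1614) (nat_lit
  134) (nat_lit 890) (.node .nil (nat_lit 1615) (nat_lit 132) (nat_lit 1252) .nil))) (nat_lit 1616) (nat_lit
  141) (nat_lit 118) (.node (.node (.node (.node .nil (nat_lit 1617) (nat_lit 141) (nat_lit 345) .nil)
  (nat_lit 1618) (nat_lit 127) (nat_lit 905) .nil) (nat_lit 1619) (nat_lit 135) (nat_lit 1636) (.node (.node
  .nil (nat_lit 1620) (nat_lit 127) (nat_lit 504) .nil) (nat_lit 1621) (nat_lit 143) (nat_lit 931) .nil))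
  (nat_lit 1622) (nat_lit 127) (nat_lit 935) (.node (.node (.node .nil (nat_lit 1623) (nat_lit 143) (nat_lit
  445) .nil) (nat_lit 1624) (nat_lit 137) (nat_lit 1675) .nil) (nat_lit 1625) (nat_lit 132) (nat_lit 1585)
  (.node .nil (nat_lit 1626) (nat_lit 138) (nat_lit 345) .nil)))) (nat_lit 1627) (nat_lit 134) (nat_lit 857)
  (.node (.node (.node (.node (.node .nil (nat_lit 1628) (nat_lit 143) (nat_lit 659) .nil) (nat_lit 1629)
  (nat_lit 118) (nat_lit 1508) .nil) (nat_lit 1630) (nat_lit 139) (nat_lit 1339) (.node (.node .nil (nat_lit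
  1631) (nat_lit 157) (nat_lit 117) .nil) (nat_lit 1632) (nat_lit 136) (nat_lit 323) .nil)) (nat_lit 1633)
  (nat_lit 136) (nat_lit 324) (.node (.node (.node .nil (nat_lit 1634) (nat_lit 157) (nat_lit 340) .nil)
  (nat_lit 1635) (nat_lit 116) (nat_lit 1371) .nil) (nat_lit 1636) (nat_lit 122) (nat_lit 1069) (.node .nil
  (nat_lit 1637) (nat_lit 117) (nat_lit 1597) .nil))) (nat_lit 1638) (nat_lit 133) (nat_lit 1598) (.node
  (.node (.node (.node .nil (nat_lit 1639) (nat_lit 133) (nat_lit 1594) .nil) (nat_lit 1640) (nat_lit 133)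
  (nat_lit 1593) .nil) (nat_lit 1641) (nat_lit 138) (nat_lit 449) (.node .nil (nat_lit 1642) (nat_lit 132)
  (nat_lit 1374) .nil)) (nat_lit 1643) (nat_lit 153) (nat_lit 1149) (.node (.node (.node .nil (nat_lit 1644)
  (nat_lit 136) (nat_lit 1127) .nil) (nat_lit 1645) (nat_lit 123) (nat_lit 1324) .nil) (nat_lit 1646) (nat_lit
  127) (nat_lit 182) (.node .nil (nat_lit 1647) (nat_lit 127) (nat_lit 66) .nil))))) (nat_lit 1648) (nat_lit
  133) (nat_lit 613) (.node (.node (.node (.node (.node (.node .nil (nat_lit 1649) (nat_lit 159) (nat_lit 298)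
  .nil) (nat_lit 1650) (nat_lit 159) (nat_lit 333) .nil) (nat_lit 1651) (nat_lit 138) (nat_lit 1666) (.node
  (.node .nil (nat_lit 1652) (nat_lit 135) (nat_lit 1464) .nil) (nat_lit 1653) (nat_lit 143) (nat_lit 739)
  .nil)) (nat_lit 1654) (nat_lit 143) (nat_lit 444) (.node (.node (.node .nil (nat_lit 1655) (nat_lit 135)
  (nat_lit 1482) .nil) (nat_lit 1656) (nat_lit 132) (nat_lit 1134) .nil) (nat_lit 1657) (nat_lit 123) (nat_lit
  1325) (.node .nil (nat_lit 1658) (nat_lit 141) (nat_lit 327) .nil))) (nat_lit 1659) (nat_lit 114) (nat_lit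
  1174) (.node (.node (.node (.node .nil (nat_lit 1660) (nat_lit 132) (nat_lit 625) .nil) (nat_lit 1661)
  (nat_lit 138) (nat_lit 1170) .nil) (nat_lit 1662) (nat_lit 134) (nat_lit 1274) (.node .nil (nat_lit 1663)
  (nat_lit 133) (nat_lit 615) .nil)) (nat_lit 1664) (nat_lit 151) (nat_lit 1504) (.node (.node (.node .nil
  (nat_lit 1665) (nat_lit 143) (nat_lit 539) .nil) (nat_lit 1666) (nat_lit 127) (nat_lit 898) .nil) (nat_lit
  1667) (nat_lit 157) (nat_lit 1322) (.node .nil (nat_lit 1668) (nat_lit 154) (nat_lit 630) .nil)))) (nat_lit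
  1669) (nat_lit 143) (nat_lit 348) (.node (.node (.node (.node (.node .nil (nat_lit 1670) (nat_lit 143)
  (nat_lit 324) .nil) (nat_lit 1671) (nat_lit 111) (nat_lit 195) .nil) (nat_lit 1672) (nat_lit 127) (nat_lit
  28) (.node (.node .nil (nat_lit 1673) (nat_lit 133) (nat_lit 614) .nil) (nat_lit 1674) (nat_lit 133)
  (nat_lit 621) .nil)) (nat_lit 1675) (nat_lit 122) (nat_lit 1671) (.node (.node (.node .nil (nat_lit 1676)
  (nat_lit 138) (nat_lit 1672) .nil) (nat_lit 1677) (nat_lit 133) (nat_lit 616) .nil) (nat_lit 1678) (nat_lit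
  117) (nat_lit 617) (.node .nil (nat_lit 1679) (nat_lit 132) (nat_lit 465) .nil))) (nat_lit 1680) (nat_lit
  116) (nat_lit 1143) (.node (.node (.node (.node .nil (nat_lit 1681) (nat_lit 141) (nat_lit 1496) .nil)
  (nat_lit 1682) (nat_lit 138) (nat_lit 1618) .nil) (nat_lit 1683) (nat_lit 143) (nat_lit 985) (.node .nil
  (nat_lit 1684) (nat_lit 141) (nat_lit 1675) .nil)) (nat_lit 1685) (nat_lit 141) (nat_lit 1160) (.node (.node
  (.node .nil (nat_lit 1686) (nat_lit 141) (nat_lit 1672) .nil) (nat_lit 1687) (nat_lit 143) (nat_lit 1434)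
  .nil) (nat_lit 1688) (nat_lit 139) (nat_lit 1343) (.node .nil (nat_lit 1689) (nat_lit 125) (nat_lit 1671)
  .nil)))))) (nat_lit 1690) (nat_lit 159) (nat_lit 1714) (.node (.node (.node (.node (.node (.node (.node .nil
  (nat_lit 1691) (nat_lit 157) (nat_lit 331) .nil) (nat_lit 1692) (nat_lit 157) (nat_lit 122) .nil) (nat_lit
  1693) (nat_lit 155) (nat_lit 1306) (.node (.node .nil (nat_lit 1694) (nat_lit 136) (nat_lit 1203) .nil)
  (nat_lit 1695) (nat_lit 139) (nat_lit 1647) .nil)) (nat_lit 1696) (nat_lit 158) (nat_lit 1044) (.node (.node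
  (.node .nil (nat_lit 1697) (nat_lit 152) (nat_lit 1296) .nil) (nat_lit 1698) (nat_lit 155) (nat_lit 1600)
  .nil) (nat_lit 1699) (nat_lit 158) (nat_lit 1079) (.node .nil (nat_lit 1702) (nat_lit 115) (nat_lit 1174)
  .nil))) (nat_lit 1703) (nat_lit 152) (nat_lit 452) (.node (.node (.node (.node .nil (nat_lit 1704) (nat_lit
  133) (nat_lit 557) .nil) (nat_lit 1705) (nat_lit 152) (nat_lit 1084) .nil) (nat_lit 1706) (nat_lit 138)
  (nat_lit 1702) (.node (.node .nil (nat_lit 1707) (nat_lit 143) (nat_lit 637) .nil) (nat_lit 1708) (nat_lit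
  139) (nat_lit 628) .nil)) (nat_lit 1709) (nat_lit 133) (nat_lit 310) (.node (.node (.node .nil (nat_lit
  1710) (nat_lit 153) (nat_lit 1164) .nil) (nat_lit 1711) (nat_lit 139) (nat_lit 118) .nil) (nat_lit 1712)
  (nat_lit 153) (nat_lit 439) (.node .nil (nat_lit 1713) (nat_lit 153) (nat_lit 1101) .nil)))) (nat_lit 1714)
  (nat_lit 132) (nat_lit 1228) (.node (.node (.node (.node (.node .nil (nat_lit 1715) (nat_lit 155) (nat_lit
  1604) .nil) (nat_lit 1716) (nat_lit 139) (nat_lit 1678) .nil) (nat_lit 1717) (nat_lit 123) (nat_lit 1671)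
  (.node (.node .nil (nat_lit 1718) (nat_lit 159) (nat_lit 1613) .nil) (nat_lit 1719) (nat_lit 142) (nat_lit
  1434) .nil)) (nat_lit 1720) (nat_lit 137) (nat_lit 1400) (.node (.node (.node .nil (nat_lit 1721) (nat_lit
  149) (nat_lit 561) .nil) (nat_lit 1722) (nat_lit 141) (nat_lit 1717) .nil) (nat_lit 1723) (nat_lit 152)
  (nat_lit 1152) (.node .nil (nat_lit 1724) (nat_lit 148) (nat_lit 1290) .nil))) (nat_lit 1725) (nat_lit 142)
  (nat_lit 1775) (.node (.node (.node (.node .nil (nat_lit 1726) (nat_lit 131) (nat_lit 1433) .nil) (nat_lit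
  1727) (nat_lit 136) (nat_lit 1207) .nil) (nat_lit 1728) (nat_lit 130) (nat_lit 1775) (.node .nil (nat_lit
  1729) (nat_lit 152) (nat_lit 1137) .nil)) (nat_lit 1730) (nat_lit 154) (nat_lit 1709) (.node (.node (.node
  .nil (nat_lit 1731) (nat_lit 152) (nat_lit 1154) .nil) (nat_lit 1732) (nat_lit 142) (nat_lit 1433) .nil)
  (nat_lit 1733) (nat_lit 147) (nat_lit 1630) (.node .nil (nat_lit 1734) (nat_lit 151) (nat_lit 1152)
  .nil))))) (nat_lit 1735) (nat_lit 159) (nat_lit 409) (.node (.node (.node (.node (.node (.node .nil (nat_lit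
  1736) (nat_lit 141) (nat_lit 1637) .nil) (nat_lit 1737) (nat_lit 158) (nat_lit 713) .nil) (nat_lit 1738)
  (nat_lit 151) (nat_lit 1154) (.node (.node .nil (nat_lit 1739) (nat_lit 151) (nat_lit 1059) .nil) (nat_lit
  1740) (nat_lit 159) (nat_lit 406) .nil)) (nat_lit 1741) (nat_lit 157) (nat_lit 1639) (.node (.node (.node
  .nil (nat_lit 1742) (nat_lit 139) (nat_lit 350) .nil) (nat_lit 1743) (nat_lit 153) (nat_lit 1165) .nil)
  (nat_lit 1744) (nat_lit 135) (nat_lit 1134) (.node .nil (nat_lit 1745) (nat_lit 155) (nat_lit 349) .nil)))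
  (nat_lit 1746) (nat_lit 159) (nat_lit 1658) (.node (.node (.node (.node .nil (nat_lit 1747) (nat_lit 139)
  (nat_lit 327) .nil) (nat_lit 1748) (nat_lit 139) (nat_lit 1622) .nil) (nat_lit 1749) (nat_lit 136) (nat_lit
  1454) (.node .nil (nat_lit 1750) (nat_lit 155) (nat_lit 331) .nil)) (nat_lit 1751) (nat_lit 152) (nat_lit
  1031) (.node (.node (.node .nil (nat_lit 1753) (nat_lit 150) (nat_lit 1258) .nil) (nat_lit 1754) (nat_lit
  137) (nat_lit 1228) .nil) (nat_lit 1755) (nat_lit 139) (nat_lit 1646) (.node .nil (nat_lit 1756) (nat_lit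
  133) (nat_lit 114) .nil)))) (nat_lit 1757) (nat_lit 159) (nat_lit 1709) (.node (.node (.node (.node (.node
  .nil (nat_lit 1758) (nat_lit 155) (nat_lit 332) .nil) (nat_lit 1759) (nat_lit 139) (nat_lit 1620) .nil)
  (nat_lit 1760) (nat_lit 136) (nat_lit 1450) (.node (.node .nil (nat_lit 1761) (nat_lit 155) (nat_lit 117)
  .nil) (nat_lit 1762) (nat_lit 153) (nat_lit 1227) .nil)) (nat_lit 1763) (nat_lit 151) (nat_lit 1070) (.node
  (.node (.node .nil (nat_lit 1764) (nat_lit 155) (nat_lit 1624) .nil) (nat_lit 1767) (nat_lit 72) (nat_lit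
  256) .nil) (nat_lit 1768) (nat_lit 72) (nat_lit 92) (.node .nil (nat_lit 1769) (nat_lit 73) (nat_lit 256)
  .nil))) (nat_lit 1770) (nat_lit 73) (nat_lit 92) (.node (.node (.node (.node .nil (nat_lit 1773) (nat_lit
  132) (nat_lit 1400) .nil) (nat_lit 1774) (nat_lit 149) (nat_lit 1736) .nil) (nat_lit 1775) (nat_lit 123)
  (nat_lit 627) (.node .nil (nat_lit 1776) (nat_lit 139) (nat_lit 632) .nil)) (nat_lit 1777) (nat_lit 72)
  (nat_lit 528) (.node (.node (.node .nil (nat_lit 1778) (nat_lit 56) (nat_lit 652) .nil) (nat_lit 1779)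
  (nat_lit 73) (nat_lit 528) .nil) (nat_lit 1780) (nat_lit 57) (nat_lit 652) (.node .nil (nat_lit 1781)
  (nat_lit 0) (nat_lit 1781) .nil)))))))
def l1t : T := (.node (.node (.node l1t_0 (nat_lit 310) (nat_lit 123) (nat_lit 617) l1t_1) (nat_lit 519)
  (nat_lit 139) (nat_lit 314) (.node l1t_2 (nat_lit 730) (nat_lit 120) (nat_lit 493) l1t_3)) (nat_lit 1064)
  (nat_lit 158) (nat_lit 1149) (.node (.node l1t_4 (nat_lit 1235) (nat_lit 139) (nat_lit 1584) l1t_5) (nat_lit
  1406) (nat_lit 139) (nat_lit 1637) (.node l1t_6 (nat_lit 1605) (nat_lit 138) (nat_lit 1074) l1t_7)))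
def l1 : Lvl := ⟨nat_lit 1781, [nat_lit 1, nat_lit 2, nat_lit 3, nat_lit 4, nat_lit 5, nat_lit 6, nat_lit 7,
  nat_lit 8, nat_lit 9, nat_lit 10, nat_lit 11, nat_lit 12, nat_lit 13, nat_lit 15, nat_lit 22, nat_lit 24],
  [], l1t⟩
def lA2t_0 : T := (.node (.node (.node (.node (.node (.node (.node (.node .nil (nat_lit 112) (nat_lit 84)
  (nat_lit 400) .nil) (nat_lit 113) (nat_lit 99) (nat_lit 296) .nil) (nat_lit 114) (nat_lit 113) (nat_lit
  1756) (.node .nil (nat_lit 117) (nat_lit 116) (nat_lit 1761) .nil)) (nat_lit 118) (nat_lit 84) (nat_lit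
  1711) (.node (.node .nil (nat_lit 119) (nat_lit 66) (nat_lit 255) .nil) (nat_lit 120) (nat_lit 99) (nat_lit
  329) (.node .nil (nat_lit 121) (nat_lit 64) (nat_lit 1511) .nil))) (nat_lit 122) (nat_lit 84) (nat_lit 1760)
  (.node (.node (.node .nil (nat_lit 132) (nat_lit 116) (nat_lit 523) .nil) (nat_lit 137) (nat_lit 80)
  (nat_lit 1269) (.node .nil (nat_lit 138) (nat_lit 83) (nat_lit 337) .nil)) (nat_lit 153) (nat_lit 66)
  (nat_lit 1337) (.node (.node .nil (nat_lit 154) (nat_lit 65) (nat_lit 1632) .nil) (nat_lit 155) (nat_lit 65)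
  (nat_lit 1633) (.node .nil (nat_lit 159) (nat_lit 83) (nat_lit 339) .nil)))) (nat_lit 160) (nat_lit 64)
  (nat_lit 1245) (.node (.node (.node (.node .nil (nat_lit 162) (nat_lit 52) (nat_lit 322) .nil) (nat_lit 254)
  (nat_lit 114) (nat_lit 271) (.node .nil (nat_lit 255) (nat_lit 51) (nat_lit 323) .nil)) (nat_lit 257)
  (nat_lit 115) (nat_lit 517) (.node (.node .nil (nat_lit 258) (nat_lit 100) (nat_lit 335) .nil) (nat_lit 267)
  (nat_lit 98) (nat_lit 1338) (.node .nil (nat_lit 268) (nat_lit 84) (nat_lit 321) .nil))) (nat_lit 269)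
  (nat_lit 83) (nat_lit 351) (.node (.node (.node .nil (nat_lit 270) (nat_lit 100) (nat_lit 275) .nil)
  (nat_lit 271) (nat_lit 100) (nat_lit 399) (.node .nil (nat_lit 272) (nat_lit 64) (nat_lit 1479) .nil))
  (nat_lit 273) (nat_lit 100) (nat_lit 269) (.node (.node .nil (nat_lit 274) (nat_lit 116) (nat_lit 407) .nil)
  (nat_lit 275) (nat_lit 81) (nat_lit 1728) (.node .nil (nat_lit 276) (nat_lit 115) (nat_lit 562) .nil)))))
  (nat_lit 277) (nat_lit 17) (nat_lit 1141) (.node (.node (.node (.node (.node .nil (nat_lit 278) (nat_lit 80)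
  (nat_lit 550) .nil) (nat_lit 279) (nat_lit 81) (nat_lit 1332) (.node .nil (nat_lit 280) (nat_lit 100)
  (nat_lit 403) .nil)) (nat_lit 281) (nat_lit 100) (nat_lit 409) (.node (.node .nil (nat_lit 282) (nat_lit
  116) (nat_lit 526) .nil) (nat_lit 283) (nat_lit 113) (nat_lit 1326) (.node .nil (nat_lit 284) (nat_lit 113)
  (nat_lit 1306) .nil))) (nat_lit 285) (nat_lit 99) (nat_lit 278) (.node (.node (.node .nil (nat_lit 286)
  (nat_lit 96) (nat_lit 1263) .nil) (nat_lit 287) (nat_lit 116) (nat_lit 120) (.node .nil (nat_lit 288)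
  (nat_lit 115) (nat_lit 559) .nil)) (nat_lit 289) (nat_lit 113) (nat_lit 1703) (.node (.node .nil (nat_lit
  290) (nat_lit 84) (nat_lit 339) .nil) (nat_lit 291) (nat_lit 84) (nat_lit 654) (.node .nil (nat_lit 292)
  (nat_lit 52) (nat_lit 653) .nil)))) (nat_lit 293) (nat_lit 84) (nat_lit 351) (.node (.node (.node (.node
  .nil (nat_lit 294) (nat_lit 114) (nat_lit 280) .nil) (nat_lit 295) (nat_lit 114) (nat_lit 1343) (.node .nil
  (nat_lit 296) (nat_lit 80) (nat_lit 1500) .nil)) (nat_lit 297) (nat_lit 83) (nat_lit 272) (.node (.node .nil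
  (nat_lit 298) (nat_lit 98) (nat_lit 1435) .nil) (nat_lit 299) (nat_lit 98) (nat_lit 1436) (.node .nil
  (nat_lit 300) (nat_lit 97) (nat_lit 1379) .nil))) (nat_lit 301) (nat_lit 97) (nat_lit 1370) (.node (.node
  (.node .nil (nat_lit 302) (nat_lit 114) (nat_lit 1308) .nil) (nat_lit 303) (nat_lit 83) (nat_lit 557) (.node
  .nil (nat_lit 304) (nat_lit 80) (nat_lit 1443) .nil)) (nat_lit 305) (nat_lit 80) (nat_lit 1212) (.node
  (.node .nil (nat_lit 306) (nat_lit 66) (nat_lit 1231) .nil) (nat_lit 307) (nat_lit 84) (nat_lit 119) (.node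
  .nil (nat_lit 308) (nat_lit 52) (nat_lit 344) .nil)))))) (nat_lit 309) (nat_lit 115) (nat_lit 560) (.node
  (.node (.node (.node (.node (.node .nil (nat_lit 310) (nat_lit 112) (nat_lit 1446) .nil) (nat_lit 311)
  (nat_lit 66) (nat_lit 318) (.node .nil (nat_lit 312) (nat_lit 98) (nat_lit 317) .nil)) (nat_lit 313)
  (nat_lit 129) (nat_lit 1375) (.node (.node .nil (nat_lit 314) (nat_lit 131) (nat_lit 283) .nil) (nat_lit
  315) (nat_lit 132) (nat_lit 650) (.node .nil (nat_lit 316) (nat_lit 132) (nat_lit 649) .nil))) (nat_lit 317)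
  (nat_lit 83) (nat_lit 321) (.node (.node (.node .nil (nat_lit 318) (nat_lit 51) (nat_lit 322) .nil) (nat_lit
  319) (nat_lit 84) (nat_lit 337) (.node .nil (nat_lit 320) (nat_lit 81) (nat_lit 1309) .nil)) (nat_lit 321)
  (nat_lit 66) (nat_lit 1372) (.node (.node .nil (nat_lit 322) (nat_lit 34) (nat_lit 1371) .nil) (nat_lit 323)
  (nat_lit 33) (nat_lit 1371) (.node .nil (nat_lit 324) (nat_lit 35) (nat_lit 277) .nil)))) (nat_lit 325)
  (nat_lit 68) (nat_lit 1411) (.node (.node (.node (.node .nil (nat_lit 326) (nat_lit 68) (nat_lit 1414) .nil)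
  (nat_lit 327) (nat_lit 100) (nat_lit 1747) (.node .nil (nat_lit 328) (nat_lit 64) (nat_lit 1510) .nil))
  (nat_lit 329) (nat_lit 81) (nat_lit 631) (.node (.node .nil (nat_lit 330) (nat_lit 66) (nat_lit 292) .nil)
  (nat_lit 331) (nat_lit 114) (nat_lit 327) (.node .nil (nat_lit 332) (nat_lit 82) (nat_lit 1518) .nil)))
  (nat_lit 333) (nat_lit 51) (nat_lit 344) (.node (.node (.node .nil (nat_lit 334) (nat_lit 132) (nat_lit 257)
  .nil) (nat_lit 335) (nat_lit 80) (nat_lit 1294) (.node .nil (nat_lit 336) (nat_lit 80) (nat_lit 1181) .nil))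
  (nat_lit 337) (nat_lit 66) (nat_lit 1159) (.node (.node .nil (nat_lit 338) (nat_lit 83) (nat_lit 160) .nil)
  (nat_lit 339) (nat_lit 65) (nat_lit 1160) (.node .nil (nat_lit 340) (nat_lit 84) (nat_lit 1749) .nil)))))
  (nat_lit 341) (nat_lit 82) (nat_lit 1661) (.node (.node (.node (.node (.node .nil (nat_lit 342) (nat_lit 80)
  (nat_lit 1038) .nil) (nat_lit 343) (nat_lit 116) (nat_lit 517) (.node .nil (nat_lit 344) (nat_lit 34)
  (nat_lit 277) .nil)) (nat_lit 345) (nat_lit 96) (nat_lit 587) (.node (.node .nil (nat_lit 346) (nat_lit 100)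
  (nat_lit 1746) .nil) (nat_lit 347) (nat_lit 84) (nat_lit 306) (.node .nil (nat_lit 348) (nat_lit 116)
  (nat_lit 516) .nil))) (nat_lit 349) (nat_lit 100) (nat_lit 1745) (.node (.node (.node .nil (nat_lit 350)
  (nat_lit 81) (nat_lit 1665) .nil) (nat_lit 351) (nat_lit 64) (nat_lit 891) (.node .nil (nat_lit 352)
  (nat_lit 82) (nat_lit 1443) .nil)) (nat_lit 353) (nat_lit 99) (nat_lit 335) (.node (.node .nil (nat_lit 354)
  (nat_lit 84) (nat_lit 311) .nil) (nat_lit 355) (nat_lit 68) (nat_lit 318) (.node .nil (nat_lit 356) (nat_lit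
  96) (nat_lit 1246) .nil)))) (nat_lit 357) (nat_lit 84) (nat_lit 803) (.node (.node (.node (.node .nil
  (nat_lit 358) (nat_lit 84) (nat_lit 804) .nil) (nat_lit 359) (nat_lit 100) (nat_lit 521) (.node .nil
  (nat_lit 360) (nat_lit 100) (nat_lit 405) .nil)) (nat_lit 361) (nat_lit 84) (nat_lit 800) (.node (.node .nil
  (nat_lit 362) (nat_lit 84) (nat_lit 805) .nil) (nat_lit 363) (nat_lit 100) (nat_lit 525) (.node .nil
  (nat_lit 364) (nat_lit 100) (nat_lit 410) .nil))) (nat_lit 365) (nat_lit 131) (nat_lit 295) (.node (.node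
  (.node .nil (nat_lit 366) (nat_lit 131) (nat_lit 302) .nil) (nat_lit 367) (nat_lit 97) (nat_lit 1333) (.node
  .nil (nat_lit 368) (nat_lit 99) (nat_lit 279) .nil)) (nat_lit 369) (nat_lit 115) (nat_lit 300) (.node (.node
  .nil (nat_lit 370) (nat_lit 113) (nat_lit 1377) .nil) (nat_lit 371) (nat_lit 100) (nat_lit 389) (.node .nil
  (nat_lit 372) (nat_lit 100) (nat_lit 390) .nil)))))))
def lA2t_1 : T := (.node (.node (.node (.node (.node (.node (.node .nil (nat_lit 390) (nat_lit 83) (nat_lit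
  400) .nil) (nat_lit 391) (nat_lit 116) (nat_lit 300) (.node .nil (nat_lit 392) (nat_lit 116) (nat_lit 301)
  .nil)) (nat_lit 393) (nat_lit 81) (nat_lit 1544) (.node (.node .nil (nat_lit 394) (nat_lit 83) (nat_lit 404)
  .nil) (nat_lit 395) (nat_lit 113) (nat_lit 1541) (.node .nil (nat_lit 396) (nat_lit 113) (nat_lit 1536)
  .nil))) (nat_lit 397) (nat_lit 131) (nat_lit 395) (.node (.node (.node .nil (nat_lit 398) (nat_lit 129)
  (nat_lit 1549) .nil) (nat_lit 399) (nat_lit 82) (nat_lit 819) (.node .nil (nat_lit 400) (nat_lit 65)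
  (nat_lit 1580) .nil)) (nat_lit 401) (nat_lit 132) (nat_lit 369) (.node (.node .nil (nat_lit 402) (nat_lit
  132) (nat_lit 370) .nil) (nat_lit 403) (nat_lit 82) (nat_lit 1212) (.node .nil (nat_lit 404) (nat_lit 65)
  (nat_lit 1581) .nil)))) (nat_lit 405) (nat_lit 83) (nat_lit 803) (.node (.node (.node (.node .nil (nat_lit
  406) (nat_lit 84) (nat_lit 272) .nil) (nat_lit 407) (nat_lit 97) (nat_lit 1693) (.node .nil (nat_lit 408)
  (nat_lit 97) (nat_lit 1162) .nil)) (nat_lit 409) (nat_lit 80) (nat_lit 1421) (.node (.node .nil (nat_lit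
  410) (nat_lit 83) (nat_lit 800) .nil) (nat_lit 437) (nat_lit 83) (nat_lit 1427) (.node .nil (nat_lit 438)
  (nat_lit 113) (nat_lit 1400) .nil))) (nat_lit 439) (nat_lit 100) (nat_lit 890) (.node (.node (.node .nil
  (nat_lit 440) (nat_lit 84) (nat_lit 1393) .nil) (nat_lit 441) (nat_lit 132) (nat_lit 1095) (.node .nil
  (nat_lit 442) (nat_lit 100) (nat_lit 1606) .nil)) (nat_lit 449) (nat_lit 52) (nat_lit 1410) (.node (.node
  .nil (nat_lit 450) (nat_lit 132) (nat_lit 1197) .nil) (nat_lit 451) (nat_lit 52) (nat_lit 1635) (.node .nil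
  (nat_lit 452) (nat_lit 100) (nat_lit 870) .nil))))) (nat_lit 453) (nat_lit 100) (nat_lit 1594) (.node (.node
  (.node (.node (.node .nil (nat_lit 454) (nat_lit 34) (nat_lit 1174) .nil) (nat_lit 455) (nat_lit 97)
  (nat_lit 1164) (.node .nil (nat_lit 456) (nat_lit 100) (nat_lit 869) .nil)) (nat_lit 465) (nat_lit 99)
  (nat_lit 1176) (.node (.node .nil (nat_lit 473) (nat_lit 82) (nat_lit 1515) .nil) (nat_lit 474) (nat_lit 81)
  (nat_lit 1396) (.node .nil (nat_lit 475) (nat_lit 82) (nat_lit 1169) .nil))) (nat_lit 482) (nat_lit 67)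
  (nat_lit 1372) (.node (.node (.node .nil (nat_lit 483) (nat_lit 82) (nat_lit 1161) .nil) (nat_lit 484)
  (nat_lit 81) (nat_lit 1760) (.node .nil (nat_lit 505) (nat_lit 67) (nat_lit 1337) .nil)) (nat_lit 507)
  (nat_lit 83) (nat_lit 1227) (.node (.node .nil (nat_lit 508) (nat_lit 81) (nat_lit 1443) .nil) (nat_lit 510)
  (nat_lit 100) (nat_lit 329) (.node .nil (nat_lit 511) (nat_lit 100) (nat_lit 159) .nil)))) (nat_lit 512)
  (nat_lit 83) (nat_lit 306) (.node (.node (.node (.node .nil (nat_lit 513) (nat_lit 84) (nat_lit 153) .nil)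
  (nat_lit 514) (nat_lit 68) (nat_lit 333) (.node .nil (nat_lit 515) (nat_lit 82) (nat_lit 1289) .nil))
  (nat_lit 516) (nat_lit 99) (nat_lit 275) (.node (.node .nil (nat_lit 517) (nat_lit 97) (nat_lit 1707) .nil)
  (nat_lit 518) (nat_lit 36) (nat_lit 277) (.node .nil (nat_lit 519) (nat_lit 113) (nat_lit 1519) .nil)))
  (nat_lit 520) (nat_lit 96) (nat_lit 991) (.node (.node (.node .nil (nat_lit 521) (nat_lit 83) (nat_lit 804)
  .nil) (nat_lit 522) (nat_lit 98) (nat_lit 1133) (.node .nil (nat_lit 523) (nat_lit 97) (nat_lit 1690) .nil))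
  (nat_lit 524) (nat_lit 97) (nat_lit 648) (.node (.node .nil (nat_lit 525) (nat_lit 83) (nat_lit 805) .nil)
  (nat_lit 526) (nat_lit 98) (nat_lit 1135) (.node .nil (nat_lit 530) (nat_lit 115) (nat_lit 408) .nil))))))
  (nat_lit 531) (nat_lit 68) (nat_lit 255) (.node (.node (.node (.node (.node (.node .nil (nat_lit 532)
  (nat_lit 99) (nat_lit 409) .nil) (nat_lit 533) (nat_lit 80) (nat_lit 1738) (.node .nil (nat_lit 534)
  (nat_lit 83) (nat_lit 634) .nil)) (nat_lit 535) (nat_lit 52) (nat_lit 454) (.node (.node .nil (nat_lit 536)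
  (nat_lit 100) (nat_lit 1149) .nil) (nat_lit 537) (nat_lit 83) (nat_lit 1121) (.node .nil (nat_lit 538)
  (nat_lit 116) (nat_lit 1033) .nil))) (nat_lit 542) (nat_lit 115) (nat_lit 1308) (.node (.node (.node .nil
  (nat_lit 543) (nat_lit 100) (nat_lit 1547) .nil) (nat_lit 544) (nat_lit 97) (nat_lit 1712) (.node .nil
  (nat_lit 545) (nat_lit 99) (nat_lit 1172) .nil)) (nat_lit 546) (nat_lit 112) (nat_lit 1649) (.node (.node
  .nil (nat_lit 547) (nat_lit 100) (nat_lit 1090) .nil) (nat_lit 548) (nat_lit 84) (nat_lit 1452) (.node .nil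
  (nat_lit 549) (nat_lit 84) (nat_lit 819) .nil)))) (nat_lit 550) (nat_lit 68) (nat_lit 891) (.node (.node
  (.node (.node .nil (nat_lit 551) (nat_lit 113) (nat_lit 1401) .nil) (nat_lit 552) (nat_lit 65) (nat_lit
  1245) (.node .nil (nat_lit 553) (nat_lit 68) (nat_lit 1633) .nil)) (nat_lit 554) (nat_lit 100) (nat_lit
  1302) (.node (.node .nil (nat_lit 555) (nat_lit 80) (nat_lit 800) .nil) (nat_lit 556) (nat_lit 96) (nat_lit
  1261) (.node .nil (nat_lit 557) (nat_lit 64) (nat_lit 1258) .nil))) (nat_lit 558) (nat_lit 97) (nat_lit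
  1723) (.node (.node (.node .nil (nat_lit 559) (nat_lit 97) (nat_lit 1705) .nil) (nat_lit 560) (nat_lit 96)
  (nat_lit 1257) (.node .nil (nat_lit 561) (nat_lit 96) (nat_lit 473) .nil)) (nat_lit 562) (nat_lit 97)
  (nat_lit 1731) (.node (.node .nil (nat_lit 563) (nat_lit 97) (nat_lit 1720) .nil) (nat_lit 564) (nat_lit 83)
  (nat_lit 1395) (.node .nil (nat_lit 565) (nat_lit 115) (nat_lit 1323) .nil))))) (nat_lit 566) (nat_lit 51)
  (nat_lit 1509) (.node (.node (.node (.node (.node .nil (nat_lit 567) (nat_lit 82) (nat_lit 531) .nil)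
  (nat_lit 568) (nat_lit 114) (nat_lit 1344) (.node .nil (nat_lit 569) (nat_lit 100) (nat_lit 1634) .nil))
  (nat_lit 570) (nat_lit 114) (nat_lit 1501) (.node (.node .nil (nat_lit 571) (nat_lit 115) (nat_lit 1187)
  .nil) (nat_lit 575) (nat_lit 100) (nat_lit 1290) (.node .nil (nat_lit 576) (nat_lit 100) (nat_lit 1085)
  .nil))) (nat_lit 577) (nat_lit 66) (nat_lit 1321) (.node (.node (.node .nil (nat_lit 584) (nat_lit 68)
  (nat_lit 1337) .nil) (nat_lit 585) (nat_lit 96) (nat_lit 1281) (.node .nil (nat_lit 586) (nat_lit 82)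
  (nat_lit 1181) .nil)) (nat_lit 587) (nat_lit 84) (nat_lit 1227) (.node (.node .nil (nat_lit 588) (nat_lit
  100) (nat_lit 1164) .nil) (nat_lit 589) (nat_lit 82) (nat_lit 590) (.node .nil (nat_lit 590) (nat_lit 68)
  (nat_lit 1454) .nil)))) (nat_lit 591) (nat_lit 116) (nat_lit 1206) (.node (.node (.node (.node .nil (nat_lit
  603) (nat_lit 112) (nat_lit 1137) .nil) (nat_lit 604) (nat_lit 131) (nat_lit 546) (.node .nil (nat_lit 606)
  (nat_lit 116) (nat_lit 1391) .nil)) (nat_lit 607) (nat_lit 116) (nat_lit 562) (.node (.node .nil (nat_lit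
  608) (nat_lit 112) (nat_lit 1260) .nil) (nat_lit 609) (nat_lit 113) (nat_lit 1649) (.node .nil (nat_lit 610)
  (nat_lit 116) (nat_lit 556) .nil))) (nat_lit 611) (nat_lit 84) (nat_lit 557) (.node (.node (.node .nil
  (nat_lit 612) (nat_lit 113) (nat_lit 1650) .nil) (nat_lit 613) (nat_lit 116) (nat_lit 563) (.node .nil
  (nat_lit 614) (nat_lit 80) (nat_lit 1259) .nil)) (nat_lit 615) (nat_lit 131) (nat_lit 609) (.node (.node
  .nil (nat_lit 616) (nat_lit 96) (nat_lit 1444) .nil) (nat_lit 617) (nat_lit 99) (nat_lit 614) (.node .nil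
  (nat_lit 618) (nat_lit 129) (nat_lit 1522) .nil)))))))
def lA2t_2 : T := (.node (.node (.node (.node (.node (.node (.node .nil (nat_lit 620) (nat_lit 100) (nat_lit
  304) .nil) (nat_lit 621) (nat_lit 100) (nat_lit 303) (.node .nil (nat_lit 622) (nat_lit 132) (nat_lit 114)
  .nil)) (nat_lit 623) (nat_lit 84) (nat_lit 1152) (.node (.node .nil (nat_lit 624) (nat_lit 115) (nat_lit
  636) .nil) (nat_lit 625) (nat_lit 82) (nat_lit 1123) (.node .nil (nat_lit 626) (nat_lit 81) (nat_lit 998)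
  .nil))) (nat_lit 627) (nat_lit 83) (nat_lit 1518) (.node (.node (.node .nil (nat_lit 628) (nat_lit 83)
  (nat_lit 1175) .nil) (nat_lit 629) (nat_lit 82) (nat_lit 1136) (.node .nil (nat_lit 630) (nat_lit 100)
  (nat_lit 484) .nil)) (nat_lit 631) (nat_lit 67) (nat_lit 1160) (.node (.node .nil (nat_lit 632) (nat_lit
  116) (nat_lit 1776) .nil) (nat_lit 633) (nat_lit 96) (nat_lit 1349) (.node .nil (nat_lit 634) (nat_lit 64)
  (nat_lit 1581) .nil)))) (nat_lit 635) (nat_lit 64) (nat_lit 1632) (.node (.node (.node (.node .nil (nat_lit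
  636) (nat_lit 96) (nat_lit 1731) .nil) (nat_lit 637) (nat_lit 84) (nat_lit 482) (.node .nil (nat_lit 638)
  (nat_lit 113) (nat_lit 1202) .nil)) (nat_lit 639) (nat_lit 82) (nat_lit 1608) (.node (.node .nil (nat_lit
  640) (nat_lit 84) (nat_lit 1200) .nil) (nat_lit 641) (nat_lit 116) (nat_lit 1080) (.node .nil (nat_lit 642)
  (nat_lit 68) (nat_lit 1193) .nil))) (nat_lit 647) (nat_lit 82) (nat_lit 1543) (.node (.node (.node .nil
  (nat_lit 648) (nat_lit 80) (nat_lit 1394) .nil) (nat_lit 649) (nat_lit 113) (nat_lit 1644) (.node .nil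
  (nat_lit 650) (nat_lit 115) (nat_lit 523) .nil)) (nat_lit 653) (nat_lit 33) (nat_lit 1174) (.node (.node
  .nil (nat_lit 654) (nat_lit 67) (nat_lit 1414) .nil) (nat_lit 656) (nat_lit 100) (nat_lit 296) (.node .nil
  (nat_lit 657) (nat_lit 100) (nat_lit 297) .nil))))) (nat_lit 710) (nat_lit 100) (nat_lit 1132) (.node (.node
  (.node (.node (.node .nil (nat_lit 711) (nat_lit 98) (nat_lit 1547) .nil) (nat_lit 712) (nat_lit 115)
  (nat_lit 1319) (.node .nil (nat_lit 713) (nat_lit 116) (nat_lit 1618) .nil)) (nat_lit 716) (nat_lit 84)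
  (nat_lit 1269) (.node (.node .nil (nat_lit 717) (nat_lit 82) (nat_lit 1535) .nil) (nat_lit 732) (nat_lit 97)
  (nat_lit 338) (.node .nil (nat_lit 733) (nat_lit 98) (nat_lit 1149) .nil))) (nat_lit 734) (nat_lit 100)
  (nat_lit 1273) (.node (.node (.node .nil (nat_lit 735) (nat_lit 115) (nat_lit 1485) .nil) (nat_lit 736)
  (nat_lit 83) (nat_lit 1462) (.node .nil (nat_lit 737) (nat_lit 81) (nat_lit 1607) .nil)) (nat_lit 800)
  (nat_lit 66) (nat_lit 451) (.node (.node .nil (nat_lit 803) (nat_lit 66) (nat_lit 1070) .nil) (nat_lit 804)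
  (nat_lit 66) (nat_lit 1104) (.node .nil (nat_lit 805) (nat_lit 66) (nat_lit 1106) .nil)))) (nat_lit 806)
  (nat_lit 100) (nat_lit 1417) (.node (.node (.node (.node .nil (nat_lit 807) (nat_lit 66) (nat_lit 449) .nil)
  (nat_lit 818) (nat_lit 99) (nat_lit 1268) (.node .nil (nat_lit 819) (nat_lit 64) (nat_lit 308) .nil))
  (nat_lit 820) (nat_lit 129) (nat_lit 1458) (.node (.node .nil (nat_lit 823) (nat_lit 116) (nat_lit 1390)
  .nil) (nat_lit 824) (nat_lit 84) (nat_lit 1607) (.node .nil (nat_lit 825) (nat_lit 81) (nat_lit 1213)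
  .nil))) (nat_lit 848) (nat_lit 100) (nat_lit 1194) (.node (.node (.node .nil (nat_lit 851) (nat_lit 96)
  (nat_lit 405) .nil) (nat_lit 852) (nat_lit 100) (nat_lit 1486) (.node .nil (nat_lit 855) (nat_lit 64)
  (nat_lit 162) .nil)) (nat_lit 856) (nat_lit 97) (nat_lit 548) (.node (.node .nil (nat_lit 857) (nat_lit 116)
  (nat_lit 1199) .nil) (nat_lit 868) (nat_lit 66) (nat_lit 1482) (.node .nil (nat_lit 869) (nat_lit 81)
  (nat_lit 1038) .nil)))))) (nat_lit 870) (nat_lit 83) (nat_lit 1386) (.node (.node (.node (.node (.node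
  (.node .nil (nat_lit 873) (nat_lit 128) (nat_lit 1522) .nil) (nat_lit 874) (nat_lit 100) (nat_lit 1155)
  (.node .nil (nat_lit 875) (nat_lit 84) (nat_lit 1289) .nil)) (nat_lit 886) (nat_lit 112) (nat_lit 1650)
  (.node (.node .nil (nat_lit 887) (nat_lit 100) (nat_lit 1215) .nil) (nat_lit 888) (nat_lit 98) (nat_lit 587)
  (.node .nil (nat_lit 889) (nat_lit 100) (nat_lit 437) .nil))) (nat_lit 890) (nat_lit 80) (nat_lit 631)
  (.node (.node (.node .nil (nat_lit 891) (nat_lit 50) (nat_lit 518) .nil) (nat_lit 892) (nat_lit 113)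
  (nat_lit 1402) (.node .nil (nat_lit 893) (nat_lit 98) (nat_lit 548) .nil)) (nat_lit 991) (nat_lit 84)
  (nat_lit 1500) (.node (.node .nil (nat_lit 992) (nat_lit 84) (nat_lit 1067) .nil) (nat_lit 998) (nat_lit 68)
  (nat_lit 1511) (.node .nil (nat_lit 999) (nat_lit 97) (nat_lit 1282) .nil)))) (nat_lit 1030) (nat_lit 80)
  (nat_lit 1361) (.node (.node (.node (.node .nil (nat_lit 1031) (nat_lit 112) (nat_lit 1541) .nil) (nat_lit
  1032) (nat_lit 97) (nat_lit 473) (.node .nil (nat_lit 1033) (nat_lit 97) (nat_lit 1273) .nil)) (nat_lit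
  1034) (nat_lit 132) (nat_lit 638) (.node (.node .nil (nat_lit 1035) (nat_lit 80) (nat_lit 1662) .nil)
  (nat_lit 1036) (nat_lit 98) (nat_lit 1774) (.node .nil (nat_lit 1037) (nat_lit 84) (nat_lit 1178) .nil)))
  (nat_lit 1038) (nat_lit 67) (nat_lit 1238) (.node (.node (.node .nil (nat_lit 1039) (nat_lit 80) (nat_lit
  321) .nil) (nat_lit 1040) (nat_lit 98) (nat_lit 409) (.node .nil (nat_lit 1041) (nat_lit 84) (nat_lit 1462)
  .nil)) (nat_lit 1042) (nat_lit 81) (nat_lit 577) (.node (.node .nil (nat_lit 1043) (nat_lit 100) (nat_lit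
  1064) .nil) (nat_lit 1044) (nat_lit 131) (nat_lit 1247) (.node .nil (nat_lit 1045) (nat_lit 82) (nat_lit
  1259) .nil))))) (nat_lit 1058) (nat_lit 84) (nat_lit 1123) (.node (.node (.node (.node (.node .nil (nat_lit
  1059) (nat_lit 68) (nat_lit 1321) .nil) (nat_lit 1060) (nat_lit 112) (nat_lit 1761) (.node .nil (nat_lit
  1061) (nat_lit 148) (nat_lit 1124) .nil)) (nat_lit 1062) (nat_lit 83) (nat_lit 552) (.node (.node .nil
  (nat_lit 1063) (nat_lit 100) (nat_lit 1504) .nil) (nat_lit 1064) (nat_lit 83) (nat_lit 1200) (.node .nil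
  (nat_lit 1065) (nat_lit 113) (nat_lit 1391) .nil))) (nat_lit 1066) (nat_lit 132) (nat_lit 1139) (.node
  (.node (.node .nil (nat_lit 1067) (nat_lit 67) (nat_lit 1193) .nil) (nat_lit 1068) (nat_lit 98) (nat_lit
  869) (.node .nil (nat_lit 1069) (nat_lit 16) (nat_lit 1141) .nil)) (nat_lit 1070) (nat_lit 48) (nat_lit
  1689) (.node (.node .nil (nat_lit 1071) (nat_lit 96) (nat_lit 1707) .nil) (nat_lit 1072) (nat_lit 82)
  (nat_lit 1738) (.node .nil (nat_lit 1073) (nat_lit 100) (nat_lit 1112) .nil)))) (nat_lit 1074) (nat_lit 65)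
  (nat_lit 1479) (.node (.node (.node (.node .nil (nat_lit 1075) (nat_lit 100) (nat_lit 647) .nil) (nat_lit
  1076) (nat_lit 82) (nat_lit 1178) (.node .nil (nat_lit 1077) (nat_lit 84) (nat_lit 1213) .nil)) (nat_lit
  1078) (nat_lit 100) (nat_lit 1218) (.node (.node .nil (nat_lit 1079) (nat_lit 129) (nat_lit 1166) .nil)
  (nat_lit 1080) (nat_lit 98) (nat_lit 406) (.node .nil (nat_lit 1081) (nat_lit 83) (nat_lit 1394) .nil)))
  (nat_lit 1082) (nat_lit 66) (nat_lit 162) (.node (.node (.node .nil (nat_lit 1083) (nat_lit 80) (nat_lit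
  514) .nil) (nat_lit 1084) (nat_lit 65) (nat_lit 1106) (.node .nil (nat_lit 1085) (nat_lit 83) (nat_lit 1452)
  .nil)) (nat_lit 1086) (nat_lit 112) (nat_lit 1703) (.node (.node .nil (nat_lit 1087) (nat_lit 115) (nat_lit
  1384) .nil) (nat_lit 1088) (nat_lit 145) (nat_lit 1475) (.node .nil (nat_lit 1089) (nat_lit 65) (nat_lit
  1511) .nil)))))))
def lA2t_3 : T := (.node (.node (.node (.node (.node (.node (.node .nil (nat_lit 1091) (nat_lit 84) (nat_lit
  1394) .nil) (nat_lit 1092) (nat_lit 132) (nat_lit 1065) (.node .nil (nat_lit 1093) (nat_lit 115) (nat_lit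
  1198) .nil)) (nat_lit 1094) (nat_lit 81) (nat_lit 1101) (.node (.node .nil (nat_lit 1095) (nat_lit 115)
  (nat_lit 455) .nil) (nat_lit 1096) (nat_lit 84) (nat_lit 1109) (.node .nil (nat_lit 1097) (nat_lit 98)
  (nat_lit 1704) .nil))) (nat_lit 1098) (nat_lit 81) (nat_lit 1269) (.node (.node (.node .nil (nat_lit 1099)
  (nat_lit 99) (nat_lit 1426) .nil) (nat_lit 1100) (nat_lit 82) (nat_lit 1739) (.node .nil (nat_lit 1101)
  (nat_lit 68) (nat_lit 566) .nil)) (nat_lit 1102) (nat_lit 68) (nat_lit 1510) (.node (.node .nil (nat_lit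
  1103) (nat_lit 99) (nat_lit 1418) .nil) (nat_lit 1104) (nat_lit 51) (nat_lit 1410) (.node .nil (nat_lit
  1105) (nat_lit 97) (nat_lit 1281) .nil)))) (nat_lit 1106) (nat_lit 52) (nat_lit 1636) (.node (.node (.node
  (.node .nil (nat_lit 1107) (nat_lit 100) (nat_lit 1042) .nil) (nat_lit 1108) (nat_lit 98) (nat_lit 736)
  (.node .nil (nat_lit 1109) (nat_lit 65) (nat_lit 566) .nil)) (nat_lit 1110) (nat_lit 113) (nat_lit 588)
  (.node (.node .nil (nat_lit 1111) (nat_lit 84) (nat_lit 1409) .nil) (nat_lit 1112) (nat_lit 81) (nat_lit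
  868) (.node .nil (nat_lit 1113) (nat_lit 100) (nat_lit 1094) .nil))) (nat_lit 1114) (nat_lit 116) (nat_lit
  455) (.node (.node (.node .nil (nat_lit 1115) (nat_lit 51) (nat_lit 1635) .nil) (nat_lit 1116) (nat_lit 99)
  (nat_lit 1606) (.node .nil (nat_lit 1117) (nat_lit 48) (nat_lit 322) .nil)) (nat_lit 1118) (nat_lit 116)
  (nat_lit 711) (.node (.node .nil (nat_lit 1119) (nat_lit 84) (nat_lit 855) .nil) (nat_lit 1120) (nat_lit 82)
  (nat_lit 1089) (.node .nil (nat_lit 1121) (nat_lit 66) (nat_lit 535) .nil))))) (nat_lit 1122) (nat_lit 98)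
  (nat_lit 1077) (.node (.node (.node (.node (.node .nil (nat_lit 1123) (nat_lit 64) (nat_lit 333) .nil)
  (nat_lit 1124) (nat_lit 129) (nat_lit 624) (.node .nil (nat_lit 1125) (nat_lit 100) (nat_lit 1217) .nil))
  (nat_lit 1126) (nat_lit 131) (nat_lit 892) (.node (.node .nil (nat_lit 1127) (nat_lit 97) (nat_lit 1419)
  .nil) (nat_lit 1128) (nat_lit 97) (nat_lit 1713) (.node .nil (nat_lit 1129) (nat_lit 81) (nat_lit 272)
  .nil))) (nat_lit 1130) (nat_lit 116) (nat_lit 733) (.node (.node (.node .nil (nat_lit 1131) (nat_lit 113)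
  (nat_lit 273) .nil) (nat_lit 1132) (nat_lit 83) (nat_lit 1396) (.node .nil (nat_lit 1133) (nat_lit 81)
  (nat_lit 634) .nil)) (nat_lit 1134) (nat_lit 83) (nat_lit 1393) (.node (.node .nil (nat_lit 1135) (nat_lit
  81) (nat_lit 1452) .nil) (nat_lit 1136) (nat_lit 68) (nat_lit 1581) (.node .nil (nat_lit 1137) (nat_lit 100)
  (nat_lit 1593) .nil)))) (nat_lit 1138) (nat_lit 100) (nat_lit 737) (.node (.node (.node (.node .nil (nat_lit
  1139) (nat_lit 114) (nat_lit 1433) .nil) (nat_lit 1140) (nat_lit 84) (nat_lit 1121) (.node .nil (nat_lit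
  1141) (nat_lit 0) (nat_lit 1141) .nil)) (nat_lit 1142) (nat_lit 98) (nat_lit 1302) (.node (.node .nil
  (nat_lit 1143) (nat_lit 99) (nat_lit 625) .nil) (nat_lit 1144) (nat_lit 100) (nat_lit 564) (.node .nil
  (nat_lit 1145) (nat_lit 115) (nat_lit 1358) .nil))) (nat_lit 1146) (nat_lit 113) (nat_lit 363) (.node (.node
  (.node .nil (nat_lit 1147) (nat_lit 65) (nat_lit 318) .nil) (nat_lit 1148) (nat_lit 83) (nat_lit 1289)
  (.node .nil (nat_lit 1149) (nat_lit 81) (nat_lit 1421) .nil)) (nat_lit 1150) (nat_lit 100) (nat_lit 736)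
  (.node (.node .nil (nat_lit 1151) (nat_lit 100) (nat_lit 1605) .nil) (nat_lit 1152) (nat_lit 67) (nat_lit
  1454) (.node .nil (nat_lit 1153) (nat_lit 80) (nat_lit 1544) .nil)))))) (nat_lit 1154) (nat_lit 68) (nat_lit
  1482) (.node (.node (.node (.node (.node (.node .nil (nat_lit 1155) (nat_lit 80) (nat_lit 1543) .nil)
  (nat_lit 1156) (nat_lit 83) (nat_lit 1213) (.node .nil (nat_lit 1157) (nat_lit 84) (nat_lit 1038) .nil))
  (nat_lit 1158) (nat_lit 83) (nat_lit 819) (.node (.node .nil (nat_lit 1159) (nat_lit 51) (nat_lit 454) .nil)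
  (nat_lit 1160) (nat_lit 48) (nat_lit 1509) (.node .nil (nat_lit 1161) (nat_lit 64) (nat_lit 535) .nil)))
  (nat_lit 1162) (nat_lit 80) (nat_lit 1393) (.node (.node (.node .nil (nat_lit 1163) (nat_lit 112) (nat_lit
  1756) .nil) (nat_lit 1164) (nat_lit 80) (nat_lit 1760) (.node .nil (nat_lit 1165) (nat_lit 80) (nat_lit
  1749) .nil)) (nat_lit 1166) (nat_lit 115) (nat_lit 1402) (.node (.node .nil (nat_lit 1167) (nat_lit 116)
  (nat_lit 1142) .nil) (nat_lit 1168) (nat_lit 116) (nat_lit 1295) (.node .nil (nat_lit 1169) (nat_lit 68)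
  (nat_lit 1159) .nil)))) (nat_lit 1170) (nat_lit 49) (nat_lit 344) (.node (.node (.node (.node .nil (nat_lit
  1171) (nat_lit 116) (nat_lit 1703) .nil) (nat_lit 1172) (nat_lit 81) (nat_lit 1102) (.node .nil (nat_lit
  1173) (nat_lit 115) (nat_lit 1033) .nil)) (nat_lit 1174) (nat_lit 20) (nat_lit 1141) (.node (.node .nil
  (nat_lit 1175) (nat_lit 64) (nat_lit 566) .nil) (nat_lit 1176) (nat_lit 82) (nat_lit 1038) (.node .nil
  (nat_lit 1177) (nat_lit 147) (nat_lit 820) .nil))) (nat_lit 1178) (nat_lit 65) (nat_lit 1510) (.node (.node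
  (.node .nil (nat_lit 1179) (nat_lit 148) (nat_lit 1044) .nil) (nat_lit 1180) (nat_lit 82) (nat_lit 1544)
  (.node .nil (nat_lit 1181) (nat_lit 68) (nat_lit 1117) .nil)) (nat_lit 1182) (nat_lit 97) (nat_lit 991)
  (.node (.node .nil (nat_lit 1183) (nat_lit 99) (nat_lit 1149) .nil) (nat_lit 1184) (nat_lit 99) (nat_lit
  1302) (.node .nil (nat_lit 1185) (nat_lit 97) (nat_lit 1157) .nil))))) (nat_lit 1186) (nat_lit 100) (nat_lit
  1465) (.node (.node (.node (.node (.node .nil (nat_lit 1187) (nat_lit 97) (nat_lit 1253) .nil) (nat_lit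
  1188) (nat_lit 97) (nat_lit 1254) (.node .nil (nat_lit 1189) (nat_lit 84) (nat_lit 1396) .nil)) (nat_lit
  1190) (nat_lit 84) (nat_lit 1395) (.node (.node .nil (nat_lit 1191) (nat_lit 100) (nat_lit 1135) .nil)
  (nat_lit 1192) (nat_lit 116) (nat_lit 1040) (.node .nil (nat_lit 1193) (nat_lit 49) (nat_lit 1509) .nil)))
  (nat_lit 1194) (nat_lit 83) (nat_lit 1109) (.node (.node (.node .nil (nat_lit 1195) (nat_lit 131) (nat_lit
  1110) .nil) (nat_lit 1196) (nat_lit 129) (nat_lit 606) (.node .nil (nat_lit 1197) (nat_lit 114) (nat_lit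
  1613) .nil)) (nat_lit 1198) (nat_lit 97) (nat_lit 1165) (.node (.node .nil (nat_lit 1199) (nat_lit 99)
  (nat_lit 1094) .nil) (nat_lit 1200) (nat_lit 65) (nat_lit 1424) (.node .nil (nat_lit 1201) (nat_lit 96)
  (nat_lit 525) .nil)))) (nat_lit 1202) (nat_lit 99) (nat_lit 1273) (.node (.node (.node (.node .nil (nat_lit
  1203) (nat_lit 99) (nat_lit 1300) .nil) (nat_lit 1204) (nat_lit 97) (nat_lit 824) (.node .nil (nat_lit 1205)
  (nat_lit 99) (nat_lit 1298) .nil)) (nat_lit 1206) (nat_lit 97) (nat_lit 564) (.node (.node .nil (nat_lit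
  1207) (nat_lit 132) (nat_lit 1597) .nil) (nat_lit 1208) (nat_lit 131) (nat_lit 1285) (.node .nil (nat_lit
  1209) (nat_lit 97) (nat_lit 1134) .nil))) (nat_lit 1210) (nat_lit 99) (nat_lit 1283) (.node (.node (.node
  .nil (nat_lit 1211) (nat_lit 82) (nat_lit 404) .nil) (nat_lit 1212) (nat_lit 68) (nat_lit 1238) (.node .nil
  (nat_lit 1213) (nat_lit 66) (nat_lit 1657) .nil)) (nat_lit 1214) (nat_lit 81) (nat_lit 1227) (.node (.node
  .nil (nat_lit 1215) (nat_lit 82) (nat_lit 400) .nil) (nat_lit 1216) (nat_lit 129) (nat_lit 1481) (.node .nil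
  (nat_lit 1217) (nat_lit 81) (nat_lit 1322) .nil)))))))
def lA2t_4 : T := (.node (.node (.node (.node (.node (.node (.node .nil (nat_lit 1219) (nat_lit 132) (nat_lit
  1247) .nil) (nat_lit 1220) (nat_lit 132) (nat_lit 1248) (.node .nil (nat_lit 1221) (nat_lit 113) (nat_lit
  576) .nil)) (nat_lit 1222) (nat_lit 115) (nat_lit 856) (.node (.node .nil (nat_lit 1223) (nat_lit 100)
  (nat_lit 1134) .nil) (nat_lit 1224) (nat_lit 100) (nat_lit 1081) (.node .nil (nat_lit 1225) (nat_lit 116)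
  (nat_lit 1389) .nil))) (nat_lit 1226) (nat_lit 84) (nat_lit 1608) (.node (.node (.node .nil (nat_lit 1227)
  (nat_lit 66) (nat_lit 308) .nil) (nat_lit 1228) (nat_lit 83) (nat_lit 1288) (.node .nil (nat_lit 1229)
  (nat_lit 80) (nat_lit 355) .nil)) (nat_lit 1230) (nat_lit 83) (nat_lit 855) (.node (.node .nil (nat_lit
  1231) (nat_lit 49) (nat_lit 454) .nil) (nat_lit 1232) (nat_lit 115) (nat_lit 1286) (.node .nil (nat_lit
  1233) (nat_lit 98) (nat_lit 1548) .nil)))) (nat_lit 1234) (nat_lit 84) (nat_lit 1074) (.node (.node (.node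
  (.node .nil (nat_lit 1235) (nat_lit 113) (nat_lit 1446) .nil) (nat_lit 1236) (nat_lit 84) (nat_lit 1082)
  (.node .nil (nat_lit 1237) (nat_lit 83) (nat_lit 1123) .nil)) (nat_lit 1238) (nat_lit 48) (nat_lit 344)
  (.node (.node .nil (nat_lit 1239) (nat_lit 68) (nat_lit 1245) .nil) (nat_lit 1240) (nat_lit 100) (nat_lit
  1246) (.node .nil (nat_lit 1241) (nat_lit 113) (nat_lit 734) .nil))) (nat_lit 1242) (nat_lit 113) (nat_lit
  1477) (.node (.node (.node .nil (nat_lit 1243) (nat_lit 113) (nat_lit 1205) .nil) (nat_lit 1244) (nat_lit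
  115) (nat_lit 1291) (.node .nil (nat_lit 1245) (nat_lit 50) (nat_lit 653) .nil)) (nat_lit 1246) (nat_lit 82)
  (nat_lit 654) (.node (.node .nil (nat_lit 1247) (nat_lit 113) (nat_lit 636) .nil) (nat_lit 1248) (nat_lit
  113) (nat_lit 1392) (.node .nil (nat_lit 1249) (nat_lit 84) (nat_lit 1089) .nil))))) (nat_lit 1250) (nat_lit
  83) (nat_lit 1440) (.node (.node (.node (.node (.node .nil (nat_lit 1251) (nat_lit 80) (nat_lit 553) .nil)
  (nat_lit 1252) (nat_lit 114) (nat_lit 465) (.node .nil (nat_lit 1253) (nat_lit 84) (nat_lit 1440) .nil))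
  (nat_lit 1254) (nat_lit 84) (nat_lit 635) (.node (.node .nil (nat_lit 1255) (nat_lit 114) (nat_lit 1143)
  .nil) (nat_lit 1256) (nat_lit 100) (nat_lit 1257) (.node .nil (nat_lit 1257) (nat_lit 82) (nat_lit 1685)
  .nil))) (nat_lit 1258) (nat_lit 50) (nat_lit 1689) (.node (.node (.node .nil (nat_lit 1259) (nat_lit 68)
  (nat_lit 1258) .nil) (nat_lit 1260) (nat_lit 100) (nat_lit 1261) (.node .nil (nat_lit 1261) (nat_lit 82)
  (nat_lit 1686) .nil)) (nat_lit 1262) (nat_lit 100) (nat_lit 1293) (.node (.node .nil (nat_lit 1263) (nat_lit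
  84) (nat_lit 1294) .nil) (nat_lit 1264) (nat_lit 129) (nat_lit 1385) (.node .nil (nat_lit 1265) (nat_lit
  131) (nat_lit 1241) .nil)))) (nat_lit 1266) (nat_lit 100) (nat_lit 717) (.node (.node (.node (.node .nil
  (nat_lit 1267) (nat_lit 132) (nat_lit 1173) .nil) (nat_lit 1268) (nat_lit 81) (nat_lit 1395) (.node .nil
  (nat_lit 1269) (nat_lit 67) (nat_lit 1245) .nil)) (nat_lit 1270) (nat_lit 81) (nat_lit 1082) (.node (.node
  .nil (nat_lit 1271) (nat_lit 98) (nat_lit 1111) .nil) (nat_lit 1272) (nat_lit 81) (nat_lit 550) (.node .nil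
  (nat_lit 1273) (nat_lit 80) (nat_lit 805) .nil))) (nat_lit 1274) (nat_lit 116) (nat_lit 1301) (.node (.node
  (.node .nil (nat_lit 1275) (nat_lit 82) (nat_lit 1500) .nil) (nat_lit 1276) (nat_lit 113) (nat_lit 1438)
  (.node .nil (nat_lit 1277) (nat_lit 48) (nat_lit 454) .nil)) (nat_lit 1278) (nat_lit 83) (nat_lit 1739)
  (.node (.node .nil (nat_lit 1279) (nat_lit 115) (nat_lit 1128) .nil) (nat_lit 1280) (nat_lit 113) (nat_lit
  1754) (.node .nil (nat_lit 1281) (nat_lit 84) (nat_lit 577) .nil)))))) (nat_lit 1282) (nat_lit 84) (nat_lit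
  868) (.node (.node (.node (.node (.node (.node .nil (nat_lit 1283) (nat_lit 81) (nat_lit 1393) .nil)
  (nat_lit 1284) (nat_lit 81) (nat_lit 1394) (.node .nil (nat_lit 1285) (nat_lit 114) (nat_lit 1764) .nil))
  (nat_lit 1286) (nat_lit 97) (nat_lit 1257) (.node (.node .nil (nat_lit 1287) (nat_lit 67) (nat_lit 1231)
  .nil) (nat_lit 1288) (nat_lit 65) (nat_lit 1159) (.node .nil (nat_lit 1289) (nat_lit 65) (nat_lit 1258)
  .nil))) (nat_lit 1290) (nat_lit 82) (nat_lit 514) (.node (.node (.node .nil (nat_lit 1291) (nat_lit 97)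
  (nat_lit 1298) .nil) (nat_lit 1292) (nat_lit 97) (nat_lit 1297) (.node .nil (nat_lit 1293) (nat_lit 82)
  (nat_lit 584) .nil)) (nat_lit 1294) (nat_lit 67) (nat_lit 891) (.node (.node .nil (nat_lit 1295) (nat_lit
  97) (nat_lit 555) .nil) (nat_lit 1296) (nat_lit 84) (nat_lit 1386) (.node .nil (nat_lit 1297) (nat_lit 80)
  (nat_lit 804) .nil)))) (nat_lit 1298) (nat_lit 80) (nat_lit 803) (.node (.node (.node (.node .nil (nat_lit
  1299) (nat_lit 98) (nat_lit 1698) .nil) (nat_lit 1300) (nat_lit 81) (nat_lit 1181) (.node .nil (nat_lit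
  1301) (nat_lit 98) (nat_lit 484) .nil)) (nat_lit 1302) (nat_lit 81) (nat_lit 1212) (.node (.node .nil
  (nat_lit 1303) (nat_lit 116) (nat_lit 1312) .nil) (nat_lit 1304) (nat_lit 116) (nat_lit 1495) (.node .nil
  (nat_lit 1305) (nat_lit 98) (nat_lit 1348) .nil))) (nat_lit 1306) (nat_lit 100) (nat_lit 1693) (.node (.node
  (.node .nil (nat_lit 1307) (nat_lit 100) (nat_lit 1383) .nil) (nat_lit 1308) (nat_lit 97) (nat_lit 297)
  (.node .nil (nat_lit 1309) (nat_lit 66) (nat_lit 333) .nil)) (nat_lit 1310) (nat_lit 68) (nat_lit 1231)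
  (.node (.node .nil (nat_lit 1311) (nat_lit 67) (nat_lit 1321) .nil) (nat_lit 1312) (nat_lit 99) (nat_lit
  1465) (.node .nil (nat_lit 1313) (nat_lit 115) (nat_lit 1595) .nil))))) (nat_lit 1314) (nat_lit 96) (nat_lit
  361) (.node (.node (.node (.node (.node .nil (nat_lit 1315) (nat_lit 112) (nat_lit 1602) .nil) (nat_lit
  1316) (nat_lit 116) (nat_lit 1546) (.node .nil (nat_lit 1317) (nat_lit 82) (nat_lit 1311) .nil)) (nat_lit
  1318) (nat_lit 130) (nat_lit 1192) (.node (.node .nil (nat_lit 1319) (nat_lit 97) (nat_lit 362) .nil)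
  (nat_lit 1320) (nat_lit 96) (nat_lit 1253) (.node .nil (nat_lit 1321) (nat_lit 49) (nat_lit 1636) .nil)))
  (nat_lit 1322) (nat_lit 67) (nat_lit 1510) (.node (.node (.node .nil (nat_lit 1323) (nat_lit 97) (nat_lit
  293) .nil) (nat_lit 1324) (nat_lit 100) (nat_lit 1645) (.node .nil (nat_lit 1325) (nat_lit 68) (nat_lit
  1657) .nil)) (nat_lit 1326) (nat_lit 100) (nat_lit 1690) (.node (.node .nil (nat_lit 1327) (nat_lit 96)
  (nat_lit 1189) .nil) (nat_lit 1328) (nat_lit 96) (nat_lit 1190) (.node .nil (nat_lit 1329) (nat_lit 84)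
  (nat_lit 1544) .nil)))) (nat_lit 1330) (nat_lit 100) (nat_lit 586) (.node (.node (.node (.node .nil (nat_lit
  1331) (nat_lit 82) (nat_lit 1665) .nil) (nat_lit 1332) (nat_lit 68) (nat_lit 1580) (.node .nil (nat_lit
  1333) (nat_lit 84) (nat_lit 1543) .nil)) (nat_lit 1334) (nat_lit 98) (nat_lit 342) (.node (.node .nil
  (nat_lit 1335) (nat_lit 81) (nat_lit 311) .nil) (nat_lit 1336) (nat_lit 83) (nat_lit 1309) (.node .nil
  (nat_lit 1337) (nat_lit 49) (nat_lit 322) .nil))) (nat_lit 1338) (nat_lit 81) (nat_lit 321) (.node (.node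
  (.node .nil (nat_lit 1339) (nat_lit 114) (nat_lit 300) .nil) (nat_lit 1340) (nat_lit 114) (nat_lit 301)
  (.node .nil (nat_lit 1341) (nat_lit 116) (nat_lit 1658) .nil)) (nat_lit 1342) (nat_lit 116) (nat_lit 1520)
  (.node (.node .nil (nat_lit 1343) (nat_lit 99) (nat_lit 1129) .nil) (nat_lit 1344) (nat_lit 97) (nat_lit
  1747) (.node .nil (nat_lit 1345) (nat_lit 116) (nat_lit 1629) .nil)))))))
def lA2t_5 : T := (.node (.node (.node (.node (.node (.node (.node .nil (nat_lit 1347) (nat_lit 80) (nat_lit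
  1213) .nil) (nat_lit 1348) (nat_lit 81) (nat_lit 1749) (.node .nil (nat_lit 1349) (nat_lit 84) (nat_lit
  1662) .nil)) (nat_lit 1350) (nat_lit 84) (nat_lit 1521) (.node (.node .nil (nat_lit 1351) (nat_lit 98)
  (nat_lit 1041) .nil) (nat_lit 1352) (nat_lit 116) (nat_lit 1382) (.node .nil (nat_lit 1353) (nat_lit 116)
  (nat_lit 1538) .nil))) (nat_lit 1354) (nat_lit 100) (nat_lit 1631) (.node (.node (.node .nil (nat_lit 1355)
  (nat_lit 132) (nat_lit 1434) .nil) (nat_lit 1356) (nat_lit 116) (nat_lit 1433) (.node .nil (nat_lit 1357)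
  (nat_lit 97) (nat_lit 361) .nil)) (nat_lit 1358) (nat_lit 98) (nat_lit 507) (.node (.node .nil (nat_lit
  1359) (nat_lit 100) (nat_lit 1435) .nil) (nat_lit 1360) (nat_lit 100) (nat_lit 1436) (.node .nil (nat_lit
  1361) (nat_lit 68) (nat_lit 1632) .nil)))) (nat_lit 1362) (nat_lit 130) (nat_lit 1680) (.node (.node (.node
  (.node .nil (nat_lit 1363) (nat_lit 97) (nat_lit 1039) .nil) (nat_lit 1364) (nat_lit 112) (nat_lit 363)
  (.node .nil (nat_lit 1365) (nat_lit 82) (nat_lit 1607) .nil)) (nat_lit 1366) (nat_lit 83) (nat_lit 807)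
  (.node (.node .nil (nat_lit 1367) (nat_lit 112) (nat_lit 1144) .nil) (nat_lit 1368) (nat_lit 115) (nat_lit
  1328) (.node .nil (nat_lit 1369) (nat_lit 130) (nat_lit 1679) .nil))) (nat_lit 1370) (nat_lit 80) (nat_lit
  577) (.node (.node (.node .nil (nat_lit 1371) (nat_lit 19) (nat_lit 1141) .nil) (nat_lit 1372) (nat_lit 48)
  (nat_lit 1636) (.node .nil (nat_lit 1373) (nat_lit 84) (nat_lit 1685) .nil)) (nat_lit 1374) (nat_lit 84)
  (nat_lit 1515) (.node (.node .nil (nat_lit 1375) (nat_lit 116) (nat_lit 1644) .nil) (nat_lit 1376) (nat_lit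
  116) (nat_lit 1643) (.node .nil (nat_lit 1377) (nat_lit 99) (nat_lit 1379) .nil))))) (nat_lit 1378) (nat_lit
  96) (nat_lit 1593) (.node (.node (.node (.node (.node .nil (nat_lit 1379) (nat_lit 80) (nat_lit 868) .nil)
  (nat_lit 1380) (nat_lit 116) (nat_lit 1540) (.node .nil (nat_lit 1381) (nat_lit 116) (nat_lit 585) .nil))
  (nat_lit 1382) (nat_lit 97) (nat_lit 269) (.node (.node .nil (nat_lit 1383) (nat_lit 82) (nat_lit 855) .nil)
  (nat_lit 1384) (nat_lit 96) (nat_lit 1774) (.node .nil (nat_lit 1385) (nat_lit 116) (nat_lit 1202) .nil)))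
  (nat_lit 1386) (nat_lit 65) (nat_lit 1117) (.node (.node (.node .nil (nat_lit 1387) (nat_lit 116) (nat_lit
  1071) .nil) (nat_lit 1388) (nat_lit 67) (nat_lit 1511) (.node .nil (nat_lit 1389) (nat_lit 97) (nat_lit
  1085) .nil)) (nat_lit 1390) (nat_lit 99) (nat_lit 1135) (.node (.node .nil (nat_lit 1391) (nat_lit 99)
  (nat_lit 1164) .nil) (nat_lit 1392) (nat_lit 96) (nat_lit 1720) (.node .nil (nat_lit 1393) (nat_lit 66)
  (nat_lit 1414) .nil)))) (nat_lit 1394) (nat_lit 66) (nat_lit 1411) (.node (.node (.node (.node .nil (nat_lit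
  1395) (nat_lit 66) (nat_lit 1412) .nil) (nat_lit 1396) (nat_lit 66) (nat_lit 1413) (.node .nil (nat_lit
  1397) (nat_lit 99) (nat_lit 1133) .nil)) (nat_lit 1398) (nat_lit 97) (nat_lit 534) (.node (.node .nil
  (nat_lit 1399) (nat_lit 96) (nat_lit 1698) .nil) (nat_lit 1400) (nat_lit 99) (nat_lit 1165) (.node .nil
  (nat_lit 1401) (nat_lit 96) (nat_lit 1723) .nil))) (nat_lit 1402) (nat_lit 96) (nat_lit 1705) (.node (.node
  (.node .nil (nat_lit 1403) (nat_lit 36) (nat_lit 1069) .nil) (nat_lit 1404) (nat_lit 68) (nat_lit 1115)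
  (.node .nil (nat_lit 1405) (nat_lit 115) (nat_lit 999) .nil)) (nat_lit 1406) (nat_lit 113) (nat_lit 1137)
  (.node (.node .nil (nat_lit 1407) (nat_lit 116) (nat_lit 1640) .nil) (nat_lit 1408) (nat_lit 116) (nat_lit
  1639) (.node .nil (nat_lit 1409) (nat_lit 67) (nat_lit 1070) .nil)))))) (nat_lit 1410) (nat_lit 32) (nat_lit
  1174) (.node (.node (.node (.node (.node (.node .nil (nat_lit 1411) (nat_lit 51) (nat_lit 653) .nil)
  (nat_lit 1412) (nat_lit 52) (nat_lit 324) (.node .nil (nat_lit 1413) (nat_lit 52) (nat_lit 323) .nil))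
  (nat_lit 1414) (nat_lit 49) (nat_lit 1689) (.node (.node .nil (nat_lit 1415) (nat_lit 96) (nat_lit 406)
  .nil) (nat_lit 1416) (nat_lit 100) (nat_lit 639) (.node .nil (nat_lit 1417) (nat_lit 82) (nat_lit 1702)
  .nil))) (nat_lit 1418) (nat_lit 80) (nat_lit 1728) (.node (.node (.node .nil (nat_lit 1419) (nat_lit 84)
  (nat_lit 1322) .nil) (nat_lit 1420) (nat_lit 100) (nat_lit 1317) (.node .nil (nat_lit 1421) (nat_lit 68)
  (nat_lit 1479) .nil)) (nat_lit 1422) (nat_lit 84) (nat_lit 1388) (.node (.node .nil (nat_lit 1423) (nat_lit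
  100) (nat_lit 1365) .nil) (nat_lit 1424) (nat_lit 52) (nat_lit 1509) (.node .nil (nat_lit 1425) (nat_lit 82)
  (nat_lit 1695) .nil)))) (nat_lit 1426) (nat_lit 82) (nat_lit 1711) (.node (.node (.node (.node .nil (nat_lit
  1427) (nat_lit 65) (nat_lit 891) .nil) (nat_lit 1428) (nat_lit 84) (nat_lit 1508) (.node .nil (nat_lit 1429)
  (nat_lit 98) (nat_lit 1605) .nil)) (nat_lit 1430) (nat_lit 116) (nat_lit 1201) (.node (.node .nil (nat_lit
  1431) (nat_lit 100) (nat_lit 1035) .nil) (nat_lit 1432) (nat_lit 100) (nat_lit 1030) (.node .nil (nat_lit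
  1433) (nat_lit 97) (nat_lit 406) .nil))) (nat_lit 1434) (nat_lit 114) (nat_lit 455) (.node (.node (.node
  .nil (nat_lit 1435) (nat_lit 81) (nat_lit 328) .nil) (nat_lit 1436) (nat_lit 81) (nat_lit 121) (.node .nil
  (nat_lit 1437) (nat_lit 100) (nat_lit 1251) .nil)) (nat_lit 1438) (nat_lit 100) (nat_lit 1250) (.node (.node
  .nil (nat_lit 1439) (nat_lit 99) (nat_lit 1251) .nil) (nat_lit 1440) (nat_lit 64) (nat_lit 1633) (.node .nil
  (nat_lit 1441) (nat_lit 100) (nat_lit 1442) .nil))))) (nat_lit 1442) (nat_lit 82) (nat_lit 355) (.node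
  (.node (.node (.node (.node .nil (nat_lit 1443) (nat_lit 67) (nat_lit 1258) .nil) (nat_lit 1444) (nat_lit
  84) (nat_lit 1443) (.node .nil (nat_lit 1445) (nat_lit 98) (nat_lit 1444) .nil)) (nat_lit 1446) (nat_lit 99)
  (nat_lit 1257) (.node (.node .nil (nat_lit 1447) (nat_lit 99) (nat_lit 473) .nil) (nat_lit 1448) (nat_lit
  99) (nat_lit 475) (.node .nil (nat_lit 1449) (nat_lit 84) (nat_lit 1311) .nil))) (nat_lit 1450) (nat_lit 52)
  (nat_lit 1491) (.node (.node (.node .nil (nat_lit 1451) (nat_lit 99) (nat_lit 1155) .nil) (nat_lit 1452)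
  (nat_lit 64) (nat_lit 1580) (.node .nil (nat_lit 1453) (nat_lit 83) (nat_lit 1084) .nil)) (nat_lit 1454)
  (nat_lit 49) (nat_lit 1403) (.node (.node .nil (nat_lit 1455) (nat_lit 96) (nat_lit 1582) .nil) (nat_lit
  1456) (nat_lit 82) (nat_lit 154) (.node .nil (nat_lit 1457) (nat_lit 82) (nat_lit 155) .nil)))) (nat_lit
  1458) (nat_lit 116) (nat_lit 636) (.node (.node (.node (.node .nil (nat_lit 1459) (nat_lit 130) (nat_lit
  641) .nil) (nat_lit 1460) (nat_lit 100) (nat_lit 1426) (.node .nil (nat_lit 1461) (nat_lit 97) (nat_lit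
  1263) .nil)) (nat_lit 1462) (nat_lit 65) (nat_lit 1238) (.node (.node .nil (nat_lit 1463) (nat_lit 80)
  (nat_lit 1332) .nil) (nat_lit 1464) (nat_lit 84) (nat_lit 1084) (.node .nil (nat_lit 1465) (nat_lit 81)
  (nat_lit 1440) .nil))) (nat_lit 1466) (nat_lit 99) (nat_lit 1463) (.node (.node (.node .nil (nat_lit 1467)
  (nat_lit 100) (nat_lit 1453) .nil) (nat_lit 1468) (nat_lit 65) (nat_lit 535) (.node .nil (nat_lit 1469)
  (nat_lit 98) (nat_lit 1263) .nil)) (nat_lit 1470) (nat_lit 98) (nat_lit 1464) (.node (.node .nil (nat_lit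
  1471) (nat_lit 116) (nat_lit 818) .nil) (nat_lit 1472) (nat_lit 115) (nat_lit 1429) (.node .nil (nat_lit
  1473) (nat_lit 98) (nat_lit 1112) .nil)))))))
def lA2t_6 : T := (.node (.node (.node (.node (.node (.node (.node .nil (nat_lit 1475) (nat_lit 132) (nat_lit
  624) .nil) (nat_lit 1476) (nat_lit 116) (nat_lit 1384) (.node .nil (nat_lit 1477) (nat_lit 100) (nat_lit
  555) .nil)) (nat_lit 1478) (nat_lit 99) (nat_lit 1272) (.node (.node .nil (nat_lit 1479) (nat_lit 50)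
  (nat_lit 1491) .nil) (nat_lit 1480) (nat_lit 96) (nat_lit 122) (.node .nil (nat_lit 1481) (nat_lit 116)
  (nat_lit 1392) .nil))) (nat_lit 1482) (nat_lit 51) (nat_lit 1491) (.node (.node (.node .nil (nat_lit 1483)
  (nat_lit 98) (nat_lit 1463) .nil) (nat_lit 1484) (nat_lit 99) (nat_lit 869) (.node .nil (nat_lit 1485)
  (nat_lit 98) (nat_lit 1606) .nil)) (nat_lit 1486) (nat_lit 81) (nat_lit 635) (.node (.node .nil (nat_lit
  1487) (nat_lit 115) (nat_lit 1498) .nil) (nat_lit 1488) (nat_lit 100) (nat_lit 1228) (.node .nil (nat_lit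
  1489) (nat_lit 81) (nat_lit 1259) .nil)))) (nat_lit 1490) (nat_lit 96) (nat_lit 1333) (.node (.node (.node
  (.node .nil (nat_lit 1491) (nat_lit 33) (nat_lit 1069) .nil) (nat_lit 1492) (nat_lit 113) (nat_lit 1144)
  (.node .nil (nat_lit 1493) (nat_lit 98) (nat_lit 623) .nil)) (nat_lit 1494) (nat_lit 98) (nat_lit 1042)
  (.node (.node .nil (nat_lit 1495) (nat_lit 97) (nat_lit 1250) .nil) (nat_lit 1496) (nat_lit 132) (nat_lit
  1163) (.node .nil (nat_lit 1497) (nat_lit 99) (nat_lit 1275) .nil))) (nat_lit 1498) (nat_lit 96) (nat_lit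
  362) (.node (.node (.node .nil (nat_lit 1499) (nat_lit 115) (nat_lit 1480) .nil) (nat_lit 1500) (nat_lit 67)
  (nat_lit 1479) (.node .nil (nat_lit 1501) (nat_lit 96) (nat_lit 297) .nil)) (nat_lit 1502) (nat_lit 100)
  (nat_lit 1425) (.node (.node .nil (nat_lit 1503) (nat_lit 84) (nat_lit 1427) .nil) (nat_lit 1504) (nat_lit
  82) (nat_lit 1386) (.node .nil (nat_lit 1505) (nat_lit 114) (nat_lit 1363) .nil))))) (nat_lit 1506) (nat_lit
  82) (nat_lit 1641) (.node (.node (.node (.node (.node .nil (nat_lit 1507) (nat_lit 82) (nat_lit 1642) .nil)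
  (nat_lit 1508) (nat_lit 66) (nat_lit 1115) (.node .nil (nat_lit 1509) (nat_lit 34) (nat_lit 1069) .nil))
  (nat_lit 1510) (nat_lit 50) (nat_lit 1636) (.node (.node .nil (nat_lit 1511) (nat_lit 50) (nat_lit 1635)
  .nil) (nat_lit 1512) (nat_lit 116) (nat_lit 1724) (.node .nil (nat_lit 1513) (nat_lit 113) (nat_lit 1602)
  .nil))) (nat_lit 1514) (nat_lit 115) (nat_lit 1669) (.node (.node (.node .nil (nat_lit 1515) (nat_lit 67)
  (nat_lit 1657) .nil) (nat_lit 1516) (nat_lit 83) (nat_lit 1161) (.node .nil (nat_lit 1517) (nat_lit 100)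
  (nat_lit 1723) .nil)) (nat_lit 1518) (nat_lit 65) (nat_lit 333) (.node (.node .nil (nat_lit 1519) (nat_lit
  99) (nat_lit 1162) .nil) (nat_lit 1520) (nat_lit 97) (nat_lit 525) (.node .nil (nat_lit 1521) (nat_lit 67)
  (nat_lit 1632) .nil)))) (nat_lit 1522) (nat_lit 116) (nat_lit 1756) (.node (.node (.node (.node .nil
  (nat_lit 1535) (nat_lit 65) (nat_lit 162) .nil) (nat_lit 1536) (nat_lit 100) (nat_lit 1370) (.node .nil
  (nat_lit 1537) (nat_lit 116) (nat_lit 1378) .nil)) (nat_lit 1538) (nat_lit 98) (nat_lit 1234) (.node (.node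
  .nil (nat_lit 1539) (nat_lit 82) (nat_lit 1294) .nil) (nat_lit 1540) (nat_lit 96) (nat_lit 1282) (.node .nil
  (nat_lit 1541) (nat_lit 100) (nat_lit 1379) .nil))) (nat_lit 1542) (nat_lit 82) (nat_lit 1269) (.node (.node
  (.node .nil (nat_lit 1543) (nat_lit 67) (nat_lit 1580) .nil) (nat_lit 1544) (nat_lit 67) (nat_lit 1581)
  (.node .nil (nat_lit 1545) (nat_lit 99) (nat_lit 1548) .nil)) (nat_lit 1546) (nat_lit 99) (nat_lit 1547)
  (.node (.node .nil (nat_lit 1547) (nat_lit 81) (nat_lit 351) .nil) (nat_lit 1548) (nat_lit 81) (nat_lit 160)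
  (.node .nil (nat_lit 1549) (nat_lit 116) (nat_lit 1377) .nil)))))) (nat_lit 1550) (nat_lit 115) (nat_lit
  1540) (.node (.node (.node (.node (.node (.node .nil (nat_lit 1575) (nat_lit 83) (nat_lit 1535) .nil)
  (nat_lit 1576) (nat_lit 81) (nat_lit 355) (.node .nil (nat_lit 1577) (nat_lit 84) (nat_lit 1147) .nil))
  (nat_lit 1578) (nat_lit 84) (nat_lit 505) (.node (.node .nil (nat_lit 1579) (nat_lit 82) (nat_lit 1404)
  .nil) (nat_lit 1580) (nat_lit 50) (nat_lit 1403) (.node .nil (nat_lit 1581) (nat_lit 50) (nat_lit 1410)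
  .nil))) (nat_lit 1582) (nat_lit 82) (nat_lit 1409) (.node (.node (.node .nil (nat_lit 1583) (nat_lit 97)
  (nat_lit 1444) .nil) (nat_lit 1584) (nat_lit 99) (nat_lit 1489) (.node .nil (nat_lit 1585) (nat_lit 84)
  (nat_lit 1288) .nil)) (nat_lit 1586) (nat_lit 84) (nat_lit 1287) (.node (.node .nil (nat_lit 1587) (nat_lit
  100) (nat_lit 508) .nil) (nat_lit 1588) (nat_lit 100) (nat_lit 1148) (.node .nil (nat_lit 1589) (nat_lit 81)
  (nat_lit 1169) .nil)))) (nat_lit 1590) (nat_lit 83) (nat_lit 1468) (.node (.node (.node (.node .nil (nat_lit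
  1591) (nat_lit 100) (nat_lit 1268) .nil) (nat_lit 1592) (nat_lit 100) (nat_lit 474) (.node .nil (nat_lit
  1593) (nat_lit 83) (nat_lit 868) .nil)) (nat_lit 1594) (nat_lit 83) (nat_lit 577) (.node (.node .nil
  (nat_lit 1595) (nat_lit 97) (nat_lit 1190) .nil) (nat_lit 1596) (nat_lit 97) (nat_lit 1189) (.node .nil
  (nat_lit 1597) (nat_lit 114) (nat_lit 1497) .nil))) (nat_lit 1598) (nat_lit 114) (nat_lit 1474) (.node
  (.node (.node .nil (nat_lit 1599) (nat_lit 116) (nat_lit 1697) .nil) (nat_lit 1600) (nat_lit 100) (nat_lit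
  1698) (.node .nil (nat_lit 1601) (nat_lit 116) (nat_lit 1773) .nil)) (nat_lit 1602) (nat_lit 100) (nat_lit
  1774) (.node (.node .nil (nat_lit 1603) (nat_lit 83) (nat_lit 155) .nil) (nat_lit 1604) (nat_lit 81)
  (nat_lit 1662) (.node .nil (nat_lit 1605) (nat_lit 83) (nat_lit 1074) .nil))))) (nat_lit 1606) (nat_lit 81)
  (nat_lit 1500) (.node (.node (.node (.node (.node .nil (nat_lit 1607) (nat_lit 67) (nat_lit 1117) .nil)
  (nat_lit 1608) (nat_lit 64) (nat_lit 318) (.node .nil (nat_lit 1609) (nat_lit 82) (nat_lit 1388) .nil))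
  (nat_lit 1610) (nat_lit 82) (nat_lit 1322) (.node (.node .nil (nat_lit 1611) (nat_lit 98) (nat_lit 1486)
  .nil) (nat_lit 1612) (nat_lit 98) (nat_lit 1465) (.node .nil (nat_lit 1613) (nat_lit 100) (nat_lit 1129)
  .nil))) (nat_lit 1614) (nat_lit 98) (nat_lit 297) (.node (.node (.node .nil (nat_lit 1615) (nat_lit 98)
  (nat_lit 1335) .nil) (nat_lit 1616) (nat_lit 99) (nat_lit 1691) (.node .nil (nat_lit 1617) (nat_lit 97)
  (nat_lit 405) .nil)) (nat_lit 1618) (nat_lit 98) (nat_lit 1336) (.node (.node .nil (nat_lit 1619) (nat_lit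
  100) (nat_lit 1763) .nil) (nat_lit 1620) (nat_lit 80) (nat_lit 1322) (.node .nil (nat_lit 1621) (nat_lit 99)
  (nat_lit 332) .nil)))) (nat_lit 1622) (nat_lit 98) (nat_lit 1620) (.node (.node (.node (.node .nil (nat_lit
  1623) (nat_lit 98) (nat_lit 1627) .nil) (nat_lit 1624) (nat_lit 97) (nat_lit 1652) (.node .nil (nat_lit
  1625) (nat_lit 99) (nat_lit 350) .nil)) (nat_lit 1626) (nat_lit 100) (nat_lit 1753) (.node (.node .nil
  (nat_lit 1627) (nat_lit 83) (nat_lit 328) .nil) (nat_lit 1628) (nat_lit 99) (nat_lit 341) (.node .nil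
  (nat_lit 1629) (nat_lit 99) (nat_lit 1435) .nil))) (nat_lit 1630) (nat_lit 115) (nat_lit 1433) (.node (.node
  (.node .nil (nat_lit 1631) (nat_lit 81) (nat_lit 800) .nil) (nat_lit 1632) (nat_lit 50) (nat_lit 323) (.node
  .nil (nat_lit 1633) (nat_lit 50) (nat_lit 324) .nil)) (nat_lit 1634) (nat_lit 81) (nat_lit 805) (.node
  (.node .nil (nat_lit 1635) (nat_lit 32) (nat_lit 1371) .nil) (nat_lit 1636) (nat_lit 35) (nat_lit 1069)
  (.node .nil (nat_lit 1637) (nat_lit 115) (nat_lit 1068) .nil)))))))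
def lA2t_7 : T := (.node (.node (.node (.node (.node (.node (.node .nil (nat_lit 1639) (nat_lit 99) (nat_lit
  1112) .nil) (nat_lit 1640) (nat_lit 97) (nat_lit 1593) (.node .nil (nat_lit 1641) (nat_lit 68) (nat_lit
  1104) .nil)) (nat_lit 1642) (nat_lit 68) (nat_lit 1070) (.node (.node .nil (nat_lit 1643) (nat_lit 96)
  (nat_lit 564) .nil) (nat_lit 1644) (nat_lit 99) (nat_lit 1690) (.node .nil (nat_lit 1645) (nat_lit 83)
  (nat_lit 1685) .nil))) (nat_lit 1646) (nat_lit 100) (nat_lit 1755) (.node (.node (.node .nil (nat_lit 1647)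
  (nat_lit 84) (nat_lit 1695) .nil) (nat_lit 1648) (nat_lit 100) (nat_lit 1705) (.node .nil (nat_lit 1649)
  (nat_lit 100) (nat_lit 1731) .nil)) (nat_lit 1650) (nat_lit 100) (nat_lit 1720) (.node (.node .nil (nat_lit
  1651) (nat_lit 84) (nat_lit 1739) .nil) (nat_lit 1652) (nat_lit 84) (nat_lit 1738) (.node .nil (nat_lit
  1653) (nat_lit 97) (nat_lit 122) .nil)))) (nat_lit 1654) (nat_lit 116) (nat_lit 1351) (.node (.node (.node
  (.node .nil (nat_lit 1655) (nat_lit 80) (nat_lit 1169) .nil) (nat_lit 1656) (nat_lit 96) (nat_lit 1134)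
  (.node .nil (nat_lit 1657) (nat_lit 48) (nat_lit 1403) .nil)) (nat_lit 1658) (nat_lit 99) (nat_lit 1634)
  (.node (.node .nil (nat_lit 1659) (nat_lit 114) (nat_lit 1198) .nil) (nat_lit 1660) (nat_lit 98) (nat_lit
  296) (.node .nil (nat_lit 1661) (nat_lit 67) (nat_lit 1170) .nil))) (nat_lit 1662) (nat_lit 67) (nat_lit
  1633) (.node (.node (.node .nil (nat_lit 1663) (nat_lit 116) (nat_lit 1694) .nil) (nat_lit 1664) (nat_lit
  115) (nat_lit 1653) (.node .nil (nat_lit 1665) (nat_lit 68) (nat_lit 1277) .nil)) (nat_lit 1666) (nat_lit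
  82) (nat_lit 1332) (.node (.node .nil (nat_lit 1667) (nat_lit 116) (nat_lit 1736) .nil) (nat_lit 1668)
  (nat_lit 116) (nat_lit 1737) (.node .nil (nat_lit 1669) (nat_lit 97) (nat_lit 611) .nil))))) (nat_lit 1670)
  (nat_lit 114) (nat_lit 1602) (.node (.node (.node (.node (.node .nil (nat_lit 1671) (nat_lit 116) (nat_lit
  1717) .nil) (nat_lit 1672) (nat_lit 84) (nat_lit 1726) (.node .nil (nat_lit 1673) (nat_lit 100) (nat_lit
  1704) .nil)) (nat_lit 1674) (nat_lit 113) (nat_lit 621) (.node (.node .nil (nat_lit 1675) (nat_lit 100)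
  (nat_lit 1725) .nil) (nat_lit 1676) (nat_lit 100) (nat_lit 1718) (.node .nil (nat_lit 1677) (nat_lit 116)
  (nat_lit 1729) .nil))) (nat_lit 1678) (nat_lit 116) (nat_lit 1716) (.node (.node (.node .nil (nat_lit 1679)
  (nat_lit 115) (nat_lit 1660) .nil) (nat_lit 1680) (nat_lit 115) (nat_lit 1614) (.node .nil (nat_lit 1681)
  (nat_lit 82) (nat_lit 326) .nil)) (nat_lit 1682) (nat_lit 82) (nat_lit 325) (.node (.node .nil (nat_lit
  1683) (nat_lit 97) (nat_lit 1627) .nil) (nat_lit 1684) (nat_lit 113) (nat_lit 657) (.node .nil (nat_lit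
  1685) (nat_lit 64) (nat_lit 1106) .nil)))) (nat_lit 1686) (nat_lit 68) (nat_lit 1372) (.node (.node (.node
  (.node .nil (nat_lit 1687) (nat_lit 116) (nat_lit 1308) .nil) (nat_lit 1688) (nat_lit 116) (nat_lit 1343)
  (.node .nil (nat_lit 1689) (nat_lit 36) (nat_lit 1371) .nil)) (nat_lit 1690) (nat_lit 80) (nat_lit 1395)
  (.node (.node .nil (nat_lit 1691) (nat_lit 81) (nat_lit 803) .nil) (nat_lit 1692) (nat_lit 81) (nat_lit 804)
  (.node .nil (nat_lit 1693) (nat_lit 80) (nat_lit 1396) .nil))) (nat_lit 1694) (nat_lit 99) (nat_lit 1720)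
  (.node (.node (.node .nil (nat_lit 1695) (nat_lit 65) (nat_lit 308) .nil) (nat_lit 1696) (nat_lit 84)
  (nat_lit 154) (.node .nil (nat_lit 1697) (nat_lit 98) (nat_lit 1296) .nil)) (nat_lit 1698) (nat_lit 83)
  (nat_lit 1749) (.node (.node .nil (nat_lit 1699) (nat_lit 84) (nat_lit 155) .nil) (nat_lit 1702) (nat_lit
  68) (nat_lit 1170) (.node .nil (nat_lit 1703) (nat_lit 99) (nat_lit 1705) .nil)))))) (nat_lit 1704) (nat_lit
  81) (nat_lit 557) (.node (.node (.node (.node (.node (.node .nil (nat_lit 1705) (nat_lit 82) (nat_lit 1084)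
  .nil) (nat_lit 1706) (nat_lit 84) (nat_lit 1661) (.node .nil (nat_lit 1707) (nat_lit 84) (nat_lit 631)
  .nil)) (nat_lit 1708) (nat_lit 100) (nat_lit 628) (.node (.node .nil (nat_lit 1709) (nat_lit 131) (nat_lit
  1730) .nil) (nat_lit 1710) (nat_lit 100) (nat_lit 1603) (.node .nil (nat_lit 1711) (nat_lit 65) (nat_lit
  1277) .nil))) (nat_lit 1712) (nat_lit 84) (nat_lit 121) (.node (.node (.node .nil (nat_lit 1713) (nat_lit
  84) (nat_lit 328) .nil) (nat_lit 1714) (nat_lit 99) (nat_lit 1753) (.node .nil (nat_lit 1715) (nat_lit 100)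
  (nat_lit 1604) .nil)) (nat_lit 1716) (nat_lit 97) (nat_lit 303) (.node (.node .nil (nat_lit 1717) (nat_lit
  99) (nat_lit 1725) .nil) (nat_lit 1718) (nat_lit 83) (nat_lit 1726) (.node .nil (nat_lit 1719) (nat_lit 83)
  (nat_lit 1695) .nil)))) (nat_lit 1720) (nat_lit 82) (nat_lit 1059) (.node (.node (.node (.node .nil (nat_lit
  1721) (nat_lit 113) (nat_lit 561) .nil) (nat_lit 1722) (nat_lit 81) (nat_lit 514) (.node .nil (nat_lit 1723)
  (nat_lit 82) (nat_lit 1152) .nil)) (nat_lit 1724) (nat_lit 98) (nat_lit 991) (.node (.node .nil (nat_lit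
  1725) (nat_lit 80) (nat_lit 1101) .nil) (nat_lit 1726) (nat_lit 64) (nat_lit 1424) (.node .nil (nat_lit
  1727) (nat_lit 129) (nat_lit 309) .nil))) (nat_lit 1728) (nat_lit 68) (nat_lit 1160) (.node (.node (.node
  .nil (nat_lit 1729) (nat_lit 99) (nat_lit 1704) .nil) (nat_lit 1730) (nat_lit 113) (nat_lit 560) (.node .nil
  (nat_lit 1731) (nat_lit 82) (nat_lit 1154) .nil)) (nat_lit 1732) (nat_lit 84) (nat_lit 1518) (.node (.node
  .nil (nat_lit 1733) (nat_lit 84) (nat_lit 1175) .nil) (nat_lit 1734) (nat_lit 82) (nat_lit 998) (.node .nil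
  (nat_lit 1735) (nat_lit 82) (nat_lit 1102) .nil))))) (nat_lit 1736) (nat_lit 97) (nat_lit 1774) (.node
  (.node (.node (.node (.node .nil (nat_lit 1737) (nat_lit 99) (nat_lit 484) .nil) (nat_lit 1738) (nat_lit 67)
  (nat_lit 1277) (.node .nil (nat_lit 1739) (nat_lit 64) (nat_lit 1159) .nil)) (nat_lit 1740) (nat_lit 97)
  (nat_lit 1698) (.node (.node .nil (nat_lit 1741) (nat_lit 99) (nat_lit 1348) .nil) (nat_lit 1742) (nat_lit
  97) (nat_lit 1347) (.node .nil (nat_lit 1743) (nat_lit 99) (nat_lit 1757) .nil))) (nat_lit 1744) (nat_lit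
  97) (nat_lit 1349) (.node (.node (.node .nil (nat_lit 1745) (nat_lit 80) (nat_lit 998) .nil) (nat_lit 1746)
  (nat_lit 80) (nat_lit 1102) (.node .nil (nat_lit 1747) (nat_lit 82) (nat_lit 1421) .nil)) (nat_lit 1748)
  (nat_lit 96) (nat_lit 1419) (.node (.node .nil (nat_lit 1749) (nat_lit 66) (nat_lit 1454) .nil) (nat_lit
  1750) (nat_lit 98) (nat_lit 1449) (.node .nil (nat_lit 1751) (nat_lit 97) (nat_lit 1735) .nil)))) (nat_lit
  1753) (nat_lit 81) (nat_lit 1738) (.node (.node (.node (.node .nil (nat_lit 1754) (nat_lit 100) (nat_lit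
  1627) .nil) (nat_lit 1755) (nat_lit 82) (nat_lit 1427) (.node .nil (nat_lit 1756) (nat_lit 99) (nat_lit
  1731) .nil)) (nat_lit 1757) (nat_lit 81) (nat_lit 553) (.node (.node .nil (nat_lit 1758) (nat_lit 81)
  (nat_lit 1361) .nil) (nat_lit 1759) (nat_lit 100) (nat_lit 1620) (.node .nil (nat_lit 1760) (nat_lit 66)
  (nat_lit 1450) .nil))) (nat_lit 1761) (nat_lit 98) (nat_lit 1453) (.node (.node (.node .nil (nat_lit 1762)
  (nat_lit 99) (nat_lit 1746) .nil) (nat_lit 1763) (nat_lit 83) (nat_lit 1711) (.node .nil (nat_lit 1764)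
  (nat_lit 99) (nat_lit 1747) .nil)) (nat_lit 1773) (nat_lit 98) (nat_lit 1300) (.node (.node .nil (nat_lit
  1774) (nat_lit 83) (nat_lit 1760) .nil) (nat_lit 1775) (nat_lit 82) (nat_lit 552) (.node .nil (nat_lit 1776)
  (nat_lit 99) (nat_lit 1723) .nil)))))))
def lA2t : T := (.node (.node (.node lA2t_0 (nat_lit 389) (nat_lit 81) (nat_lit 1543) lA2t_1) (nat_lit 619)
  (nat_lit 132) (nat_lit 276) (.node lA2t_2 (nat_lit 1090) (nat_lit 81) (nat_lit 1294) lA2t_3)) (nat_lit 1218)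
  (nat_lit 83) (nat_lit 1178) (.node (.node lA2t_4 (nat_lit 1346) (nat_lit 116) (nat_lit 1683) lA2t_5)
  (nat_lit 1474) (nat_lit 97) (nat_lit 1610) (.node lA2t_6 (nat_lit 1638) (nat_lit 115) (nat_lit 1108)
  lA2t_7)))
def lA2 : Lvl := ⟨nat_lit 1141, [nat_lit 5, nat_lit 6, nat_lit 9, nat_lit 11, nat_lit 12], [], lA2t⟩
def lA3t : T := (.node (.node (.node (.node (.node (.node (.node (.node .nil (nat_lit 114) (nat_lit 0)
  (nat_lit 114) .nil) (nat_lit 117) (nat_lit 99) (nat_lit 345) .nil) (nat_lit 132) (nat_lit 64) (nat_lit 1302)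
  (.node (.node .nil (nat_lit 269) (nat_lit 35) (nat_lit 1249) .nil) (nat_lit 284) (nat_lit 67) (nat_lit 1513)
  .nil)) (nat_lit 289) (nat_lit 114) (nat_lit 825) (.node (.node (.node .nil (nat_lit 297) (nat_lit 99)
  (nat_lit 1614) .nil) (nat_lit 299) (nat_lit 34) (nat_lit 1611) .nil) (nat_lit 305) (nat_lit 51) (nat_lit
  1228) (.node (.node .nil (nat_lit 307) (nat_lit 80) (nat_lit 1221) .nil) (nat_lit 323) (nat_lit 112)
  (nat_lit 507) .nil))) (nat_lit 324) (nat_lit 83) (nat_lit 1633) (.node (.node (.node (.node .nil (nat_lit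
  327) (nat_lit 83) (nat_lit 331) .nil) (nat_lit 331) (nat_lit 64) (nat_lit 1691) .nil) (nat_lit 338) (nat_lit
  114) (nat_lit 396) (.node (.node .nil (nat_lit 345) (nat_lit 80) (nat_lit 1617) .nil) (nat_lit 353) (nat_lit
  51) (nat_lit 848) .nil)) (nat_lit 356) (nat_lit 112) (nat_lit 632) (.node (.node (.node .nil (nat_lit 361)
  (nat_lit 50) (nat_lit 1266) .nil) (nat_lit 362) (nat_lit 115) (nat_lit 1516) .nil) (nat_lit 392) (nat_lit
  66) (nat_lit 1691) (.node .nil (nat_lit 396) (nat_lit 99) (nat_lit 1065) .nil)))) (nat_lit 397) (nat_lit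
  115) (nat_lit 1044) (.node (.node (.node (.node (.node .nil (nat_lit 401) (nat_lit 82) (nat_lit 1617) .nil)
  (nat_lit 438) (nat_lit 66) (nat_lit 1540) .nil) (nat_lit 442) (nat_lit 96) (nat_lit 521) (.node (.node .nil
  (nat_lit 483) (nat_lit 98) (nat_lit 1607) .nil) (nat_lit 507) (nat_lit 99) (nat_lit 1358) .nil)) (nat_lit
  512) (nat_lit 146) (nat_lit 1185) (.node (.node (.node .nil (nat_lit 513) (nat_lit 49) (nat_lit 848) .nil)
  (nat_lit 518) (nat_lit 48) (nat_lit 1397) .nil) (nat_lit 520) (nat_lit 82) (nat_lit 1182) (.node (.node .nil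
  (nat_lit 521) (nat_lit 82) (nat_lit 891) .nil) (nat_lit 523) (nat_lit 115) (nat_lit 442) .nil))) (nat_lit
  524) (nat_lit 50) (nat_lit 1397) (.node (.node (.node (.node .nil (nat_lit 525) (nat_lit 80) (nat_lit 1182)
  .nil) (nat_lit 546) (nat_lit 82) (nat_lit 874) .nil) (nat_lit 547) (nat_lit 82) (nat_lit 1633) (.node (.node
  .nil (nat_lit 548) (nat_lit 99) (nat_lit 893) .nil) (nat_lit 558) (nat_lit 112) (nat_lit 1636) .nil))
  (nat_lit 559) (nat_lit 83) (nat_lit 1184) (.node (.node (.node .nil (nat_lit 575) (nat_lit 130) (nat_lit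
  889) .nil) (nat_lit 604) (nat_lit 80) (nat_lit 1633) .nil) (nat_lit 625) (nat_lit 80) (nat_lit 1426) (.node
  .nil (nat_lit 626) (nat_lit 130) (nat_lit 523) .nil))))) (nat_lit 632) (nat_lit 98) (nat_lit 327) (.node
  (.node (.node (.node (.node (.node .nil (nat_lit 635) (nat_lit 66) (nat_lit 361) .nil) (nat_lit 653)
  (nat_lit 115) (nat_lit 1245) .nil) (nat_lit 656) (nat_lit 80) (nat_lit 891) (.node (.node .nil (nat_lit 716)
  (nat_lit 146) (nat_lit 1440) .nil) (nat_lit 734) (nat_lit 99) (nat_lit 1466) .nil)) (nat_lit 823) (nat_lit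
  64) (nat_lit 305) (.node (.node (.node .nil (nat_lit 825) (nat_lit 99) (nat_lit 307) .nil) (nat_lit 848)
  (nat_lit 33) (nat_lit 1611) .nil) (nat_lit 851) (nat_lit 83) (nat_lit 1748) (.node (.node .nil (nat_lit 873)
  (nat_lit 115) (nat_lit 1034) .nil) (nat_lit 874) (nat_lit 66) (nat_lit 1436) .nil))) (nat_lit 875) (nat_lit
  51) (nat_lit 1266) (.node (.node (.node (.node .nil (nat_lit 889) (nat_lit 115) (nat_lit 1591) .nil)
  (nat_lit 891) (nat_lit 67) (nat_lit 518) .nil) (nat_lit 893) (nat_lit 82) (nat_lit 1683) (.node (.node .nil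
  (nat_lit 1032) (nat_lit 128) (nat_lit 1377) .nil) (nat_lit 1033) (nat_lit 64) (nat_lit 1540) .nil)) (nat_lit
  1034) (nat_lit 96) (nat_lit 1358) (.node (.node (.node .nil (nat_lit 1036) (nat_lit 96) (nat_lit 1109) .nil)
  (nat_lit 1044) (nat_lit 96) (nat_lit 1079) .nil) (nat_lit 1061) (nat_lit 67) (nat_lit 1177) (.node .nil
  (nat_lit 1062) (nat_lit 98) (nat_lit 1358) .nil)))) (nat_lit 1063) (nat_lit 131) (nat_lit 1730) (.node
  (.node (.node (.node (.node .nil (nat_lit 1065) (nat_lit 80) (nat_lit 438) .nil) (nat_lit 1066) (nat_lit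
  115) (nat_lit 1114) .nil) (nat_lit 1067) (nat_lit 112) (nat_lit 1296) (.node (.node .nil (nat_lit 1076)
  (nat_lit 32) (nat_lit 1203) .nil) (nat_lit 1079) (nat_lit 82) (nat_lit 1580) .nil)) (nat_lit 1098) (nat_lit
  131) (nat_lit 1696) (.node (.node (.node .nil (nat_lit 1099) (nat_lit 66) (nat_lit 513) .nil) (nat_lit 1109)
  (nat_lit 83) (nat_lit 635) .nil) (nat_lit 1114) (nat_lit 98) (nat_lit 1378) (.node .nil (nat_lit 1123)
  (nat_lit 99) (nat_lit 625) .nil))) (nat_lit 1138) (nat_lit 83) (nat_lit 1776) (.node (.node (.node (.node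
  .nil (nat_lit 1142) (nat_lit 34) (nat_lit 1276) .nil) (nat_lit 1157) (nat_lit 96) (nat_lit 1439) .nil)
  (nat_lit 1158) (nat_lit 67) (nat_lit 1691) (.node (.node .nil (nat_lit 1161) (nat_lit 82) (nat_lit 1388)
  .nil) (nat_lit 1177) (nat_lit 50) (nat_lit 1332) .nil)) (nat_lit 1178) (nat_lit 51) (nat_lit 1076) (.node
  (.node (.node .nil (nat_lit 1182) (nat_lit 67) (nat_lit 524) .nil) (nat_lit 1184) (nat_lit 64) (nat_lit 361)
  .nil) (nat_lit 1185) (nat_lit 131) (nat_lit 558) (.node .nil (nat_lit 1199) (nat_lit 130) (nat_lit 653)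
  .nil)))))) (nat_lit 1201) (nat_lit 50) (nat_lit 1142) (.node (.node (.node (.node (.node (.node (.node .nil
  (nat_lit 1203) (nat_lit 18) (nat_lit 114) .nil) (nat_lit 1221) (nat_lit 66) (nat_lit 1178) .nil) (nat_lit
  1226) (nat_lit 80) (nat_lit 1580) (.node (.node .nil (nat_lit 1228) (nat_lit 34) (nat_lit 1203) .nil)
  (nat_lit 1229) (nat_lit 98) (nat_lit 1079) .nil)) (nat_lit 1245) (nat_lit 96) (nat_lit 520) (.node (.node
  (.node .nil (nat_lit 1249) (nat_lit 17) (nat_lit 114) .nil) (nat_lit 1266) (nat_lit 33) (nat_lit 1249) .nil)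
  (nat_lit 1267) (nat_lit 99) (nat_lit 604) (.node (.node .nil (nat_lit 1270) (nat_lit 96) (nat_lit 324) .nil)
  (nat_lit 1276) (nat_lit 19) (nat_lit 114) .nil))) (nat_lit 1286) (nat_lit 67) (nat_lit 513) (.node (.node
  (.node (.node .nil (nat_lit 1292) (nat_lit 82) (nat_lit 438) .nil) (nat_lit 1296) (nat_lit 98) (nat_lit 559)
  .nil) (nat_lit 1302) (nat_lit 51) (nat_lit 1142) (.node (.node .nil (nat_lit 1303) (nat_lit 98) (nat_lit
  851) .nil) (nat_lit 1305) (nat_lit 80) (nat_lit 284) .nil)) (nat_lit 1314) (nat_lit 66) (nat_lit 1513)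
  (.node (.node (.node .nil (nat_lit 1320) (nat_lit 112) (nat_lit 1267) .nil) (nat_lit 1332) (nat_lit 32)
  (nat_lit 1276) .nil) (nat_lit 1348) (nat_lit 96) (nat_lit 1607) (.node .nil (nat_lit 1358) (nat_lit 82)
  (nat_lit 1286) .nil)))) (nat_lit 1365) (nat_lit 64) (nat_lit 1513) (.node (.node (.node (.node (.node .nil
  (nat_lit 1377) (nat_lit 114) (nat_lit 1267) .nil) (nat_lit 1378) (nat_lit 80) (nat_lit 1286) .nil) (nat_lit
  1388) (nat_lit 67) (nat_lit 1609) (.node (.node .nil (nat_lit 1390) (nat_lit 99) (nat_lit 1541) .nil)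
  (nat_lit 1397) (nat_lit 34) (nat_lit 1249) .nil)) (nat_lit 1403) (nat_lit 50) (nat_lit 848) (.node (.node
  (.node .nil (nat_lit 1410) (nat_lit 115) (nat_lit 1581) .nil) (nat_lit 1421) (nat_lit 64) (nat_lit 1178)
  .nil) (nat_lit 1426) (nat_lit 66) (nat_lit 305) (.node .nil (nat_lit 1429) (nat_lit 96) (nat_lit 1161)
  .nil))) (nat_lit 1436) (nat_lit 51) (nat_lit 299) (.node (.node (.node (.node .nil (nat_lit 1438) (nat_lit
  80) (nat_lit 1158) .nil) (nat_lit 1439) (nat_lit 83) (nat_lit 1617) .nil) (nat_lit 1440) (nat_lit 131)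
  (nat_lit 1067) (.node (.node .nil (nat_lit 1466) (nat_lit 80) (nat_lit 874) .nil) (nat_lit 1471) (nat_lit
  83) (nat_lit 1492) .nil)) (nat_lit 1481) (nat_lit 64) (nat_lit 1436) (.node (.node (.node .nil (nat_lit
  1486) (nat_lit 35) (nat_lit 1611) .nil) (nat_lit 1492) (nat_lit 66) (nat_lit 1666) .nil) (nat_lit 1510)
  (nat_lit 98) (nat_lit 1592) (.node .nil (nat_lit 1511) (nat_lit 80) (nat_lit 1655) .nil))))) (nat_lit 1513)
  (nat_lit 50) (nat_lit 1486) (.node (.node (.node (.node (.node (.node .nil (nat_lit 1514) (nat_lit 48)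
  (nat_lit 269) .nil) (nat_lit 1516) (nat_lit 98) (nat_lit 1511) .nil) (nat_lit 1522) (nat_lit 64) (nat_lit
  353) (.node (.node .nil (nat_lit 1540) (nat_lit 51) (nat_lit 1397) .nil) (nat_lit 1541) (nat_lit 82)
  (nat_lit 1033) .nil)) (nat_lit 1580) (nat_lit 67) (nat_lit 1403) (.node (.node (.node .nil (nat_lit 1581)
  (nat_lit 98) (nat_lit 1226) .nil) (nat_lit 1591) (nat_lit 96) (nat_lit 1592) .nil) (nat_lit 1592) (nat_lit
  82) (nat_lit 1655) (.node (.node .nil (nat_lit 1603) (nat_lit 66) (nat_lit 1514) .nil) (nat_lit 1605)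
  (nat_lit 114) (nat_lit 1123) .nil))) (nat_lit 1607) (nat_lit 83) (nat_lit 1365) (.node (.node (.node (.node
  .nil (nat_lit 1609) (nat_lit 48) (nat_lit 1142) .nil) (nat_lit 1611) (nat_lit 16) (nat_lit 114) .nil)
  (nat_lit 1614) (nat_lit 82) (nat_lit 1481) (.node (.node .nil (nat_lit 1617) (nat_lit 66) (nat_lit 353)
  .nil) (nat_lit 1620) (nat_lit 82) (nat_lit 1522) .nil)) (nat_lit 1622) (nat_lit 99) (nat_lit 1620) (.node
  (.node (.node .nil (nat_lit 1628) (nat_lit 83) (nat_lit 1603) .nil) (nat_lit 1629) (nat_lit 130) (nat_lit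
  873) .nil) (nat_lit 1631) (nat_lit 112) (nat_lit 117) (.node .nil (nat_lit 1632) (nat_lit 128) (nat_lit 873)
  .nil)))) (nat_lit 1633) (nat_lit 66) (nat_lit 875) (.node (.node (.node (.node (.node .nil (nat_lit 1635)
  (nat_lit 96) (nat_lit 559) .nil) (nat_lit 1636) (nat_lit 98) (nat_lit 1109) .nil) (nat_lit 1655) (nat_lit
  67) (nat_lit 361) (.node (.node .nil (nat_lit 1658) (nat_lit 96) (nat_lit 327) .nil) (nat_lit 1666) (nat_lit
  48) (nat_lit 1486) .nil)) (nat_lit 1668) (nat_lit 80) (nat_lit 1388) (.node (.node (.node .nil (nat_lit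
  1677) (nat_lit 114) (nat_lit 117) .nil) (nat_lit 1683) (nat_lit 64) (nat_lit 875) .nil) (nat_lit 1691)
  (nat_lit 50) (nat_lit 269) (.node .nil (nat_lit 1694) (nat_lit 35) (nat_lit 1203) .nil))) (nat_lit 1696)
  (nat_lit 112) (nat_lit 1699) (.node (.node (.node (.node .nil (nat_lit 1697) (nat_lit 114) (nat_lit 1699)
  .nil) (nat_lit 1699) (nat_lit 98) (nat_lit 1721) .nil) (nat_lit 1711) (nat_lit 66) (nat_lit 1754) (.node
  (.node .nil (nat_lit 1721) (nat_lit 83) (nat_lit 1099) .nil) (nat_lit 1730) (nat_lit 114) (nat_lit 1774)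
  .nil)) (nat_lit 1747) (nat_lit 48) (nat_lit 1694) (.node (.node (.node .nil (nat_lit 1748) (nat_lit 64)
  (nat_lit 1754) .nil) (nat_lit 1754) (nat_lit 50) (nat_lit 1694) .nil) (nat_lit 1774) (nat_lit 96) (nat_lit
  1721) (.node .nil (nat_lit 1776) (nat_lit 66) (nat_lit 1747) .nil)))))))
def lA3 : Lvl := ⟨nat_lit 114, [nat_lit 15, nat_lit 22, nat_lit 13, nat_lit 9], [], lA3t⟩
def lX1t_0 : T := (.node (.node (.node (.node (.node (.node (.node .nil (nat_lit 0) (nat_lit 0) (nat_lit 0)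
  .nil) (nat_lit 1) (nat_lit 146) (nat_lit 940) (.node .nil (nat_lit 2) (nat_lit 160) (nat_lit 1529) .nil))
  (nat_lit 3) (nat_lit 178) (nat_lit 218) (.node (.node .nil (nat_lit 4) (nat_lit 178) (nat_lit 82) .nil)
  (nat_lit 5) (nat_lit 160) (nat_lit 1528) .nil)) (nat_lit 6) (nat_lit 112) (nat_lit 1022) (.node (.node
  (.node .nil (nat_lit 7) (nat_lit 146) (nat_lit 1534) .nil) (nat_lit 8) (nat_lit 128) (nat_lit 1029) (.node
  .nil (nat_lit 9) (nat_lit 146) (nat_lit 1523) .nil)) (nat_lit 10) (nat_lit 177) (nat_lit 1570) (.node (.node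
  .nil (nat_lit 11) (nat_lit 192) (nat_lit 217) .nil) (nat_lit 12) (nat_lit 192) (nat_lit 83) .nil))) (nat_lit
  13) (nat_lit 208) (nat_lit 432) (.node (.node (.node (.node .nil (nat_lit 18) (nat_lit 16) (nat_lit 0) .nil)
  (nat_lit 19) (nat_lit 50) (nat_lit 719) (.node .nil (nat_lit 20) (nat_lit 210) (nat_lit 29) .nil)) (nat_lit
  21) (nat_lit 177) (nat_lit 583) (.node (.node .nil (nat_lit 22) (nat_lit 145) (nat_lit 84) .nil) (nat_lit
  23) (nat_lit 145) (nat_lit 85) .nil)) (nat_lit 24) (nat_lit 193) (nat_lit 3) (.node (.node (.node .nil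
  (nat_lit 25) (nat_lit 129) (nat_lit 1533) .nil) (nat_lit 26) (nat_lit 145) (nat_lit 1523) .nil) (nat_lit 27)
  (nat_lit 177) (nat_lit 5) (.node (.node .nil (nat_lit 29) (nat_lit 192) (nat_lit 1055) .nil) (nat_lit 30)
  (nat_lit 192) (nat_lit 779) .nil)))) (nat_lit 31) (nat_lit 210) (nat_lit 1572) (.node (.node (.node (.node
  (.node .nil (nat_lit 32) (nat_lit 194) (nat_lit 21) .nil) (nat_lit 34) (nat_lit 49) (nat_lit 939) (.node
  .nil (nat_lit 41) (nat_lit 129) (nat_lit 234) .nil)) (nat_lit 42) (nat_lit 161) (nat_lit 233) (.node (.node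
  .nil (nat_lit 43) (nat_lit 178) (nat_lit 42) .nil) (nat_lit 44) (nat_lit 146) (nat_lit 41) .nil)) (nat_lit
  45) (nat_lit 114) (nat_lit 1006) (.node (.node (.node .nil (nat_lit 46) (nat_lit 193) (nat_lit 827) .nil)
  (nat_lit 47) (nat_lit 128) (nat_lit 715) .nil) (nat_lit 48) (nat_lit 98) (nat_lit 1007) (.node (.node .nil
  (nat_lit 49) (nat_lit 178) (nat_lit 375) .nil) (nat_lit 50) (nat_lit 194) (nat_lit 379) .nil))) (nat_lit 51)
  (nat_lit 178) (nat_lit 380) (.node (.node (.node (.node .nil (nat_lit 52) (nat_lit 160) (nat_lit 1005) .nil)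
  (nat_lit 53) (nat_lit 98) (nat_lit 1765) (.node .nil (nat_lit 54) (nat_lit 98) (nat_lit 943) .nil)) (nat_lit
  55) (nat_lit 97) (nat_lit 943) (.node (.node .nil (nat_lit 58) (nat_lit 129) (nat_lit 813) .nil) (nat_lit
  59) (nat_lit 145) (nat_lit 802) .nil)) (nat_lit 62) (nat_lit 162) (nat_lit 997) (.node (.node (.node .nil
  (nat_lit 63) (nat_lit 114) (nat_lit 996) .nil) (nat_lit 64) (nat_lit 114) (nat_lit 200) .nil) (nat_lit 65)
  (nat_lit 130) (nat_lit 163) (.node (.node .nil (nat_lit 68) (nat_lit 98) (nat_lit 197) .nil) (nat_lit 69)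
  (nat_lit 82) (nat_lit 164) .nil))))) (nat_lit 82) (nat_lit 160) (nat_lit 23) (.node (.node (.node (.node
  (.node (.node .nil (nat_lit 83) (nat_lit 178) (nat_lit 2) .nil) (nat_lit 84) (nat_lit 128) (nat_lit 98)
  (.node .nil (nat_lit 85) (nat_lit 128) (nat_lit 95) .nil)) (nat_lit 95) (nat_lit 113) (nat_lit 1017) (.node
  (.node .nil (nat_lit 96) (nat_lit 176) (nat_lit 220) .nil) (nat_lit 97) (nat_lit 161) (nat_lit 1015) .nil))
  (nat_lit 98) (nat_lit 113) (nat_lit 1016) (.node (.node (.node .nil (nat_lit 109) (nat_lit 178) (nat_lit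
  166) .nil) (nat_lit 110) (nat_lit 210) (nat_lit 169) .nil) (nat_lit 111) (nat_lit 130) (nat_lit 261) (.node
  (.node .nil (nat_lit 123) (nat_lit 98) (nat_lit 246) .nil) (nat_lit 124) (nat_lit 146) (nat_lit 245) .nil)))
  (nat_lit 127) (nat_lit 162) (nat_lit 250) (.node (.node (.node (.node .nil (nat_lit 128) (nat_lit 96)
  (nat_lit 491) .nil) (nat_lit 131) (nat_lit 193) (nat_lit 951) (.node .nil (nat_lit 139) (nat_lit 194)
  (nat_lit 172) .nil)) (nat_lit 140) (nat_lit 177) (nat_lit 181) (.node (.node .nil (nat_lit 141) (nat_lit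
  113) (nat_lit 871) .nil) (nat_lit 142) (nat_lit 178) (nat_lit 158) .nil)) (nat_lit 143) (nat_lit 160)
  (nat_lit 385) (.node (.node (.node .nil (nat_lit 144) (nat_lit 144) (nat_lit 262) .nil) (nat_lit 145)
  (nat_lit 176) (nat_lit 821) .nil) (nat_lit 146) (nat_lit 146) (nat_lit 707) (.node (.node .nil (nat_lit 147)
  (nat_lit 162) (nat_lit 233) .nil) (nat_lit 148) (nat_lit 128) (nat_lit 923) .nil)))) (nat_lit 149) (nat_lit
  113) (nat_lit 705) (.node (.node (.node (.node (.node .nil (nat_lit 150) (nat_lit 146) (nat_lit 381) .nil)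
  (nat_lit 151) (nat_lit 162) (nat_lit 385) (.node .nil (nat_lit 152) (nat_lit 97) (nat_lit 706) .nil))
  (nat_lit 156) (nat_lit 98) (nat_lit 203) (.node (.node .nil (nat_lit 157) (nat_lit 48) (nat_lit 942) .nil)
  (nat_lit 158) (nat_lit 160) (nat_lit 1525) .nil)) (nat_lit 161) (nat_lit 129) (nat_lit 920) (.node (.node
  (.node .nil (nat_lit 163) (nat_lit 113) (nat_lit 156) .nil) (nat_lit 164) (nat_lit 65) (nat_lit 157) .nil)
  (nat_lit 166) (nat_lit 161) (nat_lit 144) (.node (.node .nil (nat_lit 168) (nat_lit 177) (nat_lit 143) .nil)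
  (nat_lit 169) (nat_lit 193) (nat_lit 492) .nil))) (nat_lit 172) (nat_lit 177) (nat_lit 489) (.node (.node
  (.node (.node .nil (nat_lit 173) (nat_lit 162) (nat_lit 708) .nil) (nat_lit 176) (nat_lit 160) (nat_lit
  1050) (.node .nil (nat_lit 177) (nat_lit 130) (nat_lit 234) .nil)) (nat_lit 180) (nat_lit 160) (nat_lit 879)
  (.node (.node .nil (nat_lit 181) (nat_lit 160) (nat_lit 1009) .nil) (nat_lit 184) (nat_lit 160) (nat_lit
  884) .nil)) (nat_lit 185) (nat_lit 130) (nat_lit 260) (.node (.node (.node .nil (nat_lit 188) (nat_lit 176)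
  (nat_lit 1004) .nil) (nat_lit 189) (nat_lit 65) (nat_lit 709) .nil) (nat_lit 192) (nat_lit 160) (nat_lit
  810) (.node (.node .nil (nat_lit 193) (nat_lit 146) (nat_lit 382) .nil) (nat_lit 196) (nat_lit 81) (nat_lit
  704) .nil))))))
def lX1t_1 : T := (.node (.node (.node (.node (.node (.node (.node .nil (nat_lit 200) (nat_lit 97) (nat_lit
  203) .nil) (nat_lit 202) (nat_lit 66) (nat_lit 157) (.node .nil (nat_lit 203) (nat_lit 80) (nat_lit 1771)
  .nil)) (nat_lit 209) (nat_lit 113) (nat_lit 123) (.node (.node .nil (nat_lit 212) (nat_lit 161) (nat_lit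
  837) .nil) (nat_lit 214) (nat_lit 113) (nat_lit 128) .nil)) (nat_lit 215) (nat_lit 145) (nat_lit 912) (.node
  (.node (.node .nil (nat_lit 217) (nat_lit 178) (nat_lit 5) .nil) (nat_lit 218) (nat_lit 160) (nat_lit 22)
  .nil) (nat_lit 219) (nat_lit 146) (nat_lit 1526) (.node (.node .nil (nat_lit 220) (nat_lit 161) (nat_lit
  219) .nil) (nat_lit 223) (nat_lit 128) (nat_lit 865) .nil))) (nat_lit 224) (nat_lit 128) (nat_lit 921)
  (.node (.node (.node (.node .nil (nat_lit 227) (nat_lit 192) (nat_lit 878) .nil) (nat_lit 228) (nat_lit 146)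
  (nat_lit 1018) (.node .nil (nat_lit 229) (nat_lit 192) (nat_lit 492) .nil)) (nat_lit 230) (nat_lit 161)
  (nat_lit 44) (.node (.node .nil (nat_lit 233) (nat_lit 144) (nat_lit 490) .nil) (nat_lit 234) (nat_lit 112)
  (nat_lit 123) .nil)) (nat_lit 239) (nat_lit 162) (nat_lit 680) (.node (.node (.node .nil (nat_lit 240)
  (nat_lit 146) (nat_lit 679) .nil) (nat_lit 243) (nat_lit 160) (nat_lit 1021) .nil) (nat_lit 244) (nat_lit
  145) (nat_lit 962) (.node (.node .nil (nat_lit 245) (nat_lit 129) (nat_lit 464) .nil) (nat_lit 246) (nat_lit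
  81) (nat_lit 463) .nil)))) (nat_lit 249) (nat_lit 81) (nat_lit 461) (.node (.node (.node (.node (.node .nil
  (nat_lit 250) (nat_lit 145) (nat_lit 462) .nil) (nat_lit 259) (nat_lit 112) (nat_lit 54) (.node .nil
  (nat_lit 260) (nat_lit 112) (nat_lit 68) .nil)) (nat_lit 261) (nat_lit 112) (nat_lit 152) (.node (.node .nil
  (nat_lit 262) (nat_lit 130) (nat_lit 141) .nil) (nat_lit 263) (nat_lit 64) (nat_lit 413) .nil)) (nat_lit
  264) (nat_lit 64) (nat_lit 19) (.node (.node (.node .nil (nat_lit 265) (nat_lit 144) (nat_lit 414) .nil)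
  (nat_lit 266) (nat_lit 178) (nat_lit 184) .nil) (nat_lit 375) (nat_lit 160) (nat_lit 977) (.node (.node .nil
  (nat_lit 376) (nat_lit 176) (nat_lit 815) .nil) (nat_lit 379) (nat_lit 176) (nat_lit 643) .nil))) (nat_lit
  380) (nat_lit 160) (nat_lit 811) (.node (.node (.node (.node .nil (nat_lit 381) (nat_lit 128) (nat_lit 149)
  .nil) (nat_lit 382) (nat_lit 128) (nat_lit 64) (.node .nil (nat_lit 385) (nat_lit 145) (nat_lit 982) .nil))
  (nat_lit 386) (nat_lit 177) (nat_lit 881) (.node (.node .nil (nat_lit 411) (nat_lit 50) (nat_lit 942) .nil)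
  (nat_lit 412) (nat_lit 130) (nat_lit 469) .nil)) (nat_lit 413) (nat_lit 49) (nat_lit 416) (.node (.node
  (.node .nil (nat_lit 414) (nat_lit 130) (nat_lit 1766) .nil) (nat_lit 415) (nat_lit 145) (nat_lit 414) .nil)
  (nat_lit 416) (nat_lit 34) (nat_lit 718) (.node (.node .nil (nat_lit 429) (nat_lit 193) (nat_lit 1048) .nil)
  (nat_lit 430) (nat_lit 209) (nat_lit 1049) .nil))))) (nat_lit 431) (nat_lit 177) (nat_lit 1046) (.node
  (.node (.node (.node (.node (.node .nil (nat_lit 432) (nat_lit 194) (nat_lit 431) .nil) (nat_lit 461)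
  (nat_lit 64) (nat_lit 34) (.node .nil (nat_lit 462) (nat_lit 130) (nat_lit 464) .nil)) (nat_lit 463)
  (nat_lit 64) (nat_lit 411) (.node (.node .nil (nat_lit 464) (nat_lit 112) (nat_lit 53) .nil) (nat_lit 467)
  (nat_lit 34) (nat_lit 18) .nil)) (nat_lit 468) (nat_lit 18) (nat_lit 0) (.node (.node (.node .nil (nat_lit
  469) (nat_lit 112) (nat_lit 156) .nil) (nat_lit 470) (nat_lit 162) (nat_lit 909) .nil) (nat_lit 471)
  (nat_lit 144) (nat_lit 809) (.node (.node .nil (nat_lit 472) (nat_lit 161) (nat_lit 1050) .nil) (nat_lit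
  485) (nat_lit 81) (nat_lit 263) .nil))) (nat_lit 486) (nat_lit 194) (nat_lit 1047) (.node (.node (.node
  (.node .nil (nat_lit 487) (nat_lit 161) (nat_lit 265) .nil) (nat_lit 488) (nat_lit 176) (nat_lit 487) (.node
  .nil (nat_lit 489) (nat_lit 160) (nat_lit 124) .nil)) (nat_lit 490) (nat_lit 129) (nat_lit 259) (.node
  (.node .nil (nat_lit 491) (nat_lit 81) (nat_lit 264) .nil) (nat_lit 492) (nat_lit 178) (nat_lit 1046) .nil))
  (nat_lit 502) (nat_lit 82) (nat_lit 1700) (.node (.node (.node .nil (nat_lit 506) (nat_lit 130) (nat_lit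
  903) .nil) (nat_lit 578) (nat_lit 112) (nat_lit 200) .nil) (nat_lit 579) (nat_lit 146) (nat_lit 912) (.node
  (.node .nil (nat_lit 580) (nat_lit 178) (nat_lit 834) .nil) (nat_lit 581) (nat_lit 161) (nat_lit 602)
  .nil)))) (nat_lit 582) (nat_lit 160) (nat_lit 1527) (.node (.node (.node (.node (.node .nil (nat_lit 583)
  (nat_lit 160) (nat_lit 26) .nil) (nat_lit 592) (nat_lit 160) (nat_lit 593) (.node .nil (nat_lit 593)
  (nat_lit 145) (nat_lit 177) .nil)) (nat_lit 594) (nat_lit 177) (nat_lit 147) (.node (.node .nil (nat_lit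
  595) (nat_lit 194) (nat_lit 594) .nil) (nat_lit 602) (nat_lit 144) (nat_lit 41) .nil)) (nat_lit 605)
  (nat_lit 144) (nat_lit 1564) (.node (.node (.node .nil (nat_lit 643) (nat_lit 161) (nat_lit 854) .nil)
  (nat_lit 644) (nat_lit 130) (nat_lit 715) .nil) (nat_lit 645) (nat_lit 129) (nat_lit 261) (.node (.node .nil
  (nat_lit 646) (nat_lit 144) (nat_lit 707) .nil) (nat_lit 678) (nat_lit 177) (nat_lit 375) .nil))) (nat_lit
  679) (nat_lit 129) (nat_lit 978) (.node (.node (.node (.node .nil (nat_lit 680) (nat_lit 145) (nat_lit 877)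
  .nil) (nat_lit 681) (nat_lit 144) (nat_lit 842) (.node .nil (nat_lit 682) (nat_lit 177) (nat_lit 380) .nil))
  (nat_lit 683) (nat_lit 193) (nat_lit 379) (.node (.node .nil (nat_lit 684) (nat_lit 162) (nat_lit 244) .nil)
  (nat_lit 689) (nat_lit 193) (nat_lit 376) .nil)) (nat_lit 690) (nat_lit 160) (nat_lit 1015) (.node (.node
  (.node .nil (nat_lit 691) (nat_lit 162) (nat_lit 605) .nil) (nat_lit 692) (nat_lit 144) (nat_lit 25) .nil)
  (nat_lit 693) (nat_lit 178) (nat_lit 1569) (.node (.node .nil (nat_lit 702) (nat_lit 176) (nat_lit 691)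
  .nil) (nat_lit 703) (nat_lit 145) (nat_lit 1566) .nil))))))
def lX1t_2 : T := (.node (.node (.node (.node (.node (.node (.node .nil (nat_lit 705) (nat_lit 98) (nat_lit
  706) .nil) (nat_lit 706) (nat_lit 80) (nat_lit 1772) (.node .nil (nat_lit 707) (nat_lit 129) (nat_lit 1559)
  .nil)) (nat_lit 708) (nat_lit 144) (nat_lit 839) (.node (.node .nil (nat_lit 709) (nat_lit 48) (nat_lit 719)
  .nil) (nat_lit 714) (nat_lit 144) (nat_lit 1565) .nil)) (nat_lit 715) (nat_lit 113) (nat_lit 48) (.node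
  (.node (.node .nil (nat_lit 718) (nat_lit 17) (nat_lit 0) .nil) (nat_lit 719) (nat_lit 33) (nat_lit 18)
  .nil) (nat_lit 779) (nat_lit 178) (nat_lit 581) (.node (.node .nil (nat_lit 780) (nat_lit 194) (nat_lit 798)
  .nil) (nat_lit 796) (nat_lit 177) (nat_lit 82) .nil))) (nat_lit 797) (nat_lit 177) (nat_lit 799) (.node
  (.node (.node (.node .nil (nat_lit 798) (nat_lit 177) (nat_lit 582) .nil) (nat_lit 799) (nat_lit 162)
  (nat_lit 692) (.node .nil (nat_lit 801) (nat_lit 96) (nat_lit 1013) .nil)) (nat_lit 802) (nat_lit 128)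
  (nat_lit 850) (.node (.node .nil (nat_lit 808) (nat_lit 160) (nat_lit 829) .nil) (nat_lit 809) (nat_lit 129)
  (nat_lit 578) .nil)) (nat_lit 810) (nat_lit 146) (nat_lit 802) (.node (.node (.node .nil (nat_lit 811)
  (nat_lit 146) (nat_lit 830) .nil) (nat_lit 812) (nat_lit 80) (nat_lit 164) .nil) (nat_lit 813) (nat_lit 112)
  (nat_lit 836) (.node (.node .nil (nat_lit 814) (nat_lit 146) (nat_lit 645) .nil) (nat_lit 815) (nat_lit 162)
  (nat_lit 826) .nil)))) (nat_lit 816) (nat_lit 128) (nat_lit 163) (.node (.node (.node (.node (.node .nil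
  (nat_lit 817) (nat_lit 144) (nat_lit 830) .nil) (nat_lit 821) (nat_lit 162) (nat_lit 967) (.node .nil
  (nat_lit 822) (nat_lit 161) (nat_lit 847) .nil)) (nat_lit 826) (nat_lit 145) (nat_lit 506) (.node (.node
  .nil (nat_lit 827) (nat_lit 176) (nat_lit 151) .nil) (nat_lit 828) (nat_lit 129) (nat_lit 45) .nil))
  (nat_lit 829) (nat_lit 146) (nat_lit 816) (.node (.node (.node .nil (nat_lit 830) (nat_lit 129) (nat_lit
  923) .nil) (nat_lit 831) (nat_lit 97) (nat_lit 1007) .nil) (nat_lit 832) (nat_lit 97) (nat_lit 812) (.node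
  (.node .nil (nat_lit 833) (nat_lit 130) (nat_lit 921) .nil) (nat_lit 834) (nat_lit 161) (nat_lit 1009)
  .nil))) (nat_lit 835) (nat_lit 144) (nat_lit 245) (.node (.node (.node (.node .nil (nat_lit 836) (nat_lit
  98) (nat_lit 812) .nil) (nat_lit 837) (nat_lit 144) (nat_lit 111) (.node .nil (nat_lit 838) (nat_lit 145)
  (nat_lit 148) .nil)) (nat_lit 839) (nat_lit 130) (nat_lit 925) (.node (.node .nil (nat_lit 840) (nat_lit
  162) (nat_lit 879) .nil) (nat_lit 841) (nat_lit 114) (nat_lit 871) .nil)) (nat_lit 842) (nat_lit 129)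
  (nat_lit 919) (.node (.node (.node .nil (nat_lit 843) (nat_lit 160) (nat_lit 703) .nil) (nat_lit 844)
  (nat_lit 113) (nat_lit 996) .nil) (nat_lit 845) (nat_lit 178) (nat_lit 1562) (.node (.node .nil (nat_lit
  846) (nat_lit 160) (nat_lit 680) .nil) (nat_lit 847) (nat_lit 144) (nat_lit 833) .nil))))) (nat_lit 849)
  (nat_lit 129) (nat_lit 260) (.node (.node (.node (.node (.node (.node .nil (nat_lit 850) (nat_lit 114)
  (nat_lit 961) .nil) (nat_lit 853) (nat_lit 144) (nat_lit 877) (.node .nil (nat_lit 854) (nat_lit 146)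
  (nat_lit 1561) .nil)) (nat_lit 858) (nat_lit 162) (nat_lit 955) (.node (.node .nil (nat_lit 859) (nat_lit
  146) (nat_lit 828) .nil) (nat_lit 860) (nat_lit 160) (nat_lit 956) .nil)) (nat_lit 861) (nat_lit 128)
  (nat_lit 1012) (.node (.node (.node .nil (nat_lit 862) (nat_lit 160) (nat_lit 193) .nil) (nat_lit 863)
  (nat_lit 178) (nat_lit 643) .nil) (nat_lit 864) (nat_lit 178) (nat_lit 472) (.node (.node .nil (nat_lit 865)
  (nat_lit 113) (nat_lit 961) .nil) (nat_lit 866) (nat_lit 144) (nat_lit 161) .nil))) (nat_lit 867) (nat_lit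
  161) (nat_lit 681) (.node (.node (.node (.node .nil (nat_lit 871) (nat_lit 96) (nat_lit 246) .nil) (nat_lit
  872) (nat_lit 162) (nat_lit 866) (.node .nil (nat_lit 876) (nat_lit 144) (nat_lit 1011) .nil)) (nat_lit 877)
  (nat_lit 130) (nat_lit 916) (.node (.node .nil (nat_lit 878) (nat_lit 178) (nat_lit 880) .nil) (nat_lit 879)
  (nat_lit 145) (nat_lit 111) .nil)) (nat_lit 880) (nat_lit 161) (nat_lit 979) (.node (.node (.node .nil
  (nat_lit 881) (nat_lit 162) (nat_lit 837) .nil) (nat_lit 882) (nat_lit 178) (nat_lit 948) .nil) (nat_lit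
  883) (nat_lit 145) (nat_lit 382) (.node (.node .nil (nat_lit 884) (nat_lit 146) (nat_lit 896) .nil) (nat_lit
  885) (nat_lit 130) (nat_lit 578) .nil)))) (nat_lit 896) (nat_lit 129) (nat_lit 63) (.node (.node (.node
  (.node (.node .nil (nat_lit 897) (nat_lit 162) (nat_lit 915) .nil) (nat_lit 902) (nat_lit 178) (nat_lit 862)
  (.node .nil (nat_lit 903) (nat_lit 112) (nat_lit 1010) .nil)) (nat_lit 904) (nat_lit 162) (nat_lit 853)
  (.node (.node .nil (nat_lit 907) (nat_lit 161) (nat_lit 714) .nil) (nat_lit 908) (nat_lit 145) (nat_lit 47)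
  .nil)) (nat_lit 909) (nat_lit 144) (nat_lit 982) (.node (.node (.node .nil (nat_lit 912) (nat_lit 128)
  (nat_lit 63) .nil) (nat_lit 915) (nat_lit 145) (nat_lit 839) .nil) (nat_lit 916) (nat_lit 112) (nat_lit
  1016) (.node (.node .nil (nat_lit 918) (nat_lit 178) (nat_lit 867) .nil) (nat_lit 919) (nat_lit 114)
  (nat_lit 801) .nil))) (nat_lit 920) (nat_lit 112) (nat_lit 48) (.node (.node (.node (.node .nil (nat_lit
  921) (nat_lit 113) (nat_lit 836) .nil) (nat_lit 923) (nat_lit 114) (nat_lit 832) (.node .nil (nat_lit 924)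
  (nat_lit 128) (nat_lit 978) .nil)) (nat_lit 925) (nat_lit 113) (nat_lit 801) (.node (.node .nil (nat_lit
  928) (nat_lit 178) (nat_lit 690) .nil) (nat_lit 929) (nat_lit 146) (nat_lit 842) .nil)) (nat_lit 932)
  (nat_lit 162) (nat_lit 847) (.node (.node (.node .nil (nat_lit 933) (nat_lit 161) (nat_lit 997) .nil)
  (nat_lit 936) (nat_lit 160) (nat_lit 228) .nil) (nat_lit 937) (nat_lit 130) (nat_lit 1559) (.node (.node
  .nil (nat_lit 938) (nat_lit 161) (nat_lit 1) .nil) (nat_lit 939) (nat_lit 32) (nat_lit 718) .nil))))))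
def lX1t_3 : T := (.node (.node (.node (.node (.node (.node (.node .nil (nat_lit 941) (nat_lit 114) (nat_lit
  55) .nil) (nat_lit 942) (nat_lit 33) (nat_lit 468) (.node .nil (nat_lit 943) (nat_lit 80) (nat_lit 704)
  .nil)) (nat_lit 946) (nat_lit 162) (nat_lit 876) (.node (.node .nil (nat_lit 948) (nat_lit 161) (nat_lit
  876) .nil) (nat_lit 949) (nat_lit 130) (nat_lit 813) .nil)) (nat_lit 951) (nat_lit 178) (nat_lit 808) (.node
  (.node (.node .nil (nat_lit 952) (nat_lit 145) (nat_lit 262) .nil) (nat_lit 955) (nat_lit 145) (nat_lit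
  1561) .nil) (nat_lit 956) (nat_lit 146) (nat_lit 861) (.node (.node .nil (nat_lit 961) (nat_lit 96) (nat_lit
  197) .nil) (nat_lit 962) (nat_lit 128) (nat_lit 919) .nil))) (nat_lit 967) (nat_lit 144) (nat_lit 937)
  (.node (.node (.node (.node .nil (nat_lit 968) (nat_lit 162) (nat_lit 835) .nil) (nat_lit 971) (nat_lit 145)
  (nat_lit 861) (.node .nil (nat_lit 977) (nat_lit 146) (nat_lit 809) .nil)) (nat_lit 978) (nat_lit 114)
  (nat_lit 831) (.node (.node .nil (nat_lit 979) (nat_lit 144) (nat_lit 679) .nil) (nat_lit 982) (nat_lit 130)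
  (nat_lit 920) .nil)) (nat_lit 988) (nat_lit 146) (nat_lit 924) (.node (.node (.node .nil (nat_lit 989)
  (nat_lit 162) (nat_lit 979) .nil) (nat_lit 990) (nat_lit 176) (nat_lit 1570) .nil) (nat_lit 993) (nat_lit
  177) (nat_lit 1000) (.node (.node .nil (nat_lit 994) (nat_lit 193) (nat_lit 1003) .nil) (nat_lit 995)
  (nat_lit 193) (nat_lit 1002) .nil)))) (nat_lit 996) (nat_lit 96) (nat_lit 196) (.node (.node (.node (.node
  (.node .nil (nat_lit 997) (nat_lit 144) (nat_lit 65) .nil) (nat_lit 1000) (nat_lit 162) (nat_lit 144) (.node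
  .nil (nat_lit 1001) (nat_lit 178) (nat_lit 181) .nil)) (nat_lit 1002) (nat_lit 178) (nat_lit 143) (.node
  (.node .nil (nat_lit 1003) (nat_lit 176) (nat_lit 470) .nil) (nat_lit 1004) (nat_lit 162) (nat_lit 59)
  .nil)) (nat_lit 1005) (nat_lit 145) (nat_lit 937) (.node (.node (.node .nil (nat_lit 1006) (nat_lit 96)
  (nat_lit 69) .nil) (nat_lit 1007) (nat_lit 80) (nat_lit 189) .nil) (nat_lit 1008) (nat_lit 193) (nat_lit
  918) (.node (.node .nil (nat_lit 1009) (nat_lit 146) (nat_lit 47) .nil) (nat_lit 1010) (nat_lit 98) (nat_lit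
  196) .nil))) (nat_lit 1011) (nat_lit 130) (nat_lit 149) (.node (.node (.node (.node .nil (nat_lit 1012)
  (nat_lit 114) (nat_lit 152) .nil) (nat_lit 1013) (nat_lit 82) (nat_lit 189) (.node .nil (nat_lit 1014)
  (nat_lit 176) (nat_lit 472) .nil)) (nat_lit 1015) (nat_lit 146) (nat_lit 490) (.node (.node .nil (nat_lit
  1016) (nat_lit 98) (nat_lit 485) .nil) (nat_lit 1017) (nat_lit 98) (nat_lit 491) .nil)) (nat_lit 1018)
  (nat_lit 129) (nat_lit 841) (.node (.node (.node .nil (nat_lit 1019) (nat_lit 176) (nat_lit 173) .nil)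
  (nat_lit 1020) (nat_lit 146) (nat_lit 224) .nil) (nat_lit 1021) (nat_lit 145) (nat_lit 924) (.node (.node
  .nil (nat_lit 1022) (nat_lit 97) (nat_lit 1013) .nil) (nat_lit 1023) (nat_lit 129) (nat_lit 1012) .nil)))))
  (nat_lit 1024) (nat_lit 114) (nat_lit 1025) (.node (.node (.node (.node (.node (.node .nil (nat_lit 1025)
  (nat_lit 97) (nat_lit 69) .nil) (nat_lit 1026) (nat_lit 144) (nat_lit 1524) (.node .nil (nat_lit 1027)
  (nat_lit 129) (nat_lit 64) .nil)) (nat_lit 1028) (nat_lit 146) (nat_lit 1023) (.node (.node .nil (nat_lit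
  1029) (nat_lit 114) (nat_lit 1022) .nil) (nat_lit 1046) (nat_lit 160) (nat_lit 988) .nil)) (nat_lit 1047)
  (nat_lit 176) (nat_lit 904) (.node (.node (.node .nil (nat_lit 1048) (nat_lit 178) (nat_lit 489) .nil)
  (nat_lit 1049) (nat_lit 192) (nat_lit 918) .nil) (nat_lit 1050) (nat_lit 146) (nat_lit 161) (.node (.node
  .nil (nat_lit 1051) (nat_lit 161) (nat_lit 835) .nil) (nat_lit 1052) (nat_lit 146) (nat_lit 148) .nil)))
  (nat_lit 1053) (nat_lit 162) (nat_lit 215) (.node (.node (.node (.node .nil (nat_lit 1054) (nat_lit 193)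
  (nat_lit 49) .nil) (nat_lit 1055) (nat_lit 177) (nat_lit 52) (.node .nil (nat_lit 1056) (nat_lit 209)
  (nat_lit 50) .nil)) (nat_lit 1057) (nat_lit 193) (nat_lit 51) (.node (.node .nil (nat_lit 1523) (nat_lit
  128) (nat_lit 1024) .nil) (nat_lit 1524) (nat_lit 130) (nat_lit 6) .nil)) (nat_lit 1525) (nat_lit 146)
  (nat_lit 85) (.node (.node (.node .nil (nat_lit 1526) (nat_lit 128) (nat_lit 214) .nil) (nat_lit 1527)
  (nat_lit 145) (nat_lit 1532) .nil) (nat_lit 1528) (nat_lit 146) (nat_lit 25) (.node (.node .nil (nat_lit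
  1529) (nat_lit 145) (nat_lit 8) .nil) (nat_lit 1530) (nat_lit 162) (nat_lit 23) .nil)))) (nat_lit 1531)
  (nat_lit 178) (nat_lit 220) (.node (.node (.node (.node (.node .nil (nat_lit 1532) (nat_lit 128) (nat_lit
  209) .nil) (nat_lit 1533) (nat_lit 112) (nat_lit 1025) (.node .nil (nat_lit 1534) (nat_lit 129) (nat_lit 6)
  .nil)) (nat_lit 1559) (nat_lit 112) (nat_lit 1017) (.node (.node .nil (nat_lit 1560) (nat_lit 162) (nat_lit
  646) .nil) (nat_lit 1561) (nat_lit 128) (nat_lit 925) .nil)) (nat_lit 1562) (nat_lit 161) (nat_lit 708)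
  (.node (.node (.node .nil (nat_lit 1563) (nat_lit 178) (nat_lit 933) .nil) (nat_lit 1564) (nat_lit 129)
  (nat_lit 850) .nil) (nat_lit 1565) (nat_lit 130) (nat_lit 865) (.node (.node .nil (nat_lit 1566) (nat_lit
  130) (nat_lit 844) .nil) (nat_lit 1567) (nat_lit 176) (nat_lit 42) .nil))) (nat_lit 1568) (nat_lit 194)
  (nat_lit 797) (.node (.node (.node (.node .nil (nat_lit 1569) (nat_lit 160) (nat_lit 44) .nil) (nat_lit
  1570) (nat_lit 162) (nat_lit 602) (.node .nil (nat_lit 1571) (nat_lit 176) (nat_lit 581) .nil)) (nat_lit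
  1572) (nat_lit 192) (nat_lit 4) (.node (.node .nil (nat_lit 1573) (nat_lit 192) (nat_lit 3) .nil) (nat_lit
  1574) (nat_lit 193) (nat_lit 1571) .nil)) (nat_lit 1700) (nat_lit 65) (nat_lit 1701) (.node (.node (.node
  .nil (nat_lit 1701) (nat_lit 50) (nat_lit 939) .nil) (nat_lit 1765) (nat_lit 81) (nat_lit 1771) .nil)
  (nat_lit 1766) (nat_lit 112) (nat_lit 705) (.node (.node .nil (nat_lit 1771) (nat_lit 66) (nat_lit 34) .nil)
  (nat_lit 1772) (nat_lit 66) (nat_lit 413) .nil))))))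
def lX1t : T := (.node (.node lX1t_0 (nat_lit 197) (nat_lit 81) (nat_lit 202) lX1t_1) (nat_lit 704) (nat_lit
  66) (nat_lit 709) (.node lX1t_2 (nat_lit 940) (nat_lit 128) (nat_lit 941) lX1t_3))
def lX1 : Lvl := ⟨nat_lit 0, [nat_lit 24, nat_lit 15, nat_lit 5], [], lX1t⟩
def lX2t_0 : T := (.node (.node (.node (.node (.node (.node (.node (.node .nil (nat_lit 14) (nat_lit 208)
  (nat_lit 539) .nil) (nat_lit 15) (nat_lit 224) (nat_lit 974) .nil) (nat_lit 16) (nat_lit 176) (nat_lit 724)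
  (.node .nil (nat_lit 17) (nat_lit 225) (nat_lit 255) .nil)) (nat_lit 28) (nat_lit 209) (nat_lit 587) (.node
  (.node .nil (nat_lit 33) (nat_lit 160) (nat_lit 755) .nil) (nat_lit 35) (nat_lit 177) (nat_lit 81) (.node
  .nil (nat_lit 36) (nat_lit 176) (nat_lit 727) .nil))) (nat_lit 37) (nat_lit 224) (nat_lit 434) (.node (.node
  (.node .nil (nat_lit 38) (nat_lit 224) (nat_lit 976) .nil) (nat_lit 39) (nat_lit 176) (nat_lit 761) (.node
  .nil (nat_lit 40) (nat_lit 193) (nat_lit 1191) .nil)) (nat_lit 56) (nat_lit 177) (nat_lit 339) (.node (.node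
  .nil (nat_lit 57) (nat_lit 176) (nat_lit 211) .nil) (nat_lit 60) (nat_lit 209) (nat_lit 330) (.node .nil
  (nat_lit 61) (nat_lit 241) (nat_lit 113) .nil)))) (nat_lit 66) (nat_lit 176) (nat_lit 81) (.node (.node
  (.node (.node .nil (nat_lit 67) (nat_lit 225) (nat_lit 1240) .nil) (nat_lit 70) (nat_lit 209) (nat_lit 1488)
  (.node .nil (nat_lit 71) (nat_lit 161) (nat_lit 856) .nil)) (nat_lit 72) (nat_lit 161) (nat_lit 104) (.node
  (.node .nil (nat_lit 73) (nat_lit 160) (nat_lit 793) .nil) (nat_lit 74) (nat_lit 113) (nat_lit 347) (.node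
  .nil (nat_lit 75) (nat_lit 161) (nat_lit 334) .nil))) (nat_lit 76) (nat_lit 80) (nat_lit 458) (.node (.node
  (.node .nil (nat_lit 77) (nat_lit 145) (nat_lit 1239) .nil) (nat_lit 78) (nat_lit 128) (nat_lit 423) (.node
  .nil (nat_lit 79) (nat_lit 193) (nat_lit 35) .nil)) (nat_lit 80) (nat_lit 225) (nat_lit 754) (.node (.node
  .nil (nat_lit 81) (nat_lit 161) (nat_lit 755) .nil) (nat_lit 86) (nat_lit 225) (nat_lit 1663) (.node .nil
  (nat_lit 87) (nat_lit 177) (nat_lit 1035) .nil))))) (nat_lit 88) (nat_lit 113) (nat_lit 1608) (.node (.node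
  (.node (.node (.node (.node .nil (nat_lit 89) (nat_lit 145) (nat_lit 619) .nil) (nat_lit 90) (nat_lit 0)
  (nat_lit 90) .nil) (nat_lit 91) (nat_lit 81) (nat_lit 116) (.node .nil (nat_lit 92) (nat_lit 16) (nat_lit
  90) .nil)) (nat_lit 93) (nat_lit 192) (nat_lit 957) (.node (.node .nil (nat_lit 94) (nat_lit 225) (nat_lit
  14) .nil) (nat_lit 99) (nat_lit 49) (nat_lit 256) (.node .nil (nat_lit 100) (nat_lit 33) (nat_lit 92)
  .nil))) (nat_lit 101) (nat_lit 177) (nat_lit 119) (.node (.node (.node .nil (nat_lit 102) (nat_lit 129)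
  (nat_lit 120) .nil) (nat_lit 103) (nat_lit 177) (nat_lit 73) (.node .nil (nat_lit 104) (nat_lit 144)
  (nat_lit 419) .nil)) (nat_lit 105) (nat_lit 97) (nat_lit 1640) (.node (.node .nil (nat_lit 106) (nat_lit
  145) (nat_lit 616) .nil) (nat_lit 107) (nat_lit 161) (nat_lit 641) (.node .nil (nat_lit 108) (nat_lit 96)
  (nat_lit 457) .nil)))) (nat_lit 112) (nat_lit 160) (nat_lit 286) (.node (.node (.node (.node .nil (nat_lit
  113) (nat_lit 225) (nat_lit 663) .nil) (nat_lit 114) (nat_lit 144) (nat_lit 1486) (.node .nil (nat_lit 115)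
  (nat_lit 49) (nat_lit 1768) .nil)) (nat_lit 116) (nat_lit 65) (nat_lit 1767) (.node (.node .nil (nat_lit
  117) (nat_lit 113) (nat_lit 108) .nil) (nat_lit 118) (nat_lit 177) (nat_lit 107) (.node .nil (nat_lit 119)
  (nat_lit 161) (nat_lit 793) .nil))) (nat_lit 120) (nat_lit 113) (nat_lit 792) (.node (.node (.node .nil
  (nat_lit 121) (nat_lit 193) (nat_lit 323) .nil) (nat_lit 122) (nat_lit 224) (nat_lit 1083) (.node .nil
  (nat_lit 125) (nat_lit 241) (nat_lit 1217) .nil)) (nat_lit 126) (nat_lit 208) (nat_lit 478) (.node (.node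
  .nil (nat_lit 129) (nat_lit 224) (nat_lit 758) .nil) (nat_lit 130) (nat_lit 224) (nat_lit 722) (.node .nil
  (nat_lit 132) (nat_lit 160) (nat_lit 1142) .nil)))))) (nat_lit 133) (nat_lit 80) (nat_lit 116) (.node (.node
  (.node (.node (.node (.node (.node .nil (nat_lit 134) (nat_lit 64) (nat_lit 115) .nil) (nat_lit 135)
  (nat_lit 176) (nat_lit 241) .nil) (nat_lit 136) (nat_lit 193) (nat_lit 1122) (.node .nil (nat_lit 137)
  (nat_lit 208) (nat_lit 1171) .nil)) (nat_lit 138) (nat_lit 225) (nat_lit 1745) (.node (.node .nil (nat_lit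
  153) (nat_lit 177) (nat_lit 1481) .nil) (nat_lit 154) (nat_lit 161) (nat_lit 299) (.node .nil (nat_lit 155)
  (nat_lit 209) (nat_lit 342) .nil))) (nat_lit 159) (nat_lit 144) (nat_lit 1239) (.node (.node (.node .nil
  (nat_lit 160) (nat_lit 176) (nat_lit 1678) .nil) (nat_lit 162) (nat_lit 177) (nat_lit 353) (.node .nil
  (nat_lit 210) (nat_lit 225) (nat_lit 434) .nil)) (nat_lit 211) (nat_lit 161) (nat_lit 1514) (.node (.node
  .nil (nat_lit 213) (nat_lit 192) (nat_lit 960) .nil) (nat_lit 216) (nat_lit 208) (nat_lit 760) (.node .nil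
  (nat_lit 221) (nat_lit 209) (nat_lit 1677) .nil)))) (nat_lit 222) (nat_lit 193) (nat_lit 1146) (.node (.node
  (.node (.node .nil (nat_lit 225) (nat_lit 209) (nat_lit 1171) .nil) (nat_lit 226) (nat_lit 193) (nat_lit
  1375) (.node .nil (nat_lit 231) (nat_lit 192) (nat_lit 426) .nil)) (nat_lit 232) (nat_lit 208) (nat_lit 427)
  (.node (.node .nil (nat_lit 235) (nat_lit 209) (nat_lit 870) .nil) (nat_lit 236) (nat_lit 224) (nat_lit 425)
  (.node .nil (nat_lit 237) (nat_lit 177) (nat_lit 1637) .nil))) (nat_lit 241) (nat_lit 161) (nat_lit 1609)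
  (.node (.node (.node .nil (nat_lit 248) (nat_lit 96) (nat_lit 695) .nil) (nat_lit 252) (nat_lit 112)
  (nat_lit 696) (.node .nil (nat_lit 253) (nat_lit 65) (nat_lit 115) .nil)) (nat_lit 254) (nat_lit 193)
  (nat_lit 66) (.node (.node .nil (nat_lit 255) (nat_lit 209) (nat_lit 664) .nil) (nat_lit 256) (nat_lit 32)
  (nat_lit 509) (.node .nil (nat_lit 257) (nat_lit 177) (nat_lit 1358) .nil))))) (nat_lit 258) (nat_lit 241)
  (nat_lit 1175) (.node (.node (.node (.node (.node (.node .nil (nat_lit 267) (nat_lit 208) (nat_lit 1091)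
  .nil) (nat_lit 268) (nat_lit 225) (nat_lit 1760) .nil) (nat_lit 269) (nat_lit 160) (nat_lit 1522) (.node
  .nil (nat_lit 270) (nat_lit 192) (nat_lit 1192) .nil)) (nat_lit 279) (nat_lit 225) (nat_lit 70) (.node
  (.node .nil (nat_lit 282) (nat_lit 192) (nat_lit 257) .nil) (nat_lit 283) (nat_lit 224) (nat_lit 1351)
  (.node .nil (nat_lit 286) (nat_lit 145) (nat_lit 1518) .nil))) (nat_lit 287) (nat_lit 208) (nat_lit 588)
  (.node (.node (.node .nil (nat_lit 288) (nat_lit 209) (nat_lit 517) .nil) (nat_lit 291) (nat_lit 209)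
  (nat_lit 539) (.node .nil (nat_lit 294) (nat_lit 241) (nat_lit 37) .nil)) (nat_lit 295) (nat_lit 209)
  (nat_lit 333) (.node (.node .nil (nat_lit 296) (nat_lit 209) (nat_lit 1091) .nil) (nat_lit 299) (nat_lit
  145) (nat_lit 1242) (.node .nil (nat_lit 300) (nat_lit 161) (nat_lit 159) .nil)))) (nat_lit 304) (nat_lit
  176) (nat_lit 1274) (.node (.node (.node (.node .nil (nat_lit 305) (nat_lit 176) (nat_lit 1481) .nil)
  (nat_lit 308) (nat_lit 240) (nat_lit 886) (.node .nil (nat_lit 309) (nat_lit 209) (nat_lit 510) .nil))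
  (nat_lit 311) (nat_lit 208) (nat_lit 1339) (.node (.node .nil (nat_lit 314) (nat_lit 209) (nat_lit 1555)
  .nil) (nat_lit 315) (nat_lit 224) (nat_lit 1344) (.node .nil (nat_lit 318) (nat_lit 192) (nat_lit 1343)
  .nil))) (nat_lit 320) (nat_lit 176) (nat_lit 1374) (.node (.node (.node .nil (nat_lit 322) (nat_lit 193)
  (nat_lit 153) .nil) (nat_lit 323) (nat_lit 176) (nat_lit 1358) (.node .nil (nat_lit 326) (nat_lit 193)
  (nat_lit 1168) .nil)) (nat_lit 327) (nat_lit 176) (nat_lit 1438) (.node (.node .nil (nat_lit 328) (nat_lit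
  193) (nat_lit 343) .nil) (nat_lit 329) (nat_lit 193) (nat_lit 538) (.node .nil (nat_lit 330) (nat_lit 192)
  (nat_lit 1241) .nil)))))))
def lX2t_1 : T := (.node (.node (.node (.node (.node (.node (.node (.node .nil (nat_lit 332) (nat_lit 160)
  (nat_lit 1159) .nil) (nat_lit 333) (nat_lit 192) (nat_lit 1189) .nil) (nat_lit 334) (nat_lit 145) (nat_lit
  419) (.node .nil (nat_lit 335) (nat_lit 225) (nat_lit 1726) .nil)) (nat_lit 336) (nat_lit 209) (nat_lit 403)
  (.node (.node .nil (nat_lit 337) (nat_lit 144) (nat_lit 1518) .nil) (nat_lit 338) (nat_lit 160) (nat_lit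
  632) (.node .nil (nat_lit 339) (nat_lit 160) (nat_lit 641) .nil))) (nat_lit 340) (nat_lit 177) (nat_lit 33)
  (.node (.node (.node .nil (nat_lit 341) (nat_lit 192) (nat_lit 533) .nil) (nat_lit 342) (nat_lit 193)
  (nat_lit 1241) (.node .nil (nat_lit 343) (nat_lit 176) (nat_lit 888) .nil)) (nat_lit 344) (nat_lit 192)
  (nat_lit 538) (.node (.node .nil (nat_lit 345) (nat_lit 177) (nat_lit 71) .nil) (nat_lit 346) (nat_lit 208)
  (nat_lit 1442) (.node .nil (nat_lit 347) (nat_lit 97) (nat_lit 420) .nil)))) (nat_lit 348) (nat_lit 208)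
  (nat_lit 550) (.node (.node (.node (.node .nil (nat_lit 349) (nat_lit 208) (nat_lit 1443) .nil) (nat_lit
  350) (nat_lit 97) (nat_lit 76) (.node .nil (nat_lit 351) (nat_lit 144) (nat_lit 1674) .nil)) (nat_lit 352)
  (nat_lit 208) (nat_lit 1675) (.node (.node .nil (nat_lit 353) (nat_lit 160) (nat_lit 1514) .nil) (nat_lit
  354) (nat_lit 161) (nat_lit 337) (.node .nil (nat_lit 355) (nat_lit 193) (nat_lit 395) .nil))) (nat_lit 356)
  (nat_lit 208) (nat_lit 1677) (.node (.node (.node .nil (nat_lit 357) (nat_lit 208) (nat_lit 563) .nil)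
  (nat_lit 360) (nat_lit 209) (nat_lit 985) (.node .nil (nat_lit 361) (nat_lit 209) (nat_lit 1219) .nil))
  (nat_lit 364) (nat_lit 176) (nat_lit 556) (.node (.node .nil (nat_lit 365) (nat_lit 177) (nat_lit 727) .nil)
  (nat_lit 368) (nat_lit 209) (nat_lit 1675) (.node .nil (nat_lit 369) (nat_lit 209) (nat_lit 744) .nil)))))
  (nat_lit 372) (nat_lit 225) (nat_lit 1456) (.node (.node (.node (.node (.node (.node .nil (nat_lit 373)
  (nat_lit 129) (nat_lit 1672) .nil) (nat_lit 377) (nat_lit 129) (nat_lit 1170) .nil) (nat_lit 384) (nat_lit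
  129) (nat_lit 1121) (.node .nil (nat_lit 388) (nat_lit 145) (nat_lit 1114) .nil)) (nat_lit 389) (nat_lit
  177) (nat_lit 1728) (.node (.node .nil (nat_lit 390) (nat_lit 145) (nat_lit 637) .nil) (nat_lit 391)
  (nat_lit 209) (nat_lit 1749) (.node .nil (nat_lit 392) (nat_lit 144) (nat_lit 1628) .nil))) (nat_lit 393)
  (nat_lit 161) (nat_lit 1775) (.node (.node (.node .nil (nat_lit 394) (nat_lit 192) (nat_lit 1601) .nil)
  (nat_lit 395) (nat_lit 177) (nat_lit 1711) (.node .nil (nat_lit 396) (nat_lit 192) (nat_lit 1603) .nil))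
  (nat_lit 397) (nat_lit 177) (nat_lit 1699) (.node (.node .nil (nat_lit 398) (nat_lit 208) (nat_lit 1627)
  .nil) (nat_lit 399) (nat_lit 209) (nat_lit 1719) (.node .nil (nat_lit 400) (nat_lit 209) (nat_lit 1630)
  .nil)))) (nat_lit 401) (nat_lit 161) (nat_lit 1712) (.node (.node (.node (.node .nil (nat_lit 402) (nat_lit
  128) (nat_lit 1623) .nil) (nat_lit 403) (nat_lit 193) (nat_lit 1733) (.node .nil (nat_lit 404) (nat_lit 145)
  (nat_lit 1686) .nil)) (nat_lit 417) (nat_lit 160) (nat_lit 772) (.node (.node .nil (nat_lit 418) (nat_lit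
  113) (nat_lit 350) .nil) (nat_lit 419) (nat_lit 128) (nat_lit 496) (.node .nil (nat_lit 420) (nat_lit 80)
  (nat_lit 134) .nil))) (nat_lit 421) (nat_lit 209) (nat_lit 1074) (.node (.node (.node .nil (nat_lit 422)
  (nat_lit 177) (nat_lit 1069) .nil) (nat_lit 423) (nat_lit 113) (nat_lit 1653) (.node .nil (nat_lit 424)
  (nat_lit 177) (nat_lit 1666) .nil)) (nat_lit 425) (nat_lit 208) (nat_lit 667) (.node (.node .nil (nat_lit
  426) (nat_lit 177) (nat_lit 742) .nil) (nat_lit 427) (nat_lit 192) (nat_lit 424) (.node .nil (nat_lit 428)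
  (nat_lit 209) (nat_lit 478) .nil)))))) (nat_lit 433) (nat_lit 241) (nat_lit 1369) (.node (.node (.node
  (.node (.node (.node (.node .nil (nat_lit 434) (nat_lit 208) (nat_lit 671) .nil) (nat_lit 435) (nat_lit 208)
  (nat_lit 986) .nil) (nat_lit 436) (nat_lit 192) (nat_lit 39) (.node .nil (nat_lit 437) (nat_lit 161)
  (nat_lit 1427) .nil)) (nat_lit 438) (nat_lit 161) (nat_lit 1213) (.node (.node .nil (nat_lit 439) (nat_lit
  128) (nat_lit 617) .nil) (nat_lit 440) (nat_lit 192) (nat_lit 1086) (.node .nil (nat_lit 441) (nat_lit 160)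
  (nat_lit 1712) .nil))) (nat_lit 442) (nat_lit 145) (nat_lit 1164) (.node (.node (.node .nil (nat_lit 443)
  (nat_lit 192) (nat_lit 422) .nil) (nat_lit 444) (nat_lit 209) (nat_lit 1479) (.node .nil (nat_lit 445)
  (nat_lit 209) (nat_lit 873) .nil)) (nat_lit 446) (nat_lit 160) (nat_lit 749) (.node (.node .nil (nat_lit
  447) (nat_lit 145) (nat_lit 1077) .nil) (nat_lit 448) (nat_lit 224) (nat_lit 729) (.node .nil (nat_lit 449)
  (nat_lit 192) (nat_lit 1103) .nil)))) (nat_lit 450) (nat_lit 192) (nat_lit 1758) (.node (.node (.node (.node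
  .nil (nat_lit 451) (nat_lit 225) (nat_lit 1040) .nil) (nat_lit 452) (nat_lit 193) (nat_lit 1085) (.node .nil
  (nat_lit 453) (nat_lit 208) (nat_lit 640) .nil)) (nat_lit 454) (nat_lit 209) (nat_lit 1258) (.node (.node
  .nil (nat_lit 455) (nat_lit 240) (nat_lit 268) .nil) (nat_lit 456) (nat_lit 145) (nat_lit 1087) (.node .nil
  (nat_lit 457) (nat_lit 81) (nat_lit 1769) .nil))) (nat_lit 458) (nat_lit 65) (nat_lit 1770) (.node (.node
  (.node .nil (nat_lit 465) (nat_lit 177) (nat_lit 785) .nil) (nat_lit 466) (nat_lit 112) (nat_lit 731) (.node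
  .nil (nat_lit 473) (nat_lit 145) (nat_lit 1431) .nil)) (nat_lit 474) (nat_lit 161) (nat_lit 1208) (.node
  (.node .nil (nat_lit 475) (nat_lit 192) (nat_lit 1732) .nil) (nat_lit 476) (nat_lit 209) (nat_lit 1066)
  (.node .nil (nat_lit 477) (nat_lit 209) (nat_lit 1671) .nil))))) (nat_lit 478) (nat_lit 192) (nat_lit 970)
  (.node (.node (.node (.node (.node .nil (nat_lit 495) (nat_lit 48) (nat_lit 100) .nil) (nat_lit 496)
  (nat_lit 113) (nat_lit 1218) (.node .nil (nat_lit 499) (nat_lit 64) (nat_lit 99) .nil)) (nat_lit 500)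
  (nat_lit 129) (nat_lit 1250) (.node (.node .nil (nat_lit 501) (nat_lit 160) (nat_lit 106) .nil) (nat_lit
  503) (nat_lit 129) (nat_lit 617) (.node .nil (nat_lit 507) (nat_lit 177) (nat_lit 1243) .nil))) (nat_lit
  508) (nat_lit 144) (nat_lit 1615) (.node (.node (.node .nil (nat_lit 509) (nat_lit 17) (nat_lit 90) .nil)
  (nat_lit 510) (nat_lit 193) (nat_lit 257) (.node .nil (nat_lit 513) (nat_lit 208) (nat_lit 875) .nil))
  (nat_lit 514) (nat_lit 240) (nat_lit 1489) (.node (.node .nil (nat_lit 517) (nat_lit 193) (nat_lit 305)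
  .nil) (nat_lit 533) (nat_lit 177) (nat_lit 1198) (.node .nil (nat_lit 534) (nat_lit 208) (nat_lit 1219)
  .nil)))) (nat_lit 535) (nat_lit 176) (nat_lit 1702) (.node (.node (.node (.node .nil (nat_lit 536) (nat_lit
  193) (nat_lit 767) .nil) (nat_lit 537) (nat_lit 176) (nat_lit 1728) (.node .nil (nat_lit 538) (nat_lit 176)
  (nat_lit 1400) .nil)) (nat_lit 539) (nat_lit 192) (nat_lit 764) (.node (.node .nil (nat_lit 540) (nat_lit
  208) (nat_lit 985) .nil) (nat_lit 541) (nat_lit 208) (nat_lit 981) (.node .nil (nat_lit 545) (nat_lit 177)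
  (nat_lit 1065) .nil))) (nat_lit 549) (nat_lit 145) (nat_lit 102) (.node (.node (.node .nil (nat_lit 550)
  (nat_lit 193) (nat_lit 791) .nil) (nat_lit 551) (nat_lit 177) (nat_lit 1078) (.node .nil (nat_lit 552)
  (nat_lit 161) (nat_lit 1298) .nil)) (nat_lit 555) (nat_lit 176) (nat_lit 1448) (.node (.node .nil (nat_lit
  556) (nat_lit 161) (nat_lit 1142) .nil) (nat_lit 559) (nat_lit 208) (nat_lit 1511) (.node .nil (nat_lit 560)
  (nat_lit 225) (nat_lit 1344) .nil)))))))
def lX2t_2 : T := (.node (.node (.node (.node (.node (.node (.node (.node .nil (nat_lit 564) (nat_lit 177)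
  (nat_lit 1394) .nil) (nat_lit 567) (nat_lit 193) (nat_lit 1186) .nil) (nat_lit 568) (nat_lit 192) (nat_lit
  618) (.node .nil (nat_lit 571) (nat_lit 145) (nat_lit 439) .nil)) (nat_lit 587) (nat_lit 192) (nat_lit 1381)
  (.node (.node .nil (nat_lit 588) (nat_lit 193) (nat_lit 669) .nil) (nat_lit 589) (nat_lit 192) (nat_lit 623)
  (.node .nil (nat_lit 590) (nat_lit 208) (nat_lit 870) .nil))) (nat_lit 591) (nat_lit 192) (nat_lit 1490)
  (.node (.node (.node .nil (nat_lit 597) (nat_lit 161) (nat_lit 687) .nil) (nat_lit 598) (nat_lit 177)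
  (nat_lit 674) (.node .nil (nat_lit 601) (nat_lit 193) (nat_lit 1604) .nil)) (nat_lit 606) (nat_lit 209)
  (nat_lit 1626) (.node (.node .nil (nat_lit 607) (nat_lit 209) (nat_lit 475) .nil) (nat_lit 608) (nat_lit
  209) (nat_lit 1220) (.node .nil (nat_lit 609) (nat_lit 193) (nat_lit 1216) .nil)))) (nat_lit 610) (nat_lit
  177) (nat_lit 1259) (.node (.node (.node (.node .nil (nat_lit 611) (nat_lit 160) (nat_lit 1116) .nil)
  (nat_lit 612) (nat_lit 209) (nat_lit 1592) (.node .nil (nat_lit 613) (nat_lit 161) (nat_lit 734) .nil))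
  (nat_lit 614) (nat_lit 96) (nat_lit 1118) (.node (.node .nil (nat_lit 615) (nat_lit 193) (nat_lit 795) .nil)
  (nat_lit 616) (nat_lit 129) (nat_lit 794) (.node .nil (nat_lit 617) (nat_lit 112) (nat_lit 1115) .nil)))
  (nat_lit 618) (nat_lit 177) (nat_lit 673) (.node (.node (.node .nil (nat_lit 619) (nat_lit 129) (nat_lit
  466) .nil) (nat_lit 620) (nat_lit 193) (nat_lit 770) (.node .nil (nat_lit 621) (nat_lit 160) (nat_lit 1111)
  .nil)) (nat_lit 622) (nat_lit 192) (nat_lit 1039) (.node (.node .nil (nat_lit 623) (nat_lit 177) (nat_lit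
  1117) .nil) (nat_lit 624) (nat_lit 161) (nat_lit 1402) (.node .nil (nat_lit 625) (nat_lit 176) (nat_lit
  1711) .nil))))) (nat_lit 626) (nat_lit 225) (nat_lit 642) (.node (.node (.node (.node (.node (.node .nil
  (nat_lit 627) (nat_lit 225) (nat_lit 665) .nil) (nat_lit 628) (nat_lit 160) (nat_lit 473) .nil) (nat_lit
  629) (nat_lit 208) (nat_lit 1606) (.node .nil (nat_lit 630) (nat_lit 176) (nat_lit 1637) .nil)) (nat_lit
  631) (nat_lit 192) (nat_lit 1248) (.node (.node .nil (nat_lit 632) (nat_lit 144) (nat_lit 1199) .nil)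
  (nat_lit 633) (nat_lit 208) (nat_lit 1634) (.node .nil (nat_lit 634) (nat_lit 224) (nat_lit 1260) .nil)))
  (nat_lit 635) (nat_lit 193) (nat_lit 1370) (.node (.node (.node .nil (nat_lit 636) (nat_lit 145) (nat_lit
  1041) .nil) (nat_lit 637) (nat_lit 128) (nat_lit 1170) (.node .nil (nat_lit 638) (nat_lit 161) (nat_lit 636)
  .nil)) (nat_lit 639) (nat_lit 193) (nat_lit 984) (.node (.node .nil (nat_lit 640) (nat_lit 193) (nat_lit
  101) .nil) (nat_lit 641) (nat_lit 144) (nat_lit 1164) (.node .nil (nat_lit 642) (nat_lit 209) (nat_lit 1158)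
  .nil)))) (nat_lit 647) (nat_lit 193) (nat_lit 1416) (.node (.node (.node (.node .nil (nat_lit 648) (nat_lit
  177) (nat_lit 1709) .nil) (nat_lit 658) (nat_lit 209) (nat_lit 1335) (.node .nil (nat_lit 659) (nat_lit 192)
  (nat_lit 87) .nil)) (nat_lit 660) (nat_lit 224) (nat_lit 768) (.node (.node .nil (nat_lit 661) (nat_lit 225)
  (nat_lit 1584) .nil) (nat_lit 662) (nat_lit 192) (nat_lit 983) (.node .nil (nat_lit 663) (nat_lit 208)
  (nat_lit 725) .nil))) (nat_lit 664) (nat_lit 192) (nat_lit 66) (.node (.node (.node .nil (nat_lit 665)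
  (nat_lit 208) (nat_lit 1555) .nil) (nat_lit 666) (nat_lit 209) (nat_lit 449) (.node .nil (nat_lit 667)
  (nat_lit 193) (nat_lit 630) .nil)) (nat_lit 668) (nat_lit 225) (nat_lit 629) (.node (.node .nil (nat_lit
  669) (nat_lit 177) (nat_lit 112) .nil) (nat_lit 670) (nat_lit 209) (nat_lit 254) (.node .nil (nat_lit 671)
  (nat_lit 193) (nat_lit 1620) .nil)))))) (nat_lit 672) (nat_lit 209) (nat_lit 1179) (.node (.node (.node
  (.node (.node (.node (.node .nil (nat_lit 673) (nat_lit 161) (nat_lit 1445) .nil) (nat_lit 674) (nat_lit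
  160) (nat_lit 730) .nil) (nat_lit 675) (nat_lit 128) (nat_lit 74) (.node .nil (nat_lit 687) (nat_lit 144)
  (nat_lit 787) .nil)) (nat_lit 688) (nat_lit 144) (nat_lit 102) (.node (.node .nil (nat_lit 694) (nat_lit
  177) (nat_lit 1678) .nil) (nat_lit 695) (nat_lit 81) (nat_lit 253) (.node .nil (nat_lit 696) (nat_lit 97)
  (nat_lit 91) .nil))) (nat_lit 697) (nat_lit 161) (nat_lit 632) (.node (.node (.node .nil (nat_lit 710)
  (nat_lit 161) (nat_lit 688) .nil) (nat_lit 711) (nat_lit 193) (nat_lit 1294) (.node .nil (nat_lit 716)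
  (nat_lit 193) (nat_lit 1619) .nil)) (nat_lit 717) (nat_lit 177) (nat_lit 638) (.node (.node .nil (nat_lit
  722) (nat_lit 209) (nat_lit 1639) .nil) (nat_lit 723) (nat_lit 160) (nat_lit 1553) (.node .nil (nat_lit 724)
  (nat_lit 161) (nat_lit 1610) .nil)))) (nat_lit 725) (nat_lit 192) (nat_lit 35) (.node (.node (.node (.node
  .nil (nat_lit 726) (nat_lit 240) (nat_lit 15) .nil) (nat_lit 727) (nat_lit 160) (nat_lit 447) (.node .nil
  (nat_lit 728) (nat_lit 208) (nat_lit 972) .nil)) (nat_lit 729) (nat_lit 209) (nat_lit 750) (.node (.node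
  .nil (nat_lit 730) (nat_lit 144) (nat_lit 377) .nil) (nat_lit 731) (nat_lit 96) (nat_lit 773) (.node .nil
  (nat_lit 734) (nat_lit 145) (nat_lit 1089) .nil))) (nat_lit 735) (nat_lit 209) (nat_lit 986) (.node (.node
  (.node .nil (nat_lit 740) (nat_lit 225) (nat_lit 1356) .nil) (nat_lit 741) (nat_lit 241) (nat_lit 1483)
  (.node .nil (nat_lit 742) (nat_lit 161) (nat_lit 749) .nil)) (nat_lit 743) (nat_lit 209) (nat_lit 427)
  (.node (.node .nil (nat_lit 744) (nat_lit 192) (nat_lit 57) .nil) (nat_lit 745) (nat_lit 224) (nat_lit 743)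
  (.node .nil (nat_lit 746) (nat_lit 193) (nat_lit 364) .nil))))) (nat_lit 747) (nat_lit 225) (nat_lit 735)
  (.node (.node (.node (.node (.node (.node .nil (nat_lit 748) (nat_lit 224) (nat_lit 756) .nil) (nat_lit 749)
  (nat_lit 144) (nat_lit 980) .nil) (nat_lit 750) (nat_lit 193) (nat_lit 426) (.node .nil (nat_lit 751)
  (nat_lit 224) (nat_lit 445) .nil)) (nat_lit 752) (nat_lit 241) (nat_lit 1272) (.node (.node .nil (nat_lit
  753) (nat_lit 192) (nat_lit 16) .nil) (nat_lit 754) (nat_lit 208) (nat_lit 601) (.node .nil (nat_lit 755)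
  (nat_lit 145) (nat_lit 78) .nil))) (nat_lit 756) (nat_lit 209) (nat_lit 450) (.node (.node (.node .nil
  (nat_lit 757) (nat_lit 193) (nat_lit 535) .nil) (nat_lit 758) (nat_lit 208) (nat_lit 965) (.node .nil
  (nat_lit 759) (nat_lit 224) (nat_lit 1551) .nil)) (nat_lit 760) (nat_lit 192) (nat_lit 56) (.node (.node
  .nil (nat_lit 761) (nat_lit 161) (nat_lit 1638) .nil) (nat_lit 762) (nat_lit 240) (nat_lit 660) (.node .nil
  (nat_lit 763) (nat_lit 225) (nat_lit 360) .nil)))) (nat_lit 764) (nat_lit 177) (nat_lit 621) (.node (.node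
  (.node (.node .nil (nat_lit 765) (nat_lit 209) (nat_lit 622) .nil) (nat_lit 766) (nat_lit 208) (nat_lit 93)
  (.node .nil (nat_lit 767) (nat_lit 177) (nat_lit 628) .nil)) (nat_lit 768) (nat_lit 209) (nat_lit 1129)
  (.node (.node .nil (nat_lit 769) (nat_lit 144) (nat_lit 78) .nil) (nat_lit 770) (nat_lit 177) (nat_lit 1061)
  (.node .nil (nat_lit 771) (nat_lit 80) (nat_lit 499) .nil))) (nat_lit 772) (nat_lit 145) (nat_lit 1615)
  (.node (.node (.node .nil (nat_lit 773) (nat_lit 81) (nat_lit 1683) .nil) (nat_lit 774) (nat_lit 161)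
  (nat_lit 1265) (.node .nil (nat_lit 775) (nat_lit 112) (nat_lit 248) .nil)) (nat_lit 776) (nat_lit 161)
  (nat_lit 1111) (.node (.node .nil (nat_lit 777) (nat_lit 96) (nat_lit 76) .nil) (nat_lit 778) (nat_lit 112)
  (nat_lit 108) (.node .nil (nat_lit 781) (nat_lit 161) (nat_lit 1116) .nil)))))))
def lX2t_3 : T := (.node (.node (.node (.node (.node (.node (.node (.node .nil (nat_lit 783) (nat_lit 176)
  (nat_lit 107) .nil) (nat_lit 784) (nat_lit 97) (nat_lit 1521) .nil) (nat_lit 785) (nat_lit 161) (nat_lit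
  1679) (.node .nil (nat_lit 786) (nat_lit 64) (nat_lit 495) .nil)) (nat_lit 787) (nat_lit 129) (nat_lit 1623)
  (.node (.node .nil (nat_lit 788) (nat_lit 97) (nat_lit 1118) .nil) (nat_lit 789) (nat_lit 160) (nat_lit 89)
  (.node .nil (nat_lit 790) (nat_lit 129) (nat_lit 117) .nil))) (nat_lit 791) (nat_lit 176) (nat_lit 785)
  (.node (.node (.node .nil (nat_lit 792) (nat_lit 96) (nat_lit 133) .nil) (nat_lit 793) (nat_lit 144)
  (nat_lit 500) (.node .nil (nat_lit 794) (nat_lit 112) (nat_lit 788) .nil)) (nat_lit 795) (nat_lit 177)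
  (nat_lit 1448) (.node (.node .nil (nat_lit 818) (nat_lit 161) (nat_lit 1172) .nil) (nat_lit 819) (nat_lit
  209) (nat_lit 1084) (.node .nil (nat_lit 820) (nat_lit 177) (nat_lit 1386) .nil)))) (nat_lit 823) (nat_lit
  208) (nat_lit 1228) (.node (.node (.node (.node .nil (nat_lit 824) (nat_lit 144) (nat_lit 1404) .nil)
  (nat_lit 825) (nat_lit 177) (nat_lit 1188) (.node .nil (nat_lit 848) (nat_lit 176) (nat_lit 269) .nil))
  (nat_lit 851) (nat_lit 224) (nat_lit 1177) (.node (.node .nil (nat_lit 852) (nat_lit 112) (nat_lit 1653)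
  .nil) (nat_lit 855) (nat_lit 177) (nat_lit 1230) (.node .nil (nat_lit 856) (nat_lit 144) (nat_lit 1087)
  .nil))) (nat_lit 857) (nat_lit 193) (nat_lit 16) (.node (.node (.node .nil (nat_lit 868) (nat_lit 193)
  (nat_lit 1435) .nil) (nat_lit 869) (nat_lit 208) (nat_lit 1352) (.node .nil (nat_lit 870) (nat_lit 192)
  (nat_lit 1493) .nil)) (nat_lit 873) (nat_lit 192) (nat_lit 323) (.node (.node .nil (nat_lit 874) (nat_lit
  160) (nat_lit 734) .nil) (nat_lit 875) (nat_lit 193) (nat_lit 1092) (.node .nil (nat_lit 886) (nat_lit 224)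
  (nat_lit 296) .nil))))) (nat_lit 887) (nat_lit 176) (nat_lit 1729) (.node (.node (.node (.node (.node (.node
  .nil (nat_lit 888) (nat_lit 160) (nat_lit 1402) .nil) (nat_lit 889) (nat_lit 177) (nat_lit 332) .nil)
  (nat_lit 890) (nat_lit 177) (nat_lit 1222) (.node .nil (nat_lit 891) (nat_lit 144) (nat_lit 1033) .nil))
  (nat_lit 892) (nat_lit 177) (nat_lit 1138) (.node (.node .nil (nat_lit 893) (nat_lit 208) (nat_lit 1592)
  .nil) (nat_lit 944) (nat_lit 177) (nat_lit 1274) (.node .nil (nat_lit 945) (nat_lit 208) (nat_lit 231)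
  .nil))) (nat_lit 947) (nat_lit 224) (nat_lit 235) (.node (.node (.node .nil (nat_lit 950) (nat_lit 209)
  (nat_lit 1508) .nil) (nat_lit 953) (nat_lit 224) (nat_lit 1552) (.node .nil (nat_lit 954) (nat_lit 224)
  (nat_lit 477) .nil)) (nat_lit 957) (nat_lit 177) (nat_lit 1332) (.node (.node .nil (nat_lit 958) (nat_lit
  224) (nat_lit 1554) .nil) (nat_lit 959) (nat_lit 241) (nat_lit 1194) (.node .nil (nat_lit 960) (nat_lit 176)
  (nat_lit 71) .nil)))) (nat_lit 963) (nat_lit 193) (nat_lit 340) (.node (.node (.node (.node .nil (nat_lit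
  964) (nat_lit 193) (nat_lit 327) .nil) (nat_lit 965) (nat_lit 193) (nat_lit 1264) (.node .nil (nat_lit 966)
  (nat_lit 225) (nat_lit 1629) .nil)) (nat_lit 969) (nat_lit 145) (nat_lit 1662) (.node (.node .nil (nat_lit
  970) (nat_lit 177) (nat_lit 1144) .nil) (nat_lit 972) (nat_lit 192) (nat_lit 767) (.node .nil (nat_lit 973)
  (nat_lit 209) (nat_lit 1680) .nil))) (nat_lit 974) (nat_lit 209) (nat_lit 1237) (.node (.node (.node .nil
  (nat_lit 975) (nat_lit 193) (nat_lit 1618) .nil) (nat_lit 976) (nat_lit 209) (nat_lit 857) (.node .nil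
  (nat_lit 980) (nat_lit 129) (nat_lit 1224) .nil)) (nat_lit 981) (nat_lit 193) (nat_lit 345) (.node (.node
  .nil (nat_lit 983) (nat_lit 176) (nat_lit 673) .nil) (nat_lit 984) (nat_lit 176) (nat_lit 33) (.node .nil
  (nat_lit 985) (nat_lit 193) (nat_lit 1492) .nil)))))) (nat_lit 986) (nat_lit 193) (nat_lit 365) (.node
  (.node (.node (.node (.node (.node (.node .nil (nat_lit 987) (nat_lit 225) (nat_lit 1385) .nil) (nat_lit
  991) (nat_lit 177) (nat_lit 1079) .nil) (nat_lit 992) (nat_lit 193) (nat_lit 1202) (.node .nil (nat_lit 998)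
  (nat_lit 193) (nat_lit 1304) .nil)) (nat_lit 999) (nat_lit 209) (nat_lit 1422) (.node (.node .nil (nat_lit
  1030) (nat_lit 193) (nat_lit 1453) .nil) (nat_lit 1031) (nat_lit 145) (nat_lit 1199) (.node .nil (nat_lit
  1032) (nat_lit 193) (nat_lit 1302) .nil))) (nat_lit 1033) (nat_lit 128) (nat_lit 1397) (.node (.node (.node
  .nil (nat_lit 1034) (nat_lit 192) (nat_lit 507) .nil) (nat_lit 1035) (nat_lit 161) (nat_lit 969) (.node .nil
  (nat_lit 1036) (nat_lit 208) (nat_lit 635) .nil)) (nat_lit 1037) (nat_lit 160) (nat_lit 351) (.node (.node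
  .nil (nat_lit 1038) (nat_lit 208) (nat_lit 1703) .nil) (nat_lit 1039) (nat_lit 177) (nat_lit 1667) (.node
  .nil (nat_lit 1040) (nat_lit 209) (nat_lit 1072) .nil)))) (nat_lit 1041) (nat_lit 128) (nat_lit 1664) (.node
  (.node (.node (.node .nil (nat_lit 1042) (nat_lit 193) (nat_lit 1652) .nil) (nat_lit 1043) (nat_lit 192)
  (nat_lit 1773) (.node .nil (nat_lit 1044) (nat_lit 176) (nat_lit 401) .nil)) (nat_lit 1045) (nat_lit 209)
  (nat_lit 322) (.node (.node .nil (nat_lit 1058) (nat_lit 209) (nat_lit 1209) .nil) (nat_lit 1059) (nat_lit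
  112) (nat_lit 1218) (.node .nil (nat_lit 1060) (nat_lit 160) (nat_lit 334) .nil))) (nat_lit 1061) (nat_lit
  161) (nat_lit 89) (.node (.node (.node .nil (nat_lit 1062) (nat_lit 208) (nat_lit 1066) .nil) (nat_lit 1063)
  (nat_lit 208) (nat_lit 1067) (.node .nil (nat_lit 1064) (nat_lit 176) (nat_lit 393) .nil)) (nat_lit 1065)
  (nat_lit 160) (nat_lit 392) (.node (.node .nil (nat_lit 1066) (nat_lit 193) (nat_lit 424) .nil) (nat_lit
  1067) (nat_lit 193) (nat_lit 1039) (.node .nil (nat_lit 1068) (nat_lit 192) (nat_lit 1100) .nil)))))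
  (nat_lit 1069) (nat_lit 160) (nat_lit 1101) (.node (.node (.node (.node (.node .nil (nat_lit 1070) (nat_lit
  225) (nat_lit 1246) .nil) (nat_lit 1071) (nat_lit 177) (nat_lit 1245) (.node .nil (nat_lit 1072) (nat_lit
  193) (nat_lit 1423) .nil)) (nat_lit 1073) (nat_lit 161) (nat_lit 571) (.node (.node .nil (nat_lit 1074)
  (nat_lit 192) (nat_lit 1416) .nil) (nat_lit 1075) (nat_lit 208) (nat_lit 568) (.node .nil (nat_lit 1076)
  (nat_lit 209) (nat_lit 1042) .nil))) (nat_lit 1077) (nat_lit 129) (nat_lit 423) (.node (.node (.node .nil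
  (nat_lit 1078) (nat_lit 160) (nat_lit 404) .nil) (nat_lit 1079) (nat_lit 161) (nat_lit 1031) (.node .nil
  (nat_lit 1080) (nat_lit 145) (nat_lit 1187) .nil)) (nat_lit 1081) (nat_lit 145) (nat_lit 1033) (.node (.node
  .nil (nat_lit 1082) (nat_lit 208) (nat_lit 1433) .nil) (nat_lit 1083) (nat_lit 208) (nat_lit 1520) (.node
  .nil (nat_lit 1084) (nat_lit 193) (nat_lit 1044) .nil)))) (nat_lit 1085) (nat_lit 177) (nat_lit 552) (.node
  (.node (.node (.node .nil (nat_lit 1086) (nat_lit 177) (nat_lit 1290) .nil) (nat_lit 1087) (nat_lit 128)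
  (nat_lit 120) (.node .nil (nat_lit 1088) (nat_lit 113) (nat_lit 248) .nil)) (nat_lit 1089) (nat_lit 129)
  (nat_lit 1338) (.node (.node .nil (nat_lit 1090) (nat_lit 192) (nat_lit 1110) .nil) (nat_lit 1091) (nat_lit
  193) (nat_lit 889) (.node .nil (nat_lit 1092) (nat_lit 176) (nat_lit 1713) .nil))) (nat_lit 1093) (nat_lit
  193) (nat_lit 1455) (.node (.node (.node .nil (nat_lit 1094) (nat_lit 161) (nat_lit 1124) .nil) (nat_lit
  1095) (nat_lit 209) (nat_lit 1425) (.node .nil (nat_lit 1096) (nat_lit 160) (nat_lit 390) .nil)) (nat_lit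
  1097) (nat_lit 160) (nat_lit 1113) (.node (.node .nil (nat_lit 1098) (nat_lit 144) (nat_lit 1114) .nil)
  (nat_lit 1099) (nat_lit 145) (nat_lit 1205) (.node .nil (nat_lit 1100) (nat_lit 176) (nat_lit 613)
  .nil)))))))
def lX2t_4 : T := (.node (.node (.node (.node (.node (.node (.node (.node .nil (nat_lit 1102) (nat_lit 193)
  (nat_lit 1408) .nil) (nat_lit 1103) (nat_lit 177) (nat_lit 1060) .nil) (nat_lit 1104) (nat_lit 225) (nat_lit
  1165) (.node .nil (nat_lit 1105) (nat_lit 161) (nat_lit 824) .nil)) (nat_lit 1106) (nat_lit 209) (nat_lit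
  1231) (.node (.node .nil (nat_lit 1107) (nat_lit 177) (nat_lit 1406) .nil) (nat_lit 1108) (nat_lit 208)
  (nat_lit 1072) (.node .nil (nat_lit 1109) (nat_lit 160) (nat_lit 1774) .nil))) (nat_lit 1110) (nat_lit 177)
  (nat_lit 789) (.node (.node (.node .nil (nat_lit 1111) (nat_lit 145) (nat_lit 377) .nil) (nat_lit 1112)
  (nat_lit 208) (nat_lit 998) (.node .nil (nat_lit 1113) (nat_lit 145) (nat_lit 1486) .nil)) (nat_lit 1114)
  (nat_lit 129) (nat_lit 778) (.node (.node .nil (nat_lit 1115) (nat_lit 97) (nat_lit 133) .nil) (nat_lit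
  1116) (nat_lit 145) (nat_lit 373) (.node .nil (nat_lit 1117) (nat_lit 161) (nat_lit 1131) .nil)))) (nat_lit
  1118) (nat_lit 81) (nat_lit 134) (.node (.node (.node (.node .nil (nat_lit 1119) (nat_lit 209) (nat_lit
  1333) .nil) (nat_lit 1120) (nat_lit 208) (nat_lit 1756) (.node .nil (nat_lit 1121) (nat_lit 113) (nat_lit
  777) .nil)) (nat_lit 1122) (nat_lit 177) (nat_lit 501) (.node (.node .nil (nat_lit 1123) (nat_lit 192)
  (nat_lit 1776) .nil) (nat_lit 1124) (nat_lit 144) (nat_lit 402) (.node .nil (nat_lit 1125) (nat_lit 209)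
  (nat_lit 1155) .nil))) (nat_lit 1126) (nat_lit 177) (nat_lit 1251) (.node (.node (.node .nil (nat_lit 1127)
  (nat_lit 209) (nat_lit 1090) .nil) (nat_lit 1128) (nat_lit 208) (nat_lit 1499) (.node .nil (nat_lit 1129)
  (nat_lit 192) (nat_lit 320) .nil)) (nat_lit 1130) (nat_lit 208) (nat_lit 1736) (.node (.node .nil (nat_lit
  1131) (nat_lit 144) (nat_lit 1735) .nil) (nat_lit 1132) (nat_lit 241) (nat_lit 1401) (.node .nil (nat_lit
  1133) (nat_lit 225) (nat_lit 999) .nil))))) (nat_lit 1134) (nat_lit 225) (nat_lit 1289) (.node (.node (.node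
  (.node (.node (.node .nil (nat_lit 1135) (nat_lit 209) (nat_lit 647) .nil) (nat_lit 1136) (nat_lit 209)
  (nat_lit 753) .nil) (nat_lit 1137) (nat_lit 208) (nat_lit 857) (.node .nil (nat_lit 1138) (nat_lit 161)
  (nat_lit 1159) .nil)) (nat_lit 1139) (nat_lit 192) (nat_lit 162) (.node (.node .nil (nat_lit 1140) (nat_lit
  144) (nat_lit 637) .nil) (nat_lit 1141) (nat_lit 241) (nat_lit 953) (.node .nil (nat_lit 1142) (nat_lit 145)
  (nat_lit 1735) .nil))) (nat_lit 1143) (nat_lit 208) (nat_lit 1749) (.node (.node (.node .nil (nat_lit 1144)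
  (nat_lit 160) (nat_lit 508) .nil) (nat_lit 1145) (nat_lit 225) (nat_lit 559) (.node .nil (nat_lit 1146)
  (nat_lit 176) (nat_lit 112) .nil)) (nat_lit 1147) (nat_lit 241) (nat_lit 129) (.node (.node .nil (nat_lit
  1148) (nat_lit 192) (nat_lit 1618) .nil) (nat_lit 1149) (nat_lit 176) (nat_lit 1406) (.node .nil (nat_lit
  1150) (nat_lit 161) (nat_lit 891) .nil)))) (nat_lit 1151) (nat_lit 176) (nat_lit 1230) (.node (.node (.node
  (.node .nil (nat_lit 1152) (nat_lit 209) (nat_lit 1206) .nil) (nat_lit 1153) (nat_lit 161) (nat_lit 1140)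
  (.node .nil (nat_lit 1154) (nat_lit 193) (nat_lit 1201) .nil)) (nat_lit 1155) (nat_lit 192) (nat_lit 1216)
  (.node (.node .nil (nat_lit 1156) (nat_lit 177) (nat_lit 1451) .nil) (nat_lit 1157) (nat_lit 144) (nat_lit
  1617) (.node .nil (nat_lit 1158) (nat_lit 192) (nat_lit 1658) .nil))) (nat_lit 1159) (nat_lit 145) (nat_lit
  1417) (.node (.node (.node .nil (nat_lit 1160) (nat_lit 177) (nat_lit 776) .nil) (nat_lit 1161) (nat_lit
  145) (nat_lit 384) (.node .nil (nat_lit 1162) (nat_lit 145) (nat_lit 1617) .nil)) (nat_lit 1163) (nat_lit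
  161) (nat_lit 1393) (.node (.node .nil (nat_lit 1164) (nat_lit 129) (nat_lit 852) .nil) (nat_lit 1165)
  (nat_lit 209) (nat_lit 1102) (.node .nil (nat_lit 1166) (nat_lit 209) (nat_lit 1295) .nil)))))) (nat_lit
  1167) (nat_lit 160) (nat_lit 1638) (.node (.node (.node (.node (.node (.node (.node .nil (nat_lit 1168)
  (nat_lit 177) (nat_lit 874) .nil) (nat_lit 1169) (nat_lit 224) (nat_lit 1708) .nil) (nat_lit 1170) (nat_lit
  113) (nat_lit 788) (.node .nil (nat_lit 1171) (nat_lit 192) (nat_lit 1200) .nil)) (nat_lit 1172) (nat_lit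
  145) (nat_lit 1449) (.node (.node .nil (nat_lit 1173) (nat_lit 209) (nat_lit 1395) .nil) (nat_lit 1174)
  (nat_lit 225) (nat_lit 1690) (.node .nil (nat_lit 1175) (nat_lit 225) (nat_lit 869) .nil))) (nat_lit 1176)
  (nat_lit 209) (nat_lit 1632) (.node (.node (.node .nil (nat_lit 1177) (nat_lit 209) (nat_lit 725) .nil)
  (nat_lit 1178) (nat_lit 193) (nat_lit 1660) (.node .nil (nat_lit 1179) (nat_lit 192) (nat_lit 1762) .nil))
  (nat_lit 1180) (nat_lit 177) (nat_lit 1303) (.node (.node .nil (nat_lit 1181) (nat_lit 208) (nat_lit 1234)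
  .nil) (nat_lit 1182) (nat_lit 160) (nat_lit 1226) (.node .nil (nat_lit 1183) (nat_lit 161) (nat_lit 1080)
  .nil)))) (nat_lit 1184) (nat_lit 192) (nat_lit 1655) (.node (.node (.node (.node .nil (nat_lit 1185)
  (nat_lit 193) (nat_lit 1227) .nil) (nat_lit 1186) (nat_lit 176) (nat_lit 1654) (.node .nil (nat_lit 1187)
  (nat_lit 129) (nat_lit 1419) .nil)) (nat_lit 1188) (nat_lit 161) (nat_lit 1226) (.node (.node .nil (nat_lit
  1189) (nat_lit 176) (nat_lit 624) .nil) (nat_lit 1190) (nat_lit 176) (nat_lit 1163) (.node .nil (nat_lit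
  1191) (nat_lit 176) (nat_lit 1060) .nil))) (nat_lit 1192) (nat_lit 177) (nat_lit 417) (.node (.node (.node
  .nil (nat_lit 1193) (nat_lit 129) (nat_lit 74) .nil) (nat_lit 1194) (nat_lit 224) (nat_lit 1763) (.node .nil
  (nat_lit 1195) (nat_lit 209) (nat_lit 341) .nil)) (nat_lit 1196) (nat_lit 176) (nat_lit 1746) (.node (.node
  .nil (nat_lit 1197) (nat_lit 193) (nat_lit 1297) .nil) (nat_lit 1198) (nat_lit 160) (nat_lit 337) (.node
  .nil (nat_lit 1199) (nat_lit 129) (nat_lit 1059) .nil))))) (nat_lit 1200) (nat_lit 177) (nat_lit 1096)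
  (.node (.node (.node (.node (.node (.node .nil (nat_lit 1201) (nat_lit 176) (nat_lit 1061) .nil) (nat_lit
  1202) (nat_lit 177) (nat_lit 1037) .nil) (nat_lit 1203) (nat_lit 177) (nat_lit 437) (.node .nil (nat_lit
  1204) (nat_lit 144) (nat_lit 1089) .nil)) (nat_lit 1205) (nat_lit 128) (nat_lit 1088) (.node (.node .nil
  (nat_lit 1206) (nat_lit 193) (nat_lit 1300) .nil) (nat_lit 1207) (nat_lit 193) (nat_lit 1156) (.node .nil
  (nat_lit 1208) (nat_lit 144) (nat_lit 1193) .nil))) (nat_lit 1209) (nat_lit 192) (nat_lit 1092) (.node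
  (.node (.node .nil (nat_lit 1210) (nat_lit 176) (nat_lit 441) .nil) (nat_lit 1211) (nat_lit 161) (nat_lit
  1157) (.node .nil (nat_lit 1212) (nat_lit 193) (nat_lit 991) .nil)) (nat_lit 1213) (nat_lit 144) (nat_lit
  1657) (.node (.node .nil (nat_lit 1214) (nat_lit 208) (nat_lit 1645) .nil) (nat_lit 1215) (nat_lit 177)
  (nat_lit 1094) (.node .nil (nat_lit 1216) (nat_lit 176) (nat_lit 1743) .nil)))) (nat_lit 1217) (nat_lit 224)
  (nat_lit 1760) (.node (.node (.node (.node .nil (nat_lit 1218) (nat_lit 97) (nat_lit 773) .nil) (nat_lit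
  1219) (nat_lit 193) (nat_lit 1493) (.node .nil (nat_lit 1220) (nat_lit 192) (nat_lit 1710) .nil)) (nat_lit
  1221) (nat_lit 193) (nat_lit 1599) (.node (.node .nil (nat_lit 1222) (nat_lit 161) (nat_lit 286) .nil)
  (nat_lit 1223) (nat_lit 112) (nat_lit 1235) (.node .nil (nat_lit 1224) (nat_lit 112) (nat_lit 1232) .nil)))
  (nat_lit 1225) (nat_lit 208) (nat_lit 1231) (.node (.node (.node .nil (nat_lit 1226) (nat_lit 144) (nat_lit
  1403) .nil) (nat_lit 1227) (nat_lit 177) (nat_lit 1105) (.node .nil (nat_lit 1228) (nat_lit 193) (nat_lit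
  855) .nil)) (nat_lit 1229) (nat_lit 161) (nat_lit 442) (.node (.node .nil (nat_lit 1230) (nat_lit 161)
  (nat_lit 456) .nil) (nat_lit 1231) (nat_lit 193) (nat_lit 1100) (.node .nil (nat_lit 1232) (nat_lit 96)
  (nat_lit 1521) .nil)))))))
def lX2t_5 : T := (.node (.node (.node (.node (.node (.node (.node (.node .nil (nat_lit 1234) (nat_lit 193)
  (nat_lit 1287) .nil) (nat_lit 1235) (nat_lit 97) (nat_lit 1286) .nil) (nat_lit 1236) (nat_lit 224) (nat_lit
  1726) (.node .nil (nat_lit 1237) (nat_lit 193) (nat_lit 39) .nil)) (nat_lit 1238) (nat_lit 177) (nat_lit 75)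
  (.node (.node .nil (nat_lit 1239) (nat_lit 129) (nat_lit 418) .nil) (nat_lit 1240) (nat_lit 209) (nat_lit
  964) (.node .nil (nat_lit 1241) (nat_lit 177) (nat_lit 441) .nil))) (nat_lit 1242) (nat_lit 128) (nat_lit
  1384) (.node (.node (.node .nil (nat_lit 1243) (nat_lit 161) (nat_lit 1292) .nil) (nat_lit 1244) (nat_lit
  176) (nat_lit 1293) (.node .nil (nat_lit 1245) (nat_lit 160) (nat_lit 1292) .nil)) (nat_lit 1246) (nat_lit
  209) (nat_lit 998) (.node (.node .nil (nat_lit 1247) (nat_lit 225) (nat_lit 633) .nil) (nat_lit 1248)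
  (nat_lit 176) (nat_lit 354) (.node .nil (nat_lit 1249) (nat_lit 176) (nat_lit 353) .nil)))) (nat_lit 1250)
  (nat_lit 113) (nat_lit 784) (.node (.node (.node (.node .nil (nat_lit 1251) (nat_lit 160) (nat_lit 1162)
  .nil) (nat_lit 1252) (nat_lit 161) (nat_lit 772) (.node .nil (nat_lit 1253) (nat_lit 193) (nat_lit 1215)
  .nil)) (nat_lit 1254) (nat_lit 209) (nat_lit 1415) (.node (.node .nil (nat_lit 1255) (nat_lit 209) (nat_lit
  975) .nil) (nat_lit 1256) (nat_lit 224) (nat_lit 1706) (.node .nil (nat_lit 1257) (nat_lit 208) (nat_lit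
  1685) .nil))) (nat_lit 1258) (nat_lit 193) (nat_lit 545) (.node (.node (.node .nil (nat_lit 1259) (nat_lit
  160) (nat_lit 1722) .nil) (nat_lit 1260) (nat_lit 208) (nat_lit 1719) (.node .nil (nat_lit 1261) (nat_lit
  144) (nat_lit 1686) .nil)) (nat_lit 1262) (nat_lit 176) (nat_lit 1290) (.node (.node .nil (nat_lit 1263)
  (nat_lit 193) (nat_lit 1601) .nil) (nat_lit 1264) (nat_lit 176) (nat_lit 1288) (.node .nil (nat_lit 1265)
  (nat_lit 145) (nat_lit 675) .nil))))) (nat_lit 1266) (nat_lit 96) (nat_lit 1286) (.node (.node (.node (.node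
  (.node (.node .nil (nat_lit 1267) (nat_lit 128) (nat_lit 1270) .nil) (nat_lit 1268) (nat_lit 193) (nat_lit
  1439) .nil) (nat_lit 1269) (nat_lit 208) (nat_lit 1395) (.node .nil (nat_lit 1270) (nat_lit 113) (nat_lit
  1232) .nil)) (nat_lit 1271) (nat_lit 225) (nat_lit 768) (.node (.node .nil (nat_lit 1272) (nat_lit 225)
  (nat_lit 945) .nil) (nat_lit 1273) (nat_lit 160) (nat_lit 1445) (.node .nil (nat_lit 1274) (nat_lit 161)
  (nat_lit 769) .nil))) (nat_lit 1275) (nat_lit 225) (nat_lit 1614) (.node (.node (.node .nil (nat_lit 1276)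
  (nat_lit 176) (nat_lit 1666) .nil) (nat_lit 1278) (nat_lit 192) (nat_lit 890) (.node .nil (nat_lit 1279)
  (nat_lit 240) (nat_lit 1585) .nil)) (nat_lit 1281) (nat_lit 192) (nat_lit 1238) (.node (.node .nil (nat_lit
  1282) (nat_lit 208) (nat_lit 1237) .nil) (nat_lit 1283) (nat_lit 209) (nat_lit 452) (.node .nil (nat_lit
  1284) (nat_lit 224) (nat_lit 1045) .nil)))) (nat_lit 1285) (nat_lit 160) (nat_lit 549) (.node (.node (.node
  (.node .nil (nat_lit 1286) (nat_lit 80) (nat_lit 1683) .nil) (nat_lit 1287) (nat_lit 176) (nat_lit 1682)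
  (.node .nil (nat_lit 1288) (nat_lit 161) (nat_lit 1081) .nil)) (nat_lit 1289) (nat_lit 208) (nat_lit 1680)
  (.node (.node .nil (nat_lit 1290) (nat_lit 160) (nat_lit 1679) .nil) (nat_lit 1291) (nat_lit 193) (nat_lit
  1149) (.node .nil (nat_lit 1292) (nat_lit 145) (nat_lit 1301) .nil))) (nat_lit 1293) (nat_lit 160) (nat_lit
  1393) (.node (.node (.node .nil (nat_lit 1294) (nat_lit 177) (nat_lit 624) .nil) (nat_lit 1295) (nat_lit
  193) (nat_lit 1409) (.node .nil (nat_lit 1296) (nat_lit 193) (nat_lit 1420) .nil)) (nat_lit 1297) (nat_lit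
  177) (nat_lit 1438) (.node (.node .nil (nat_lit 1298) (nat_lit 144) (nat_lit 1444) .nil) (nat_lit 1299)
  (nat_lit 193) (nat_lit 848) (.node .nil (nat_lit 1300) (nat_lit 177) (nat_lit 1450) .nil)))))) (nat_lit
  1301) (nat_lit 129) (nat_lit 1384) (.node (.node (.node (.node (.node (.node (.node .nil (nat_lit 1302)
  (nat_lit 176) (nat_lit 1668) .nil) (nat_lit 1303) (nat_lit 160) (nat_lit 1161) .nil) (nat_lit 1304) (nat_lit
  177) (nat_lit 1183) (.node .nil (nat_lit 1305) (nat_lit 177) (nat_lit 1288) .nil)) (nat_lit 1325) (nat_lit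
  225) (nat_lit 950) (.node (.node .nil (nat_lit 1326) (nat_lit 177) (nat_lit 1109) .nil) (nat_lit 1328)
  (nat_lit 209) (nat_lit 1123) (.node .nil (nat_lit 1329) (nat_lit 209) (nat_lit 1648) .nil))) (nat_lit 1332)
  (nat_lit 160) (nat_lit 114) (.node (.node (.node .nil (nat_lit 1333) (nat_lit 192) (nat_lit 304) .nil)
  (nat_lit 1334) (nat_lit 225) (nat_lit 612) (.node .nil (nat_lit 1335) (nat_lit 192) (nat_lit 1350) .nil))
  (nat_lit 1338) (nat_lit 113) (nat_lit 614) (.node (.node .nil (nat_lit 1339) (nat_lit 193) (nat_lit 1605)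
  .nil) (nat_lit 1342) (nat_lit 241) (nat_lit 660) (.node .nil (nat_lit 1343) (nat_lit 176) (nat_lit 300)
  .nil)))) (nat_lit 1344) (nat_lit 208) (nat_lit 1387) (.node (.node (.node (.node .nil (nat_lit 1345)
  (nat_lit 144) (nat_lit 1589) .nil) (nat_lit 1350) (nat_lit 177) (nat_lit 556) (.node .nil (nat_lit 1351)
  (nat_lit 208) (nat_lit 639) .nil)) (nat_lit 1352) (nat_lit 193) (nat_lit 1650) (.node (.node .nil (nat_lit
  1353) (nat_lit 209) (nat_lit 436) .nil) (nat_lit 1354) (nat_lit 161) (nat_lit 1113) (.node .nil (nat_lit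
  1356) (nat_lit 208) (nat_lit 322) .nil))) (nat_lit 1357) (nat_lit 225) (nat_lit 1120) (.node (.node (.node
  .nil (nat_lit 1358) (nat_lit 161) (nat_lit 114) .nil) (nat_lit 1359) (nat_lit 224) (nat_lit 606) (.node .nil
  (nat_lit 1361) (nat_lit 193) (nat_lit 304) .nil)) (nat_lit 1368) (nat_lit 241) (nat_lit 661) (.node (.node
  .nil (nat_lit 1369) (nat_lit 225) (nat_lit 235) .nil) (nat_lit 1370) (nat_lit 177) (nat_lit 613) (.node .nil
  (nat_lit 1371) (nat_lit 177) (nat_lit 1641) .nil))))) (nat_lit 1374) (nat_lit 161) (nat_lit 1612) (.node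
  (.node (.node (.node (.node .nil (nat_lit 1375) (nat_lit 176) (nat_lit 1354) .nil) (nat_lit 1378) (nat_lit
  224) (nat_lit 513) (.node .nil (nat_lit 1381) (nat_lit 177) (nat_lit 611) .nil)) (nat_lit 1384) (nat_lit
  112) (nat_lit 347) (.node (.node .nil (nat_lit 1385) (nat_lit 209) (nat_lit 746) .nil) (nat_lit 1386)
  (nat_lit 161) (nat_lit 1633) (.node .nil (nat_lit 1387) (nat_lit 193) (nat_lit 1262) .nil))) (nat_lit 1388)
  (nat_lit 176) (nat_lit 132) (.node (.node (.node .nil (nat_lit 1389) (nat_lit 224) (nat_lit 1246) .nil)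
  (nat_lit 1390) (nat_lit 176) (nat_lit 1245) (.node .nil (nat_lit 1391) (nat_lit 177) (nat_lit 1163) .nil))
  (nat_lit 1392) (nat_lit 209) (nat_lit 1233) (.node (.node .nil (nat_lit 1393) (nat_lit 145) (nat_lit 1404)
  .nil) (nat_lit 1394) (nat_lit 161) (nat_lit 1424) (.node .nil (nat_lit 1395) (nat_lit 193) (nat_lit 1305)
  .nil)))) (nat_lit 1396) (nat_lit 176) (nat_lit 638) (.node (.node (.node (.node .nil (nat_lit 1397) (nat_lit
  113) (nat_lit 1235) .nil) (nat_lit 1398) (nat_lit 193) (nat_lit 1244) (.node .nil (nat_lit 1399) (nat_lit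
  176) (nat_lit 119) .nil)) (nat_lit 1400) (nat_lit 161) (nat_lit 508) (.node (.node .nil (nat_lit 1401)
  (nat_lit 225) (nat_lit 1428) .nil) (nat_lit 1402) (nat_lit 145) (nat_lit 1403) (.node .nil (nat_lit 1403)
  (nat_lit 129) (nat_lit 1397) .nil))) (nat_lit 1404) (nat_lit 129) (nat_lit 1270) (.node (.node (.node .nil
  (nat_lit 1405) (nat_lit 208) (nat_lit 647) .nil) (nat_lit 1406) (nat_lit 161) (nat_lit 1101) (.node .nil
  (nat_lit 1407) (nat_lit 209) (nat_lit 1185) .nil)) (nat_lit 1408) (nat_lit 177) (nat_lit 1182) (.node (.node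
  .nil (nat_lit 1409) (nat_lit 177) (nat_lit 1400) .nil) (nat_lit 1410) (nat_lit 160) (nat_lit 442) (.node
  .nil (nat_lit 1415) (nat_lit 193) (nat_lit 1064) .nil)))))))
def lX2t_6 : T := (.node (.node (.node (.node (.node (.node (.node (.node .nil (nat_lit 1417) (nat_lit 128)
  (nat_lit 1121) .nil) (nat_lit 1418) (nat_lit 193) (nat_lit 1399) .nil) (nat_lit 1419) (nat_lit 112) (nat_lit
  614) (.node .nil (nat_lit 1420) (nat_lit 177) (nat_lit 1097) .nil)) (nat_lit 1421) (nat_lit 225) (nat_lit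
  1058) (.node (.node .nil (nat_lit 1422) (nat_lit 193) (nat_lit 1071) .nil) (nat_lit 1423) (nat_lit 176)
  (nat_lit 611) (.node .nil (nat_lit 1424) (nat_lit 144) (nat_lit 619) .nil))) (nat_lit 1425) (nat_lit 192)
  (nat_lit 1122) (.node (.node (.node .nil (nat_lit 1426) (nat_lit 208) (nat_lit 1123) .nil) (nat_lit 1427)
  (nat_lit 144) (nat_lit 1077) (.node .nil (nat_lit 1428) (nat_lit 208) (nat_lit 622) .nil)) (nat_lit 1431)
  (nat_lit 128) (nat_lit 1692) (.node (.node .nil (nat_lit 1432) (nat_lit 192) (nat_lit 1704) .nil) (nat_lit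
  1433) (nat_lit 193) (nat_lit 1704) (.node .nil (nat_lit 1434) (nat_lit 176) (nat_lit 154) .nil)))) (nat_lit
  1435) (nat_lit 177) (nat_lit 132) (.node (.node (.node (.node .nil (nat_lit 1436) (nat_lit 209) (nat_lit
  609) .nil) (nat_lit 1437) (nat_lit 208) (nat_lit 1724) (.node .nil (nat_lit 1438) (nat_lit 161) (nat_lit
  1098) .nil)) (nat_lit 1439) (nat_lit 177) (nat_lit 1153) (.node (.node .nil (nat_lit 1440) (nat_lit 209)
  (nat_lit 1681) .nil) (nat_lit 1441) (nat_lit 193) (nat_lit 764) (.node .nil (nat_lit 1442) (nat_lit 193)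
  (nat_lit 1249) .nil))) (nat_lit 1443) (nat_lit 192) (nat_lit 1684) (.node (.node (.node .nil (nat_lit 1444)
  (nat_lit 129) (nat_lit 252) .nil) (nat_lit 1445) (nat_lit 145) (nat_lit 503) (.node .nil (nat_lit 1446)
  (nat_lit 209) (nat_lit 1253) .nil)) (nat_lit 1447) (nat_lit 225) (nat_lit 1282) (.node (.node .nil (nat_lit
  1448) (nat_lit 161) (nat_lit 106) .nil) (nat_lit 1449) (nat_lit 128) (nat_lit 1250) (.node .nil (nat_lit
  1450) (nat_lit 161) (nat_lit 1099) .nil))))) (nat_lit 1451) (nat_lit 161) (nat_lit 1261) (.node (.node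
  (.node (.node (.node (.node .nil (nat_lit 1452) (nat_lit 193) (nat_lit 555) .nil) (nat_lit 1453) (nat_lit
  176) (nat_lit 1252) .nil) (nat_lit 1454) (nat_lit 209) (nat_lit 1154) (.node .nil (nat_lit 1455) (nat_lit
  176) (nat_lit 1259) .nil)) (nat_lit 1456) (nat_lit 209) (nat_lit 1387) (.node (.node .nil (nat_lit 1457)
  (nat_lit 208) (nat_lit 1139) .nil) (nat_lit 1478) (nat_lit 209) (nat_lit 121) (.node .nil (nat_lit 1479)
  (nat_lit 193) (nat_lit 57) .nil))) (nat_lit 1480) (nat_lit 208) (nat_lit 282) (.node (.node (.node .nil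
  (nat_lit 1481) (nat_lit 160) (nat_lit 299) .nil) (nat_lit 1482) (nat_lit 225) (nat_lit 1108) (.node .nil
  (nat_lit 1483) (nat_lit 224) (nat_lit 1596) .nil)) (nat_lit 1484) (nat_lit 224) (nat_lit 1329) (.node (.node
  .nil (nat_lit 1485) (nat_lit 209) (nat_lit 1651) .nil) (nat_lit 1486) (nat_lit 129) (nat_lit 1664) (.node
  .nil (nat_lit 1487) (nat_lit 241) (nat_lit 763) .nil)))) (nat_lit 1488) (nat_lit 192) (nat_lit 1370) (.node
  (.node (.node (.node .nil (nat_lit 1489) (nat_lit 225) (nat_lit 1045) .nil) (nat_lit 1490) (nat_lit 177)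
  (nat_lit 154) (.node .nil (nat_lit 1491) (nat_lit 193) (nat_lit 36) .nil)) (nat_lit 1492) (nat_lit 176)
  (nat_lit 874) (.node (.node .nil (nat_lit 1493) (nat_lit 177) (nat_lit 1682) .nil) (nat_lit 1494) (nat_lit
  113) (nat_lit 1266) (.node .nil (nat_lit 1495) (nat_lit 225) (nat_lit 1556) .nil))) (nat_lit 1496) (nat_lit
  208) (nat_lit 326) (.node (.node (.node .nil (nat_lit 1497) (nat_lit 208) (nat_lit 868) .nil) (nat_lit 1498)
  (nat_lit 208) (nat_lit 591) (.node .nil (nat_lit 1499) (nat_lit 193) (nat_lit 1600) .nil)) (nat_lit 1500)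
  (nat_lit 225) (nat_lit 1112) (.node (.node .nil (nat_lit 1503) (nat_lit 193) (nat_lit 957) .nil) (nat_lit
  1504) (nat_lit 225) (nat_lit 1119) (.node .nil (nat_lit 1507) (nat_lit 177) (nat_lit 1668) .nil))))))
  (nat_lit 1508) (nat_lit 192) (nat_lit 364) (.node (.node (.node (.node (.node (.node (.node .nil (nat_lit
  1511) (nat_lit 193) (nat_lit 1655) .nil) (nat_lit 1512) (nat_lit 208) (nat_lit 1030) .nil) (nat_lit 1513)
  (nat_lit 208) (nat_lit 1607) (.node .nil (nat_lit 1514) (nat_lit 145) (nat_lit 980) .nil)) (nat_lit 1515)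
  (nat_lit 176) (nat_lit 628) (.node (.node .nil (nat_lit 1516) (nat_lit 224) (nat_lit 1636) .nil) (nat_lit
  1517) (nat_lit 209) (nat_lit 1067) (.node .nil (nat_lit 1518) (nat_lit 129) (nat_lit 1494) .nil))) (nat_lit
  1519) (nat_lit 192) (nat_lit 1650) (.node (.node (.node .nil (nat_lit 1520) (nat_lit 193) (nat_lit 389)
  .nil) (nat_lit 1521) (nat_lit 81) (nat_lit 499) (.node .nil (nat_lit 1522) (nat_lit 145) (nat_lit 782)
  .nil)) (nat_lit 1551) (nat_lit 209) (nat_lit 1622) (.node (.node .nil (nat_lit 1552) (nat_lit 208) (nat_lit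
  963) .nil) (nat_lit 1553) (nat_lit 144) (nat_lit 503) (.node .nil (nat_lit 1554) (nat_lit 209) (nat_lit
  1441) .nil)))) (nat_lit 1555) (nat_lit 192) (nat_lit 669) (.node (.node (.node (.node .nil (nat_lit 1556)
  (nat_lit 208) (nat_lit 746) .nil) (nat_lit 1557) (nat_lit 209) (nat_lit 318) (.node .nil (nat_lit 1558)
  (nat_lit 209) (nat_lit 591) .nil)) (nat_lit 1584) (nat_lit 208) (nat_lit 1335) (.node (.node .nil (nat_lit
  1585) (nat_lit 225) (nat_lit 1602) .nil) (nat_lit 1588) (nat_lit 225) (nat_lit 216) (.node .nil (nat_lit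
  1589) (nat_lit 128) (nat_lit 1338) .nil))) (nat_lit 1592) (nat_lit 193) (nat_lit 625) (.node (.node (.node
  .nil (nat_lit 1593) (nat_lit 208) (nat_lit 589) .nil) (nat_lit 1596) (nat_lit 209) (nat_lit 635) (.node .nil
  (nat_lit 1597) (nat_lit 208) (nat_lit 1479) .nil)) (nat_lit 1599) (nat_lit 176) (nat_lit 1096) (.node (.node
  .nil (nat_lit 1600) (nat_lit 177) (nat_lit 1374) .nil) (nat_lit 1601) (nat_lit 176) (nat_lit 1094) (.node
  .nil (nat_lit 1602) (nat_lit 208) (nat_lit 992) .nil))))) (nat_lit 1603) (nat_lit 177) (nat_lit 241) (.node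
  (.node (.node (.node (.node .nil (nat_lit 1604) (nat_lit 177) (nat_lit 724) .nil) (nat_lit 1605) (nat_lit
  176) (nat_lit 1303) (.node .nil (nat_lit 1606) (nat_lit 192) (nat_lit 1304) .nil)) (nat_lit 1607) (nat_lit
  192) (nat_lit 1305) (.node (.node .nil (nat_lit 1608) (nat_lit 97) (nat_lit 771) .nil) (nat_lit 1609)
  (nat_lit 145) (nat_lit 787) (.node .nil (nat_lit 1610) (nat_lit 144) (nat_lit 1301) .nil))) (nat_lit 1611)
  (nat_lit 192) (nat_lit 1276) (.node (.node (.node .nil (nat_lit 1612) (nat_lit 145) (nat_lit 1589) .nil)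
  (nat_lit 1613) (nat_lit 208) (nat_lit 341) (.node .nil (nat_lit 1614) (nat_lit 208) (nat_lit 1221) .nil))
  (nat_lit 1615) (nat_lit 129) (nat_lit 496) (.node (.node .nil (nat_lit 1616) (nat_lit 192) (nat_lit 340)
  .nil) (nat_lit 1617) (nat_lit 128) (nat_lit 117) (.node .nil (nat_lit 1618) (nat_lit 176) (nat_lit 710)
  .nil)))) (nat_lit 1619) (nat_lit 176) (nat_lit 1078) (.node (.node (.node (.node .nil (nat_lit 1620)
  (nat_lit 177) (nat_lit 761) .nil) (nat_lit 1621) (nat_lit 209) (nat_lit 760) (.node .nil (nat_lit 1622)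
  (nat_lit 192) (nat_lit 1044) .nil)) (nat_lit 1623) (nat_lit 113) (nat_lit 105) (.node (.node .nil (nat_lit
  1624) (nat_lit 193) (nat_lit 1343) .nil) (nat_lit 1625) (nat_lit 192) (nat_lit 545) (.node .nil (nat_lit
  1626) (nat_lit 193) (nat_lit 1371) .nil))) (nat_lit 1627) (nat_lit 193) (nat_lit 237) (.node (.node (.node
  .nil (nat_lit 1628) (nat_lit 129) (nat_lit 88) .nil) (nat_lit 1629) (nat_lit 208) (nat_lit 716) (.node .nil
  (nat_lit 1630) (nat_lit 193) (nat_lit 1715) .nil)) (nat_lit 1631) (nat_lit 193) (nat_lit 1658) (.node (.node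
  .nil (nat_lit 1632) (nat_lit 193) (nat_lit 610) .nil) (nat_lit 1633) (nat_lit 144) (nat_lit 1267) (.node
  .nil (nat_lit 1634) (nat_lit 192) (nat_lit 118) .nil)))))))
def lX2t_7 : T := (.node (.node (.node (.node (.node (.node (.node (.node .nil (nat_lit 1636) (nat_lit 209)
  (nat_lit 1499) .nil) (nat_lit 1637) (nat_lit 161) (nat_lit 730) .nil) (nat_lit 1638) (nat_lit 144) (nat_lit
  1187) (.node .nil (nat_lit 1639) (nat_lit 192) (nat_lit 1186) .nil)) (nat_lit 1640) (nat_lit 81) (nat_lit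
  786) (.node (.node .nil (nat_lit 1641) (nat_lit 160) (nat_lit 456) .nil) (nat_lit 1642) (nat_lit 176)
  (nat_lit 1150) (.node .nil (nat_lit 1643) (nat_lit 177) (nat_lit 393) .nil))) (nat_lit 1644) (nat_lit 193)
  (nat_lit 1764) (.node (.node (.node .nil (nat_lit 1645) (nat_lit 192) (nat_lit 1647) .nil) (nat_lit 1646)
  (nat_lit 160) (nat_lit 1213) (.node .nil (nat_lit 1647) (nat_lit 177) (nat_lit 781) .nil)) (nat_lit 1648)
  (nat_lit 192) (nat_lit 1215) (.node (.node .nil (nat_lit 1649) (nat_lit 208) (nat_lit 1212) .nil) (nat_lit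
  1650) (nat_lit 176) (nat_lit 1211) (.node .nil (nat_lit 1651) (nat_lit 192) (nat_lit 1642) .nil)))) (nat_lit
  1652) (nat_lit 176) (nat_lit 1641) (.node (.node (.node (.node .nil (nat_lit 1653) (nat_lit 96) (nat_lit
  1640) .nil) (nat_lit 1654) (nat_lit 161) (nat_lit 388) (.node .nil (nat_lit 1655) (nat_lit 177) (nat_lit
  1354) .nil)) (nat_lit 1656) (nat_lit 193) (nat_lit 1773) (.node (.node .nil (nat_lit 1657) (nat_lit 129)
  (nat_lit 1692) .nil) (nat_lit 1658) (nat_lit 177) (nat_lit 1753) (.node .nil (nat_lit 1659) (nat_lit 176)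
  (nat_lit 332) .nil))) (nat_lit 1660) (nat_lit 176) (nat_lit 1222) (.node (.node (.node .nil (nat_lit 1661)
  (nat_lit 209) (nat_lit 1606) .nil) (nat_lit 1662) (nat_lit 128) (nat_lit 1223) (.node .nil (nat_lit 1663)
  (nat_lit 209) (nat_lit 972) .nil)) (nat_lit 1664) (nat_lit 112) (nat_lit 1608) (.node (.node .nil (nat_lit
  1665) (nat_lit 160) (nat_lit 1612) .nil) (nat_lit 1666) (nat_lit 161) (nat_lit 447) (.node .nil (nat_lit
  1667) (nat_lit 160) (nat_lit 1610) .nil))))) (nat_lit 1668) (nat_lit 160) (nat_lit 1609) (.node (.node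
  (.node (.node (.node (.node .nil (nat_lit 1669) (nat_lit 208) (nat_lit 1253) .nil) (nat_lit 1670) (nat_lit
  209) (nat_lit 1043) .nil) (nat_lit 1671) (nat_lit 193) (nat_lit 422) (.node .nil (nat_lit 1672) (nat_lit
  113) (nat_lit 731) .nil)) (nat_lit 1673) (nat_lit 176) (nat_lit 1251) (.node (.node .nil (nat_lit 1674)
  (nat_lit 129) (nat_lit 775) .nil) (nat_lit 1675) (nat_lit 193) (nat_lit 890) (.node .nil (nat_lit 1676)
  (nat_lit 193) (nat_lit 1642) .nil))) (nat_lit 1677) (nat_lit 193) (nat_lit 970) (.node (.node (.node .nil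
  (nat_lit 1678) (nat_lit 160) (nat_lit 1172) .nil) (nat_lit 1679) (nat_lit 145) (nat_lit 500) (.node .nil
  (nat_lit 1680) (nat_lit 193) (nat_lit 87) .nil)) (nat_lit 1681) (nat_lit 192) (nat_lit 1264) (.node (.node
  .nil (nat_lit 1682) (nat_lit 160) (nat_lit 1265) .nil) (nat_lit 1683) (nat_lit 65) (nat_lit 495) (.node .nil
  (nat_lit 1684) (nat_lit 177) (nat_lit 401) .nil)))) (nat_lit 1685) (nat_lit 192) (nat_lit 1160) (.node
  (.node (.node (.node .nil (nat_lit 1686) (nat_lit 128) (nat_lit 1672) .nil) (nat_lit 1687) (nat_lit 208)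
  (nat_lit 121) (.node .nil (nat_lit 1688) (nat_lit 193) (nat_lit 1762) .nil)) (nat_lit 1689) (nat_lit 193)
  (nat_lit 397) (.node (.node .nil (nat_lit 1690) (nat_lit 209) (nat_lit 1703) .nil) (nat_lit 1691) (nat_lit
  192) (nat_lit 327) (.node .nil (nat_lit 1692) (nat_lit 112) (nat_lit 350) .nil))) (nat_lit 1693) (nat_lit
  209) (nat_lit 1656) (.node (.node (.node .nil (nat_lit 1694) (nat_lit 209) (nat_lit 1751) .nil) (nat_lit
  1695) (nat_lit 160) (nat_lit 1427) (.node .nil (nat_lit 1696) (nat_lit 193) (nat_lit 160) .nil)) (nat_lit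
  1697) (nat_lit 224) (nat_lit 1063) (.node (.node .nil (nat_lit 1698) (nat_lit 176) (nat_lit 1097) .nil)
  (nat_lit 1699) (nat_lit 160) (nat_lit 1098) (.node .nil (nat_lit 1702) (nat_lit 161) (nat_lit 1162)
  .nil)))))) (nat_lit 1703) (nat_lit 193) (nat_lit 1698) (.node (.node (.node (.node (.node (.node (.node .nil
  (nat_lit 1704) (nat_lit 177) (nat_lit 1729) .nil) (nat_lit 1705) (nat_lit 192) (nat_lit 1453) .nil) (nat_lit
  1706) (nat_lit 208) (nat_lit 1452) (.node .nil (nat_lit 1707) (nat_lit 160) (nat_lit 1298) .nil)) (nat_lit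
  1708) (nat_lit 208) (nat_lit 1268) (.node (.node .nil (nat_lit 1709) (nat_lit 161) (nat_lit 1774) .nil)
  (nat_lit 1710) (nat_lit 176) (nat_lit 1153) (.node .nil (nat_lit 1711) (nat_lit 161) (nat_lit 1722) .nil)))
  (nat_lit 1712) (nat_lit 145) (nat_lit 1750) (.node (.node (.node .nil (nat_lit 1713) (nat_lit 161) (nat_lit
  351) .nil) (nat_lit 1714) (nat_lit 193) (nat_lit 1684) (.node .nil (nat_lit 1715) (nat_lit 177) (nat_lit
  1713) .nil)) (nat_lit 1716) (nat_lit 176) (nat_lit 1285) (.node (.node .nil (nat_lit 1717) (nat_lit 209)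
  (nat_lit 1691) .nil) (nat_lit 1718) (nat_lit 192) (nat_lit 555) (.node .nil (nat_lit 1719) (nat_lit 193)
  (nat_lit 1710) .nil)))) (nat_lit 1720) (nat_lit 144) (nat_lit 1449) (.node (.node (.node (.node .nil
  (nat_lit 1721) (nat_lit 209) (nat_lit 1756) .nil) (nat_lit 1722) (nat_lit 145) (nat_lit 402) (.node .nil
  (nat_lit 1723) (nat_lit 193) (nat_lit 1727) .nil)) (nat_lit 1724) (nat_lit 192) (nat_lit 1300) (.node (.node
  .nil (nat_lit 1725) (nat_lit 161) (nat_lit 1759) .nil) (nat_lit 1726) (nat_lit 209) (nat_lit 1730) (.node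
  .nil (nat_lit 1727) (nat_lit 177) (nat_lit 269) .nil))) (nat_lit 1728) (nat_lit 161) (nat_lit 1720) (.node
  (.node (.node .nil (nat_lit 1729) (nat_lit 161) (nat_lit 390) .nil) (nat_lit 1730) (nat_lit 193) (nat_lit
  1643) (.node .nil (nat_lit 1731) (nat_lit 176) (nat_lit 1450) .nil)) (nat_lit 1732) (nat_lit 177) (nat_lit
  354) (.node (.node .nil (nat_lit 1733) (nat_lit 177) (nat_lit 1743) .nil) (nat_lit 1735) (nat_lit 128)
  (nat_lit 1494) (.node .nil (nat_lit 1736) (nat_lit 193) (nat_lit 1350) .nil))))) (nat_lit 1739) (nat_lit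
  224) (nat_lit 869) (.node (.node (.node (.node (.node .nil (nat_lit 1740) (nat_lit 224) (nat_lit 735) .nil)
  (nat_lit 1742) (nat_lit 160) (nat_lit 1204) (.node .nil (nat_lit 1743) (nat_lit 161) (nat_lit 392) .nil))
  (nat_lit 1744) (nat_lit 192) (nat_lit 1085) (.node (.node .nil (nat_lit 1745) (nat_lit 208) (nat_lit 1206)
  .nil) (nat_lit 1746) (nat_lit 161) (nat_lit 404) (.node .nil (nat_lit 1747) (nat_lit 192) (nat_lit 1203)
  .nil))) (nat_lit 1748) (nat_lit 192) (nat_lit 1201) (.node (.node (.node .nil (nat_lit 1749) (nat_lit 193)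
  (nat_lit 1732) .nil) (nat_lit 1750) (nat_lit 128) (nat_lit 1059) (.node .nil (nat_lit 1751) (nat_lit 193)
  (nat_lit 1659) .nil)) (nat_lit 1753) (nat_lit 160) (nat_lit 1208) (.node (.node .nil (nat_lit 1754) (nat_lit
  193) (nat_lit 1758) .nil) (nat_lit 1755) (nat_lit 208) (nat_lit 1425) (.node .nil (nat_lit 1756) (nat_lit
  192) (nat_lit 1420) .nil)))) (nat_lit 1757) (nat_lit 208) (nat_lit 1090) (.node (.node (.node (.node .nil
  (nat_lit 1758) (nat_lit 176) (nat_lit 437) .nil) (nat_lit 1759) (nat_lit 144) (nat_lit 1205) (.node .nil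
  (nat_lit 1760) (nat_lit 209) (nat_lit 1718) .nil)) (nat_lit 1761) (nat_lit 208) (nat_lit 1084) (.node (.node
  .nil (nat_lit 1762) (nat_lit 177) (nat_lit 1746) .nil) (nat_lit 1763) (nat_lit 208) (nat_lit 1207) (.node
  .nil (nat_lit 1764) (nat_lit 177) (nat_lit 1702) .nil))) (nat_lit 1767) (nat_lit 48) (nat_lit 256) (.node
  (.node (.node .nil (nat_lit 1768) (nat_lit 32) (nat_lit 92) .nil) (nat_lit 1769) (nat_lit 65) (nat_lit 99)
  (.node .nil (nat_lit 1770) (nat_lit 49) (nat_lit 100) .nil)) (nat_lit 1773) (nat_lit 177) (nat_lit 1695)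
  (.node (.node .nil (nat_lit 1774) (nat_lit 145) (nat_lit 1657) .nil) (nat_lit 1775) (nat_lit 144) (nat_lit
  1417) (.node .nil (nat_lit 1776) (nat_lit 177) (nat_lit 338) .nil)))))))
def lX2t : T := (.node (.node (.node lX2t_0 (nat_lit 331) (nat_lit 161) (nat_lit 77) lX2t_1) (nat_lit 563)
  (nat_lit 192) (nat_lit 1507) (.node lX2t_2 (nat_lit 782) (nat_lit 128) (nat_lit 252) lX2t_3)) (nat_lit 1101)
  (nat_lit 144) (nat_lit 616) (.node (.node lX2t_4 (nat_lit 1233) (nat_lit 193) (nat_lit 1390) lX2t_5)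
  (nat_lit 1416) (nat_lit 177) (nat_lit 1150) (.node lX2t_6 (nat_lit 1635) (nat_lit 209) (nat_lit 1263)
  lX2t_7)))
def lX2 : Lvl := ⟨nat_lit 90, [nat_lit 489, nat_lit 8376], [], lX2t⟩
def lX3t : T := (.node (.node (.node (.node (.node .nil (nat_lit 19) (nat_lit 0) (nat_lit 19) .nil) (nat_lit
  34) (nat_lit 81) (nat_lit 1771) (.node .nil (nat_lit 53) (nat_lit 113) (nat_lit 1765) .nil)) (nat_lit 54)
  (nat_lit 160) (nat_lit 263) (.node (.node .nil (nat_lit 109) (nat_lit 113) (nat_lit 592) .nil) (nat_lit 110)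
  (nat_lit 176) (nat_lit 54) .nil)) (nat_lit 139) (nat_lit 16) (nat_lit 19) (.node (.node (.node .nil (nat_lit
  140) (nat_lit 96) (nat_lit 1772) .nil) (nat_lit 156) (nat_lit 128) (nat_lit 682) .nil) (nat_lit 157)
  (nat_lit 49) (nat_lit 265) (.node (.node .nil (nat_lit 263) (nat_lit 145) (nat_lit 709) .nil) (nat_lit 265)
  (nat_lit 32) (nat_lit 139) .nil))) (nat_lit 462) (nat_lit 112) (nat_lit 593) (.node (.node (.node (.node
  .nil (nat_lit 463) (nat_lit 112) (nat_lit 592) .nil) (nat_lit 592) (nat_lit 97) (nat_lit 689) .nil) (nat_lit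
  593) (nat_lit 96) (nat_lit 34) (.node (.node .nil (nat_lit 682) (nat_lit 113) (nat_lit 140) .nil) (nat_lit
  689) (nat_lit 80) (nat_lit 1771) .nil)) (nat_lit 704) (nat_lit 65) (nat_lit 157) (.node (.node (.node .nil
  (nat_lit 709) (nat_lit 128) (nat_lit 109) .nil) (nat_lit 1765) (nat_lit 97) (nat_lit 1772) .nil) (nat_lit
  1766) (nat_lit 97) (nat_lit 34) (.node (.node .nil (nat_lit 1771) (nat_lit 64) (nat_lit 157) .nil) (nat_lit
  1772) (nat_lit 80) (nat_lit 704) .nil))))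
def lX3 : Lvl := ⟨nat_lit 19, [nat_lit 4472, nat_lit 9645], [], lX3t⟩
def lX4t : T := (.node (.node (.node (.node (.node .nil (nat_lit 28) (nat_lit 0) (nat_lit 28) .nil) (nat_lit
  37) (nat_lit 33) (nat_lit 745) (.node .nil (nat_lit 231) (nat_lit 64) (nat_lit 1555) .nil)) (nat_lit 235)
  (nat_lit 80) (nat_lit 1558) (.node (.node .nil (nat_lit 443) (nat_lit 32) (nat_lit 947) .nil) (nat_lit 445)
  (nat_lit 33) (nat_lit 947) .nil)) (nat_lit 539) (nat_lit 49) (nat_lit 1557) (.node (.node (.node .nil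
  (nat_lit 541) (nat_lit 48) (nat_lit 445) .nil) (nat_lit 659) (nat_lit 65) (nat_lit 945) .nil) (nat_lit 662)
  (nat_lit 81) (nat_lit 950) (.node (.node .nil (nat_lit 663) (nat_lit 80) (nat_lit 231) .nil) (nat_lit 669)
  (nat_lit 65) (nat_lit 1555) .nil))) (nat_lit 740) (nat_lit 64) (nat_lit 541) (.node (.node (.node (.node
  .nil (nat_lit 745) (nat_lit 17) (nat_lit 28) .nil) (nat_lit 746) (nat_lit 49) (nat_lit 37) .nil) (nat_lit
  769) (nat_lit 81) (nat_lit 231) (.node (.node .nil (nat_lit 944) (nat_lit 48) (nat_lit 1557) .nil) (nat_lit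
  945) (nat_lit 49) (nat_lit 445) .nil)) (nat_lit 947) (nat_lit 16) (nat_lit 28) (.node (.node (.node .nil
  (nat_lit 950) (nat_lit 65) (nat_lit 541) .nil) (nat_lit 1555) (nat_lit 49) (nat_lit 443) .nil) (nat_lit
  1556) (nat_lit 65) (nat_lit 539) (.node (.node .nil (nat_lit 1557) (nat_lit 32) (nat_lit 745) .nil) (nat_lit
  1558) (nat_lit 64) (nat_lit 539) .nil))))
def lX4 : Lvl := ⟨nat_lit 28, [nat_lit 458, nat_lit 6373], [], lX4t⟩
def lA : List Lvl := [l0, l1, lA2, lA3]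
def lX : List Lvl := [l0, lX1, lX2, lX3, lX4]
def sK0t : T := (.node (.node (.node (.node (.node (.node .nil (nat_lit 0) (nat_lit 129) (nat_lit 718) .nil)
  (nat_lit 1) (nat_lit 97) (nat_lit 938) (.node .nil (nat_lit 18) (nat_lit 128) (nat_lit 651) .nil)) (nat_lit
  19) (nat_lit 146) (nat_lit 719) (.node (.node .nil (nat_lit 34) (nat_lit 97) (nat_lit 939) .nil) (nat_lit
  53) (nat_lit 81) (nat_lit 502) .nil)) (nat_lit 54) (nat_lit 130) (nat_lit 943) (.node (.node (.node .nil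
  (nat_lit 55) (nat_lit 112) (nat_lit 527) .nil) (nat_lit 90) (nat_lit 97) (nat_lit 92) (.node .nil (nat_lit
  91) (nat_lit 113) (nat_lit 1779) .nil)) (nat_lit 92) (nat_lit 80) (nat_lit 1701) (.node (.node .nil (nat_lit
  253) (nat_lit 113) (nat_lit 1780) .nil) (nat_lit 256) (nat_lit 33) (nat_lit 509) .nil))) (nat_lit 411)
  (nat_lit 96) (nat_lit 53) (.node (.node (.node (.node .nil (nat_lit 412) (nat_lit 112) (nat_lit 34) .nil)
  (nat_lit 413) (nat_lit 129) (nat_lit 416) (.node .nil (nat_lit 414) (nat_lit 81) (nat_lit 415) .nil))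
  (nat_lit 415) (nat_lit 64) (nat_lit 528) (.node (.node .nil (nat_lit 416) (nat_lit 112) (nat_lit 652) .nil)
  (nat_lit 467) (nat_lit 146) (nat_lit 18) .nil)) (nat_lit 468) (nat_lit 129) (nat_lit 942) (.node (.node
  (.node .nil (nat_lit 469) (nat_lit 130) (nat_lit 412) .nil) (nat_lit 502) (nat_lit 66) (nat_lit 1700) (.node
  .nil (nat_lit 509) (nat_lit 16) (nat_lit 1752) .nil)) (nat_lit 527) (nat_lit 97) (nat_lit 1770) (.node
  (.node .nil (nat_lit 528) (nat_lit 50) (nat_lit 256) .nil) (nat_lit 529) (nat_lit 65) (nat_lit 528) .nil))))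
  (nat_lit 651) (nat_lit 113) (nat_lit 1769) (.node (.node (.node (.node (.node .nil (nat_lit 652) (nat_lit
  98) (nat_lit 92) .nil) (nat_lit 655) (nat_lit 113) (nat_lit 652) (.node .nil (nat_lit 718) (nat_lit 112)
  (nat_lit 1779) .nil)) (nat_lit 719) (nat_lit 128) (nat_lit 1772) (.node (.node .nil (nat_lit 938) (nat_lit
  82) (nat_lit 415) .nil) (nat_lit 939) (nat_lit 82) (nat_lit 1701) .nil)) (nat_lit 940) (nat_lit 114)
  (nat_lit 1) (.node (.node (.node .nil (nat_lit 941) (nat_lit 130) (nat_lit 55) .nil) (nat_lit 942) (nat_lit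
  114) (nat_lit 411) (.node .nil (nat_lit 943) (nat_lit 112) (nat_lit 1766) .nil)) (nat_lit 1700) (nat_lit 48)
  (nat_lit 256) (.node (.node .nil (nat_lit 1701) (nat_lit 65) (nat_lit 1700) .nil) (nat_lit 1752) (nat_lit 0)
  (nat_lit 1752) .nil))) (nat_lit 1765) (nat_lit 98) (nat_lit 53) (.node (.node (.node (.node .nil (nat_lit
  1766) (nat_lit 98) (nat_lit 414) .nil) (nat_lit 1767) (nat_lit 128) (nat_lit 940) (.node .nil (nat_lit 1768)
  (nat_lit 144) (nat_lit 468) .nil)) (nat_lit 1769) (nat_lit 96) (nat_lit 939) (.node (.node .nil (nat_lit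
  1770) (nat_lit 80) (nat_lit 502) .nil) (nat_lit 1771) (nat_lit 114) (nat_lit 34) .nil)) (nat_lit 1772)
  (nat_lit 113) (nat_lit 411) (.node (.node (.node .nil (nat_lit 1777) (nat_lit 144) (nat_lit 941) .nil)
  (nat_lit 1778) (nat_lit 160) (nat_lit 467) .nil) (nat_lit 1779) (nat_lit 98) (nat_lit 1770) (.node (.node
  .nil (nat_lit 1780) (nat_lit 96) (nat_lit 938) .nil) (nat_lit 1781) (nat_lit 112) (nat_lit 90) .nil)))))
def sK0 : Lvl := ⟨nat_lit 1752, [nat_lit 17, nat_lit 15, nat_lit 5], [], sK0t⟩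
def sK1t : T := (.node (.node (.node (.node (.node (.node .nil (nat_lit 0) (nat_lit 0) (nat_lit 0) .nil)
  (nat_lit 1) (nat_lit 67) (nat_lit 34) .nil) (nat_lit 18) (nat_lit 51) (nat_lit 412) (.node .nil (nat_lit 19)
  (nat_lit 64) (nat_lit 414) .nil)) (nat_lit 34) (nat_lit 48) (nat_lit 411) (.node (.node .nil (nat_lit 53)
  (nat_lit 19) (nat_lit 0) .nil) (nat_lit 54) (nat_lit 35) (nat_lit 416) (.node .nil (nat_lit 55) (nat_lit 16)
  (nat_lit 0) .nil))) (nat_lit 411) (nat_lit 35) (nat_lit 55) (.node (.node (.node .nil (nat_lit 412) (nat_lit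
  32) (nat_lit 53) .nil) (nat_lit 413) (nat_lit 48) (nat_lit 54) (.node .nil (nat_lit 414) (nat_lit 51)
  (nat_lit 1700) .nil)) (nat_lit 415) (nat_lit 83) (nat_lit 19) (.node (.node .nil (nat_lit 416) (nat_lit 18)
  (nat_lit 0) .nil) (nat_lit 467) (nat_lit 67) (nat_lit 469) (.node .nil (nat_lit 468) (nat_lit 17) (nat_lit
  0) .nil)))) (nat_lit 469) (nat_lit 48) (nat_lit 1765) (.node (.node (.node (.node .nil (nat_lit 502)
  (nat_lit 50) (nat_lit 941) .nil) (nat_lit 718) (nat_lit 34) (nat_lit 468) (.node .nil (nat_lit 719) (nat_lit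
  80) (nat_lit 1766) .nil)) (nat_lit 938) (nat_lit 99) (nat_lit 719) (.node (.node .nil (nat_lit 939) (nat_lit
  83) (nat_lit 1772) .nil) (nat_lit 940) (nat_lit 83) (nat_lit 1771) (.node .nil (nat_lit 941) (nat_lit 33)
  (nat_lit 55) .nil))) (nat_lit 942) (nat_lit 51) (nat_lit 941) (.node (.node (.node .nil (nat_lit 943)
  (nat_lit 51) (nat_lit 718) .nil) (nat_lit 1700) (nat_lit 34) (nat_lit 55) (.node .nil (nat_lit 1701)
  (nat_lit 67) (nat_lit 413) .nil)) (nat_lit 1765) (nat_lit 35) (nat_lit 468) (.node (.node .nil (nat_lit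
  1766) (nat_lit 67) (nat_lit 502) .nil) (nat_lit 1771) (nat_lit 64) (nat_lit 942) (.node .nil (nat_lit 1772)
  (nat_lit 64) (nat_lit 943) .nil)))))
def sK1 : Lvl := ⟨nat_lit 0, [nat_lit 4, nat_lit 5, nat_lit 6, nat_lit 12], [], sK1t⟩
def sK2t : T := (.node (.node (.node (.node .nil (nat_lit 90) (nat_lit 0) (nat_lit 90) .nil) (nat_lit 91)
  (nat_lit 66) (nat_lit 1770) .nil) (nat_lit 92) (nat_lit 32) (nat_lit 1768) (.node (.node .nil (nat_lit 253)
  (nat_lit 98) (nat_lit 1769) .nil) (nat_lit 256) (nat_lit 64) (nat_lit 1767) .nil)) (nat_lit 509) (nat_lit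
  80) (nat_lit 256) (.node (.node (.node .nil (nat_lit 1767) (nat_lit 50) (nat_lit 92) .nil) (nat_lit 1768)
  (nat_lit 16) (nat_lit 90) .nil) (nat_lit 1769) (nat_lit 82) (nat_lit 91) (.node .nil (nat_lit 1770) (nat_lit
  49) (nat_lit 92) .nil)))
def sK2 : Lvl := ⟨nat_lit 90, [nat_lit 303, nat_lit 425, nat_lit 9442], [], sK2t⟩
def sK3t : T := (.node (.node (.node (.node .nil (nat_lit 19) (nat_lit 0) (nat_lit 19) .nil) (nat_lit 34)
  (nat_lit 32) (nat_lit 1766) .nil) (nat_lit 53) (nat_lit 33) (nat_lit 1765) (.node .nil (nat_lit 54) (nat_lit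
  32) (nat_lit 1765) .nil)) (nat_lit 1765) (nat_lit 16) (nat_lit 19) (.node (.node .nil (nat_lit 1766)
  (nat_lit 17) (nat_lit 19) .nil) (nat_lit 1771) (nat_lit 48) (nat_lit 54) (.node .nil (nat_lit 1772) (nat_lit
  49) (nat_lit 54) .nil)))
def sK3 : Lvl := ⟨nat_lit 19, [nat_lit 9442, nat_lit 10498], [], sK3t⟩
def sK4t : T := (.node (.node (.node (.node (.node .nil (nat_lit 28) (nat_lit 0) (nat_lit 28) .nil) (nat_lit
  37) (nat_lit 33) (nat_lit 745) (.node .nil (nat_lit 231) (nat_lit 64) (nat_lit 663) .nil)) (nat_lit 235)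
  (nat_lit 80) (nat_lit 539) (.node (.node .nil (nat_lit 443) (nat_lit 16) (nat_lit 28) .nil) (nat_lit 445)
  (nat_lit 49) (nat_lit 947) .nil)) (nat_lit 539) (nat_lit 65) (nat_lit 1557) (.node (.node (.node .nil
  (nat_lit 541) (nat_lit 49) (nat_lit 944) .nil) (nat_lit 659) (nat_lit 81) (nat_lit 945) .nil) (nat_lit 662)
  (nat_lit 81) (nat_lit 950) (.node (.node .nil (nat_lit 663) (nat_lit 48) (nat_lit 1555) .nil) (nat_lit 669)
  (nat_lit 49) (nat_lit 1555) .nil))) (nat_lit 740) (nat_lit 64) (nat_lit 445) (.node (.node (.node (.node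
  .nil (nat_lit 745) (nat_lit 17) (nat_lit 28) .nil) (nat_lit 746) (nat_lit 49) (nat_lit 37) .nil) (nat_lit
  769) (nat_lit 81) (nat_lit 231) (.node (.node .nil (nat_lit 944) (nat_lit 32) (nat_lit 745) .nil) (nat_lit
  945) (nat_lit 65) (nat_lit 445) .nil)) (nat_lit 947) (nat_lit 32) (nat_lit 443) (.node (.node (.node .nil
  (nat_lit 950) (nat_lit 65) (nat_lit 541) .nil) (nat_lit 1555) (nat_lit 33) (nat_lit 443) .nil) (nat_lit
  1556) (nat_lit 81) (nat_lit 539) (.node (.node .nil (nat_lit 1557) (nat_lit 48) (nat_lit 944) .nil) (nat_lit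
  1558) (nat_lit 65) (nat_lit 669) .nil))))
def sK4 : Lvl := ⟨nat_lit 28, [nat_lit 333, nat_lit 6373], [], sK4t⟩
def sK : List Lvl := [sK0, sK1, sK2, sK3, sK4]

end Cfsg.Agent.SZ
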