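import Cfsg.Agent.M24.Chain

/-! # The model of `Suz`: local data -/

set_option autoImplicit false
set_option maxRecDepth 100000

namespace Cfsg.Agent.SZ

open Cfsg.Agent.M24

def wQ : List (List ℕ) := [[], [0], [1], [2], [10], [18], [19], [15], [0, 1], [0, 2], [0, 10], [0, 18], [0,
  19], [0, 15], [1, 2], [1, 10], [1, 18], [1, 19], [1, 15], [2, 10], [2, 18], [2, 19], [2, 15], [10, 2], [10,
  18], [10, 19], [10, 15], [18, 2], [18, 10], [18, 19], [18, 15], [19, 2], [19, 10], [19, 18], [19, 15], [15,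
  1], [15, 2], [15, 10], [0, 1, 2], [0, 1, 10], [0, 1, 18], [0, 1, 19], [0, 18, 15], [0, 19, 15], [1, 2, 10],
  [1, 2, 18], [1, 2, 19], [1, 2, 15], [1, 10, 2], [1, 10, 18], [1, 10, 19], [1, 10, 15], [1, 18, 2], [1, 18,
  10], [1, 18, 19], [1, 18, 15], [1, 19, 2], [1, 19, 10], [1, 19, 18], [1, 19, 15], [1, 15, 2], [1, 15, 10],
  [2, 10, 18], [2, 10, 19], [2, 10, 15], [2, 18, 10], [2, 18, 19], [2, 18, 15], [2, 19, 10], [2, 19, 18], [2,
  19, 15], [2, 15, 10], [10, 18, 19], [10, 18, 15], [10, 19, 18], [10, 19, 15], [18, 2, 15], [18, 10, 15],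
  [18, 19, 15], [18, 15, 1], [19, 2, 15], [19, 10, 15], [19, 18, 15], [19, 15, 1], [1, 2, 10, 18], [1, 2, 10,
  19], [1, 2, 10, 15], [1, 2, 18, 10], [1, 2, 18, 19], [1, 2, 18, 15], [1, 2, 19, 10], [1, 2, 19, 18], [1, 2,
  19, 15], [1, 2, 15, 10], [1, 10, 18, 19], [1, 10, 18, 15], [1, 10, 19, 18], [1, 10, 19, 15], [1, 18, 2, 15],
  [1, 18, 10, 15], [1, 18, 19, 15], [1, 19, 2, 15], [1, 19, 10, 15], [1, 19, 18, 15], [2, 10, 18, 19], [2, 10,
  18, 15], [2, 10, 19, 18], [2, 10, 19, 15], [2, 18, 10, 15], [2, 18, 19, 15], [2, 19, 10, 15], [2, 19, 18,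
  15], [10, 18, 19, 15], [10, 19, 18, 15], [1, 2, 10, 18, 19], [1, 2, 10, 18, 15], [1, 2, 10, 19, 18], [1, 2,
  10, 19, 15], [1, 2, 18, 10, 15], [1, 2, 18, 19, 15], [1, 2, 19, 10, 15], [1, 2, 19, 18, 15], [1, 10, 18, 19,
  15], [1, 10, 19, 18, 15], [2, 10, 18, 19, 15], [2, 10, 19, 18, 15], [1, 2, 10, 18, 19, 15], [1, 2, 10, 19,
  18, 15]]
def wR : List (List ℕ) := [[], [0], [1], [2], [10], [15], [0, 1], [0, 2], [0, 10], [0, 15], [1, 2], [1, 10],
  [1, 15], [2, 10], [2, 15], [10, 2], [10, 15], [15, 1], [15, 2], [15, 10], [0, 1, 2], [0, 1, 10], [1, 2, 10],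
  [1, 2, 15], [1, 10, 2], [1, 10, 15], [1, 15, 2], [1, 15, 10], [2, 10, 15], [2, 15, 10], [1, 2, 10, 15], [1,
  2, 15, 10]]
def tQ : T := (.node (.node (.node (.node (.node (.node (.node (.node .nil (nat_lit 0x905a4d5f00d) (nat_lit
  643170) (nat_lit 0) .nil) (nat_lit 0x905a4d9cd07) (nat_lit 21090) (nat_lit 0) .nil) (nat_lit 0x905a4d9e92f)
  (nat_lit 643426) (nat_lit 0) (.node .nil (nat_lit 0x905a4da4127) (nat_lit 20099) (nat_lit 0) .nil)) (nat_lit
  0x905a4da519a) (nat_lit 20107) (nat_lit 0) (.node (.node .nil (nat_lit 0x905a4da7418) (nat_lit 659) (nat_lit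
  0) .nil) (nat_lit 0x905a4da7b54) (nat_lit 674914) (nat_lit 0) (.node .nil (nat_lit 0x905a4da8249) (nat_lit
  21091) (nat_lit 0) .nil))) (nat_lit 0x905a4daa1f2) (nat_lit 21099) (nat_lit 0) (.node (.node (.node .nil
  (nat_lit 0x905a4daab30) (nat_lit 675170) (nat_lit 0) .nil) (nat_lit 0x905a4dadcc4) (nat_lit 628) (nat_lit 0)
  (.node .nil (nat_lit 0x905a4dae3b9) (nat_lit 20098) (nat_lit 0) .nil)) (nat_lit 0x905a4daec39) (nat_lit
  20578) (nat_lit 0) (.node (.node .nil (nat_lit 0x905a4db0f03) (nat_lit 3714) (nat_lit 0) .nil) (nat_lit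
  0x905a4db15f8) (nat_lit 116) (nat_lit 0) (.node .nil (nat_lit 0x905a4db1cf2) (nat_lit 643) (nat_lit 0)
  .nil)))) (nat_lit 0x905a4db5a15) (nat_lit 11906) (nat_lit 0) (.node (.node (.node (.node .nil (nat_lit
  0x905a4db6108) (nat_lit 372) (nat_lit 0) .nil) (nat_lit 0x905a4db8076) (nat_lit 651) (nat_lit 0) (.node .nil
  (nat_lit 0x905a4db89fe) (nat_lit 20834) (nat_lit 0) .nil)) (nat_lit 0x905a4db934b) (nat_lit 20) (nat_lit 0)
  (.node (.node .nil (nat_lit 0x905a4db9a40) (nat_lit 642) (nat_lit 0) .nil) (nat_lit 0x905a4dba133) (nat_lit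
  641) (nat_lit 0) (.node .nil (nat_lit 0x905a4dba828) (nat_lit 20545) (nat_lit 0) .nil))) (nat_lit
  0x905a4dcd1b0) (nat_lit 381026) (nat_lit 0) (.node (.node (.node .nil (nat_lit 0x905a4dcd8a5) (nat_lit
  11907) (nat_lit 0) .nil) (nat_lit 0x905a4dcdcc7) (nat_lit 675171) (nat_lit 0) (.node .nil (nat_lit
  0x905a4dce6e5) (nat_lit 0x149ac62) (nat_lit 0) .nil)) (nat_lit 0x905a4dcedca) (nat_lit 666722) (nat_lit 0)
  (.node (.node .nil (nat_lit 0x905a4dcf4c3) (nat_lit 20835) (nat_lit 0) .nil) (nat_lit 0x905a4dcfb9e)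
  (nat_lit 643427) (nat_lit 0) (.node .nil (nat_lit 0x905a4dd02ba) (nat_lit 0x13a2c62) (nat_lit 0) .nil)))))
  (nat_lit 0x905a4dffc34) (nat_lit 2) (nat_lit 0) (.node (.node (.node (.node (.node .nil (nat_lit
  0x905a4e19dfe) (nat_lit 3137) (nat_lit 0) .nil) (nat_lit 0x905a4e25aba) (nat_lit 19554) (nat_lit 0) (.node
  .nil (nat_lit 0x905a4e63d57) (nat_lit 633954) (nat_lit 0) .nil)) (nat_lit 0x905a4f1940f) (nat_lit 97)
  (nat_lit 0) (.node (.node .nil (nat_lit 0x905a4f1e6d4) (nat_lit 0) (nat_lit 0) .nil) (nat_lit 0x905a4f20a64)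
  (nat_lit 19811) (nat_lit 0) (.node .nil (nat_lit 0x905a4f664ef) (nat_lit 19521) (nat_lit 0) .nil))) (nat_lit
  0x905a4f6730d) (nat_lit 3426) (nat_lit 0) (.node (.node (.node .nil (nat_lit 0x905a4f6bf71) (nat_lit 3682)
  (nat_lit 0) .nil) (nat_lit 0x905a4f6e15d) (nat_lit 65) (nat_lit 0) (.node .nil (nat_lit 0x905a4f6e852)
  (nat_lit 1) (nat_lit 0) .nil)) (nat_lit 0x905a4f6f026) (nat_lit 609) (nat_lit 0) (.node (.node .nil (nat_lit
  0x905a4f6f722) (nat_lit 610) (nat_lit 0) .nil) (nat_lit 0x905a4f6fe19) (nat_lit 19) (nat_lit 0) (.node .nil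
  (nat_lit 0x905a4f74ad2) (nat_lit 355) (nat_lit 0) .nil)))) (nat_lit 0x905a4f751c9) (nat_lit 11362) (nat_lit
  0) (.node (.node (.node (.node .nil (nat_lit 0x905a4f757c4) (nat_lit 380002) (nat_lit 0) .nil) (nat_lit
  0x905a4f75eb9) (nat_lit 11875) (nat_lit 0) (.node .nil (nat_lit 0x905a4f766ae) (nat_lit 107) (nat_lit 0)
  .nil)) (nat_lit 0x905a4f7b311) (nat_lit 611) (nat_lit 0) (.node (.node .nil (nat_lit 0x905a4f7b935) (nat_lit
  98) (nat_lit 0) .nil) (nat_lit 0x905a4f7c02c) (nat_lit 3) (nat_lit 0) (.node .nil (nat_lit 0x905a4f7c7f4)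
  (nat_lit 115) (nat_lit 0) .nil))) (nat_lit 0x905a4f80ca1) (nat_lit 11874) (nat_lit 0) (.node (.node (.node
  .nil (nat_lit 0x905a4f81385) (nat_lit 371) (nat_lit 0) .nil) (nat_lit 0x905a4f82999) (nat_lit 11) (nat_lit
  0) (.node .nil (nat_lit 0x905a4f8308e) (nat_lit 354) (nat_lit 0) .nil)) (nat_lit 0x905a4f83780) (nat_lit
  11329) (nat_lit 0) (.node (.node .nil (nat_lit 0x905a4f83e77) (nat_lit 353) (nat_lit 0) .nil) (nat_lit
  0x905a4f8445d) (nat_lit 619) (nat_lit 0) (.node .nil (nat_lit 0x905a4f84b56) (nat_lit 19810) (nat_lit 0)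
  .nil)))))) (nat_lit 0x92bd4c035c4) (nat_lit 0x109d062) (nat_lit 0) (.node (.node (.node (.node (.node (.node
  .nil (nat_lit 0x92bd4c41237) (nat_lit 544386) (nat_lit 0) .nil) (nat_lit 0x92bd4c42c84) (nat_lit 0x109d162)
  (nat_lit 0) (.node .nil (nat_lit 0x92bd4c4888f) (nat_lit 545379) (nat_lit 0) .nil)) (nat_lit 0x92bd4c494f1)
  (nat_lit 545387) (nat_lit 0) (.node (.node .nil (nat_lit 0x92bd4c4b946) (nat_lit 17043) (nat_lit 0) .nil)
  (nat_lit 0x92bd4c4c03a) (nat_lit 0x10a4c62) (nat_lit 0) (.node .nil (nat_lit 0x92bd4c4c731) (nat_lit 544387)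
  (nat_lit 0) .nil))) (nat_lit 0x92bd4c4e833) (nat_lit 544395) (nat_lit 0) (.node (.node (.node .nil (nat_lit
  0x92bd4c4ef2a) (nat_lit 0x10a4d62) (nat_lit 0) .nil) (nat_lit 0x92bd4c521ac) (nat_lit 17012) (nat_lit 0)
  (.node .nil (nat_lit 0x92bd4c528a3) (nat_lit 545378) (nat_lit 0) .nil)) (nat_lit 0x92bd4c52e13) (nat_lit
  544866) (nat_lit 0) (.node (.node .nil (nat_lit 0x92bd4c5509f) (nat_lit 528002) (nat_lit 0) .nil) (nat_lit
  0x92bd4c55796) (nat_lit 17027) (nat_lit 0) (.node .nil (nat_lit 0x92bd4c55ece) (nat_lit 16500) (nat_lit 0)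
  .nil)))) (nat_lit 0x92bd4c59d83) (nat_lit 536194) (nat_lit 0) (.node (.node (.node (.node .nil (nat_lit
  0x92bd4c5a151) (nat_lit 17035) (nat_lit 0) .nil) (nat_lit 0x92bd4c5c71e) (nat_lit 16756) (nat_lit 0) (.node
  .nil (nat_lit 0x92bd4c5ce3a) (nat_lit 545122) (nat_lit 0) .nil)) (nat_lit 0x92bd4c5d527) (nat_lit 532)
  (nat_lit 0) (.node (.node .nil (nat_lit 0x92bd4c5dc1e) (nat_lit 2580) (nat_lit 0) .nil) (nat_lit
  0x92bd4c5e097) (nat_lit 17025) (nat_lit 0) (.node .nil (nat_lit 0x92bd4c5e93d) (nat_lit 17026) (nat_lit 0)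
  .nil))) (nat_lit 0x92bd4c71565) (nat_lit 0x10a2c62) (nat_lit 0) (.node (.node (.node .nil (nat_lit
  0x92bd4c71c5c) (nat_lit 536195) (nat_lit 0) .nil) (nat_lit 0x92bd4c71fe6) (nat_lit 0x10a4d63) (nat_lit 0)
  (.node .nil (nat_lit 0x92bd4c7296e) (nat_lit 0x213a2c62) (nat_lit 0) .nil)) (nat_lit 0x92bd4c73056) (nat_lit
  0x105d062) (nat_lit 0) (.node (.node .nil (nat_lit 0x92bd4c73504) (nat_lit 545123) (nat_lit 0) .nil)
  (nat_lit 0x92bd4c73f1e) (nat_lit 0x109d163) (nat_lit 0) (.node .nil (nat_lit 0x92bd4c74617) (nat_lit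
  0x2149ac62) (nat_lit 0) .nil))))) (nat_lit 0x92bd4ca4084) (nat_lit 80) (nat_lit 0) (.node (.node (.node
  (.node (.node .nil (nat_lit 0x92bd4cbe230) (nat_lit 3586) (nat_lit 0) .nil) (nat_lit 0x92bd4cc9d3f) (nat_lit
  543842) (nat_lit 0) (.node .nil (nat_lit 0x92bd4d081ba) (nat_lit 0x105cc62) (nat_lit 0) .nil)) (nat_lit
  0x92bd4dbd843) (nat_lit 515) (nat_lit 0) (.node (.node .nil (nat_lit 0x92bd4dc2bc7) (nat_lit 16) (nat_lit 0)
  .nil) (nat_lit 0x92bd4dc4ec7) (nat_lit 544099) (nat_lit 0) (.node .nil (nat_lit 0x92bd4e0a78a) (nat_lit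
  16994) (nat_lit 0) .nil))) (nat_lit 0x92bd4e0b553) (nat_lit 535650) (nat_lit 0) (.node (.node (.node .nil
  (nat_lit 0x92bd4e101e6) (nat_lit 527970) (nat_lit 0) .nil) (nat_lit 0x92bd4e125a3) (nat_lit 514) (nat_lit 0)
  (.node .nil (nat_lit 0x92bd4e12c98) (nat_lit 513) (nat_lit 0) .nil)) (nat_lit 0x92bd4e132c1) (nat_lit 16993)
  (nat_lit 0) (.node (.node .nil (nat_lit 0x92bd4e139b1) (nat_lit 2579) (nat_lit 0) .nil) (nat_lit
  0x92bd4e140a8) (nat_lit 531) (nat_lit 0) (.node .nil (nat_lit 0x92bd4e18d29) (nat_lit 16739) (nat_lit 0)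
  .nil)))) (nat_lit 0x92bd4e19422) (nat_lit 376930) (nat_lit 0) (.node (.node (.node (.node .nil (nat_lit
  0x92bd4e19c24) (nat_lit 0x109ac62) (nat_lit 0) .nil) (nat_lit 0x92bd4e1a31b) (nat_lit 536163) (nat_lit 0)
  (.node .nil (nat_lit 0x92bd4e1a8e3) (nat_lit 11779) (nat_lit 0) .nil)) (nat_lit 0x92bd4e1f594) (nat_lit
  16499) (nat_lit 0) (.node (.node .nil (nat_lit 0x92bd4e1fd69) (nat_lit 16482) (nat_lit 0) .nil) (nat_lit
  0x92bd4e2045e) (nat_lit 112) (nat_lit 0) (.node .nil (nat_lit 0x92bd4e209c8) (nat_lit 16995) (nat_lit 0)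
  .nil))) (nat_lit 0x92bd4e2511f) (nat_lit 536162) (nat_lit 0) (.node (.node (.node .nil (nat_lit
  0x92bd4e25814) (nat_lit 17003) (nat_lit 0) .nil) (nat_lit 0x92bd4e26bfb) (nat_lit 368) (nat_lit 0) (.node
  .nil (nat_lit 0x92bd4e272f2) (nat_lit 16738) (nat_lit 0) .nil)) (nat_lit 0x92bd4e279e9) (nat_lit 11778)
  (nat_lit 0) (.node (.node .nil (nat_lit 0x92bd4e280e0) (nat_lit 523) (nat_lit 0) .nil) (nat_lit
  0x92bd4e288d2) (nat_lit 16755) (nat_lit 0) (.node .nil (nat_lit 0x92bd4e28fc9) (nat_lit 544098) (nat_lit 0)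
  .nil)))))))
def tR : T := (.node (.node (.node (.node (.node (.node .nil (nat_lit 0x905a4dffc34) (nat_lit 2) (nat_lit 0)
  .nil) (nat_lit 0x905a4e19dfe) (nat_lit 3137) (nat_lit 0) .nil) (nat_lit 0x905a4f1940f) (nat_lit 97) (nat_lit
  0) (.node .nil (nat_lit 0x905a4f1e6d4) (nat_lit 0) (nat_lit 0) .nil)) (nat_lit 0x905a4f6730d) (nat_lit 3426)
  (nat_lit 0) (.node (.node .nil (nat_lit 0x905a4f6e15d) (nat_lit 65) (nat_lit 0) .nil) (nat_lit
  0x905a4f6e852) (nat_lit 1) (nat_lit 0) (.node .nil (nat_lit 0x905a4f74ad2) (nat_lit 355) (nat_lit 0) .nil)))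
  (nat_lit 0x905a4f751c9) (nat_lit 11362) (nat_lit 0) (.node (.node (.node .nil (nat_lit 0x905a4f766ae)
  (nat_lit 107) (nat_lit 0) .nil) (nat_lit 0x905a4f7b935) (nat_lit 98) (nat_lit 0) (.node .nil (nat_lit
  0x905a4f7c02c) (nat_lit 3) (nat_lit 0) .nil)) (nat_lit 0x905a4f82999) (nat_lit 11) (nat_lit 0) (.node (.node
  .nil (nat_lit 0x905a4f8308e) (nat_lit 354) (nat_lit 0) .nil) (nat_lit 0x905a4f83780) (nat_lit 11329)
  (nat_lit 0) (.node .nil (nat_lit 0x905a4f83e77) (nat_lit 353) (nat_lit 0) .nil)))) (nat_lit 0x92bd4ca4084)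
  (nat_lit 80) (nat_lit 0) (.node (.node (.node (.node .nil (nat_lit 0x92bd4cbe230) (nat_lit 3586) (nat_lit 0)
  .nil) (nat_lit 0x92bd4dbd843) (nat_lit 515) (nat_lit 0) (.node .nil (nat_lit 0x92bd4dc2bc7) (nat_lit 16)
  (nat_lit 0) .nil)) (nat_lit 0x92bd4e0b553) (nat_lit 535650) (nat_lit 0) (.node (.node .nil (nat_lit
  0x92bd4e125a3) (nat_lit 514) (nat_lit 0) .nil) (nat_lit 0x92bd4e12c98) (nat_lit 513) (nat_lit 0) (.node .nil
  (nat_lit 0x92bd4e18d29) (nat_lit 16739) (nat_lit 0) .nil))) (nat_lit 0x92bd4e19422) (nat_lit 376930)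
  (nat_lit 0) (.node (.node (.node .nil (nat_lit 0x92bd4e1a8e3) (nat_lit 11779) (nat_lit 0) .nil) (nat_lit
  0x92bd4e1fd69) (nat_lit 16482) (nat_lit 0) (.node .nil (nat_lit 0x92bd4e2045e) (nat_lit 112) (nat_lit 0)
  .nil)) (nat_lit 0x92bd4e26bfb) (nat_lit 368) (nat_lit 0) (.node (.node .nil (nat_lit 0x92bd4e272f2) (nat_lit
  16738) (nat_lit 0) .nil) (nat_lit 0x92bd4e279e9) (nat_lit 11778) (nat_lit 0) (.node .nil (nat_lit
  0x92bd4e280e0) (nat_lit 523) (nat_lit 0) .nil)))))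
def tZ : T := (.node (.node .nil (nat_lit 0x905a4f1e6d4) (nat_lit 0) (nat_lit 0) .nil) (nat_lit 0x905a4f6e852)
  (nat_lit 1) (nat_lit 0) .nil)
def tY : T := (.node (.node .nil (nat_lit 0x905a4f1e6d4) (nat_lit 0) (nat_lit 0) .nil) (nat_lit 0x905a4f1eb15)
  (nat_lit 13) (nat_lit 0) (.node .nil (nat_lit 0x905a4f1eb2e) (nat_lit 14) (nat_lit 0) .nil))
def tA5 : T := (.node (.node (.node (.node (.node (.node .nil (nat_lit 0x905a4f1e6d4) (nat_lit 0) (nat_lit 0)
  .nil) (nat_lit 0x905a4f1e6e6) (nat_lit 15786) (nat_lit 0) (.node .nil (nat_lit 0x905a4f1e77e) (nat_lit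
  13647) (nat_lit 0) .nil)) (nat_lit 0x905a4f1e783) (nat_lit 0xe4bd49) (nat_lit 0) (.node (.node .nil (nat_lit
  0x905a4f1e78b) (nat_lit 468458) (nat_lit 0) .nil) (nat_lit 0x905a4f1e78d) (nat_lit 494) (nat_lit 0) (.node
  .nil (nat_lit 0x905a4f1e793) (nat_lit 458) (nat_lit 0) .nil))) (nat_lit 0x905a4f1e795) (nat_lit 15695)
  (nat_lit 0) (.node (.node (.node .nil (nat_lit 0x905a4f1e845) (nat_lit 337385) (nat_lit 0) .nil) (nat_lit
  0x905a4f1e884) (nat_lit 10543) (nat_lit 0) (.node .nil (nat_lit 0x905a4f1e8d3) (nat_lit 490) (nat_lit 0)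
  .nil)) (nat_lit 0x905a4f1e940) (nat_lit 10730) (nat_lit 0) (.node (.node .nil (nat_lit 0x905a4f1e999)
  (nat_lit 15818) (nat_lit 0) .nil) (nat_lit 0x905a4f1e99b) (nat_lit 343374) (nat_lit 0) (.node .nil (nat_lit
  0x905a4f1e9b5) (nat_lit 310606) (nat_lit 0) .nil)))) (nat_lit 0x905a4f1e9cc) (nat_lit 10733) (nat_lit 0)
  (.node (.node (.node (.node .nil (nat_lit 0x905a4f1ea87) (nat_lit 310729) (nat_lit 0) .nil) (nat_lit
  0x905a4f1ea96) (nat_lit 493) (nat_lit 0) (.node .nil (nat_lit 0x905a4f1eac5) (nat_lit 9706) (nat_lit 0)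
  .nil)) (nat_lit 0x905a4f1ead4) (nat_lit 310601) (nat_lit 0) (.node (.node .nil (nat_lit 0x905a4f1ead8)
  (nat_lit 425) (nat_lit 0) .nil) (nat_lit 0x905a4f1eaeb) (nat_lit 10729) (nat_lit 0) (.node .nil (nat_lit
  0x905a4f1eafb) (nat_lit 15817) (nat_lit 0) .nil))) (nat_lit 0x905a4f1eafc) (nat_lit 9709) (nat_lit 0) (.node
  (.node (.node .nil (nat_lit 0x905a4f1eb13) (nat_lit 457) (nat_lit 0) .nil) (nat_lit 0x905a4f1eb15) (nat_lit
  13) (nat_lit 13) (.node .nil (nat_lit 0x905a4f1eb27) (nat_lit 335) (nat_lit 0) .nil)) (nat_lit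
  0x905a4f1eb2e) (nat_lit 14) (nat_lit 14) (.node (.node .nil (nat_lit 0x905a4f1eb5e) (nat_lit 9) (nat_lit 0)
  .nil) (nat_lit 0x905a4f1eb78) (nat_lit 426) (nat_lit 0) .nil)))) (nat_lit 0x905a4f1eb79) (nat_lit 343341)
  (nat_lit 0) (.node (.node (.node (.node (.node .nil (nat_lit 0x905a4f1eb7b) (nat_lit 343369) (nat_lit 0)
  .nil) (nat_lit 0x905a4f1eb84) (nat_lit 14639) (nat_lit 0) (.node .nil (nat_lit 0x905a4f1eb96) (nat_lit 489)
  (nat_lit 0) .nil)) (nat_lit 0x905a4f1eba6) (nat_lit 0xa4bd49) (nat_lit 0) (.node (.node .nil (nat_lit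
  0x905a4f1ebb7) (nat_lit 468457) (nat_lit 0) .nil) (nat_lit 0x905a4f1ebce) (nat_lit 310697) (nat_lit 0)
  (.node .nil (nat_lit 0x905a4f1ebef) (nat_lit 310573) (nat_lit 0) .nil))) (nat_lit 0x905a4f1ebf4) (nat_lit
  10) (nat_lit 0) (.node (.node (.node .nil (nat_lit 0x905a4f1ebf7) (nat_lit 502249) (nat_lit 0) .nil)
  (nat_lit 0x905a4f1ebfe) (nat_lit 9710) (nat_lit 0) (.node .nil (nat_lit 0x905a4f1ec1c) (nat_lit 337386)
  (nat_lit 0) .nil)) (nat_lit 0x905a4f1ec21) (nat_lit 436713) (nat_lit 0) (.node (.node .nil (nat_lit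
  0x905a4f1ec2b) (nat_lit 310730) (nat_lit 0) .nil) (nat_lit 0x905a4f1ec30) (nat_lit 303) (nat_lit 0) .nil)))
  (nat_lit 0x905a4f1ec36) (nat_lit 343497) (nat_lit 0) (.node (.node (.node (.node .nil (nat_lit
  0x905a4f1ec4b) (nat_lit 10734) (nat_lit 0) .nil) (nat_lit 0x905a4f1eca7) (nat_lit 343498) (nat_lit 0) (.node
  .nil (nat_lit 0x905a4f1eca9) (nat_lit 343465) (nat_lit 0) .nil)) (nat_lit 0x905a4f1ecab) (nat_lit 15785)
  (nat_lit 0) (.node (.node .nil (nat_lit 0x905a4f1ecad) (nat_lit 15) (nat_lit 0) .nil) (nat_lit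
  0x905a4f1ecb0) (nat_lit 343466) (nat_lit 0) (.node .nil (nat_lit 0x905a4f1ece4) (nat_lit 9705) (nat_lit 0)
  .nil))) (nat_lit 0x905a4f1ece6) (nat_lit 310698) (nat_lit 0) (.node (.node (.node .nil (nat_lit
  0x905a4f1ed00) (nat_lit 301) (nat_lit 0) .nil) (nat_lit 0x905a4f1ed11) (nat_lit 329) (nat_lit 0) (.node .nil
  (nat_lit 0x905a4f1ed35) (nat_lit 15661) (nat_lit 0) .nil)) (nat_lit 0x905a4f1ed36) (nat_lit 15694) (nat_lit
  0) (.node (.node .nil (nat_lit 0x905a4f1ed3c) (nat_lit 334) (nat_lit 0) .nil) (nat_lit 0x905a4f1ed52)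
  (nat_lit 15689) (nat_lit 0) .nil)))))
def tB_0 : T := (.node (.node (.node (.node (.node (.node (.node (.node .nil (nat_lit 0x905a4d5ee04) (nat_lit
  271521) (nat_lit 0) .nil) (nat_lit 0x905a4d5f00d) (nat_lit 300328) (nat_lit 0) .nil) (nat_lit 0x905a4d5f127)
  (nat_lit 0x651905) (nat_lit 0) (.node .nil (nat_lit 0x905a4d5f240) (nat_lit 336165) (nat_lit 0) .nil))
  (nat_lit 0x905a4d5f6c0) (nat_lit 235815) (nat_lit 0) (.node (.node .nil (nat_lit 0x905a4d5f700) (nat_lit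
  337090) (nat_lit 0) .nil) (nat_lit 0x905a4d5f80b) (nat_lit 10436) (nat_lit 0) (.node .nil (nat_lit
  0x905a4d5f937) (nat_lit 199745) (nat_lit 0) .nil))) (nat_lit 0x905a4d612f7) (nat_lit 300290) (nat_lit 0)
  (.node (.node (.node .nil (nat_lit 0x905a4d6131f) (nat_lit 272545) (nat_lit 0) .nil) (nat_lit 0x905a4d6148c)
  (nat_lit 8355) (nat_lit 0) (.node .nil (nat_lit 0x905a4d614af) (nat_lit 0x851521) (nat_lit 0) .nil))
  (nat_lit 0x905a4d61991) (nat_lit 5385) (nat_lit 0) (.node (.node .nil (nat_lit 0x905a4d61a06) (nat_lit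
  10501) (nat_lit 0) .nil) (nat_lit 0x905a4d61b59) (nat_lit 168) (nat_lit 0) (.node .nil (nat_lit
  0x905a4d61bc5) (nat_lit 336041) (nat_lit 0) .nil)))) (nat_lit 0x905a4d62101) (nat_lit 9410) (nat_lit 0)
  (.node (.node (.node (.node .nil (nat_lit 0x905a4d621e2) (nat_lit 6468) (nat_lit 0) .nil) (nat_lit
  0x905a4d6223e) (nat_lit 196) (nat_lit 0) (.node .nil (nat_lit 0x905a4d62250) (nat_lit 301378) (nat_lit 0)
  .nil)) (nat_lit 0x905a4d627fc) (nat_lit 238791) (nat_lit 0) (.node (.node .nil (nat_lit 0x905a4d6285a)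
  (nat_lit 10434) (nat_lit 0) .nil) (nat_lit 0x905a4d62933) (nat_lit 200801) (nat_lit 0) (.node .nil (nat_lit
  0x905a4d62972) (nat_lit 334114) (nat_lit 0) .nil))) (nat_lit 0x905a4d635a4) (nat_lit 272546) (nat_lit 0)
  (.node (.node (.node .nil (nat_lit 0x905a4d6360c) (nat_lit 9477) (nat_lit 0) .nil) (nat_lit 0x905a4d636ca)
  (nat_lit 337064) (nat_lit 0) (.node .nil (nat_lit 0x905a4d63758) (nat_lit 172130) (nat_lit 0) .nil))
  (nat_lit 0x905a4d9ccdb) (nat_lit 173314) (nat_lit 0) (.node (.node .nil (nat_lit 0x905a4d9cd07) (nat_lit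
  172162) (nat_lit 0) .nil) (nat_lit 0x905a4d9cdb4) (nat_lit 0xa41482) (nat_lit 0) (.node .nil (nat_lit
  0x905a4d9cea7) (nat_lit 0x8524a1) (nat_lit 0) .nil))))) (nat_lit 0x905a4d9d3d0) (nat_lit 6466) (nat_lit 0)
  (.node (.node (.node (.node (.node .nil (nat_lit 0x905a4d9d3fc) (nat_lit 207138) (nat_lit 0) .nil) (nat_lit
  0x905a4d9d495) (nat_lit 6434) (nat_lit 0) (.node .nil (nat_lit 0x905a4d9d59c) (nat_lit 194) (nat_lit 0)
  .nil)) (nat_lit 0x905a4da3bd9) (nat_lit 9411) (nat_lit 0) (.node (.node .nil (nat_lit 0x905a4da3c81)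
  (nat_lit 10433) (nat_lit 0) .nil) (nat_lit 0x905a4da3d94) (nat_lit 334113) (nat_lit 0) (.node .nil (nat_lit
  0x905a4da3dd4) (nat_lit 334145) (nat_lit 0) .nil))) (nat_lit 0x905a4da4127) (nat_lit 267395) (nat_lit 0)
  (.node (.node (.node .nil (nat_lit 0x905a4da42e9) (nat_lit 0x849441) (nat_lit 0) .nil) (nat_lit
  0x905a4da43ef) (nat_lit 0x851481) (nat_lit 0) (.node .nil (nat_lit 0x905a4da451e) (nat_lit 0x552501)
  (nat_lit 0) .nil)) (nat_lit 0x905a4da4738) (nat_lit 10534) (nat_lit 0) (.node (.node .nil (nat_lit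
  0x905a4da49b9) (nat_lit 205921) (nat_lit 0) .nil) (nat_lit 0x905a4da4ad6) (nat_lit 206945) (nat_lit 0)
  (.node .nil (nat_lit 0x905a4da4c13) (nat_lit 6241) (nat_lit 0) .nil)))) (nat_lit 0x905a4da6cf3) (nat_lit
  202) (nat_lit 0) (.node (.node (.node (.node .nil (nat_lit 0x905a4da6d1f) (nat_lit 6473) (nat_lit 0) .nil)
  (nat_lit 0x905a4da6dc0) (nat_lit 201) (nat_lit 0) (.node .nil (nat_lit 0x905a4da6efe) (nat_lit 6) (nat_lit
  0) .nil)) (nat_lit 0x905a4da73e8) (nat_lit 5416) (nat_lit 0) (.node (.node .nil (nat_lit 0x905a4da7418)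
  (nat_lit 5380) (nat_lit 0) .nil) (nat_lit 0x905a4da74c3) (nat_lit 336036) (nat_lit 0) (.node .nil (nat_lit
  0x905a4da75f3) (nat_lit 173322) (nat_lit 0) .nil))) (nat_lit 0x905a4da7836) (nat_lit 0x851482) (nat_lit 0)
  (.node (.node (.node .nil (nat_lit 0x905a4da7a4c) (nat_lit 8485) (nat_lit 0) .nil) (nat_lit 0x905a4da7b54)
  (nat_lit 271529) (nat_lit 0) (.node .nil (nat_lit 0x905a4da7cc3) (nat_lit 271530) (nat_lit 0) .nil))
  (nat_lit 0x905a4da8192) (nat_lit 271522) (nat_lit 0) (.node (.node .nil (nat_lit 0x905a4da8249) (nat_lit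
  172163) (nat_lit 0) .nil) (nat_lit 0x905a4da828d) (nat_lit 272548) (nat_lit 0) (.node .nil (nat_lit
  0x905a4da83c2) (nat_lit 174376) (nat_lit 0) .nil)))))) (nat_lit 0x905a4da8861) (nat_lit 6435) (nat_lit 0)
  (.node (.node (.node (.node (.node (.node .nil (nat_lit 0x905a4da893e) (nat_lit 337089) (nat_lit 0) .nil)
  (nat_lit 0x905a4da8975) (nat_lit 6467) (nat_lit 0) (.node .nil (nat_lit 0x905a4da8abb) (nat_lit 195)
  (nat_lit 0) .nil)) (nat_lit 0x905a4da8d11) (nat_lit 205922) (nat_lit 0) (.node (.node .nil (nat_lit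
  0x905a4da9037) (nat_lit 0xa49841) (nat_lit 0) .nil) (nat_lit 0x905a4da906c) (nat_lit 333953) (nat_lit 0)
  (.node .nil (nat_lit 0x905a4da91a4) (nat_lit 6242) (nat_lit 0) .nil))) (nat_lit 0x905a4dacc0f) (nat_lit
  205889) (nat_lit 0) (.node (.node (.node .nil (nat_lit 0x905a4dace13) (nat_lit 206913) (nat_lit 0) .nil)
  (nat_lit 0x905a4daced6) (nat_lit 0x652441) (nat_lit 0) (.node .nil (nat_lit 0x905a4dad03d) (nat_lit 6209)
  (nat_lit 0) .nil)) (nat_lit 0x905a4dad353) (nat_lit 6465) (nat_lit 0) (.node (.node .nil (nat_lit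
  0x905a4dad5cf) (nat_lit 207137) (nat_lit 0) .nil) (nat_lit 0x905a4dad62b) (nat_lit 6433) (nat_lit 0) (.node
  .nil (nat_lit 0x905a4dad77c) (nat_lit 193) (nat_lit 0) .nil)))) (nat_lit 0x905a4dad97e) (nat_lit 173313)
  (nat_lit 0) (.node (.node (.node (.node .nil (nat_lit 0x905a4dadcc4) (nat_lit 8356) (nat_lit 0) .nil)
  (nat_lit 0x905a4dadd31) (nat_lit 333060) (nat_lit 0) (.node .nil (nat_lit 0x905a4dade71) (nat_lit 333096)
  (nat_lit 0) .nil)) (nat_lit 0x905a4dae0f2) (nat_lit 0xa2a082) (nat_lit 0) (.node (.node .nil (nat_lit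
  0x905a4dae2f4) (nat_lit 0x54a041) (nat_lit 0) .nil) (nat_lit 0x905a4dae3b9) (nat_lit 267394) (nat_lit 0)
  (.node .nil (nat_lit 0x905a4dae51e) (nat_lit 272677) (nat_lit 0) .nil))) (nat_lit 0x905a4db5985) (nat_lit
  174279) (nat_lit 0) (.node (.node (.node .nil (nat_lit 0x905a4db59e4) (nat_lit 301285) (nat_lit 0) .nil)
  (nat_lit 0x905a4db5a15) (nat_lit 5350) (nat_lit 0) (.node .nil (nat_lit 0x905a4db5b8f) (nat_lit 0x5518e9)
  (nat_lit 0) .nil)) (nat_lit 0x905a4db607c) (nat_lit 235690) (nat_lit 0) (.node (.node .nil (nat_lit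
  0x905a4db60d9) (nat_lit 301223) (nat_lit 0) .nil) (nat_lit 0x905a4db6108) (nat_lit 7365) (nat_lit 0) (.node
  .nil (nat_lit 0x905a4db6278) (nat_lit 0x749945) (nat_lit 0) .nil))))) (nat_lit 0x905a4db6538) (nat_lit
  336098) (nat_lit 0) (.node (.node (.node (.node (.node .nil (nat_lit 0x905a4db6777) (nat_lit 238850)
  (nat_lit 0) .nil) (nat_lit 0x905a4db67ff) (nat_lit 0x8524e2) (nat_lit 0) (.node .nil (nat_lit 0x905a4db696f)
  (nat_lit 269442) (nat_lit 0) .nil)) (nat_lit 0x905a4db6e45) (nat_lit 10503) (nat_lit 0) (.node (.node .nil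
  (nat_lit 0x905a4db6e6e) (nat_lit 7464) (nat_lit 0) .nil) (nat_lit 0x905a4db6ef6) (nat_lit 272679) (nat_lit
  0) (.node .nil (nat_lit 0x905a4db706e) (nat_lit 8420) (nat_lit 0) .nil))) (nat_lit 0x905a4db751a) (nat_lit
  238849) (nat_lit 0) (.node (.node (.node .nil (nat_lit 0x905a4db751f) (nat_lit 0x8524e1) (nat_lit 0) .nil)
  (nat_lit 0x905a4db7581) (nat_lit 336097) (nat_lit 0) (.node .nil (nat_lit 0x905a4db7766) (nat_lit 269441)
  (nat_lit 0) .nil)) (nat_lit 0x905a4db7962) (nat_lit 0x74a041) (nat_lit 0) (.node (.node .nil (nat_lit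
  0x905a4db7a65) (nat_lit 0x10a49c41) (nat_lit 0) .nil) (nat_lit 0x905a4db7c78) (nat_lit 0xa41c41) (nat_lit 0)
  (.node .nil (nat_lit 0x905a4db7e48) (nat_lit 0x839041) (nat_lit 0) .nil)))) (nat_lit 0x905a4db8057) (nat_lit
  174310) (nat_lit 0) (.node (.node (.node (.node .nil (nat_lit 0x905a4db8076) (nat_lit 6311) (nat_lit 0)
  .nil) (nat_lit 0x905a4db83ab) (nat_lit 302277) (nat_lit 0) (.node .nil (nat_lit 0x905a4db853f) (nat_lit
  0x6524e5) (nat_lit 0) .nil)) (nat_lit 0x905a4db8999) (nat_lit 300262) (nat_lit 0) (.node (.node .nil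
  (nat_lit 0x905a4db89f9) (nat_lit 203946) (nat_lit 0) .nil) (nat_lit 0x905a4db89fe) (nat_lit 6373) (nat_lit
  0) (.node .nil (nat_lit 0x905a4db8c47) (nat_lit 0xa3a4c5) (nat_lit 0) .nil))) (nat_lit 0x905a4dbc89a)
  (nat_lit 267554) (nat_lit 0) (.node (.node (.node .nil (nat_lit 0x905a4dbc8a1) (nat_lit 333058) (nat_lit 0)
  .nil) (nat_lit 0x905a4dbc8c4) (nat_lit 303429) (nat_lit 0) (.node .nil (nat_lit 0x905a4dbca3c) (nat_lit
  8354) (nat_lit 0) .nil)) (nat_lit 0x905a4dbdd82) (nat_lit 9409) (nat_lit 0) (.node (.node .nil (nat_lit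
  0x905a4dbde9a) (nat_lit 10435) (nat_lit 0) .nil) (nat_lit 0x905a4dbdf1b) (nat_lit 301377) (nat_lit 0) (.node
  .nil (nat_lit 0x905a4dbdf61) (nat_lit 200769) (nat_lit 0) .nil)))))))
def tB_1 : T := (.node (.node (.node (.node (.node (.node (.node .nil (nat_lit 0x905a4dbe4e1) (nat_lit 303266)
  (nat_lit 0) .nil) (nat_lit 0x905a4dbe59f) (nat_lit 272553) (nat_lit 0) (.node .nil (nat_lit 0x905a4dbe62d)
  (nat_lit 5379) (nat_lit 0) .nil)) (nat_lit 0x905a4dbf6ad) (nat_lit 301154) (nat_lit 0) (.node (.node .nil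
  (nat_lit 0x905a4dbf8f9) (nat_lit 333889) (nat_lit 0) .nil) (nat_lit 0x905a4dbfb13) (nat_lit 0xa32441)
  (nat_lit 0) (.node .nil (nat_lit 0x905a4dbfb53) (nat_lit 6275) (nat_lit 0) .nil))) (nat_lit 0x905a4dc1c6d)
  (nat_lit 301153) (nat_lit 0) (.node (.node (.node .nil (nat_lit 0x905a4dc1ccb) (nat_lit 326) (nat_lit 0)
  .nil) (nat_lit 0x905a4dc1de3) (nat_lit 10441) (nat_lit 0) (.node .nil (nat_lit 0x905a4dc1e2e) (nat_lit
  10442) (nat_lit 0) .nil)) (nat_lit 0x905a4dc212a) (nat_lit 9384) (nat_lit 0) (.node (.node .nil (nat_lit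
  0x905a4dc236a) (nat_lit 0x851441) (nat_lit 0) .nil) (nat_lit 0x905a4dc24d5) (nat_lit 267362) (nat_lit 0)
  (.node .nil (nat_lit 0x905a4dc2527) (nat_lit 337157) (nat_lit 0) .nil)))) (nat_lit 0x905a4dc3f38) (nat_lit
  294) (nat_lit 0) (.node (.node (.node (.node .nil (nat_lit 0x905a4dc4014) (nat_lit 333921) (nat_lit 0) .nil)
  (nat_lit 0x905a4dc4090) (nat_lit 9418) (nat_lit 0) (.node .nil (nat_lit 0x905a4dc40fe) (nat_lit 6274)
  (nat_lit 0) .nil)) (nat_lit 0x905a4dc45e8) (nat_lit 172322) (nat_lit 0) (.node (.node .nil (nat_lit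
  0x905a4dc4627) (nat_lit 336034) (nat_lit 0) .nil) (nat_lit 0x905a4dc4787) (nat_lit 5378) (nat_lit 0) (.node
  .nil (nat_lit 0x905a4dc47f3) (nat_lit 0x9428a1) (nat_lit 0) .nil))) (nat_lit 0x905a4dc512a) (nat_lit 301121)
  (nat_lit 0) (.node (.node (.node .nil (nat_lit 0x905a4dc519e) (nat_lit 206977) (nat_lit 0) .nil) (nat_lit
  0x905a4dc5243) (nat_lit 0x932841) (nat_lit 0) (.node .nil (nat_lit 0x905a4dc55b6) (nat_lit 6273) (nat_lit 0)
  .nil)) (nat_lit 0x905a4dc660f) (nat_lit 10408) (nat_lit 0) (.node (.node .nil (nat_lit 0x905a4dc667c)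
  (nat_lit 8361) (nat_lit 0) .nil) (nat_lit 0x905a4dc66a3) (nat_lit 261) (nat_lit 0) (.node .nil (nat_lit
  0x905a4dc66c5) (nat_lit 333065) (nat_lit 0) .nil))))) (nat_lit 0x905a4dca75c) (nat_lit 0x851c41) (nat_lit 0)
  (.node (.node (.node (.node (.node .nil (nat_lit 0x905a4dca79c) (nat_lit 0x941c41) (nat_lit 0) .nil)
  (nat_lit 0x905a4dca830) (nat_lit 0x14849c41) (nat_lit 0) (.node .nil (nat_lit 0x905a4dca994) (nat_lit
  0x10720c41) (nat_lit 0) .nil)) (nat_lit 0x905a4dcae1d) (nat_lit 272609) (nat_lit 0) (.node (.node .nil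
  (nat_lit 0x905a4dcae91) (nat_lit 303329) (nat_lit 0) .nil) (nat_lit 0x905a4dcaf25) (nat_lit 0xa424e1)
  (nat_lit 0) (.node .nil (nat_lit 0x905a4dcb0d3) (nat_lit 0x839061) (nat_lit 0) .nil))) (nat_lit
  0x905a4dcc08d) (nat_lit 303330) (nat_lit 0) (.node (.node (.node .nil (nat_lit 0x905a4dcc332) (nat_lit
  272610) (nat_lit 0) .nil) (nat_lit 0x905a4dcc3c6) (nat_lit 0xa424e2) (nat_lit 0) (.node .nil (nat_lit
  0x905a4dcc565) (nat_lit 0x839062) (nat_lit 0) .nil)) (nat_lit 0x905a4dcc7f0) (nat_lit 8519) (nat_lit 0)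
  (.node (.node .nil (nat_lit 0x905a4dcca2f) (nat_lit 9479) (nat_lit 0) .nil) (nat_lit 0x905a4dccabb) (nat_lit
  336167) (nat_lit 0) (.node .nil (nat_lit 0x905a4dccc97) (nat_lit 269443) (nat_lit 0) .nil)))) (nat_lit
  0x905a4dcceea) (nat_lit 0x931ca3) (nat_lit 0) (.node (.node (.node (.node .nil (nat_lit 0x905a4dcd124)
  (nat_lit 335045) (nat_lit 0) .nil) (nat_lit 0x905a4dcd1b0) (nat_lit 171203) (nat_lit 0) (.node .nil (nat_lit
  0x905a4dcd38e) (nat_lit 0xa498a7) (nat_lit 0) .nil)) (nat_lit 0x905a4dcd56c) (nat_lit 333030) (nat_lit 0)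
  (.node (.node .nil (nat_lit 0x905a4dcd8a5) (nat_lit 235683) (nat_lit 0) .nil) (nat_lit 0x905a4dcd932)
  (nat_lit 0x7498a1) (nat_lit 0) (.node .nil (nat_lit 0x905a4dcda46) (nat_lit 0xa498e5) (nat_lit 0) .nil)))
  (nat_lit 0x905a4dced3e) (nat_lit 333991) (nat_lit 0) (.node (.node (.node .nil (nat_lit 0x905a4dcedca)
  (nat_lit 203939) (nat_lit 0) .nil) (nat_lit 0x905a4dcee1e) (nat_lit 0x7498a2) (nat_lit 0) (.node .nil
  (nat_lit 0x905a4dcef7a) (nat_lit 0xa49cc5) (nat_lit 0) .nil)) (nat_lit 0x905a4dcf433) (nat_lit 334053)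
  (nat_lit 0) (.node (.node .nil (nat_lit 0x905a4dcf4c3) (nat_lit 201955) (nat_lit 0) .nil) (nat_lit
  0x905a4dcf510) (nat_lit 238789) (nat_lit 0) (.node .nil (nat_lit 0x905a4dcf627) (nat_lit 0x751925) (nat_lit
  0) .nil)))))) (nat_lit 0x905a4df1778) (nat_lit 5441) (nat_lit 0) (.node (.node (.node (.node (.node (.node
  .nil (nat_lit 0x905a4df18a3) (nat_lit 174369) (nat_lit 0) .nil) (nat_lit 0x905a4df19a1) (nat_lit 161)
  (nat_lit 0) (.node .nil (nat_lit 0x905a4df1c39) (nat_lit 5409) (nat_lit 0) .nil)) (nat_lit 0x905a4df1e6d)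
  (nat_lit 0x941861) (nat_lit 0) (.node (.node .nil (nat_lit 0x905a4df1f98) (nat_lit 204897) (nat_lit 0) .nil)
  (nat_lit 0x905a4df21ed) (nat_lit 0x652121) (nat_lit 0) (.node .nil (nat_lit 0x905a4df232e) (nat_lit 207105)
  (nat_lit 0) .nil))) (nat_lit 0x905a4df8660) (nat_lit 9444) (nat_lit 0) (.node (.node (.node .nil (nat_lit
  0x905a4df8701) (nat_lit 7299) (nat_lit 0) .nil) (nat_lit 0x905a4df881d) (nat_lit 10473) (nat_lit 0) (.node
  .nil (nat_lit 0x905a4df8b78) (nat_lit 327) (nat_lit 0) .nil)) (nat_lit 0x905a4dffc34) (nat_lit 2) (nat_lit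
  2) (.node (.node .nil (nat_lit 0x905a4dffd5b) (nat_lit 290) (nat_lit 0) .nil) (nat_lit 0x905a4e000a7)
  (nat_lit 322) (nat_lit 0) (.node .nil (nat_lit 0x905a4e001d2) (nat_lit 10530) (nat_lit 0) .nil)))) (nat_lit
  0x905a4e00329) (nat_lit 0x932905) (nat_lit 0) (.node (.node (.node (.node .nil (nat_lit 0x905a4e0044d)
  (nat_lit 336069) (nat_lit 0) .nil) (nat_lit 0x905a4e0062a) (nat_lit 301224) (nat_lit 0) (.node .nil (nat_lit
  0x905a4e008c9) (nat_lit 0x641483) (nat_lit 0) .nil)) (nat_lit 0x905a4e09c70) (nat_lit 337125) (nat_lit 0)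
  (.node (.node .nil (nat_lit 0x905a4e09ff9) (nat_lit 5353) (nat_lit 0) .nil) (nat_lit 0x905a4e0a0b7) (nat_lit
  5354) (nat_lit 0) (.node .nil (nat_lit 0x905a4e0a21a) (nat_lit 167) (nat_lit 0) .nil))) (nat_lit
  0x905a4e16e15) (nat_lit 9478) (nat_lit 0) (.node (.node (.node .nil (nat_lit 0x905a4e1718d) (nat_lit 200)
  (nat_lit 0) .nil) (nat_lit 0x905a4e171bb) (nat_lit 205129) (nat_lit 0) (.node .nil (nat_lit 0x905a4e172e3)
  (nat_lit 6410) (nat_lit 0) .nil)) (nat_lit 0x905a4e1750a) (nat_lit 10401) (nat_lit 0) (.node (.node .nil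
  (nat_lit 0x905a4e17791) (nat_lit 333089) (nat_lit 0) .nil) (nat_lit 0x905a4e178a7) (nat_lit 163) (nat_lit 0)
  (.node .nil (nat_lit 0x905a4e179d8) (nat_lit 5411) (nat_lit 0) .nil))))) (nat_lit 0x905a4e19dfe) (nat_lit
  3137) (nat_lit 3137) (.node (.node (.node (.node (.node .nil (nat_lit 0x905a4e1a250) (nat_lit 298049)
  (nat_lit 0) .nil) (nat_lit 0x905a4e1a271) (nat_lit 330817) (nat_lit 0) (.node .nil (nat_lit 0x905a4e1a39e)
  (nat_lit 0xa48c41) (nat_lit 0) .nil)) (nat_lit 0x905a4e1a4f1) (nat_lit 0xa424c5) (nat_lit 0) (.node (.node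
  .nil (nat_lit 0x905a4e1a7ce) (nat_lit 0x8518a1) (nat_lit 0) .nil) (nat_lit 0x905a4e1a965) (nat_lit 172326)
  (nat_lit 0) (.node .nil (nat_lit 0x905a4e1aa98) (nat_lit 201988) (nat_lit 0) .nil))) (nat_lit 0x905a4e1c7a0)
  (nat_lit 0x641525) (nat_lit 0) (.node (.node (.node .nil (nat_lit 0x905a4e1c7eb) (nat_lit 272578) (nat_lit
  0) .nil) (nat_lit 0x905a4e1c9dc) (nat_lit 303430) (nat_lit 0) (.node .nil (nat_lit 0x905a4e1cb88) (nat_lit
  334152) (nat_lit 0) .nil)) (nat_lit 0x905a4e1d25e) (nat_lit 0x629041) (nat_lit 0) (.node (.node .nil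
  (nat_lit 0x905a4e1d315) (nat_lit 0x6524a1) (nat_lit 0) .nil) (nat_lit 0x905a4e1d3a9) (nat_lit 173249)
  (nat_lit 0) (.node .nil (nat_lit 0x905a4e1d442) (nat_lit 333985) (nat_lit 0) .nil)))) (nat_lit
  0x905a4e1d8ae) (nat_lit 260) (nat_lit 0) (.node (.node (.node (.node .nil (nat_lit 0x905a4e1d991) (nat_lit
  9482) (nat_lit 0) .nil) (nat_lit 0x905a4e1daa3) (nat_lit 8516) (nat_lit 0) (.node .nil (nat_lit
  0x905a4e1db37) (nat_lit 296) (nat_lit 0) .nil)) (nat_lit 0x905a4e1f163) (nat_lit 239783) (nat_lit 0) (.node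
  (.node .nil (nat_lit 0x905a4e1f1b0) (nat_lit 9379) (nat_lit 0) .nil) (nat_lit 0x905a4e1f3a3) (nat_lit
  168001) (nat_lit 0) (.node .nil (nat_lit 0x905a4e1f3cb) (nat_lit 337057) (nat_lit 0) .nil))) (nat_lit
  0x905a4e2dabe) (nat_lit 258) (nat_lit 0) (.node (.node (.node .nil (nat_lit 0x905a4e2db4d) (nat_lit 8514)
  (nat_lit 0) .nil) (nat_lit 0x905a4e2db81) (nat_lit 272674) (nat_lit 0) (.node .nil (nat_lit 0x905a4e2dc7e)
  (nat_lit 8482) (nat_lit 0) .nil)) (nat_lit 0x905a4e2dfc3) (nat_lit 0xa42441) (nat_lit 0) (.node (.node .nil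
  (nat_lit 0x905a4e2e1af) (nat_lit 265281) (nat_lit 0) .nil) (nat_lit 0x905a4e2e23c) (nat_lit 335937) (nat_lit
  0) (.node .nil (nat_lit 0x905a4e2e376) (nat_lit 173224) (nat_lit 0) .nil)))))))
def tB_2 : T := (.node (.node (.node (.node (.node (.node (.node .nil (nat_lit 0x905a4e2e8a0) (nat_lit
  0xa324a1) (nat_lit 0) .nil) (nat_lit 0x905a4e2e933) (nat_lit 301217) (nat_lit 0) (.node .nil (nat_lit
  0x905a4e2ea6b) (nat_lit 207009) (nat_lit 0) .nil)) (nat_lit 0x905a4e2ef76) (nat_lit 6305) (nat_lit 0) (.node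
  (.node .nil (nat_lit 0x905a4e2efa5) (nat_lit 0x9328a1) (nat_lit 0) .nil) (nat_lit 0x905a4e2f02e) (nat_lit
  202017) (nat_lit 0) (.node .nil (nat_lit 0x905a4e2f163) (nat_lit 202049) (nat_lit 0) .nil))) (nat_lit
  0x905a4e2f71e) (nat_lit 271589) (nat_lit 0) (.node (.node (.node .nil (nat_lit 0x905a4e2f76e) (nat_lit
  172260) (nat_lit 0) .nil) (nat_lit 0x905a4e2f77d) (nat_lit 0xa41527) (nat_lit 0) (.node .nil (nat_lit
  0x905a4e2f7ce) (nat_lit 272551) (nat_lit 0) .nil)) (nat_lit 0x905a4e34d92) (nat_lit 0x8518e5) (nat_lit 0)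
  (.node (.node .nil (nat_lit 0x905a4e34deb) (nat_lit 0x83a4c5) (nat_lit 0) .nil) (nat_lit 0x905a4e351da)
  (nat_lit 0x126520e5) (nat_lit 0) (.node .nil (nat_lit 0x905a4e35206) (nat_lit 0x641ca3) (nat_lit 0) .nil))))
  (nat_lit 0x905a4e39b49) (nat_lit 0x14941c41) (nat_lit 0) (.node (.node (.node (.node .nil (nat_lit
  0x905a4e39d84) (nat_lit 0x838c41) (nat_lit 0) .nil) (nat_lit 0x905a4e39dc1) (nat_lit 0x752041) (nat_lit 0)
  (.node .nil (nat_lit 0x905a4e39e99) (nat_lit 0x849c41) (nat_lit 0) .nil)) (nat_lit 0x905a4e3a254) (nat_lit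
  269634) (nat_lit 0) (.node (.node .nil (nat_lit 0x905a4e3a575) (nat_lit 269602) (nat_lit 0) .nil) (nat_lit
  0x905a4e3a57e) (nat_lit 8418) (nat_lit 0) (.node .nil (nat_lit 0x905a4e3a60b) (nat_lit 0x9428e2) (nat_lit 0)
  .nil))) (nat_lit 0x905a4e3ab65) (nat_lit 8426) (nat_lit 0) (.node (.node (.node .nil (nat_lit 0x905a4e3ac6d)
  (nat_lit 8425) (nat_lit 0) .nil) (nat_lit 0x905a4e3ac73) (nat_lit 263) (nat_lit 0) (.node .nil (nat_lit
  0x905a4e3ad02) (nat_lit 303431) (nat_lit 0) .nil)) (nat_lit 0x905a4e3b04d) (nat_lit 269409) (nat_lit 0)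
  (.node (.node .nil (nat_lit 0x905a4e3b2a0) (nat_lit 239873) (nat_lit 0) .nil) (nat_lit 0x905a4e3b37c)
  (nat_lit 271585) (nat_lit 0) (.node .nil (nat_lit 0x905a4e3b3de) (nat_lit 0xa4a0e1) (nat_lit 0) .nil)))))
  (nat_lit 0x905a4e3b942) (nat_lit 239874) (nat_lit 0) (.node (.node (.node (.node (.node .nil (nat_lit
  0x905a4e3ba75) (nat_lit 271586) (nat_lit 0) .nil) (nat_lit 0x905a4e3bac7) (nat_lit 0xa4a0e2) (nat_lit 0)
  (.node .nil (nat_lit 0x905a4e3bb3f) (nat_lit 269410) (nat_lit 0) .nil)) (nat_lit 0x905a4e3bffa) (nat_lit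
  0x83a841) (nat_lit 0) (.node (.node .nil (nat_lit 0x905a4e3c145) (nat_lit 0x83a441) (nat_lit 0) .nil)
  (nat_lit 0x905a4e3c1e6) (nat_lit 0x12851c41) (nat_lit 0) (.node .nil (nat_lit 0x905a4e3c237) (nat_lit
  269377) (nat_lit 0) .nil))) (nat_lit 0x905a4e3c4da) (nat_lit 269601) (nat_lit 0) (.node (.node (.node .nil
  (nat_lit 0x905a4e3c740) (nat_lit 269633) (nat_lit 0) .nil) (nat_lit 0x905a4e3c8db) (nat_lit 0x9428e1)
  (nat_lit 0) (.node .nil (nat_lit 0x905a4e3c8ff) (nat_lit 8417) (nat_lit 0) .nil)) (nat_lit 0x905a4e3cba4)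
  (nat_lit 7496) (nat_lit 0) (.node (.node .nil (nat_lit 0x905a4e3cc22) (nat_lit 8487) (nat_lit 0) .nil)
  (nat_lit 0x905a4e3cfb5) (nat_lit 337159) (nat_lit 0) (.node .nil (nat_lit 0x905a4e3d015) (nat_lit 8419)
  (nat_lit 0) .nil)))) (nat_lit 0x905a4e3edda) (nat_lit 10532) (nat_lit 0) (.node (.node (.node (.node .nil
  (nat_lit 0x905a4e3ee83) (nat_lit 4) (nat_lit 4) .nil) (nat_lit 0x905a4e3f125) (nat_lit 324) (nat_lit 0)
  (.node .nil (nat_lit 0x905a4e3f140) (nat_lit 292) (nat_lit 0) .nil)) (nat_lit 0x905a4e3f4ff) (nat_lit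
  0xa49061) (nat_lit 0) (.node (.node .nil (nat_lit 0x905a4e3f573) (nat_lit 4193) (nat_lit 4193) .nil)
  (nat_lit 0x905a4e3f828) (nat_lit 331873) (nat_lit 0) (.node .nil (nat_lit 0x905a4e3f8ec) (nat_lit 299105)
  (nat_lit 0) .nil))) (nat_lit 0x905a4e3fbf0) (nat_lit 5382) (nat_lit 0) (.node (.node (.node .nil (nat_lit
  0x905a4e3fc68) (nat_lit 0xa49905) (nat_lit 0) .nil) (nat_lit 0x905a4e3fe86) (nat_lit 172234) (nat_lit 0)
  (.node .nil (nat_lit 0x905a4e3ff1b) (nat_lit 173256) (nat_lit 0) .nil)) (nat_lit 0x905a4e402ba) (nat_lit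
  268451) (nat_lit 0) (.node (.node .nil (nat_lit 0x905a4e40366) (nat_lit 0x652505) (nat_lit 0) .nil) (nat_lit
  0x905a4e4060a) (nat_lit 205992) (nat_lit 0) (.node .nil (nat_lit 0x905a4e40623) (nat_lit 0x8328a1) (nat_lit
  0) .nil)))))) (nat_lit 0x905a4e410d2) (nat_lit 0x9428e6) (nat_lit 0) (.node (.node (.node (.node (.node
  (.node .nil (nat_lit 0x905a4e41157) (nat_lit 205027) (nat_lit 0) .nil) (nat_lit 0x905a4e413b1) (nat_lit
  303303) (nat_lit 0) (.node .nil (nat_lit 0x905a4e414e7) (nat_lit 335048) (nat_lit 0) .nil)) (nat_lit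
  0x905a4e44477) (nat_lit 7494) (nat_lit 0) (.node (.node .nil (nat_lit 0x905a4e444da) (nat_lit 239817)
  (nat_lit 0) .nil) (nat_lit 0x905a4e4458f) (nat_lit 203907) (nat_lit 0) (.node .nil (nat_lit 0x905a4e44597)
  (nat_lit 302273) (nat_lit 0) .nil))) (nat_lit 0x905a4e4494f) (nat_lit 205985) (nat_lit 0) (.node (.node
  (.node .nil (nat_lit 0x905a4e44b60) (nat_lit 0xa328a1) (nat_lit 0) .nil) (nat_lit 0x905a4e44ca0) (nat_lit
  0xa498a1) (nat_lit 0) (.node .nil (nat_lit 0x905a4e44dcf) (nat_lit 174273) (nat_lit 0) .nil)) (nat_lit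
  0x905a4e450c7) (nat_lit 336001) (nat_lit 0) (.node (.node .nil (nat_lit 0x905a4e45374) (nat_lit 337153)
  (nat_lit 0) .nil) (nat_lit 0x905a4e45381) (nat_lit 266337) (nat_lit 0) (.node .nil (nat_lit 0x905a4e454c6)
  (nat_lit 303201) (nat_lit 0) .nil)))) (nat_lit 0x905a4e62fcd) (nat_lit 0xc851ca1) (nat_lit 0) (.node (.node
  (.node (.node .nil (nat_lit 0x905a4e63073) (nat_lit 0x14939905) (nat_lit 0) .nil) (nat_lit 0x905a4e63188)
  (nat_lit 0x641ca4) (nat_lit 0) (.node .nil (nat_lit 0x905a4e634e7) (nat_lit 0x941cc5) (nat_lit 0) .nil))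
  (nat_lit 0x905a4e63d57) (nat_lit 0x641c83) (nat_lit 0) (.node (.node .nil (nat_lit 0x905a4e64063) (nat_lit
  271559) (nat_lit 0) .nil) (nat_lit 0x905a4e640da) (nat_lit 205127) (nat_lit 0) (.node .nil (nat_lit
  0x905a4e64303) (nat_lit 0x8524e6) (nat_lit 0) .nil))) (nat_lit 0x905a4e6e0ac) (nat_lit 207143) (nat_lit 0)
  (.node (.node (.node .nil (nat_lit 0x905a4e6e17f) (nat_lit 239811) (nat_lit 0) .nil) (nat_lit 0x905a4e6e1ed)
  (nat_lit 6372) (nat_lit 0) (.node .nil (nat_lit 0x905a4e6e2ab) (nat_lit 238785) (nat_lit 0) .nil)) (nat_lit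
  0x905a4e6eb5d) (nat_lit 233) (nat_lit 0) (.node (.node .nil (nat_lit 0x905a4e6ebbc) (nat_lit 234) (nat_lit
  0) .nil) (nat_lit 0x905a4e6eeb6) (nat_lit 7) (nat_lit 0) (.node .nil (nat_lit 0x905a4e6efd0) (nat_lit 7497)
  (nat_lit 0) .nil))))) (nat_lit 0x905a4e8cbae) (nat_lit 271554) (nat_lit 0) (.node (.node (.node (.node
  (.node .nil (nat_lit 0x905a4e8cc08) (nat_lit 334081) (nat_lit 0) .nil) (nat_lit 0x905a4e8cdab) (nat_lit
  0xa4a0c1) (nat_lit 0) (.node .nil (nat_lit 0x905a4e8d007) (nat_lit 8388) (nat_lit 0) .nil)) (nat_lit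
  0x905a4e8d2a1) (nat_lit 234823) (nat_lit 0) (.node (.node .nil (nat_lit 0x905a4e8d2ff) (nat_lit 9377)
  (nat_lit 0) .nil) (nat_lit 0x905a4e8d4a0) (nat_lit 300321) (nat_lit 0) (.node .nil (nat_lit 0x905a4e8d5dd)
  (nat_lit 300353) (nat_lit 0) .nil))) (nat_lit 0x905a4ea28bc) (nat_lit 0xa4a041) (nat_lit 0) (.node (.node
  (.node .nil (nat_lit 0x905a4ea2c22) (nat_lit 0x820c41) (nat_lit 0) .nil) (nat_lit 0x905a4ea2c8f) (nat_lit
  268614) (nat_lit 0) (.node .nil (nat_lit 0x905a4ea2d22) (nat_lit 267557) (nat_lit 0) .nil)) (nat_lit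
  0x905a4ea2fae) (nat_lit 201859) (nat_lit 0) (.node (.node .nil (nat_lit 0x905a4ea3325) (nat_lit 0x14931441)
  (nat_lit 0) .nil) (nat_lit 0x905a4ea3388) (nat_lit 0x649441) (nat_lit 0) (.node .nil (nat_lit 0x905a4ea3419)
  (nat_lit 0x551841) (nat_lit 0) .nil)))) (nat_lit 0x905a4ea892c) (nat_lit 7458) (nat_lit 0) (.node (.node
  (.node (.node .nil (nat_lit 0x905a4ea8989) (nat_lit 7490) (nat_lit 0) .nil) (nat_lit 0x905a4ea8c37) (nat_lit
  226) (nat_lit 0) (.node .nil (nat_lit 0x905a4ea8d9f) (nat_lit 239906) (nat_lit 0) .nil)) (nat_lit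
  0x905a4ea9e0f) (nat_lit 0x732145) (nat_lit 0) (.node (.node .nil (nat_lit 0x905a4ea9e6a) (nat_lit 0x641527)
  (nat_lit 0) .nil) (nat_lit 0x905a4eaa257) (nat_lit 0x10a49cc5) (nat_lit 0) (.node .nil (nat_lit
  0x905a4eaa283) (nat_lit 0x831ca3) (nat_lit 0) .nil))) (nat_lit 0x905a4eb0329) (nat_lit 201857) (nat_lit 0)
  (.node (.node (.node .nil (nat_lit 0x905a4eb03df) (nat_lit 0xca49441) (nat_lit 0) .nil) (nat_lit
  0x905a4eb0476) (nat_lit 0x549841) (nat_lit 0) (.node .nil (nat_lit 0x905a4eb04fa) (nat_lit 0xa31441)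
  (nat_lit 0) .nil)) (nat_lit 0x905a4eb0955) (nat_lit 303426) (nat_lit 0) (.node (.node .nil (nat_lit
  0x905a4eb09a9) (nat_lit 8322) (nat_lit 0) .nil) (nat_lit 0x905a4eb0b70) (nat_lit 272514) (nat_lit 0) (.node
  .nil (nat_lit 0x905a4eb0bf1) (nat_lit 9474) (nat_lit 0) .nil)))))))
def tB_3 : T := (.node (.node (.node (.node (.node (.node (.node .nil (nat_lit 0x905a4eb2973) (nat_lit 8518)
  (nat_lit 0) .nil) (nat_lit 0x905a4eb2a4d) (nat_lit 272586) (nat_lit 0) (.node .nil (nat_lit 0x905a4eb2a94)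
  (nat_lit 272585) (nat_lit 0) .nil)) (nat_lit 0x905a4ef001a) (nat_lit 0x7520c5) (nat_lit 0) (.node (.node
  .nil (nat_lit 0x905a4ef024f) (nat_lit 0xe641483) (nat_lit 0) .nil) (nat_lit 0x905a4ef031f) (nat_lit
  0x10a324e5) (nat_lit 0) (.node .nil (nat_lit 0x905a4ef0466) (nat_lit 0x641d25) (nat_lit 0) .nil))) (nat_lit
  0x905a4ef0713) (nat_lit 173223) (nat_lit 0) (.node (.node (.node .nil (nat_lit 0x905a4ef08f5) (nat_lit
  233537) (nat_lit 0) .nil) (nat_lit 0x905a4ef093c) (nat_lit 0xa49c41) (nat_lit 0) (.node .nil (nat_lit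
  0x905a4ef0b60) (nat_lit 174309) (nat_lit 0) .nil)) (nat_lit 0x905a4efbdf3) (nat_lit 0xa424a7) (nat_lit 0)
  (.node (.node .nil (nat_lit 0x905a4efbf04) (nat_lit 269475) (nat_lit 0) .nil) (nat_lit 0x905a4efbfad)
  (nat_lit 0x82a4e2) (nat_lit 0) (.node .nil (nat_lit 0x905a4efc02f) (nat_lit 0x83a8a1) (nat_lit 0) .nil))))
  (nat_lit 0x905a4efde59) (nat_lit 303299) (nat_lit 0) (.node (.node (.node (.node .nil (nat_lit
  0x905a4efe11e) (nat_lit 6403) (nat_lit 0) .nil) (nat_lit 0x905a4efe1d7) (nat_lit 207113) (nat_lit 0) (.node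
  .nil (nat_lit 0x905a4efe2ff) (nat_lit 6472) (nat_lit 0) .nil)) (nat_lit 0x905a4eff33c) (nat_lit 170)
  (nat_lit 0) (.node (.node .nil (nat_lit 0x905a4eff546) (nat_lit 5) (nat_lit 0) .nil) (nat_lit 0x905a4eff601)
  (nat_lit 5449) (nat_lit 0) (.node .nil (nat_lit 0x905a4eff7e0) (nat_lit 169) (nat_lit 0) .nil))) (nat_lit
  0x905a4f0168d) (nat_lit 325) (nat_lit 0) (.node (.node (.node .nil (nat_lit 0x905a4f0188c) (nat_lit 10409)
  (nat_lit 0) .nil) (nat_lit 0x905a4f019a7) (nat_lit 5217) (nat_lit 0) (.node .nil (nat_lit 0x905a4f01adf)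
  (nat_lit 173153) (nat_lit 0) .nil)) (nat_lit 0x905a4f02b6c) (nat_lit 303297) (nat_lit 0) (.node (.node .nil
  (nat_lit 0x905a4f02e60) (nat_lit 6401) (nat_lit 0) .nil) (nat_lit 0x905a4f02e8b) (nat_lit 0x642921) (nat_lit
  0) (.node .nil (nat_lit 0x905a4f02fc2) (nat_lit 205121) (nat_lit 0) .nil))))) (nat_lit 0x905a4f07a2b)
  (nat_lit 0x849547) (nat_lit 0) (.node (.node (.node (.node (.node .nil (nat_lit 0x905a4f07aef) (nat_lit
  234755) (nat_lit 0) .nil) (nat_lit 0x905a4f07ba2) (nat_lit 0x74a0a2) (nat_lit 0) (.node .nil (nat_lit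
  0x905a4f07c28) (nat_lit 269637) (nat_lit 0) .nil)) (nat_lit 0x905a4f11032) (nat_lit 0x932061) (nat_lit 0)
  (.node (.node .nil (nat_lit 0x905a4f11362) (nat_lit 268385) (nat_lit 0) .nil) (nat_lit 0x905a4f11424)
  (nat_lit 272678) (nat_lit 0) (.node .nil (nat_lit 0x905a4f1156b) (nat_lit 0x652041) (nat_lit 0) .nil)))
  (nat_lit 0x905a4f11727) (nat_lit 174145) (nat_lit 0) (.node (.node (.node .nil (nat_lit 0x905a4f119f4)
  (nat_lit 5185) (nat_lit 0) .nil) (nat_lit 0x905a4f11a59) (nat_lit 0x552441) (nat_lit 0) (.node .nil (nat_lit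
  0x905a4f11c5e) (nat_lit 173121) (nat_lit 0) .nil)) (nat_lit 0x905a4f12c05) (nat_lit 301315) (nat_lit 0)
  (.node (.node .nil (nat_lit 0x905a4f12f3d) (nat_lit 8387) (nat_lit 0) .nil) (nat_lit 0x905a4f13002) (nat_lit
  301384) (nat_lit 0) (.node .nil (nat_lit 0x905a4f13122) (nat_lit 207106) (nat_lit 0) .nil)))) (nat_lit
  0x905a4f132fc) (nat_lit 5442) (nat_lit 0) (.node (.node (.node (.node .nil (nat_lit 0x905a4f135ca) (nat_lit
  162) (nat_lit 0) .nil) (nat_lit 0x905a4f13632) (nat_lit 174370) (nat_lit 0) (.node .nil (nat_lit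
  0x905a4f13819) (nat_lit 5410) (nat_lit 0) .nil)) (nat_lit 0x905a4f13aea) (nat_lit 10402) (nat_lit 0) (.node
  (.node .nil (nat_lit 0x905a4f13c9b) (nat_lit 333090) (nat_lit 0) .nil) (nat_lit 0x905a4f13e02) (nat_lit
  166977) (nat_lit 0) (.node .nil (nat_lit 0x905a4f13f36) (nat_lit 9380) (nat_lit 0) .nil))) (nat_lit
  0x905a4f1485b) (nat_lit 332865) (nat_lit 0) (.node (.node (.node .nil (nat_lit 0x905a4f14a6c) (nat_lit
  0xa2a441) (nat_lit 0) .nil) (nat_lit 0x905a4f14bea) (nat_lit 5218) (nat_lit 0) (.node .nil (nat_lit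
  0x905a4f14d2a) (nat_lit 300161) (nat_lit 0) .nil)) (nat_lit 0x905a4f15d3c) (nat_lit 9416) (nat_lit 0) (.node
  (.node .nil (nat_lit 0x905a4f160aa) (nat_lit 262) (nat_lit 0) .nil) (nat_lit 0x905a4f160d8) (nat_lit 268617)
  (nat_lit 0) (.node .nil (nat_lit 0x905a4f1620b) (nat_lit 8394) (nat_lit 0) .nil)))))) (nat_lit
  0x905a4f164a9) (nat_lit 301313) (nat_lit 0) (.node (.node (.node (.node (.node (.node .nil (nat_lit
  0x905a4f1679d) (nat_lit 8385) (nat_lit 0) .nil) (nat_lit 0x905a4f167ca) (nat_lit 336166) (nat_lit 0) (.node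
  .nil (nat_lit 0x905a4f168f6) (nat_lit 268609) (nat_lit 0) .nil)) (nat_lit 0x905a4f1940f) (nat_lit 97)
  (nat_lit 97) (.node (.node .nil (nat_lit 0x905a4f19869) (nat_lit 9313) (nat_lit 0) .nil) (nat_lit
  0x905a4f19884) (nat_lit 10337) (nat_lit 0) (.node .nil (nat_lit 0x905a4f199ba) (nat_lit 336993) (nat_lit 0)
  .nil))) (nat_lit 0x905a4f19b04) (nat_lit 0xc8524a1) (nat_lit 0) (.node (.node (.node .nil (nat_lit
  0x905a4f19e3f) (nat_lit 0x551901) (nat_lit 0) .nil) (nat_lit 0x905a4f19f76) (nat_lit 0x5424c2) (nat_lit 0)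
  (.node .nil (nat_lit 0x905a4f1a0af) (nat_lit 172228) (nat_lit 0) .nil)) (nat_lit 0x905a4f1c495) (nat_lit
  0x652125) (nat_lit 0) (.node (.node .nil (nat_lit 0x905a4f1c70f) (nat_lit 334085) (nat_lit 0) .nil) (nat_lit
  0x905a4f1c7f8) (nat_lit 300294) (nat_lit 0) (.node .nil (nat_lit 0x905a4f1ca42) (nat_lit 0x831483) (nat_lit
  0) .nil)))) (nat_lit 0x905a4f1e6d4) (nat_lit 0) (nat_lit 0) (.node (.node (.node (.node .nil (nat_lit
  0x905a4f1eb5e) (nat_lit 9) (nat_lit 0) .nil) (nat_lit 0x905a4f1ebf4) (nat_lit 10) (nat_lit 0) (.node .nil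
  (nat_lit 0x905a4f1ed11) (nat_lit 329) (nat_lit 0) .nil)) (nat_lit 0x905a4f1f658) (nat_lit 302210) (nat_lit
  0) (.node (.node .nil (nat_lit 0x905a4f1f7c9) (nat_lit 233570) (nat_lit 0) .nil) (nat_lit 0x905a4f1f903)
  (nat_lit 335138) (nat_lit 0) (.node .nil (nat_lit 0x905a4f1fb01) (nat_lit 10466) (nat_lit 0) .nil)))
  (nat_lit 0x905a4f1fd4d) (nat_lit 0x107518a1) (nat_lit 0) (.node (.node (.node .nil (nat_lit 0x905a4f1fdc6)
  (nat_lit 0x831ca4) (nat_lit 0) .nil) (nat_lit 0x905a4f20040) (nat_lit 0x14941cc5) (nat_lit 0) (.node .nil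
  (nat_lit 0x905a4f201f6) (nat_lit 0x939905) (nat_lit 0) .nil)) (nat_lit 0x905a4f20a64) (nat_lit 0x831c83)
  (nat_lit 0) (.node (.node .nil (nat_lit 0x905a4f20c62) (nat_lit 269638) (nat_lit 0) .nil) (nat_lit
  0x905a4f20dbc) (nat_lit 0x849cc1) (nat_lit 0) (.node .nil (nat_lit 0x905a4f2100a) (nat_lit 0x932907)
  (nat_lit 0) .nil))))) (nat_lit 0x905a4f2115b) (nat_lit 337063) (nat_lit 0) (.node (.node (.node (.node
  (.node .nil (nat_lit 0x905a4f21359) (nat_lit 7337) (nat_lit 0) .nil) (nat_lit 0x905a4f215a4) (nat_lit 7338)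
  (nat_lit 0) (.node .nil (nat_lit 0x905a4f216fc) (nat_lit 229) (nat_lit 0) .nil)) (nat_lit 0x905a4f26c38)
  (nat_lit 333093) (nat_lit 0) (.node (.node .nil (nat_lit 0x905a4f26cb6) (nat_lit 134209) (nat_lit 134209)
  .nil) (nat_lit 0x905a4f26f5f) (nat_lit 6470) (nat_lit 0) (.node .nil (nat_lit 0x905a4f27023) (nat_lit 5413)
  (nat_lit 0) .nil))) (nat_lit 0x905a4f27327) (nat_lit 6312) (nat_lit 0) (.node (.node (.node .nil (nat_lit
  0x905a4f273ad) (nat_lit 0xa4a0c5) (nat_lit 0) .nil) (nat_lit 0x905a4f27627) (nat_lit 207109) (nat_lit 0)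
  (.node .nil (nat_lit 0x905a4f27654) (nat_lit 173318) (nat_lit 0) .nil)) (nat_lit 0x905a4f29be8) (nat_lit
  204963) (nat_lit 0) (.node (.node .nil (nat_lit 0x905a4f29cf7) (nat_lit 0x128518a1) (nat_lit 0) .nil)
  (nat_lit 0x905a4f29e97) (nat_lit 0x6428a1) (nat_lit 0) (.node .nil (nat_lit 0x905a4f2a00f) (nat_lit
  0x649502) (nat_lit 0) .nil)))) (nat_lit 0x905a4f2b0e0) (nat_lit 337026) (nat_lit 0) (.node (.node (.node
  (.node .nil (nat_lit 0x905a4f2b1da) (nat_lit 130) (nat_lit 130) .nil) (nat_lit 0x905a4f2b378) (nat_lit 9346)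
  (nat_lit 0) (.node .nil (nat_lit 0x905a4f2b4f0) (nat_lit 10370) (nat_lit 0) .nil)) (nat_lit 0x905a4f2b8c3)
  (nat_lit 0xa3a4c8) (nat_lit 0) (.node (.node .nil (nat_lit 0x905a4f2b93c) (nat_lit 268515) (nat_lit 0) .nil)
  (nat_lit 0x905a4f2bb6e) (nat_lit 301319) (nat_lit 0) (.node .nil (nat_lit 0x905a4f2bcd8) (nat_lit 336102)
  (nat_lit 0) .nil))) (nat_lit 0x905a4f2e5b2) (nat_lit 0x552507) (nat_lit 0) (.node (.node (.node .nil
  (nat_lit 0x905a4f2e676) (nat_lit 172259) (nat_lit 0) .nil) (nat_lit 0x905a4f2e727) (nat_lit 238853) (nat_lit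
  0) (.node .nil (nat_lit 0x905a4f2e7bb) (nat_lit 171336) (nat_lit 0) .nil)) (nat_lit 0x905a4f2f0ab) (nat_lit
  0xa424e5) (nat_lit 0) (.node (.node .nil (nat_lit 0x905a4f2f467) (nat_lit 267491) (nat_lit 0) .nil) (nat_lit
  0x905a4f2f512) (nat_lit 267559) (nat_lit 0) (.node .nil (nat_lit 0x905a4f2f5a5) (nat_lit 0x53a901) (nat_lit
  0) .nil)))))))
def tB_4 : T := (.node (.node (.node (.node (.node (.node (.node .nil (nat_lit 0x905a4f3480d) (nat_lit 266338)
  (nat_lit 0) .nil) (nat_lit 0x905a4f3487a) (nat_lit 336002) (nat_lit 0) (.node .nil (nat_lit 0x905a4f34915)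
  (nat_lit 303202) (nat_lit 0) .nil)) (nat_lit 0x905a4f34bdd) (nat_lit 8323) (nat_lit 0) (.node (.node .nil
  (nat_lit 0x905a4f34ef4) (nat_lit 10536) (nat_lit 0) .nil) (nat_lit 0x905a4f34f66) (nat_lit 10500) (nat_lit
  0) (.node .nil (nat_lit 0x905a4f35054) (nat_lit 9475) (nat_lit 0) .nil))) (nat_lit 0x905a4f352d4) (nat_lit
  337093) (nat_lit 0) (.node (.node (.node .nil (nat_lit 0x905a4f354c8) (nat_lit 334149) (nat_lit 0) .nil)
  (nat_lit 0x905a4f3565b) (nat_lit 6437) (nat_lit 0) (.node .nil (nat_lit 0x905a4f35749) (nat_lit 5446)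
  (nat_lit 0) .nil)) (nat_lit 0x905a4f35b89) (nat_lit 0x629061) (nat_lit 0) (.node (.node .nil (nat_lit
  0x905a4f35cff) (nat_lit 0xa498a2) (nat_lit 0) .nil) (nat_lit 0x905a4f35d5d) (nat_lit 205986) (nat_lit 0)
  (.node .nil (nat_lit 0x905a4f35df6) (nat_lit 174274) (nat_lit 0) .nil)))) (nat_lit 0x905a4f3f978) (nat_lit
  234789) (nat_lit 0) (.node (.node (.node (.node .nil (nat_lit 0x905a4f3fc1b) (nat_lit 0xa3a441) (nat_lit 0)
  .nil) (nat_lit 0x905a4f3fc47) (nat_lit 0x720c41) (nat_lit 0) (.node .nil (nat_lit 0x905a4f3fe3a) (nat_lit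
  334913) (nat_lit 0) .nil)) (nat_lit 0x905a4f3fff9) (nat_lit 302209) (nat_lit 0) (.node (.node .nil (nat_lit
  0x905a4f40312) (nat_lit 335137) (nat_lit 0) .nil) (nat_lit 0x905a4f4033e) (nat_lit 233569) (nat_lit 0)
  (.node .nil (nat_lit 0x905a4f4052f) (nat_lit 10465) (nat_lit 0) .nil))) (nat_lit 0x905a4f422c8) (nat_lit
  0x6428e5) (nat_lit 0) (.node (.node (.node .nil (nat_lit 0x905a4f425dd) (nat_lit 0x8398a4) (nat_lit 0) .nil)
  (nat_lit 0x905a4f42645) (nat_lit 0x149418e5) (nat_lit 0) (.node .nil (nat_lit 0x905a4f427fc) (nat_lit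
  0x9320e5) (nat_lit 0) .nil)) (nat_lit 0x905a4f42a31) (nat_lit 0x83a8c5) (nat_lit 0) (.node (.node .nil
  (nat_lit 0x905a4f42cd4) (nat_lit 0x7320a4) (nat_lit 0) .nil) (nat_lit 0x905a4f42d3c) (nat_lit 0x149320e5)
  (nat_lit 0) (.node .nil (nat_lit 0x905a4f42ef7) (nat_lit 0x9418e5) (nat_lit 0) .nil))))) (nat_lit
  0x905a4f48737) (nat_lit 6308) (nat_lit 0) (.node (.node (.node (.node (.node .nil (nat_lit 0x905a4f4882b)
  (nat_lit 0x6524a2) (nat_lit 0) .nil) (nat_lit 0x905a4f488cb) (nat_lit 173250) (nat_lit 0) (.node .nil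
  (nat_lit 0x905a4f48957) (nat_lit 333986) (nat_lit 0) .nil)) (nat_lit 0x905a4f48bc0) (nat_lit 207141)
  (nat_lit 0) (.node (.node .nil (nat_lit 0x905a4f48c16) (nat_lit 201858) (nat_lit 0) .nil) (nat_lit
  0x905a4f48fc2) (nat_lit 5414) (nat_lit 0) (.node .nil (nat_lit 0x905a4f49056) (nat_lit 10437) (nat_lit 0)
  .nil))) (nat_lit 0x905a4f492af) (nat_lit 8321) (nat_lit 0) (.node (.node (.node .nil (nat_lit 0x905a4f495a3)
  (nat_lit 303425) (nat_lit 0) .nil) (nat_lit 0x905a4f496bc) (nat_lit 272513) (nat_lit 0) (.node .nil (nat_lit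
  0x905a4f4974f) (nat_lit 9473) (nat_lit 0) .nil)) (nat_lit 0x905a4f49beb) (nat_lit 266305) (nat_lit 0) (.node
  (.node .nil (nat_lit 0x905a4f49c9a) (nat_lit 0x942841) (nat_lit 0) .nil) (nat_lit 0x905a4f49db1) (nat_lit
  207048) (nat_lit 0) (.node .nil (nat_lit 0x905a4f49e38) (nat_lit 303169) (nat_lit 0) .nil)))) (nat_lit
  0x905a4f4dfae) (nat_lit 238721) (nat_lit 0) (.node (.node (.node (.node .nil (nat_lit 0x905a4f4e052)
  (nat_lit 337121) (nat_lit 0) .nil) (nat_lit 0x905a4f4e130) (nat_lit 7297) (nat_lit 0) (.node .nil (nat_lit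
  0x905a4f4e3ff) (nat_lit 334945) (nat_lit 0) .nil)) (nat_lit 0x905a4f4ed1f) (nat_lit 7460) (nat_lit 0) (.node
  (.node .nil (nat_lit 0x905a4f4ef44) (nat_lit 228) (nat_lit 0) .nil) (nat_lit 0x905a4f4efc5) (nat_lit 10535)
  (nat_lit 0) (.node .nil (nat_lit 0x905a4f4f1e0) (nat_lit 10467) (nat_lit 0) .nil))) (nat_lit 0x905a4f501f4)
  (nat_lit 238722) (nat_lit 0) (.node (.node (.node .nil (nat_lit 0x905a4f5045b) (nat_lit 7298) (nat_lit 0)
  .nil) (nat_lit 0x905a4f504a8) (nat_lit 337122) (nat_lit 0) (.node .nil (nat_lit 0x905a4f506d0) (nat_lit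
  334946) (nat_lit 0) .nil)) (nat_lit 0x905a4f5409b) (nat_lit 0x751506) (nat_lit 0) (.node (.node .nil
  (nat_lit 0x905a4f5434f) (nat_lit 0x10639483) (nat_lit 0) .nil) (nat_lit 0x905a4f5441f) (nat_lit 0x12851cc5)
  (nat_lit 0) (.node .nil (nat_lit 0x905a4f54575) (nat_lit 0x749905) (nat_lit 0) .nil)))))) (nat_lit
  0x905a4f5479c) (nat_lit 0x829d46) (nat_lit 0) (.node (.node (.node (.node (.node (.node .nil (nat_lit
  0x905a4f54a46) (nat_lit 0xc839483) (nat_lit 0) .nil) (nat_lit 0x905a4f54b18) (nat_lit 0x14749905) (nat_lit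
  0) (.node .nil (nat_lit 0x905a4f54c5f) (nat_lit 0x74a0c5) (nat_lit 0) .nil)) (nat_lit 0x905a4f555ff)
  (nat_lit 0x6520e5) (nat_lit 0) (.node (.node .nil (nat_lit 0x905a4f556a9) (nat_lit 0x10731483) (nat_lit 0)
  .nil) (nat_lit 0x905a4f558fe) (nat_lit 0x128518e5) (nat_lit 0) (.node .nil (nat_lit 0x905a4f55a56) (nat_lit
  0x831d25) (nat_lit 0) .nil))) (nat_lit 0x905a4f57082) (nat_lit 332929) (nat_lit 0) (.node (.node (.node .nil
  (nat_lit 0x905a4f570e0) (nat_lit 300097) (nat_lit 0) .nil) (nat_lit 0x905a4f5735e) (nat_lit 0x92a841)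
  (nat_lit 0) (.node .nil (nat_lit 0x905a4f57404) (nat_lit 5251) (nat_lit 0) .nil)) (nat_lit 0x905a4f57779)
  (nat_lit 8486) (nat_lit 0) (.node (.node .nil (nat_lit 0x905a4f577d3) (nat_lit 336065) (nat_lit 0) .nil)
  (nat_lit 0x905a4f57b03) (nat_lit 271562) (nat_lit 0) (.node .nil (nat_lit 0x905a4f57bcc) (nat_lit 6404)
  (nat_lit 0) .nil)))) (nat_lit 0x905a4f58531) (nat_lit 174209) (nat_lit 0) (.node (.node (.node (.node .nil
  (nat_lit 0x905a4f58593) (nat_lit 173185) (nat_lit 0) .nil) (nat_lit 0x905a4f58667) (nat_lit 0xa49441)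
  (nat_lit 0) (.node .nil (nat_lit 0x905a4f588e5) (nat_lit 5249) (nat_lit 0) .nil)) (nat_lit 0x905a4f680ac)
  (nat_lit 8513) (nat_lit 0) (.node (.node .nil (nat_lit 0x905a4f68339) (nat_lit 257) (nat_lit 0) .nil)
  (nat_lit 0x905a4f68449) (nat_lit 272673) (nat_lit 0) (.node .nil (nat_lit 0x905a4f68533) (nat_lit 8481)
  (nat_lit 0) .nil))) (nat_lit 0x905a4f6882e) (nat_lit 6306) (nat_lit 0) (.node (.node (.node .nil (nat_lit
  0x905a4f68887) (nat_lit 202018) (nat_lit 0) .nil) (nat_lit 0x905a4f68a32) (nat_lit 0x9328a2) (nat_lit 0)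
  (.node .nil (nat_lit 0x905a4f68b57) (nat_lit 202050) (nat_lit 0) .nil)) (nat_lit 0x905a4f68ee8) (nat_lit
  0xa3a4c1) (nat_lit 0) (.node (.node .nil (nat_lit 0x905a4f6914a) (nat_lit 238786) (nat_lit 0) .nil) (nat_lit
  0x905a4f691b4) (nat_lit 334052) (nat_lit 0) (.node .nil (nat_lit 0x905a4f69260) (nat_lit 7364) (nat_lit 0)
  .nil))))) (nat_lit 0x905a4f695e2) (nat_lit 269476) (nat_lit 0) (.node (.node (.node (.node (.node .nil
  (nat_lit 0x905a4f698a7) (nat_lit 0x8494e1) (nat_lit 0) .nil) (nat_lit 0x905a4f69941) (nat_lit 0x9428a7)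
  (nat_lit 0) (.node .nil (nat_lit 0x905a4f699fb) (nat_lit 0x851ca1) (nat_lit 0) .nil)) (nat_lit
  0x905a4f6b1ff) (nat_lit 207010) (nat_lit 0) (.node (.node .nil (nat_lit 0x905a4f6b3f5) (nat_lit 0xa324a2)
  (nat_lit 0) .nil) (nat_lit 0x905a4f6b455) (nat_lit 0x628c41) (nat_lit 0) (.node .nil (nat_lit 0x905a4f6b482)
  (nat_lit 301218) (nat_lit 0) .nil))) (nat_lit 0x905a4f6baea) (nat_lit 259) (nat_lit 0) (.node (.node (.node
  .nil (nat_lit 0x905a4f6bb4a) (nat_lit 10505) (nat_lit 0) .nil) (nat_lit 0x905a4f6bb75) (nat_lit 328)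
  (nat_lit 0) (.node .nil (nat_lit 0x905a4f6bcc8) (nat_lit 8483) (nat_lit 0) .nil)) (nat_lit 0x905a4f6d478)
  (nat_lit 235651) (nat_lit 0) (.node (.node .nil (nat_lit 0x905a4f6d6e5) (nat_lit 0xa49cc1) (nat_lit 0) .nil)
  (nat_lit 0x905a4f6d795) (nat_lit 0x751841) (nat_lit 0) (.node .nil (nat_lit 0x905a4f6d8cb) (nat_lit 301281)
  (nat_lit 0) .nil)))) (nat_lit 0x905a4f6da78) (nat_lit 0x832925) (nat_lit 0) (.node (.node (.node (.node .nil
  (nat_lit 0x905a4f6dd7e) (nat_lit 272581) (nat_lit 0) .nil) (nat_lit 0x905a4f6dee9) (nat_lit 267558) (nat_lit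
  0) (.node .nil (nat_lit 0x905a4f6e028) (nat_lit 204964) (nat_lit 0) .nil)) (nat_lit 0x905a4f6e15d) (nat_lit
  65) (nat_lit 65) (.node (.node .nil (nat_lit 0x905a4f6e553) (nat_lit 9281) (nat_lit 0) .nil) (nat_lit
  0x905a4f6e5c9) (nat_lit 10305) (nat_lit 0) (.node .nil (nat_lit 0x905a4f6e70f) (nat_lit 336961) (nat_lit 0)
  .nil))) (nat_lit 0x905a4f6e852) (nat_lit 1) (nat_lit 1) (.node (.node (.node .nil (nat_lit 0x905a4f6ec4a)
  (nat_lit 289) (nat_lit 0) .nil) (nat_lit 0x905a4f6ecbe) (nat_lit 321) (nat_lit 0) (.node .nil (nat_lit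
  0x905a4f6ee00) (nat_lit 10529) (nat_lit 0) .nil)) (nat_lit 0x905a4f71218) (nat_lit 0x8524c5) (nat_lit 0)
  (.node (.node .nil (nat_lit 0x905a4f7152d) (nat_lit 301317) (nat_lit 0) .nil) (nat_lit 0x905a4f715d4)
  (nat_lit 333062) (nat_lit 0) (.node .nil (nat_lit 0x905a4f717c6) (nat_lit 0x62a083) (nat_lit 0) .nil)))))))
def tB_5 : T := (.node (.node (.node (.node (.node (.node (.node .nil (nat_lit 0x905a4f71c52) (nat_lit 303301)
  (nat_lit 0) .nil) (nat_lit 0x905a4f71cc9) (nat_lit 333992) (nat_lit 0) (.node .nil (nat_lit 0x905a4f71ebb)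
  (nat_lit 0x541883) (nat_lit 0) .nil)) (nat_lit 0x905a4f72dfe) (nat_lit 0xa494e1) (nat_lit 0) (.node (.node
  .nil (nat_lit 0x905a4f7318a) (nat_lit 234785) (nat_lit 0) .nil) (nat_lit 0x905a4f7324d) (nat_lit 234817)
  (nat_lit 0) (.node .nil (nat_lit 0x905a4f733af) (nat_lit 7329) (nat_lit 0) .nil))) (nat_lit 0x905a4f734f3)
  (nat_lit 0xa49ca1) (nat_lit 0) (.node (.node (.node .nil (nat_lit 0x905a4f7387f) (nat_lit 171297) (nat_lit
  0) .nil) (nat_lit 0x905a4f73944) (nat_lit 171329) (nat_lit 0) (.node .nil (nat_lit 0x905a4f73a99) (nat_lit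
  5345) (nat_lit 0) .nil)) (nat_lit 0x905a4f757c4) (nat_lit 0x839883) (nat_lit 0) (.node (.node .nil (nat_lit
  0x905a4f75ab6) (nat_lit 0x8498e1) (nat_lit 0) .nil) (nat_lit 0x905a4f75b4c) (nat_lit 0x6428e1) (nat_lit 0)
  (.node .nil (nat_lit 0x905a4f75d66) (nat_lit 0x10a49cc1) (nat_lit 0) .nil)))) (nat_lit 0x905a4f75eb9)
  (nat_lit 0x732083) (nat_lit 0) (.node (.node (.node (.node .nil (nat_lit 0x905a4f76215) (nat_lit 271590)
  (nat_lit 0) .nil) (nat_lit 0x905a4f76241) (nat_lit 0x83a8c1) (nat_lit 0) (.node .nil (nat_lit 0x905a4f7646a)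
  (nat_lit 0x8524c7) (nat_lit 0) .nil)) (nat_lit 0x905a4f7ab4b) (nat_lit 0x642925) (nat_lit 0) (.node (.node
  .nil (nat_lit 0x905a4f7ae87) (nat_lit 174280) (nat_lit 0) .nil) (nat_lit 0x905a4f7afbc) (nat_lit 0x82a4c2)
  (nat_lit 0) (.node .nil (nat_lit 0x905a4f7b0ee) (nat_lit 268452) (nat_lit 0) .nil))) (nat_lit 0x905a4f7b935)
  (nat_lit 98) (nat_lit 98) (.node (.node (.node .nil (nat_lit 0x905a4f7bd94) (nat_lit 9314) (nat_lit 0) .nil)
  (nat_lit 0x905a4f7bdb3) (nat_lit 10338) (nat_lit 0) (.node .nil (nat_lit 0x905a4f7bee7) (nat_lit 336994)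
  (nat_lit 0) .nil)) (nat_lit 0x905a4f7c02c) (nat_lit 3) (nat_lit 3) (.node (.node .nil (nat_lit
  0x905a4f7c487) (nat_lit 291) (nat_lit 0) .nil) (nat_lit 0x905a4f7c4aa) (nat_lit 323) (nat_lit 0) (.node .nil
  (nat_lit 0x905a4f7c5d1) (nat_lit 10531) (nat_lit 0) .nil))))) (nat_lit 0x905a4f7e9d4) (nat_lit 0xa3a4a1)
  (nat_lit 0) (.node (.node (.node (.node (.node .nil (nat_lit 0x905a4f7eb42) (nat_lit 173281) (nat_lit 0)
  .nil) (nat_lit 0x905a4f7ed8d) (nat_lit 239778) (nat_lit 0) (.node .nil (nat_lit 0x905a4f7ef6f) (nat_lit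
  171105) (nat_lit 0) .nil)) (nat_lit 0x905a4f7f890) (nat_lit 0x83a4a2) (nat_lit 0) (.node (.node .nil
  (nat_lit 0x905a4f7fabd) (nat_lit 0x72a083) (nat_lit 0) .nil) (nat_lit 0x905a4f7fae2) (nat_lit 0xa49507)
  (nat_lit 0) (.node .nil (nat_lit 0x905a4f7fd18) (nat_lit 336101) (nat_lit 0) .nil))) (nat_lit 0x905a4f8006b)
  (nat_lit 239810) (nat_lit 0) (.node (.node (.node .nil (nat_lit 0x905a4f8027d) (nat_lit 337126) (nat_lit 0)
  .nil) (nat_lit 0x905a4f80335) (nat_lit 301289) (nat_lit 0) (.node .nil (nat_lit 0x905a4f8033c) (nat_lit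
  9415) (nat_lit 0) .nil)) (nat_lit 0x905a4f80ca1) (nat_lit 269508) (nat_lit 0) (.node (.node .nil (nat_lit
  0x905a4f81043) (nat_lit 0x6520e1) (nat_lit 0) .nil) (nat_lit 0x905a4f8105a) (nat_lit 0x63a501) (nat_lit 0)
  (.node .nil (nat_lit 0x905a4f8123c) (nat_lit 0x14849cc1) (nat_lit 0) .nil)))) (nat_lit 0x905a4f81385)
  (nat_lit 235780) (nat_lit 0) (.node (.node (.node (.node .nil (nat_lit 0x905a4f815d7) (nat_lit 0x7520c1)
  (nat_lit 0) .nil) (nat_lit 0x905a4f81753) (nat_lit 269606) (nat_lit 0) (.node .nil (nat_lit 0x905a4f81937)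
  (nat_lit 0xa424c7) (nat_lit 0) .nil)) (nat_lit 0x905a4f819ec) (nat_lit 300359) (nat_lit 0) (.node (.node
  .nil (nat_lit 0x905a4f81cca) (nat_lit 0x549c41) (nat_lit 0) .nil) (nat_lit 0x905a4f81e48) (nat_lit 7493)
  (nat_lit 0) (.node .nil (nat_lit 0x905a4f8202c) (nat_lit 234593) (nat_lit 0) .nil))) (nat_lit 0x905a4f8445d)
  (nat_lit 268516) (nat_lit 0) (.node (.node (.node .nil (nat_lit 0x905a4f84677) (nat_lit 0x83a4c1) (nat_lit
  0) .nil) (nat_lit 0x905a4f847f0) (nat_lit 239878) (nat_lit 0) (.node .nil (nat_lit 0x905a4f84a0e) (nat_lit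
  0x832927) (nat_lit 0) .nil)) (nat_lit 0x905a4f84b56) (nat_lit 205028) (nat_lit 0) (.node (.node .nil
  (nat_lit 0x905a4f84ee5) (nat_lit 207111) (nat_lit 0) .nil) (nat_lit 0x905a4f84eff) (nat_lit 204072) (nat_lit
  0) (.node .nil (nat_lit 0x905a4f85103) (nat_lit 0xa424e6) (nat_lit 0) .nil)))))) (nat_lit 0x905a4f8524b)
  (nat_lit 335141) (nat_lit 0) (.node (.node (.node (.node (.node (.node .nil (nat_lit 0x905a4f855da) (nat_lit
  5415) (nat_lit 0) .nil) (nat_lit 0x905a4f855f4) (nat_lit 171331) (nat_lit 0) (.node .nil (nat_lit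
  0x905a4f857f8) (nat_lit 5347) (nat_lit 0) .nil)) (nat_lit 0x905a4f85940) (nat_lit 0x92a8e1) (nat_lit 0)
  (.node (.node .nil (nat_lit 0x905a4f85b58) (nat_lit 239777) (nat_lit 0) .nil) (nat_lit 0x905a4f85ccf)
  (nat_lit 173282) (nat_lit 0) (.node .nil (nat_lit 0x905a4f85ef3) (nat_lit 7331) (nat_lit 0) .nil))) (nat_lit
  0x905a4f88d41) (nat_lit 0xa4a0e5) (nat_lit 0) (.node (.node (.node .nil (nat_lit 0x905a4f88def) (nat_lit
  0x829c83) (nat_lit 0) .nil) (nat_lit 0x905a4f88e21) (nat_lit 0x83a4a1) (nat_lit 0) (.node .nil (nat_lit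
  0x905a4f88ec9) (nat_lit 333063) (nat_lit 0) .nil)) (nat_lit 0x905a4f8a03a) (nat_lit 337095) (nat_lit 0)
  (.node (.node .nil (nat_lit 0x905a4f8a302) (nat_lit 239809) (nat_lit 0) .nil) (nat_lit 0x905a4f8a345)
  (nat_lit 302281) (nat_lit 0) (.node .nil (nat_lit 0x905a4f8a409) (nat_lit 9446) (nat_lit 0) .nil))))
  (nat_lit 0x905a4f9c439) (nat_lit 0xa4a0a7) (nat_lit 0) (.node (.node (.node (.node .nil (nat_lit
  0x905a4f9c72e) (nat_lit 0x839483) (nat_lit 0) .nil) (nat_lit 0x905a4f9c75c) (nat_lit 0x10749441) (nat_lit 0)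
  (.node .nil (nat_lit 0x905a4f9c890) (nat_lit 335016) (nat_lit 0) .nil)) (nat_lit 0x905a4fa106e) (nat_lit
  0x54a147) (nat_lit 0) (.node (.node .nil (nat_lit 0x905a4fa137c) (nat_lit 5383) (nat_lit 0) .nil) (nat_lit
  0x905a4fa14b5) (nat_lit 303333) (nat_lit 0) (.node .nil (nat_lit 0x905a4fa1586) (nat_lit 172266) (nat_lit 0)
  .nil))) (nat_lit 0x905a4fa2669) (nat_lit 303271) (nat_lit 0) (.node (.node (.node .nil (nat_lit
  0x905a4fa27fe) (nat_lit 0x7520a9) (nat_lit 0) .nil) (nat_lit 0x905a4fa285d) (nat_lit 7336) (nat_lit 0)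
  (.node .nil (nat_lit 0x905a4fa2a2a) (nat_lit 239877) (nat_lit 0) .nil)) (nat_lit 0x905a4fa2eff) (nat_lit
  8359) (nat_lit 0) (.node (.node .nil (nat_lit 0x905a4fa2f35) (nat_lit 0x8524e5) (nat_lit 0) .nil) (nat_lit
  0x905a4fa308e) (nat_lit 302248) (nat_lit 0) (.node .nil (nat_lit 0x905a4fa3172) (nat_lit 267498) (nat_lit 0)
  .nil))))) (nat_lit 0x905a4fa422b) (nat_lit 8421) (nat_lit 0) (.node (.node (.node (.node (.node .nil
  (nat_lit 0x905a4fa4418) (nat_lit 0x8524a7) (nat_lit 0) .nil) (nat_lit 0x905a4fa4566) (nat_lit 300295)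
  (nat_lit 0) (.node .nil (nat_lit 0x905a4fa460b) (nat_lit 239784) (nat_lit 0) .nil)) (nat_lit 0x905a4fa9073)
  (nat_lit 336161) (nat_lit 0) (.node (.node .nil (nat_lit 0x905a4fa90aa) (nat_lit 8289) (nat_lit 0) .nil)
  (nat_lit 0x905a4fa9139) (nat_lit 10497) (nat_lit 0) (.node .nil (nat_lit 0x905a4fa91e6) (nat_lit 271457)
  (nat_lit 0) .nil))) (nat_lit 0x905a4fa9768) (nat_lit 201826) (nat_lit 0) (.node (.node (.node .nil (nat_lit
  0x905a4fa9799) (nat_lit 0x14649441) (nat_lit 0) .nil) (nat_lit 0x905a4fa982e) (nat_lit 0x931441) (nat_lit 0)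
  (.node .nil (nat_lit 0x905a4fa9959) (nat_lit 0x651441) (nat_lit 0) .nil)) (nat_lit 0x905a4faa162) (nat_lit
  300129) (nat_lit 0) (.node (.node .nil (nat_lit 0x905a4faa1fa) (nat_lit 174210) (nat_lit 0) .nil) (nat_lit
  0x905a4faa58a) (nat_lit 5250) (nat_lit 0) (.node .nil (nat_lit 0x905a4faa5b5) (nat_lit 10533) (nat_lit 0)
  .nil)))) (nat_lit 0x905a4faa86e) (nat_lit 0x851841) (nat_lit 0) (.node (.node (.node (.node .nil (nat_lit
  0x905a4faa8ef) (nat_lit 0x849862) (nat_lit 0) .nil) (nat_lit 0x905a4faac7d) (nat_lit 0x9428c1) (nat_lit 0)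
  (.node .nil (nat_lit 0x905a4faace6) (nat_lit 268419) (nat_lit 0) .nil)) (nat_lit 0x905a4fac7e4) (nat_lit
  201793) (nat_lit 0) (.node (.node .nil (nat_lit 0x905a4fac864) (nat_lit 0x12651441) (nat_lit 0) .nil)
  (nat_lit 0x905a4fac8eb) (nat_lit 0x62a441) (nat_lit 0) (.node .nil (nat_lit 0x905a4fac9f3) (nat_lit
  0x62a841) (nat_lit 0) .nil))) (nat_lit 0x905a4facf53) (nat_lit 8) (nat_lit 0) (.node (.node (.node .nil
  (nat_lit 0x905a4facfe0) (nat_lit 266) (nat_lit 0) .nil) (nat_lit 0x905a4fad018) (nat_lit 8521) (nat_lit 0)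
  (.node .nil (nat_lit 0x905a4fad08b) (nat_lit 265) (nat_lit 0) .nil)) (nat_lit 0x905a4fae1f7) (nat_lit
  0x851ca9) (nat_lit 0) (.node (.node .nil (nat_lit 0x905a4fae4c1) (nat_lit 271527) (nat_lit 0) .nil) (nat_lit
  0x905a4fae512) (nat_lit 234756) (nat_lit 0) (.node .nil (nat_lit 0x905a4fae5f8) (nat_lit 272613) (nat_lit 0)
  .nil)))))))
def tB_6 : T := (.node (.node (.node (.node (.node (.node (.node .nil (nat_lit 0x905a4faeaad) (nat_lit 335142)
  (nat_lit 0) .nil) (nat_lit 0x905a4faebb6) (nat_lit 0xa31c81) (nat_lit 0) (.node .nil (nat_lit 0x905a4faeced)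
  (nat_lit 301283) (nat_lit 0) .nil)) (nat_lit 0x905a4faf592) (nat_lit 7457) (nat_lit 0) (.node (.node .nil
  (nat_lit 0x905a4faf5ee) (nat_lit 7489) (nat_lit 0) .nil) (nat_lit 0x905a4faf8ed) (nat_lit 225) (nat_lit 0)
  (.node .nil (nat_lit 0x905a4fafa02) (nat_lit 239905) (nat_lit 0) .nil))) (nat_lit 0x905a4fafc85) (nat_lit
  0x641d45) (nat_lit 0) (.node (.node (.node .nil (nat_lit 0x905a4fafce9) (nat_lit 0x549907) (nat_lit 0) .nil)
  (nat_lit 0x905a4fb00d5) (nat_lit 0x10a498e5) (nat_lit 0) (.node .nil (nat_lit 0x905a4fb0104) (nat_lit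
  0x8398a3) (nat_lit 0) .nil)) (nat_lit 0x905a4fb18f5) (nat_lit 334117) (nat_lit 0) (.node (.node .nil
  (nat_lit 0x905a4fb1bc4) (nat_lit 6469) (nat_lit 0) .nil) (nat_lit 0x905a4fb1bfe) (nat_lit 201825) (nat_lit
  0) (.node .nil (nat_lit 0x905a4fb1c2d) (nat_lit 9413) (nat_lit 0) .nil)))) (nat_lit 0x905a4fb1fe8) (nat_lit
  8290) (nat_lit 0) (.node (.node (.node (.node .nil (nat_lit 0x905a4fb22f5) (nat_lit 336162) (nat_lit 0)
  .nil) (nat_lit 0x905a4fb2322) (nat_lit 10498) (nat_lit 0) (.node .nil (nat_lit 0x905a4fb2475) (nat_lit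
  271458) (nat_lit 0) .nil)) (nat_lit 0x905a4fb3426) (nat_lit 271555) (nat_lit 0) (.node (.node .nil (nat_lit
  0x905a4fb346a) (nat_lit 272577) (nat_lit 0) .nil) (nat_lit 0x905a4fb37b6) (nat_lit 207144) (nat_lit 0)
  (.node .nil (nat_lit 0x905a4fb381d) (nat_lit 204931) (nat_lit 0) .nil))) (nat_lit 0x905a4fb3b1b) (nat_lit
  5444) (nat_lit 0) (.node (.node (.node .nil (nat_lit 0x905a4fb3b5e) (nat_lit 5412) (nat_lit 0) .nil)
  (nat_lit 0x905a4fb3ead) (nat_lit 164) (nat_lit 0) (.node .nil (nat_lit 0x905a4fb3eda) (nat_lit 337058)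
  (nat_lit 0) .nil)) (nat_lit 0x905a4fb5343) (nat_lit 0x851527) (nat_lit 0) (.node (.node .nil (nat_lit
  0x905a4fb5354) (nat_lit 269605) (nat_lit 0) .nil) (nat_lit 0x905a4fb53f7) (nat_lit 0x541c83) (nat_lit 0)
  (.node .nil (nat_lit 0x905a4fb5549) (nat_lit 336039) (nat_lit 0) .nil))))) (nat_lit 0x905a4fb5799) (nat_lit
  8257) (nat_lit 0) (.node (.node (.node (.node (.node .nil (nat_lit 0x905a4fb5a4a) (nat_lit 272449) (nat_lit
  0) .nil) (nat_lit 0x905a4fb5b56) (nat_lit 0x852441) (nat_lit 0) (.node .nil (nat_lit 0x905a4fb5c40) (nat_lit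
  271425) (nat_lit 0) .nil)) (nat_lit 0x905a4fb6c7c) (nat_lit 301381) (nat_lit 0) (.node (.node .nil (nat_lit
  0x905a4fb6f2f) (nat_lit 6313) (nat_lit 0) .nil) (nat_lit 0x905a4fb6f41) (nat_lit 197) (nat_lit 0) (.node
  .nil (nat_lit 0x905a4fb7050) (nat_lit 6314) (nat_lit 0) .nil))) (nat_lit 0x905a4fb76aa) (nat_lit 0x849ca1)
  (nat_lit 0) (.node (.node (.node .nil (nat_lit 0x905a4fb7736) (nat_lit 267492) (nat_lit 0) .nil) (nat_lit
  0x905a4fb774a) (nat_lit 0x9428e5) (nat_lit 0) (.node .nil (nat_lit 0x905a4fb77fc) (nat_lit 0x8514e1)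
  (nat_lit 0) .nil)) (nat_lit 0x905a4fb890b) (nat_lit 7462) (nat_lit 0) (.node (.node .nil (nat_lit
  0x905a4fb8afa) (nat_lit 238794) (nat_lit 0) .nil) (nat_lit 0x905a4fb8b8d) (nat_lit 0x751861) (nat_lit 0)
  (.node .nil (nat_lit 0x905a4fb8c39) (nat_lit 203905) (nat_lit 0) .nil)))) (nat_lit 0x905a4fb8eb4) (nat_lit
  0x851cc5) (nat_lit 0) (.node (.node (.node (.node .nil (nat_lit 0x905a4fb8f18) (nat_lit 0x63a505) (nat_lit
  0) .nil) (nat_lit 0x905a4fb9304) (nat_lit 0xa9428e6) (nat_lit 0) (.node .nil (nat_lit 0x905a4fb9331)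
  (nat_lit 0x7320a3) (nat_lit 0) .nil)) (nat_lit 0x905a4fb95ab) (nat_lit 238657) (nat_lit 0) (.node (.node
  .nil (nat_lit 0x905a4fb9607) (nat_lit 239681) (nat_lit 0) .nil) (nat_lit 0x905a4fb989e) (nat_lit 7233)
  (nat_lit 0) (.node .nil (nat_lit 0x905a4fb9a1d) (nat_lit 0x752441) (nat_lit 0) .nil))) (nat_lit
  0x905a4fbb877) (nat_lit 0x849841) (nat_lit 0) (.node (.node (.node .nil (nat_lit 0x905a4fbb8dc) (nat_lit
  10440) (nat_lit 0) .nil) (nat_lit 0x905a4fbbc04) (nat_lit 337158) (nat_lit 0) (.node .nil (nat_lit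
  0x905a4fbbcd3) (nat_lit 268417) (nat_lit 0) .nil)) (nat_lit 0x905a4fbbf6e) (nat_lit 271553) (nat_lit 0)
  (.node (.node .nil (nat_lit 0x905a4fbbfd1) (nat_lit 10502) (nat_lit 0) .nil) (nat_lit 0x905a4fbc2f9)
  (nat_lit 337096) (nat_lit 0) (.node .nil (nat_lit 0x905a4fbc3cc) (nat_lit 204929) (nat_lit 0) .nil))))))
  (nat_lit 0x905a4fbe23d) (nat_lit 10404) (nat_lit 0) (.node (.node (.node (.node (.node (.node .nil (nat_lit
  0x905a4fbe29a) (nat_lit 9378) (nat_lit 0) .nil) (nat_lit 0x905a4fbe544) (nat_lit 300354) (nat_lit 0) (.node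
  .nil (nat_lit 0x905a4fbe5c6) (nat_lit 168033) (nat_lit 0) .nil)) (nat_lit 0x905a4fbe934) (nat_lit 332930)
  (nat_lit 0) (.node (.node .nil (nat_lit 0x905a4fbe98f) (nat_lit 293) (nat_lit 0) .nil) (nat_lit
  0x905a4fbec6f) (nat_lit 9386) (nat_lit 0) (.node .nil (nat_lit 0x905a4fbecbb) (nat_lit 9385) (nat_lit 0)
  .nil))) (nat_lit 0x905a4fc0b5a) (nat_lit 0xa4a0c7) (nat_lit 0) (.node (.node (.node .nil (nat_lit
  0x905a4fc0cde) (nat_lit 7368) (nat_lit 0) .nil) (nat_lit 0x905a4fc0f36) (nat_lit 235786) (nat_lit 0) (.node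
  .nil (nat_lit 0x905a4fc0fae) (nat_lit 238854) (nat_lit 0) .nil)) (nat_lit 0x905a4fc3d19) (nat_lit 171137)
  (nat_lit 0) (.node (.node .nil (nat_lit 0x905a4fc3e13) (nat_lit 333033) (nat_lit 0) .nil) (nat_lit
  0x905a4fc4119) (nat_lit 10407) (nat_lit 0) (.node .nil (nat_lit 0x905a4fc4133) (nat_lit 9445) (nat_lit 0)
  .nil)))) (nat_lit 0x905a4fc4412) (nat_lit 0x851927) (nat_lit 0) (.node (.node (.node (.node .nil (nat_lit
  0x905a4fc450e) (nat_lit 269507) (nat_lit 0) .nil) (nat_lit 0x905a4fc46ef) (nat_lit 302280) (nat_lit 0)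
  (.node .nil (nat_lit 0x905a4fc4827) (nat_lit 336071) (nat_lit 0) .nil)) (nat_lit 0x905a4fdec32) (nat_lit
  0xa39905) (nat_lit 0) (.node (.node .nil (nat_lit 0x905a4fdec7f) (nat_lit 0x8498a7) (nat_lit 0) .nil)
  (nat_lit 0x905a4fdefec) (nat_lit 0x148498e5) (nat_lit 0) (.node .nil (nat_lit 0x905a4fdf0b0) (nat_lit
  269509) (nat_lit 0) .nil))) (nat_lit 0x905a4fdf286) (nat_lit 0xa41cc5) (nat_lit 0) (.node (.node (.node .nil
  (nat_lit 0x905a4fdf373) (nat_lit 0x8498e5) (nat_lit 0) .nil) (nat_lit 0x905a4fdf6e1) (nat_lit 0xaa4a0e6)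
  (nat_lit 0) (.node .nil (nat_lit 0x905a4fdf79b) (nat_lit 235781) (nat_lit 0) .nil)) (nat_lit 0x905a4fe0817)
  (nat_lit 0xa418e5) (nat_lit 0) (.node (.node .nil (nat_lit 0x905a4fe085a) (nat_lit 0x849cc5) (nat_lit 0)
  .nil) (nat_lit 0x905a4fe0a2e) (nat_lit 0x106524e5) (nat_lit 0) (.node .nil (nat_lit 0x905a4fe0c82) (nat_lit
  205029) (nat_lit 0) .nil))))) (nat_lit 0x905a4fe0e8c) (nat_lit 0x8494e6) (nat_lit 0) (.node (.node (.node
  (.node (.node .nil (nat_lit 0x905a4fe0f0c) (nat_lit 0xa320e5) (nat_lit 0) .nil) (nat_lit 0x905a4fe12b6)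
  (nat_lit 0x14849cc5) (nat_lit 0) (.node .nil (nat_lit 0x905a4fe1379) (nat_lit 268517) (nat_lit 0) .nil))
  (nat_lit 0x905a4fe3144) (nat_lit 239714) (nat_lit 0) (.node (.node .nil (nat_lit 0x905a4fe31d9) (nat_lit
  9442) (nat_lit 0) .nil) (nat_lit 0x905a4fe34f1) (nat_lit 302402) (nat_lit 0) (.node .nil (nat_lit
  0x905a4fe3585) (nat_lit 7266) (nat_lit 0) .nil))) (nat_lit 0x905a4fe38d2) (nat_lit 295) (nat_lit 0) (.node
  (.node (.node .nil (nat_lit 0x905a4fe3912) (nat_lit 7491) (nat_lit 0) .nil) (nat_lit 0x905a4fe3ae9) (nat_lit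
  227) (nat_lit 0) (.node .nil (nat_lit 0x905a4fe3c16) (nat_lit 9450) (nat_lit 0) .nil)) (nat_lit
  0x905a4fe4d93) (nat_lit 302145) (nat_lit 0) (.node (.node .nil (nat_lit 0x905a4fe4df2) (nat_lit 171333)
  (nat_lit 0) .nil) (nat_lit 0x905a4fe50a6) (nat_lit 0x93a841) (nat_lit 0) (.node .nil (nat_lit 0x905a4fe515e)
  (nat_lit 232513) (nat_lit 0) .nil)))) (nat_lit 0x905a4fe549b) (nat_lit 9441) (nat_lit 0) (.node (.node
  (.node (.node .nil (nat_lit 0x905a4fe54eb) (nat_lit 239713) (nat_lit 0) .nil) (nat_lit 0x905a4fe57ec)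
  (nat_lit 302401) (nat_lit 0) (.node .nil (nat_lit 0x905a4fe5857) (nat_lit 7265) (nat_lit 0) .nil)) (nat_lit
  0x905a4fe7abb) (nat_lit 207015) (nat_lit 0) (.node (.node .nil (nat_lit 0x905a4fe7bd7) (nat_lit 206053)
  (nat_lit 0) .nil) (nat_lit 0x905a4fe7c81) (nat_lit 235684) (nat_lit 0) (.node .nil (nat_lit 0x905a4fe7cc2)
  (nat_lit 0x6514e9) (nat_lit 0) .nil))) (nat_lit 0x905a4fe8182) (nat_lit 239813) (nat_lit 0) (.node (.node
  (.node .nil (nat_lit 0x905a4fe82ce) (nat_lit 234790) (nat_lit 0) .nil) (nat_lit 0x905a4fe8378) (nat_lit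
  171204) (nat_lit 0) (.node .nil (nat_lit 0x905a4fe83b7) (nat_lit 0xa31d25) (nat_lit 0) .nil)) (nat_lit
  0x905a4fe93f5) (nat_lit 199) (nat_lit 0) (.node (.node .nil (nat_lit 0x905a4fe9701) (nat_lit 335049)
  (nat_lit 0) .nil) (nat_lit 0x905a4fe983c) (nat_lit 10470) (nat_lit 0) (.node .nil (nat_lit 0x905a4fe9909)
  (nat_lit 6377) (nat_lit 0) .nil)))))))
def tB_7 : T := (.node (.node (.node (.node (.node (.node (.node .nil (nat_lit 0x905a4fe9d97) (nat_lit 7361)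
  (nat_lit 0) .nil) (nat_lit 0x905a4fe9df4) (nat_lit 302406) (nat_lit 0) (.node .nil (nat_lit 0x905a4fe9fc3)
  (nat_lit 235809) (nat_lit 0) .nil)) (nat_lit 0x905a4fea216) (nat_lit 334057) (nat_lit 0) (.node (.node .nil
  (nat_lit 0x905a4fea4c7) (nat_lit 230) (nat_lit 0) .nil) (nat_lit 0x905a4fea61b) (nat_lit 10439) (nat_lit 0)
  (.node .nil (nat_lit 0x905a4fea6c0) (nat_lit 7369) (nat_lit 0) .nil))) (nat_lit 0x905a4feab8c) (nat_lit
  0xa39921) (nat_lit 0) (.node (.node (.node .nil (nat_lit 0x905a4feabbe) (nat_lit 6369) (nat_lit 0) .nil)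
  (nat_lit 0x905a4fead1d) (nat_lit 335041) (nat_lit 0) (.node .nil (nat_lit 0x905a4feadff) (nat_lit 204065)
  (nat_lit 0) .nil)) (nat_lit 0x905a4fecb71) (nat_lit 5348) (nat_lit 0) (.node (.node .nil (nat_lit
  0x905a4fecbf0) (nat_lit 239909) (nat_lit 0) .nil) (nat_lit 0x905a4fecf69) (nat_lit 333025) (nat_lit 0)
  (.node .nil (nat_lit 0x905a4fecf8b) (nat_lit 302241) (nat_lit 0) .nil)))) (nat_lit 0x905a4fee054) (nat_lit
  7332) (nat_lit 0) (.node (.node (.node (.node .nil (nat_lit 0x905a4fee0c7) (nat_lit 0xa39521) (nat_lit 0)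
  .nil) (nat_lit 0x905a4fee44e) (nat_lit 335009) (nat_lit 0) (.node .nil (nat_lit 0x905a4fee46e) (nat_lit
  300257) (nat_lit 0) .nil)) (nat_lit 0x905a4feef25) (nat_lit 0x72a8c1) (nat_lit 0) (.node (.node .nil
  (nat_lit 0x905a4feef73) (nat_lit 0x7324a1) (nat_lit 0) .nil) (nat_lit 0x905a4fef29c) (nat_lit 0xa324e5)
  (nat_lit 0) (.node .nil (nat_lit 0x905a4fef2b8) (nat_lit 0x539883) (nat_lit 0) .nil))) (nat_lit
  0x905a4fef5c3) (nat_lit 0x7518a1) (nat_lit 0) (.node (.node (.node .nil (nat_lit 0x905a4fef91d) (nat_lit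
  0x72a4c1) (nat_lit 0) .nil) (nat_lit 0x905a4fef991) (nat_lit 0x93a8c5) (nat_lit 0) (.node .nil (nat_lit
  0x905a4fef9cf) (nat_lit 203940) (nat_lit 0) .nil)) (nat_lit 0x905a4feff69) (nat_lit 235813) (nat_lit 0)
  (.node (.node .nil (nat_lit 0x905a4ff002f) (nat_lit 234822) (nat_lit 0) .nil) (nat_lit 0x905a4ff00a3)
  (nat_lit 0x639483) (nat_lit 0) (.node .nil (nat_lit 0x905a4ff00e8) (nat_lit 0x7524c5) (nat_lit 0) .nil)))))
  (nat_lit 0x905a4ff046b) (nat_lit 0x629c83) (nat_lit 0) (.node (.node (.node (.node (.node .nil (nat_lit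
  0x905a4ff0660) (nat_lit 0x63a4a1) (nat_lit 0) .nil) (nat_lit 0x905a4ff072c) (nat_lit 171334) (nat_lit 0)
  (.node .nil (nat_lit 0x905a4ff07df) (nat_lit 0x649d45) (nat_lit 0) .nil)) (nat_lit 0x905a4ff21e3) (nat_lit
  204069) (nat_lit 0) (.node (.node .nil (nat_lit 0x905a4ff2305) (nat_lit 0x53a8c1) (nat_lit 0) .nil) (nat_lit
  0x905a4ff2368) (nat_lit 0x731483) (nat_lit 0) (.node .nil (nat_lit 0x905a4ff23e0) (nat_lit 0xa39526)
  (nat_lit 0) .nil))) (nat_lit 0x905a4ff28c3) (nat_lit 0x6514e1) (nat_lit 0) (.node (.node (.node .nil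
  (nat_lit 0x905a4ff29d8) (nat_lit 0x649ca1) (nat_lit 0) .nil) (nat_lit 0x905a4ff2a8a) (nat_lit 201956)
  (nat_lit 0) (.node .nil (nat_lit 0x905a4ff2ad4) (nat_lit 0xa39925) (nat_lit 0) .nil)) (nat_lit
  0x905a4ff2bf2) (nat_lit 300327) (nat_lit 0) (.node (.node .nil (nat_lit 0x905a4ff2d5f) (nat_lit 0xa2a4e2)
  (nat_lit 0) .nil) (nat_lit 0x905a4ff3069) (nat_lit 335011) (nat_lit 0) (.node .nil (nat_lit 0x905a4ff30de)
  (nat_lit 238754) (nat_lit 0) .nil)))) (nat_lit 0x905a4ff6776) (nat_lit 7363) (nat_lit 0) (.node (.node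
  (.node (.node .nil (nat_lit 0x905a4ff678d) (nat_lit 334119) (nat_lit 0) .nil) (nat_lit 0x905a4ff6929)
  (nat_lit 334051) (nat_lit 0) (.node .nil (nat_lit 0x905a4ff69ae) (nat_lit 235811) (nat_lit 0) .nil))
  (nat_lit 0x905a4ff6bbe) (nat_lit 203873) (nat_lit 0) (.node (.node .nil (nat_lit 0x905a4ff6c68) (nat_lit
  0x649d41) (nat_lit 0) .nil) (nat_lit 0x905a4ff7020) (nat_lit 0xa39861) (nat_lit 0) (.node .nil (nat_lit
  0x905a4ff70b8) (nat_lit 206049) (nat_lit 0) .nil))) (nat_lit 0x905a4ff752c) (nat_lit 206058) (nat_lit 0)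
  (.node (.node (.node .nil (nat_lit 0x905a4ff75ab) (nat_lit 6371) (nat_lit 0) .nil) (nat_lit 0x905a4ff7717)
  (nat_lit 335043) (nat_lit 0) (.node .nil (nat_lit 0x905a4ff77ac) (nat_lit 6439) (nat_lit 0) .nil)) (nat_lit
  0x905a4ff7c72) (nat_lit 239910) (nat_lit 0) (.node (.node .nil (nat_lit 0x905a4ff7ca2) (nat_lit 235617)
  (nat_lit 0) .nil) (nat_lit 0x905a4ff7e0e) (nat_lit 0xa31c61) (nat_lit 0) (.node .nil (nat_lit 0x905a4ff7e99)
  (nat_lit 206050) (nat_lit 0) .nil)))))) (nat_lit 0x905a4ffa309) (nat_lit 337025) (nat_lit 0) (.node (.node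
  (.node (.node (.node (.node .nil (nat_lit 0x905a4ffa3b1) (nat_lit 129) (nat_lit 129) .nil) (nat_lit
  0x905a4ffa4f8) (nat_lit 10369) (nat_lit 0) (.node .nil (nat_lit 0x905a4ffa675) (nat_lit 9345) (nat_lit 0)
  .nil)) (nat_lit 0x905a4ffa9fd) (nat_lit 0xa49041) (nat_lit 0) (.node (.node .nil (nat_lit 0x905a4ffaa33)
  (nat_lit 4161) (nat_lit 4161) .nil) (nat_lit 0x905a4ffab20) (nat_lit 331841) (nat_lit 0) (.node .nil
  (nat_lit 0x905a4ffad6c) (nat_lit 299073) (nat_lit 0) .nil))) (nat_lit 0x905a4ffd3c5) (nat_lit 172227)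
  (nat_lit 0) (.node (.node (.node .nil (nat_lit 0x905a4ffd46c) (nat_lit 0x851925) (nat_lit 0) .nil) (nat_lit
  0x905a4ffd5b5) (nat_lit 271557) (nat_lit 0) (.node .nil (nat_lit 0x905a4ffd72e) (nat_lit 268613) (nat_lit 0)
  .nil)) (nat_lit 0x905a4ffdab8) (nat_lit 201987) (nat_lit 0) (.node (.node .nil (nat_lit 0x905a4ffdaee)
  (nat_lit 0x9428c5) (nat_lit 0) .nil) (nat_lit 0x905a4ffde0d) (nat_lit 0x8498a2) (nat_lit 0) (.node .nil
  (nat_lit 0x905a4ffde27) (nat_lit 205125) (nat_lit 0) .nil)))) (nat_lit 0x905a5001298) (nat_lit 234625)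
  (nat_lit 0) (.node (.node (.node (.node .nil (nat_lit 0x905a5001392) (nat_lit 335017) (nat_lit 0) .nil)
  (nat_lit 0x905a5001690) (nat_lit 10469) (nat_lit 0) (.node .nil (nat_lit 0x905a50016b2) (nat_lit 9383)
  (nat_lit 0) .nil)) (nat_lit 0x905a500198f) (nat_lit 0x9428c7) (nat_lit 0) (.node (.node .nil (nat_lit
  0x905a5001a8b) (nat_lit 235779) (nat_lit 0) .nil) (nat_lit 0x905a5001c0e) (nat_lit 303334) (nat_lit 0)
  (.node .nil (nat_lit 0x905a5001da4) (nat_lit 334087) (nat_lit 0) .nil))) (nat_lit 0x905a500277b) (nat_lit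
  6405) (nat_lit 0) (.node (.node (.node .nil (nat_lit 0x905a5002878) (nat_lit 0xa49506) (nat_lit 0) .nil)
  (nat_lit 0x905a5002a76) (nat_lit 207016) (nat_lit 0) (.node .nil (nat_lit 0x905a5002aa0) (nat_lit 204969)
  (nat_lit 0) .nil)) (nat_lit 0x905a5002e72) (nat_lit 8389) (nat_lit 0) (.node (.node .nil (nat_lit
  0x905a5002f6d) (nat_lit 0x849945) (nat_lit 0) .nil) (nat_lit 0x905a5003012) (nat_lit 268457) (nat_lit 0)
  (.node .nil (nat_lit 0x905a500311f) (nat_lit 268458) (nat_lit 0) .nil))))) (nat_lit 0x905a500513d) (nat_lit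
  337027) (nat_lit 0) (.node (.node (.node (.node (.node .nil (nat_lit 0x905a5005238) (nat_lit 131) (nat_lit
  131) .nil) (nat_lit 0x905a50052e1) (nat_lit 10371) (nat_lit 0) (.node .nil (nat_lit 0x905a500552b) (nat_lit
  9347) (nat_lit 0) .nil)) (nat_lit 0x905a5005834) (nat_lit 0xa2a4a1) (nat_lit 0) (.node (.node .nil (nat_lit
  0x905a500592d) (nat_lit 4194) (nat_lit 4194) .nil) (nat_lit 0x905a5005b63) (nat_lit 207041) (nat_lit 0)
  (.node .nil (nat_lit 0x905a5005c22) (nat_lit 173217) (nat_lit 0) .nil))) (nat_lit 0x905a50065f2) (nat_lit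
  0xa49907) (nat_lit 0) (.node (.node (.node .nil (nat_lit 0x905a5006629) (nat_lit 8422) (nat_lit 0) .nil)
  (nat_lit 0x905a50068c7) (nat_lit 272583) (nat_lit 0) (.node .nil (nat_lit 0x905a500696d) (nat_lit 238792)
  (nat_lit 0) .nil)) (nat_lit 0x905a5007ad2) (nat_lit 0xa49cc8) (nat_lit 0) (.node (.node .nil (nat_lit
  0x905a5007b7c) (nat_lit 8391) (nat_lit 0) .nil) (nat_lit 0x905a5007ba9) (nat_lit 268521) (nat_lit 0) (.node
  .nil (nat_lit 0x905a5007dd6) (nat_lit 272614) (nat_lit 0) .nil)))) (nat_lit 0x905a50081cb) (nat_lit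
  0xa4a0e6) (nat_lit 0) (.node (.node (.node (.node .nil (nat_lit 0x905a50081fe) (nat_lit 6407) (nat_lit 0)
  .nil) (nat_lit 0x905a50083e3) (nat_lit 205033) (nat_lit 0) (.node .nil (nat_lit 0x905a500847c) (nat_lit
  205034) (nat_lit 0) .nil)) (nat_lit 0x905a50088bf) (nat_lit 171139) (nat_lit 0) (.node (.node .nil (nat_lit
  0x905a50088f3) (nat_lit 302405) (nat_lit 0) .nil) (nat_lit 0x905a5008c5a) (nat_lit 5447) (nat_lit 0) (.node
  .nil (nat_lit 0x905a5008ce5) (nat_lit 238753) (nat_lit 0) .nil))) (nat_lit 0x905a5008fb3) (nat_lit 234627)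
  (nat_lit 0) (.node (.node (.node .nil (nat_lit 0x905a500905d) (nat_lit 0x93a8a2) (nat_lit 0) .nil) (nat_lit
  0x905a500908f) (nat_lit 174306) (nat_lit 0) (.node .nil (nat_lit 0x905a50093e6) (nat_lit 0x749441) (nat_lit
  0) .nil)) (nat_lit 0x905a500a49a) (nat_lit 238761) (nat_lit 0) (.node (.node .nil (nat_lit 0x905a500a4d0)
  (nat_lit 333095) (nat_lit 0) .nil) (nat_lit 0x905a500a84e) (nat_lit 174305) (nat_lit 0) (.node .nil (nat_lit
  0x905a500a8c3) (nat_lit 7461) (nat_lit 0) .nil)))))))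
def tB : T := (.node (.node (.node tB_0 (nat_lit 0x905a4dbe1cc) (nat_lit 8517) (nat_lit 0) tB_1) (nat_lit
  0x905a4e2e5ee) (nat_lit 6307) (nat_lit 0) (.node tB_2 (nat_lit 0x905a4eb2884) (nat_lit 0x849861) (nat_lit 0)
  tB_3)) (nat_lit 0x905a4f34802) (nat_lit 337154) (nat_lit 0) (.node (.node tB_4 (nat_lit 0x905a4f7190b)
  (nat_lit 0xa2a506) (nat_lit 0) tB_5) (nat_lit 0x905a4fae8ee) (nat_lit 235649) (nat_lit 0) (.node tB_6
  (nat_lit 0x905a4fe9b7f) (nat_lit 334049) (nat_lit 0) tB_7)))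
def kA0t : T := (.node (.node (.node (.node (.node (.node .nil (nat_lit 0) (nat_lit 129) (nat_lit 718) .nil)
  (nat_lit 1) (nat_lit 97) (nat_lit 938) (.node .nil (nat_lit 18) (nat_lit 128) (nat_lit 651) .nil)) (nat_lit
  19) (nat_lit 146) (nat_lit 719) (.node (.node .nil (nat_lit 34) (nat_lit 97) (nat_lit 939) .nil) (nat_lit
  53) (nat_lit 81) (nat_lit 502) .nil)) (nat_lit 54) (nat_lit 130) (nat_lit 943) (.node (.node (.node .nil
  (nat_lit 55) (nat_lit 112) (nat_lit 527) .nil) (nat_lit 90) (nat_lit 97) (nat_lit 92) (.node .nil (nat_lit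
  91) (nat_lit 113) (nat_lit 1779) .nil)) (nat_lit 92) (nat_lit 80) (nat_lit 1701) (.node (.node .nil (nat_lit
  253) (nat_lit 113) (nat_lit 1780) .nil) (nat_lit 256) (nat_lit 33) (nat_lit 509) .nil))) (nat_lit 411)
  (nat_lit 96) (nat_lit 53) (.node (.node (.node (.node .nil (nat_lit 412) (nat_lit 112) (nat_lit 34) .nil)
  (nat_lit 413) (nat_lit 129) (nat_lit 416) (.node .nil (nat_lit 414) (nat_lit 81) (nat_lit 415) .nil))
  (nat_lit 415) (nat_lit 64) (nat_lit 528) (.node (.node .nil (nat_lit 416) (nat_lit 112) (nat_lit 652) .nil)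
  (nat_lit 467) (nat_lit 146) (nat_lit 18) .nil)) (nat_lit 468) (nat_lit 129) (nat_lit 942) (.node (.node
  (.node .nil (nat_lit 469) (nat_lit 130) (nat_lit 412) .nil) (nat_lit 502) (nat_lit 66) (nat_lit 1700) (.node
  .nil (nat_lit 509) (nat_lit 16) (nat_lit 1752) .nil)) (nat_lit 527) (nat_lit 97) (nat_lit 1770) (.node
  (.node .nil (nat_lit 528) (nat_lit 50) (nat_lit 256) .nil) (nat_lit 529) (nat_lit 65) (nat_lit 528) .nil))))
  (nat_lit 651) (nat_lit 113) (nat_lit 1769) (.node (.node (.node (.node (.node .nil (nat_lit 652) (nat_lit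
  98) (nat_lit 92) .nil) (nat_lit 655) (nat_lit 113) (nat_lit 652) (.node .nil (nat_lit 718) (nat_lit 112)
  (nat_lit 1779) .nil)) (nat_lit 719) (nat_lit 128) (nat_lit 1772) (.node (.node .nil (nat_lit 938) (nat_lit
  82) (nat_lit 415) .nil) (nat_lit 939) (nat_lit 82) (nat_lit 1701) .nil)) (nat_lit 940) (nat_lit 114)
  (nat_lit 1) (.node (.node (.node .nil (nat_lit 941) (nat_lit 130) (nat_lit 55) .nil) (nat_lit 942) (nat_lit
  114) (nat_lit 411) (.node .nil (nat_lit 943) (nat_lit 112) (nat_lit 1766) .nil)) (nat_lit 1700) (nat_lit 48)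
  (nat_lit 256) (.node (.node .nil (nat_lit 1701) (nat_lit 65) (nat_lit 1700) .nil) (nat_lit 1752) (nat_lit 0)
  (nat_lit 1752) .nil))) (nat_lit 1765) (nat_lit 98) (nat_lit 53) (.node (.node (.node (.node .nil (nat_lit
  1766) (nat_lit 98) (nat_lit 414) .nil) (nat_lit 1767) (nat_lit 128) (nat_lit 940) (.node .nil (nat_lit 1768)
  (nat_lit 144) (nat_lit 468) .nil)) (nat_lit 1769) (nat_lit 96) (nat_lit 939) (.node (.node .nil (nat_lit
  1770) (nat_lit 80) (nat_lit 502) .nil) (nat_lit 1771) (nat_lit 114) (nat_lit 34) .nil)) (nat_lit 1772)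
  (nat_lit 113) (nat_lit 411) (.node (.node (.node .nil (nat_lit 1777) (nat_lit 144) (nat_lit 941) .nil)
  (nat_lit 1778) (nat_lit 160) (nat_lit 467) .nil) (nat_lit 1779) (nat_lit 98) (nat_lit 1770) (.node (.node
  .nil (nat_lit 1780) (nat_lit 96) (nat_lit 938) .nil) (nat_lit 1781) (nat_lit 112) (nat_lit 90) .nil)))))
def kA0 : Lvl := ⟨nat_lit 1752, [nat_lit 17, nat_lit 15, nat_lit 5], [], kA0t⟩
def kA1t_0 : T := (.node (.node (.node (.node (.node (.node (.node (.node .nil (nat_lit 112) (nat_lit 99)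
  (nat_lit 1136) .nil) (nat_lit 113) (nat_lit 68) (nat_lit 1639) .nil) (nat_lit 114) (nat_lit 71) (nat_lit
  622) (.node .nil (nat_lit 117) (nat_lit 53) (nat_lit 536) .nil)) (nat_lit 118) (nat_lit 34) (nat_lit 1468)
  (.node (.node .nil (nat_lit 119) (nat_lit 35) (nat_lit 627) .nil) (nat_lit 120) (nat_lit 87) (nat_lit 287)
  (.node .nil (nat_lit 121) (nat_lit 102) (nat_lit 1620) .nil))) (nat_lit 122) (nat_lit 87) (nat_lit 1760)
  (.node (.node (.node .nil (nat_lit 132) (nat_lit 69) (nat_lit 1437) .nil) (nat_lit 137) (nat_lit 86)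
  (nat_lit 356) (.node .nil (nat_lit 138) (nat_lit 71) (nat_lit 312) .nil)) (nat_lit 153) (nat_lit 49)
  (nat_lit 324) (.node (.node .nil (nat_lit 154) (nat_lit 86) (nat_lit 1604) .nil) (nat_lit 155) (nat_lit 86)
  (nat_lit 1603) (.node .nil (nat_lit 159) (nat_lit 65) (nat_lit 298) .nil)))) (nat_lit 160) (nat_lit 71)
  (nat_lit 278) (.node (.node (.node (.node .nil (nat_lit 162) (nat_lit 86) (nat_lit 355) .nil) (nat_lit 254)
  (nat_lit 87) (nat_lit 356) (.node .nil (nat_lit 255) (nat_lit 53) (nat_lit 535) .nil)) (nat_lit 257)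
  (nat_lit 71) (nat_lit 334) (.node (.node .nil (nat_lit 258) (nat_lit 66) (nat_lit 716) .nil) (nat_lit 267)
  (nat_lit 51) (nat_lit 1457) (.node .nil (nat_lit 268) (nat_lit 87) (nat_lit 321) .nil))) (nat_lit 269)
  (nat_lit 87) (nat_lit 273) (.node (.node (.node .nil (nat_lit 270) (nat_lit 85) (nat_lit 1483) .nil)
  (nat_lit 271) (nat_lit 69) (nat_lit 1271) (.node .nil (nat_lit 272) (nat_lit 71) (nat_lit 406) .nil))
  (nat_lit 273) (nat_lit 70) (nat_lit 293) (.node (.node .nil (nat_lit 274) (nat_lit 65) (nat_lit 614) .nil)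
  (nat_lit 275) (nat_lit 65) (nat_lit 409) (.node .nil (nat_lit 276) (nat_lit 97) (nat_lit 410) .nil)))))
  (nat_lit 277) (nat_lit 19) (nat_lit 1141) (.node (.node (.node (.node (.node .nil (nat_lit 278) (nat_lit 50)
  (nat_lit 550) .nil) (nat_lit 279) (nat_lit 103) (nat_lit 404) (.node .nil (nat_lit 280) (nat_lit 66)
  (nat_lit 1192) .nil)) (nat_lit 281) (nat_lit 35) (nat_lit 1356) (.node (.node .nil (nat_lit 282) (nat_lit
  69) (nat_lit 1066) .nil) (nat_lit 283) (nat_lit 70) (nat_lit 314) (.node .nil (nat_lit 284) (nat_lit 69)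
  (nat_lit 635) .nil))) (nat_lit 285) (nat_lit 69) (nat_lit 869) (.node (.node (.node .nil (nat_lit 286)
  (nat_lit 66) (nat_lit 1263) .nil) (nat_lit 287) (nat_lit 67) (nat_lit 1717) (.node .nil (nat_lit 288)
  (nat_lit 101) (nat_lit 1137) .nil)) (nat_lit 289) (nat_lit 69) (nat_lit 453) (.node (.node .nil (nat_lit
  290) (nat_lit 67) (nat_lit 1726) .nil) (nat_lit 291) (nat_lit 52) (nat_lit 1607) (.node .nil (nat_lit 292)
  (nat_lit 55) (nat_lit 653) .nil)))) (nat_lit 293) (nat_lit 53) (nat_lit 1484) (.node (.node (.node (.node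
  .nil (nat_lit 294) (nat_lit 83) (nat_lit 1353) .nil) (nat_lit 295) (nat_lit 86) (nat_lit 365) (.node .nil
  (nat_lit 296) (nat_lit 51) (nat_lit 1343) .nil)) (nat_lit 297) (nat_lit 48) (nat_lit 324) (.node (.node .nil
  (nat_lit 298) (nat_lit 54) (nat_lit 281) .nil) (nat_lit 299) (nat_lit 51) (nat_lit 1339) (.node .nil
  (nat_lit 300) (nat_lit 86) (nat_lit 369) .nil))) (nat_lit 301) (nat_lit 84) (nat_lit 1504) (.node (.node
  (.node .nil (nat_lit 302) (nat_lit 86) (nat_lit 366) .nil) (nat_lit 303) (nat_lit 85) (nat_lit 452) (.node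
  .nil (nat_lit 304) (nat_lit 53) (nat_lit 1138) .nil)) (nat_lit 305) (nat_lit 51) (nat_lit 1702) (.node
  (.node .nil (nat_lit 306) (nat_lit 51) (nat_lit 1775) .nil) (nat_lit 307) (nat_lit 55) (nat_lit 119) (.node
  .nil (nat_lit 308) (nat_lit 49) (nat_lit 518) .nil)))))) (nat_lit 309) (nat_lit 81) (nat_lit 519) (.node
  (.node (.node (.node (.node (.node .nil (nat_lit 310) (nat_lit 55) (nat_lit 617) .nil) (nat_lit 311)
  (nat_lit 50) (nat_lit 1609) (.node .nil (nat_lit 312) (nat_lit 52) (nat_lit 1491) .nil)) (nat_lit 313)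
  (nat_lit 85) (nat_lit 1255) (.node (.node .nil (nat_lit 314) (nat_lit 53) (nat_lit 1252) .nil) (nat_lit 315)
  (nat_lit 84) (nat_lit 1239) (.node .nil (nat_lit 316) (nat_lit 82) (nat_lit 1313) .nil))) (nat_lit 317)
  (nat_lit 51) (nat_lit 505) (.node (.node (.node .nil (nat_lit 318) (nat_lit 51) (nat_lit 1147) .nil)
  (nat_lit 319) (nat_lit 70) (nat_lit 312) (.node .nil (nat_lit 320) (nat_lit 70) (nat_lit 311) .nil))
  (nat_lit 321) (nat_lit 68) (nat_lit 1482) (.node (.node .nil (nat_lit 322) (nat_lit 70) (nat_lit 318) .nil)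
  (nat_lit 323) (nat_lit 35) (nat_lit 1371) (.node .nil (nat_lit 324) (nat_lit 38) (nat_lit 277) .nil))))
  (nat_lit 325) (nat_lit 64) (nat_lit 298) (.node (.node (.node (.node .nil (nat_lit 326) (nat_lit 67)
  (nat_lit 1374) .nil) (nat_lit 327) (nat_lit 67) (nat_lit 1666) (.node .nil (nat_lit 328) (nat_lit 102)
  (nat_lit 1627) .nil)) (nat_lit 329) (nat_lit 67) (nat_lit 631) (.node (.node .nil (nat_lit 330) (nat_lit 68)
  (nat_lit 735) .nil) (nat_lit 331) (nat_lit 50) (nat_lit 1318) (.node .nil (nat_lit 332) (nat_lit 86)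
  (nat_lit 1621) .nil))) (nat_lit 333) (nat_lit 51) (nat_lit 1518) (.node (.node (.node .nil (nat_lit 334)
  (nat_lit 51) (nat_lit 1671) .nil) (nat_lit 335) (nat_lit 85) (nat_lit 456) (.node .nil (nat_lit 336)
  (nat_lit 84) (nat_lit 1154) .nil)) (nat_lit 337) (nat_lit 87) (nat_lit 319) (.node (.node .nil (nat_lit 338)
  (nat_lit 87) (nat_lit 285) .nil) (nat_lit 339) (nat_lit 84) (nat_lit 639) (.node .nil (nat_lit 340) (nat_lit
  83) (nat_lit 630) .nil))))) (nat_lit 341) (nat_lit 84) (nat_lit 1123) (.node (.node (.node (.node (.node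
  .nil (nat_lit 342) (nat_lit 54) (nat_lit 119) .nil) (nat_lit 343) (nat_lit 70) (nat_lit 334) (.node .nil
  (nat_lit 344) (nat_lit 69) (nat_lit 1272) .nil)) (nat_lit 345) (nat_lit 71) (nat_lit 1714) (.node (.node
  .nil (nat_lit 346) (nat_lit 100) (nat_lit 1113) .nil) (nat_lit 347) (nat_lit 71) (nat_lit 306) (.node .nil
  (nat_lit 348) (nat_lit 67) (nat_lit 1675) .nil))) (nat_lit 349) (nat_lit 102) (nat_lit 1622) (.node (.node
  (.node .nil (nat_lit 350) (nat_lit 37) (nat_lit 1069) .nil) (nat_lit 351) (nat_lit 71) (nat_lit 293) (.node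
  .nil (nat_lit 352) (nat_lit 67) (nat_lit 1575) .nil)) (nat_lit 353) (nat_lit 69) (nat_lit 1301) (.node
  (.node .nil (nat_lit 354) (nat_lit 67) (nat_lit 1577) .nil) (nat_lit 355) (nat_lit 68) (nat_lit 1450) (.node
  .nil (nat_lit 356) (nat_lit 69) (nat_lit 1305) .nil)))) (nat_lit 357) (nat_lit 85) (nat_lit 1176) (.node
  (.node (.node (.node .nil (nat_lit 358) (nat_lit 81) (nat_lit 613) .nil) (nat_lit 359) (nat_lit 98) (nat_lit
  1430) (.node .nil (nat_lit 360) (nat_lit 100) (nat_lit 641) .nil)) (nat_lit 361) (nat_lit 86) (nat_lit 364)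
  (.node (.node .nil (nat_lit 362) (nat_lit 85) (nat_lit 1089) .nil) (nat_lit 363) (nat_lit 101) (nat_lit
  1143) (.node .nil (nat_lit 364) (nat_lit 69) (nat_lit 465) .nil))) (nat_lit 365) (nat_lit 66) (nat_lit 1637)
  (.node (.node (.node .nil (nat_lit 366) (nat_lit 68) (nat_lit 589) .nil) (nat_lit 367) (nat_lit 85) (nat_lit
  1387) (.node .nil (nat_lit 368) (nat_lit 82) (nat_lit 1225) .nil)) (nat_lit 369) (nat_lit 67) (nat_lit 1378)
  (.node (.node .nil (nat_lit 370) (nat_lit 67) (nat_lit 1377) .nil) (nat_lit 371) (nat_lit 86) (nat_lit 271)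
  (.node .nil (nat_lit 372) (nat_lit 82) (nat_lit 1221) .nil)))))))
def kA1t_1 : T := (.node (.node (.node (.node (.node (.node (.node .nil (nat_lit 390) (nat_lit 101) (nat_lit
  1071) .nil) (nat_lit 391) (nat_lit 102) (nat_lit 401) (.node .nil (nat_lit 392) (nat_lit 103) (nat_lit 301)
  .nil)) (nat_lit 393) (nat_lit 103) (nat_lit 367) (.node (.node .nil (nat_lit 394) (nat_lit 102) (nat_lit
  404) .nil) (nat_lit 395) (nat_lit 100) (nat_lit 1063) (.node .nil (nat_lit 396) (nat_lit 103) (nat_lit 302)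
  .nil))) (nat_lit 397) (nat_lit 83) (nat_lit 1537) (.node (.node (.node .nil (nat_lit 398) (nat_lit 87)
  (nat_lit 366) .nil) (nat_lit 399) (nat_lit 87) (nat_lit 271) (.node .nil (nat_lit 400) (nat_lit 85) (nat_lit
  1428) .nil)) (nat_lit 401) (nat_lit 84) (nat_lit 1415) (.node (.node .nil (nat_lit 402) (nat_lit 83)
  (nat_lit 1550) .nil) (nat_lit 403) (nat_lit 87) (nat_lit 280) (.node .nil (nat_lit 404) (nat_lit 85)
  (nat_lit 568) .nil)))) (nat_lit 405) (nat_lit 85) (nat_lit 1127) (.node (.node (.node (.node .nil (nat_lit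
  406) (nat_lit 51) (nat_lit 1433) .nil) (nat_lit 407) (nat_lit 86) (nat_lit 649) (.node .nil (nat_lit 408)
  (nat_lit 85) (nat_lit 1251) .nil)) (nat_lit 409) (nat_lit 55) (nat_lit 281) (.node (.node .nil (nat_lit 410)
  (nat_lit 87) (nat_lit 364) .nil) (nat_lit 437) (nat_lit 86) (nat_lit 1427) (.node .nil (nat_lit 438)
  (nat_lit 86) (nat_lit 1197) .nil))) (nat_lit 439) (nat_lit 86) (nat_lit 1428) (.node (.node (.node .nil
  (nat_lit 440) (nat_lit 102) (nat_lit 1223) .nil) (nat_lit 441) (nat_lit 70) (nat_lit 1114) (.node .nil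
  (nat_lit 442) (nat_lit 66) (nat_lit 1630) .nil)) (nat_lit 449) (nat_lit 53) (nat_lit 118) (.node (.node .nil
  (nat_lit 450) (nat_lit 83) (nat_lit 1459) .nil) (nat_lit 451) (nat_lit 55) (nat_lit 1635) (.node .nil
  (nat_lit 452) (nat_lit 65) (nat_lit 1439) .nil))))) (nat_lit 453) (nat_lit 55) (nat_lit 1594) (.node (.node
  (.node (.node (.node .nil (nat_lit 454) (nat_lit 55) (nat_lit 535) .nil) (nat_lit 455) (nat_lit 71) (nat_lit
  1114) (.node .nil (nat_lit 456) (nat_lit 71) (nat_lit 869) .nil)) (nat_lit 465) (nat_lit 52) (nat_lit 1671)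
  (.node (.node .nil (nat_lit 473) (nat_lit 87) (nat_lit 475) .nil) (nat_lit 474) (nat_lit 102) (nat_lit 1206)
  (.node .nil (nat_lit 475) (nat_lit 70) (nat_lit 1448) .nil))) (nat_lit 482) (nat_lit 71) (nat_lit 637)
  (.node (.node (.node .nil (nat_lit 483) (nat_lit 83) (nat_lit 271) .nil) (nat_lit 484) (nat_lit 87) (nat_lit
  630) (.node .nil (nat_lit 505) (nat_lit 34) (nat_lit 737) .nil)) (nat_lit 507) (nat_lit 53) (nat_lit 1689)
  (.node (.node .nil (nat_lit 508) (nat_lit 87) (nat_lit 1587) .nil) (nat_lit 510) (nat_lit 86) (nat_lit 287)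
  (.node .nil (nat_lit 511) (nat_lit 83) (nat_lit 1725) .nil)))) (nat_lit 512) (nat_lit 70) (nat_lit 306)
  (.node (.node (.node (.node .nil (nat_lit 513) (nat_lit 67) (nat_lit 1732) .nil) (nat_lit 514) (nat_lit 71)
  (nat_lit 333) (.node .nil (nat_lit 515) (nat_lit 71) (nat_lit 342) .nil)) (nat_lit 516) (nat_lit 87)
  (nat_lit 348) (.node (.node .nil (nat_lit 517) (nat_lit 87) (nat_lit 343) .nil) (nat_lit 518) (nat_lit 39)
  (nat_lit 277) (.node .nil (nat_lit 519) (nat_lit 71) (nat_lit 314) .nil))) (nat_lit 520) (nat_lit 71)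
  (nat_lit 299) (.node (.node (.node .nil (nat_lit 521) (nat_lit 85) (nat_lit 545) .nil) (nat_lit 522)
  (nat_lit 48) (nat_lit 518) (.node .nil (nat_lit 523) (nat_lit 87) (nat_lit 132) .nil)) (nat_lit 524)
  (nat_lit 87) (nat_lit 283) (.node (.node .nil (nat_lit 525) (nat_lit 81) (nat_lit 114) .nil) (nat_lit 526)
  (nat_lit 51) (nat_lit 1659) (.node .nil (nat_lit 530) (nat_lit 65) (nat_lit 310) .nil)))))) (nat_lit 531)
  (nat_lit 67) (nat_lit 1645) (.node (.node (.node (.node (.node (.node .nil (nat_lit 532) (nat_lit 71)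
  (nat_lit 298) .nil) (nat_lit 533) (nat_lit 71) (nat_lit 537) (.node .nil (nat_lit 534) (nat_lit 103)
  (nat_lit 1466) .nil)) (nat_lit 535) (nat_lit 35) (nat_lit 1468) (.node (.node .nil (nat_lit 536) (nat_lit
  34) (nat_lit 1356) .nil) (nat_lit 537) (nat_lit 54) (nat_lit 1121) (.node .nil (nat_lit 538) (nat_lit 118)
  (nat_lit 1267) .nil))) (nat_lit 542) (nat_lit 55) (nat_lit 1659) (.node (.node (.node .nil (nat_lit 543)
  (nat_lit 67) (nat_lit 278) .nil) (nat_lit 544) (nat_lit 100) (nat_lit 1071) (.node .nil (nat_lit 545)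
  (nat_lit 71) (nat_lit 465) .nil)) (nat_lit 546) (nat_lit 101) (nat_lit 302) (.node (.node .nil (nat_lit 547)
  (nat_lit 69) (nat_lit 342) .nil) (nat_lit 548) (nat_lit 98) (nat_lit 1136) (.node .nil (nat_lit 549)
  (nat_lit 84) (nat_lit 1621) .nil)))) (nat_lit 550) (nat_lit 37) (nat_lit 627) (.node (.node (.node (.node
  .nil (nat_lit 551) (nat_lit 102) (nat_lit 1079) .nil) (nat_lit 552) (nat_lit 71) (nat_lit 1272) (.node .nil
  (nat_lit 553) (nat_lit 87) (nat_lit 1633) .nil)) (nat_lit 554) (nat_lit 70) (nat_lit 1473) (.node (.node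
  .nil (nat_lit 555) (nat_lit 119) (nat_lit 1477) .nil) (nat_lit 556) (nat_lit 70) (nat_lit 304) (.node .nil
  (nat_lit 557) (nat_lit 71) (nat_lit 611) .nil))) (nat_lit 558) (nat_lit 86) (nat_lit 289) (.node (.node
  (.node .nil (nat_lit 559) (nat_lit 87) (nat_lit 612) .nil) (nat_lit 560) (nat_lit 69) (nat_lit 1036) (.node
  .nil (nat_lit 561) (nat_lit 71) (nat_lit 614) .nil)) (nat_lit 562) (nat_lit 85) (nat_lit 1281) (.node (.node
  .nil (nat_lit 563) (nat_lit 87) (nat_lit 613) .nil) (nat_lit 564) (nat_lit 101) (nat_lit 1710) (.node .nil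
  (nat_lit 565) (nat_lit 86) (nat_lit 1323) .nil))))) (nat_lit 566) (nat_lit 65) (nat_lit 1612) (.node (.node
  (.node (.node (.node .nil (nat_lit 567) (nat_lit 49) (nat_lit 825) .nil) (nat_lit 568) (nat_lit 71) (nat_lit
  1271) (.node .nil (nat_lit 569) (nat_lit 102) (nat_lit 1341) .nil)) (nat_lit 570) (nat_lit 36) (nat_lit
  1371) (.node (.node .nil (nat_lit 571) (nat_lit 67) (nat_lit 1431) .nil) (nat_lit 575) (nat_lit 85) (nat_lit
  319) (.node .nil (nat_lit 576) (nat_lit 85) (nat_lit 343) .nil))) (nat_lit 577) (nat_lit 54) (nat_lit 1594)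
  (.node (.node (.node .nil (nat_lit 584) (nat_lit 68) (nat_lit 1106) .nil) (nat_lit 585) (nat_lit 87)
  (nat_lit 1381) (.node .nil (nat_lit 586) (nat_lit 117) (nat_lit 1094) .nil)) (nat_lit 587) (nat_lit 51)
  (nat_lit 1121) (.node (.node .nil (nat_lit 588) (nat_lit 71) (nat_lit 1164) .nil) (nat_lit 589) (nat_lit 51)
  (nat_lit 536) (.node .nil (nat_lit 590) (nat_lit 71) (nat_lit 1454) .nil)))) (nat_lit 591) (nat_lit 66)
  (nat_lit 314) (.node (.node (.node (.node .nil (nat_lit 603) (nat_lit 64) (nat_lit 1578) .nil) (nat_lit 604)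
  (nat_lit 83) (nat_lit 1061) (.node .nil (nat_lit 606) (nat_lit 81) (nat_lit 1225) .nil)) (nat_lit 607)
  (nat_lit 101) (nat_lit 1493) (.node (.node .nil (nat_lit 608) (nat_lit 85) (nat_lit 1275) .nil) (nat_lit
  609) (nat_lit 97) (nat_lit 361) (.node .nil (nat_lit 610) (nat_lit 81) (nat_lit 283) .nil))) (nat_lit 611)
  (nat_lit 53) (nat_lit 1363) (.node (.node (.node .nil (nat_lit 612) (nat_lit 69) (nat_lit 577) .nil)
  (nat_lit 613) (nat_lit 70) (nat_lit 622) (.node .nil (nat_lit 614) (nat_lit 54) (nat_lit 617) .nil))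
  (nat_lit 615) (nat_lit 82) (nat_lit 1061) (.node (.node .nil (nat_lit 616) (nat_lit 69) (nat_lit 870) .nil)
  (nat_lit 617) (nat_lit 37) (nat_lit 737) (.node .nil (nat_lit 618) (nat_lit 84) (nat_lit 1459) .nil)))))))
def kA1t_2 : T := (.node (.node (.node (.node (.node (.node (.node .nil (nat_lit 620) (nat_lit 66) (nat_lit
  1448) .nil) (nat_lit 621) (nat_lit 68) (nat_lit 1310) (.node .nil (nat_lit 622) (nat_lit 53) (nat_lit 1594)
  .nil)) (nat_lit 623) (nat_lit 80) (nat_lit 1504) (.node (.node .nil (nat_lit 624) (nat_lit 103) (nat_lit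
  1475) .nil) (nat_lit 625) (nat_lit 68) (nat_lit 631) (.node .nil (nat_lit 626) (nat_lit 84) (nat_lit 1725)
  .nil))) (nat_lit 627) (nat_lit 17) (nat_lit 1141) (.node (.node (.node .nil (nat_lit 628) (nat_lit 70)
  (nat_lit 1175) .nil) (nat_lit 629) (nat_lit 50) (nat_lit 1121) (.node .nil (nat_lit 630) (nat_lit 69)
  (nat_lit 589) .nil)) (nat_lit 631) (nat_lit 49) (nat_lit 1339) (.node (.node .nil (nat_lit 632) (nat_lit 67)
  (nat_lit 622) .nil) (nat_lit 633) (nat_lit 49) (nat_lit 1138) (.node .nil (nat_lit 634) (nat_lit 87)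
  (nat_lit 1463) .nil)))) (nat_lit 635) (nat_lit 49) (nat_lit 1363) (.node (.node (.node (.node .nil (nat_lit
  636) (nat_lit 119) (nat_lit 1458) .nil) (nat_lit 637) (nat_lit 49) (nat_lit 1775) (.node .nil (nat_lit 638)
  (nat_lit 119) (nat_lit 1034) .nil)) (nat_lit 639) (nat_lit 67) (nat_lit 465) (.node (.node .nil (nat_lit
  640) (nat_lit 101) (nat_lit 483) .nil) (nat_lit 641) (nat_lit 82) (nat_lit 271) (.node .nil (nat_lit 642)
  (nat_lit 83) (nat_lit 1418) .nil))) (nat_lit 647) (nat_lit 71) (nat_lit 1075) (.node (.node (.node .nil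
  (nat_lit 648) (nat_lit 101) (nat_lit 1186) .nil) (nat_lit 649) (nat_lit 69) (nat_lit 1439) (.node .nil
  (nat_lit 650) (nat_lit 69) (nat_lit 633) .nil)) (nat_lit 653) (nat_lit 35) (nat_lit 1174) (.node (.node .nil
  (nat_lit 654) (nat_lit 64) (nat_lit 409) .nil) (nat_lit 656) (nat_lit 67) (nat_lit 1630) (.node .nil
  (nat_lit 657) (nat_lit 70) (nat_lit 406) .nil))))) (nat_lit 710) (nat_lit 83) (nat_lit 1313) (.node (.node
  (.node (.node (.node .nil (nat_lit 711) (nat_lit 50) (nat_lit 1659) .nil) (nat_lit 712) (nat_lit 83)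
  (nat_lit 364) (.node .nil (nat_lit 713) (nat_lit 71) (nat_lit 1618) .nil)) (nat_lit 716) (nat_lit 53)
  (nat_lit 1518) (.node (.node .nil (nat_lit 717) (nat_lit 70) (nat_lit 1246) .nil) (nat_lit 732) (nat_lit
  103) (nat_lit 1131) (.node .nil (nat_lit 733) (nat_lit 87) (nat_lit 1130) .nil))) (nat_lit 734) (nat_lit
  102) (nat_lit 1385) (.node (.node (.node .nil (nat_lit 735) (nat_lit 51) (nat_lit 1252) .nil) (nat_lit 736)
  (nat_lit 50) (nat_lit 1518) (.node .nil (nat_lit 737) (nat_lit 20) (nat_lit 1141) .nil)) (nat_lit 800)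
  (nat_lit 103) (nat_lit 361) (.node (.node .nil (nat_lit 803) (nat_lit 103) (nat_lit 357) .nil) (nat_lit 804)
  (nat_lit 102) (nat_lit 521) (.node .nil (nat_lit 805) (nat_lit 101) (nat_lit 1172) .nil)))) (nat_lit 806)
  (nat_lit 53) (nat_lit 119) (.node (.node (.node (.node .nil (nat_lit 807) (nat_lit 84) (nat_lit 1679) .nil)
  (nat_lit 818) (nat_lit 85) (nat_lit 1145) (.node .nil (nat_lit 819) (nat_lit 67) (nat_lit 1041) .nil))
  (nat_lit 820) (nat_lit 85) (nat_lit 1379) (.node (.node .nil (nat_lit 823) (nat_lit 69) (nat_lit 631) .nil)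
  (nat_lit 824) (nat_lit 52) (nat_lit 518) (.node .nil (nat_lit 825) (nat_lit 39) (nat_lit 1468) .nil)))
  (nat_lit 848) (nat_lit 83) (nat_lit 568) (.node (.node (.node .nil (nat_lit 851) (nat_lit 101) (nat_lit
  1279) .nil) (nat_lit 852) (nat_lit 84) (nat_lit 515) (.node .nil (nat_lit 855) (nat_lit 68) (nat_lit 1412)
  .nil)) (nat_lit 856) (nat_lit 87) (nat_lit 1133) (.node (.node .nil (nat_lit 857) (nat_lit 67) (nat_lit
  1271) .nil) (nat_lit 868) (nat_lit 84) (nat_lit 1308) (.node .nil (nat_lit 869) (nat_lit 54) (nat_lit 1484)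
  .nil)))))) (nat_lit 870) (nat_lit 50) (nat_lit 1147) (.node (.node (.node (.node (.node (.node .nil (nat_lit
  873) (nat_lit 85) (nat_lit 369) .nil) (nat_lit 874) (nat_lit 85) (nat_lit 348) (.node .nil (nat_lit 875)
  (nat_lit 86) (nat_lit 1588) .nil)) (nat_lit 886) (nat_lit 102) (nat_lit 873) (.node (.node .nil (nat_lit
  887) (nat_lit 87) (nat_lit 1215) .nil) (nat_lit 888) (nat_lit 67) (nat_lit 806) (.node .nil (nat_lit 889)
  (nat_lit 69) (nat_lit 333) .nil))) (nat_lit 890) (nat_lit 66) (nat_lit 631) (.node (.node (.node .nil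
  (nat_lit 891) (nat_lit 55) (nat_lit 550) .nil) (nat_lit 892) (nat_lit 103) (nat_lit 1216) (.node .nil
  (nat_lit 893) (nat_lit 99) (nat_lit 641) .nil)) (nat_lit 991) (nat_lit 86) (nat_lit 1421) (.node (.node .nil
  (nat_lit 992) (nat_lit 99) (nat_lit 1071) .nil) (nat_lit 998) (nat_lit 100) (nat_lit 517) (.node .nil
  (nat_lit 999) (nat_lit 84) (nat_lit 532) .nil)))) (nat_lit 1030) (nat_lit 68) (nat_lit 1732) (.node (.node
  (.node (.node .nil (nat_lit 1031) (nat_lit 70) (nat_lit 1207) .nil) (nat_lit 1032) (nat_lit 101) (nat_lit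
  337) (.node .nil (nat_lit 1033) (nat_lit 135) (nat_lit 538) .nil)) (nat_lit 1034) (nat_lit 100) (nat_lit
  483) (.node (.node .nil (nat_lit 1035) (nat_lit 67) (nat_lit 1312) .nil) (nat_lit 1036) (nat_lit 55)
  (nat_lit 1363) (.node .nil (nat_lit 1037) (nat_lit 87) (nat_lit 1178) .nil))) (nat_lit 1038) (nat_lit 67)
  (nat_lit 869) (.node (.node (.node .nil (nat_lit 1039) (nat_lit 52) (nat_lit 324) .nil) (nat_lit 1040)
  (nat_lit 71) (nat_lit 1192) (.node .nil (nat_lit 1041) (nat_lit 49) (nat_lit 1403) .nil)) (nat_lit 1042)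
  (nat_lit 68) (nat_lit 298) (.node (.node .nil (nat_lit 1043) (nat_lit 83) (nat_lit 1387) .nil) (nat_lit
  1044) (nat_lit 87) (nat_lit 1179) (.node .nil (nat_lit 1045) (nat_lit 53) (nat_lit 323) .nil))))) (nat_lit
  1058) (nat_lit 87) (nat_lit 1123) (.node (.node (.node (.node (.node .nil (nat_lit 1059) (nat_lit 71)
  (nat_lit 1321) .nil) (nat_lit 1060) (nat_lit 55) (nat_lit 1318) (.node .nil (nat_lit 1061) (nat_lit 69)
  (nat_lit 1378) .nil)) (nat_lit 1062) (nat_lit 85) (nat_lit 515) (.node (.node .nil (nat_lit 1063) (nat_lit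
  87) (nat_lit 1504) .nil) (nat_lit 1064) (nat_lit 103) (nat_lit 1043) (.node .nil (nat_lit 1065) (nat_lit 85)
  (nat_lit 532) .nil))) (nat_lit 1066) (nat_lit 51) (nat_lit 1318) (.node (.node (.node .nil (nat_lit 1067)
  (nat_lit 81) (nat_lit 1504) .nil) (nat_lit 1068) (nat_lit 70) (nat_lit 1637) (.node .nil (nat_lit 1069)
  (nat_lit 18) (nat_lit 1141) .nil)) (nat_lit 1070) (nat_lit 50) (nat_lit 1689) (.node (.node .nil (nat_lit
  1071) (nat_lit 87) (nat_lit 1387) .nil) (nat_lit 1072) (nat_lit 102) (nat_lit 1416) (.node .nil (nat_lit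
  1073) (nat_lit 86) (nat_lit 1408) .nil)))) (nat_lit 1074) (nat_lit 69) (nat_lit 331) (.node (.node (.node
  (.node .nil (nat_lit 1075) (nat_lit 54) (nat_lit 1609) .nil) (nat_lit 1076) (nat_lit 65) (nat_lit 1482)
  (.node .nil (nat_lit 1077) (nat_lit 67) (nat_lit 1310) .nil)) (nat_lit 1078) (nat_lit 68) (nat_lit 1726)
  (.node (.node .nil (nat_lit 1079) (nat_lit 85) (nat_lit 1537) .nil) (nat_lit 1080) (nat_lit 69) (nat_lit
  1726) (.node .nil (nat_lit 1081) (nat_lit 103) (nat_lit 1224) .nil))) (nat_lit 1082) (nat_lit 71) (nat_lit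
  1236) (.node (.node (.node .nil (nat_lit 1083) (nat_lit 86) (nat_lit 1215) .nil) (nat_lit 1084) (nat_lit 67)
  (nat_lit 1106) (.node .nil (nat_lit 1085) (nat_lit 103) (nat_lit 576) .nil)) (nat_lit 1086) (nat_lit 103)
  (nat_lit 604) (.node (.node .nil (nat_lit 1087) (nat_lit 85) (nat_lit 1434) .nil) (nat_lit 1088) (nat_lit
  68) (nat_lit 331) (.node .nil (nat_lit 1089) (nat_lit 65) (nat_lit 577) .nil)))))))
def kA1t_3 : T := (.node (.node (.node (.node (.node (.node (.node .nil (nat_lit 1091) (nat_lit 101) (nat_lit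
  332) .nil) (nat_lit 1092) (nat_lit 70) (nat_lit 1066) (.node .nil (nat_lit 1093) (nat_lit 87) (nat_lit 1195)
  .nil)) (nat_lit 1094) (nat_lit 103) (nat_lit 1113) (.node (.node .nil (nat_lit 1095) (nat_lit 87) (nat_lit
  441) .nil) (nat_lit 1096) (nat_lit 102) (nat_lit 848) (.node .nil (nat_lit 1097) (nat_lit 83) (nat_lit 1183)
  .nil))) (nat_lit 1098) (nat_lit 87) (nat_lit 1461) (.node (.node (.node .nil (nat_lit 1099) (nat_lit 87)
  (nat_lit 1505) .nil) (nat_lit 1100) (nat_lit 103) (nat_lit 1506) (.node .nil (nat_lit 1101) (nat_lit 82)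
  (nat_lit 1725) .nil)) (nat_lit 1102) (nat_lit 103) (nat_lit 1510) (.node (.node .nil (nat_lit 1103) (nat_lit
  87) (nat_lit 1366) .nil) (nat_lit 1104) (nat_lit 54) (nat_lit 1410) (.node .nil (nat_lit 1105) (nat_lit 87)
  (nat_lit 1068) .nil)))) (nat_lit 1106) (nat_lit 55) (nat_lit 1636) (.node (.node (.node (.node .nil (nat_lit
  1107) (nat_lit 87) (nat_lit 1042) .nil) (nat_lit 1108) (nat_lit 64) (nat_lit 1117) (.node .nil (nat_lit
  1109) (nat_lit 83) (nat_lit 566) .nil)) (nat_lit 1110) (nat_lit 82) (nat_lit 630) (.node (.node .nil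
  (nat_lit 1111) (nat_lit 87) (nat_lit 1409) .nil) (nat_lit 1112) (nat_lit 70) (nat_lit 1639) (.node .nil
  (nat_lit 1113) (nat_lit 86) (nat_lit 857) .nil))) (nat_lit 1114) (nat_lit 53) (nat_lit 281) (.node (.node
  (.node .nil (nat_lit 1115) (nat_lit 52) (nat_lit 505) .nil) (nat_lit 1116) (nat_lit 71) (nat_lit 1233)
  (.node .nil (nat_lit 1117) (nat_lit 54) (nat_lit 1607) .nil)) (nat_lit 1118) (nat_lit 68) (nat_lit 1377)
  (.node (.node .nil (nat_lit 1119) (nat_lit 80) (nat_lit 1112) .nil) (nat_lit 1120) (nat_lit 67) (nat_lit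
  1473) (.node .nil (nat_lit 1121) (nat_lit 37) (nat_lit 277) .nil))))) (nat_lit 1122) (nat_lit 66) (nat_lit
  1666) (.node (.node (.node (.node (.node .nil (nat_lit 1123) (nat_lit 70) (nat_lit 1237) .nil) (nat_lit
  1124) (nat_lit 87) (nat_lit 1061) (.node .nil (nat_lit 1125) (nat_lit 68) (nat_lit 1717) .nil)) (nat_lit
  1126) (nat_lit 85) (nat_lit 1549) (.node (.node .nil (nat_lit 1127) (nat_lit 65) (nat_lit 453) .nil)
  (nat_lit 1128) (nat_lit 103) (nat_lit 1614) (.node .nil (nat_lit 1129) (nat_lit 54) (nat_lit 1343) .nil)))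
  (nat_lit 1130) (nat_lit 66) (nat_lit 806) (.node (.node (.node .nil (nat_lit 1131) (nat_lit 86) (nat_lit
  1353) .nil) (nat_lit 1132) (nat_lit 103) (nat_lit 710) (.node .nil (nat_lit 1133) (nat_lit 69) (nat_lit
  1717) .nil)) (nat_lit 1134) (nat_lit 103) (nat_lit 1223) (.node (.node .nil (nat_lit 1135) (nat_lit 65)
  (nat_lit 1060) .nil) (nat_lit 1136) (nat_lit 85) (nat_lit 857) (.node .nil (nat_lit 1137) (nat_lit 81)
  (nat_lit 545) .nil)))) (nat_lit 1138) (nat_lit 39) (nat_lit 737) (.node (.node (.node (.node .nil (nat_lit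
  1139) (nat_lit 71) (nat_lit 1066) .nil) (nat_lit 1140) (nat_lit 55) (nat_lit 1121) (.node .nil (nat_lit
  1141) (nat_lit 0) (nat_lit 1141) .nil)) (nat_lit 1142) (nat_lit 87) (nat_lit 1167) (.node (.node .nil
  (nat_lit 1143) (nat_lit 82) (nat_lit 1680) .nil) (nat_lit 1144) (nat_lit 85) (nat_lit 1621) (.node .nil
  (nat_lit 1145) (nat_lit 71) (nat_lit 1615) .nil))) (nat_lit 1146) (nat_lit 85) (nat_lit 639) (.node (.node
  (.node .nil (nat_lit 1147) (nat_lit 36) (nat_lit 1069) .nil) (nat_lit 1148) (nat_lit 85) (nat_lit 138)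
  (.node .nil (nat_lit 1149) (nat_lit 55) (nat_lit 536) .nil)) (nat_lit 1150) (nat_lit 71) (nat_lit 736)
  (.node (.node .nil (nat_lit 1151) (nat_lit 70) (nat_lit 1234) .nil) (nat_lit 1152) (nat_lit 70) (nat_lit
  1454) (.node .nil (nat_lit 1153) (nat_lit 101) (nat_lit 517) .nil)))))) (nat_lit 1154) (nat_lit 71) (nat_lit
  1482) (.node (.node (.node (.node (.node (.node .nil (nat_lit 1155) (nat_lit 102) (nat_lit 1451) .nil)
  (nat_lit 1156) (nat_lit 70) (nat_lit 1213) (.node .nil (nat_lit 1157) (nat_lit 87) (nat_lit 1038) .nil))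
  (nat_lit 1158) (nat_lit 83) (nat_lit 456) (.node (.node .nil (nat_lit 1159) (nat_lit 69) (nat_lit 1412)
  .nil) (nat_lit 1160) (nat_lit 70) (nat_lit 631) (.node .nil (nat_lit 1161) (nat_lit 51) (nat_lit 118)
  .nil))) (nat_lit 1162) (nat_lit 103) (nat_lit 1327) (.node (.node (.node .nil (nat_lit 1163) (nat_lit 103)
  (nat_lit 1496) .nil) (nat_lit 1164) (nat_lit 53) (nat_lit 1433) (.node .nil (nat_lit 1165) (nat_lit 81)
  (nat_lit 1040) .nil)) (nat_lit 1166) (nat_lit 101) (nat_lit 398) (.node (.node .nil (nat_lit 1167) (nat_lit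
  67) (nat_lit 117) .nil) (nat_lit 1168) (nat_lit 117) (nat_lit 349) (.node .nil (nat_lit 1169) (nat_lit 54)
  (nat_lit 535) .nil)))) (nat_lit 1170) (nat_lit 55) (nat_lit 1702) (.node (.node (.node (.node .nil (nat_lit
  1171) (nat_lit 69) (nat_lit 1639) .nil) (nat_lit 1172) (nat_lit 87) (nat_lit 1176) (.node .nil (nat_lit
  1173) (nat_lit 119) (nat_lit 1267) .nil)) (nat_lit 1174) (nat_lit 23) (nat_lit 1141) (.node (.node .nil
  (nat_lit 1175) (nat_lit 48) (nat_lit 1518) .nil) (nat_lit 1176) (nat_lit 70) (nat_lit 465) (.node .nil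
  (nat_lit 1177) (nat_lit 66) (nat_lit 622) .nil))) (nat_lit 1178) (nat_lit 68) (nat_lit 1675) (.node (.node
  (.node .nil (nat_lit 1179) (nat_lit 69) (nat_lit 1377) .nil) (nat_lit 1180) (nat_lit 71) (nat_lit 1039)
  (.node .nil (nat_lit 1181) (nat_lit 70) (nat_lit 824) .nil)) (nat_lit 1182) (nat_lit 71) (nat_lit 1611)
  (.node (.node .nil (nat_lit 1183) (nat_lit 71) (nat_lit 1612) .nil) (nat_lit 1184) (nat_lit 66) (nat_lit
  1732) (.node .nil (nat_lit 1185) (nat_lit 70) (nat_lit 1301) .nil))))) (nat_lit 1186) (nat_lit 87) (nat_lit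
  1465) (.node (.node (.node (.node (.node .nil (nat_lit 1187) (nat_lit 87) (nat_lit 1429) .nil) (nat_lit
  1188) (nat_lit 86) (nat_lit 1276) (.node .nil (nat_lit 1189) (nat_lit 101) (nat_lit 155) .nil)) (nat_lit
  1190) (nat_lit 102) (nat_lit 1144) (.node (.node .nil (nat_lit 1191) (nat_lit 83) (nat_lit 1463) .nil)
  (nat_lit 1192) (nat_lit 53) (nat_lit 1671) (.node .nil (nat_lit 1193) (nat_lit 100) (nat_lit 1622) .nil)))
  (nat_lit 1194) (nat_lit 103) (nat_lit 848) (.node (.node (.node .nil (nat_lit 1195) (nat_lit 69) (nat_lit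
  298) .nil) (nat_lit 1196) (nat_lit 69) (nat_lit 299) (.node .nil (nat_lit 1197) (nat_lit 69) (nat_lit 409)
  .nil)) (nat_lit 1198) (nat_lit 64) (nat_lit 454) (.node (.node .nil (nat_lit 1199) (nat_lit 87) (nat_lit
  857) .nil) (nat_lit 1200) (nat_lit 81) (nat_lit 1415) (.node .nil (nat_lit 1201) (nat_lit 103) (nat_lit
  1430) .nil)))) (nat_lit 1202) (nat_lit 103) (nat_lit 1385) (.node (.node (.node (.node .nil (nat_lit 1203)
  (nat_lit 36) (nat_lit 1174) .nil) (nat_lit 1204) (nat_lit 68) (nat_lit 637) (.node .nil (nat_lit 1205)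
  (nat_lit 101) (nat_lit 1280) .nil)) (nat_lit 1206) (nat_lit 85) (nat_lit 713) (.node (.node .nil (nat_lit
  1207) (nat_lit 52) (nat_lit 1433) .nil) (nat_lit 1208) (nat_lit 84) (nat_lit 1434) (.node .nil (nat_lit
  1209) (nat_lit 87) (nat_lit 1313) .nil))) (nat_lit 1210) (nat_lit 87) (nat_lit 1492) (.node (.node (.node
  .nil (nat_lit 1211) (nat_lit 71) (nat_lit 1237) .nil) (nat_lit 1212) (nat_lit 65) (nat_lit 1450) (.node .nil
  (nat_lit 1213) (nat_lit 53) (nat_lit 518) .nil)) (nat_lit 1214) (nat_lit 80) (nat_lit 1139) (.node (.node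
  .nil (nat_lit 1215) (nat_lit 67) (nat_lit 1305) .nil) (nat_lit 1216) (nat_lit 85) (nat_lit 1370) (.node .nil
  (nat_lit 1217) (nat_lit 83) (nat_lit 1322) .nil)))))))
def kA1t_4 : T := (.node (.node (.node (.node (.node (.node (.node .nil (nat_lit 1219) (nat_lit 86) (nat_lit
  1179) .nil) (nat_lit 1220) (nat_lit 86) (nat_lit 1061) (.node .nil (nat_lit 1221) (nat_lit 69) (nat_lit
  1675) .nil)) (nat_lit 1222) (nat_lit 65) (nat_lit 1315) (.node (.node .nil (nat_lit 1223) (nat_lit 85)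
  (nat_lit 1603) .nil) (nat_lit 1224) (nat_lit 84) (nat_lit 1323) (.node .nil (nat_lit 1225) (nat_lit 70)
  (nat_lit 1192) .nil))) (nat_lit 1226) (nat_lit 51) (nat_lit 1203) (.node (.node (.node .nil (nat_lit 1227)
  (nat_lit 65) (nat_lit 891) .nil) (nat_lit 1228) (nat_lit 37) (nat_lit 1174) (.node .nil (nat_lit 1229)
  (nat_lit 55) (nat_lit 1609) .nil)) (nat_lit 1230) (nat_lit 51) (nat_lit 1138) (.node (.node .nil (nat_lit
  1231) (nat_lit 69) (nat_lit 637) .nil) (nat_lit 1232) (nat_lit 87) (nat_lit 1583) (.node .nil (nat_lit 1233)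
  (nat_lit 48) (nat_lit 1403) .nil)))) (nat_lit 1234) (nat_lit 50) (nat_lit 1433) (.node (.node (.node (.node
  .nil (nat_lit 1235) (nat_lit 87) (nat_lit 1584) .nil) (nat_lit 1236) (nat_lit 53) (nat_lit 324) (.node .nil
  (nat_lit 1237) (nat_lit 51) (nat_lit 1484) .nil)) (nat_lit 1238) (nat_lit 85) (nat_lit 1323) (.node (.node
  .nil (nat_lit 1239) (nat_lit 66) (nat_lit 293) .nil) (nat_lit 1240) (nat_lit 71) (nat_lit 1246) (.node .nil
  (nat_lit 1241) (nat_lit 117) (nat_lit 328) .nil))) (nat_lit 1242) (nat_lit 118) (nat_lit 1264) (.node (.node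
  (.node .nil (nat_lit 1243) (nat_lit 119) (nat_lit 1265) .nil) (nat_lit 1244) (nat_lit 117) (nat_lit 1754)
  (.node .nil (nat_lit 1245) (nat_lit 53) (nat_lit 1702) .nil)) (nat_lit 1246) (nat_lit 53) (nat_lit 1775)
  (.node (.node .nil (nat_lit 1247) (nat_lit 101) (nat_lit 1536) .nil) (nat_lit 1248) (nat_lit 103) (nat_lit
  1220) (.node .nil (nat_lit 1249) (nat_lit 86) (nat_lit 1125) .nil))))) (nat_lit 1250) (nat_lit 70) (nat_lit
  1440) (.node (.node (.node (.node (.node .nil (nat_lit 1251) (nat_lit 71) (nat_lit 1437) .nil) (nat_lit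
  1252) (nat_lit 36) (nat_lit 627) (.node .nil (nat_lit 1253) (nat_lit 71) (nat_lit 1440) .nil)) (nat_lit
  1254) (nat_lit 70) (nat_lit 1431) (.node (.node .nil (nat_lit 1255) (nat_lit 66) (nat_lit 1618) .nil)
  (nat_lit 1256) (nat_lit 70) (nat_lit 1445) (.node .nil (nat_lit 1257) (nat_lit 85) (nat_lit 1539) .nil)))
  (nat_lit 1258) (nat_lit 87) (nat_lit 1259) (.node (.node (.node .nil (nat_lit 1259) (nat_lit 69) (nat_lit
  1338) .nil) (nat_lit 1260) (nat_lit 69) (nat_lit 1337) (.node .nil (nat_lit 1261) (nat_lit 86) (nat_lit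
  1442) .nil)) (nat_lit 1262) (nat_lit 53) (nat_lit 1457) (.node (.node .nil (nat_lit 1263) (nat_lit 54)
  (nat_lit 550) .nil) (nat_lit 1264) (nat_lit 101) (nat_lit 1622) (.node .nil (nat_lit 1265) (nat_lit 99)
  (nat_lit 1430) .nil)))) (nat_lit 1266) (nat_lit 49) (nat_lit 1590) (.node (.node (.node (.node .nil (nat_lit
  1267) (nat_lit 101) (nat_lit 1627) .nil) (nat_lit 1268) (nat_lit 103) (nat_lit 1591) (.node .nil (nat_lit
  1269) (nat_lit 71) (nat_lit 716) .nil)) (nat_lit 1270) (nat_lit 55) (nat_lit 1590) (.node (.node .nil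
  (nat_lit 1271) (nat_lit 50) (nat_lit 1671) .nil) (nat_lit 1272) (nat_lit 51) (nat_lit 550) (.node .nil
  (nat_lit 1273) (nat_lit 117) (nat_lit 1128) .nil))) (nat_lit 1274) (nat_lit 69) (nat_lit 278) (.node (.node
  (.node .nil (nat_lit 1275) (nat_lit 65) (nat_lit 1437) .nil) (nat_lit 1276) (nat_lit 68) (nat_lit 307)
  (.node .nil (nat_lit 1277) (nat_lit 71) (nat_lit 1665) .nil)) (nat_lit 1278) (nat_lit 71) (nat_lit 1666)
  (.node (.node .nil (nat_lit 1279) (nat_lit 87) (nat_lit 1680) .nil) (nat_lit 1280) (nat_lit 87) (nat_lit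
  1679) (.node .nil (nat_lit 1281) (nat_lit 71) (nat_lit 577) .nil)))))) (nat_lit 1282) (nat_lit 68) (nat_lit
  1630) (.node (.node (.node (.node (.node (.node .nil (nat_lit 1283) (nat_lit 101) (nat_lit 1320) .nil)
  (nat_lit 1284) (nat_lit 103) (nat_lit 1595) (.node .nil (nat_lit 1285) (nat_lit 71) (nat_lit 1470) .nil))
  (nat_lit 1286) (nat_lit 103) (nat_lit 1469) (.node (.node .nil (nat_lit 1287) (nat_lit 55) (nat_lit 1586)
  .nil) (nat_lit 1288) (nat_lit 54) (nat_lit 1228) (.node .nil (nat_lit 1289) (nat_lit 102) (nat_lit 1148)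
  .nil))) (nat_lit 1290) (nat_lit 103) (nat_lit 575) (.node (.node (.node .nil (nat_lit 1291) (nat_lit 134)
  (nat_lit 1244) .nil) (nat_lit 1292) (nat_lit 135) (nat_lit 1241) (.node .nil (nat_lit 1293) (nat_lit 69)
  (nat_lit 1732) .nil)) (nat_lit 1294) (nat_lit 71) (nat_lit 1263) (.node (.node .nil (nat_lit 1295) (nat_lit
  133) (nat_lit 1713) .nil) (nat_lit 1296) (nat_lit 52) (nat_lit 1689) (.node .nil (nat_lit 1297) (nat_lit
  118) (nat_lit 851) .nil)))) (nat_lit 1298) (nat_lit 119) (nat_lit 1314) (.node (.node (.node (.node .nil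
  (nat_lit 1299) (nat_lit 55) (nat_lit 570) .nil) (nat_lit 1300) (nat_lit 54) (nat_lit 1203) (.node .nil
  (nat_lit 1301) (nat_lit 50) (nat_lit 1775) .nil)) (nat_lit 1302) (nat_lit 50) (nat_lit 1702) (.node (.node
  .nil (nat_lit 1303) (nat_lit 71) (nat_lit 1312) .nil) (nat_lit 1304) (nat_lit 67) (nat_lit 1439) (.node .nil
  (nat_lit 1305) (nat_lit 55) (nat_lit 1484) .nil))) (nat_lit 1306) (nat_lit 85) (nat_lit 1465) (.node (.node
  (.node .nil (nat_lit 1307) (nat_lit 101) (nat_lit 1043) .nil) (nat_lit 1308) (nat_lit 65) (nat_lit 1675)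
  (.node .nil (nat_lit 1309) (nat_lit 52) (nat_lit 1635) .nil)) (nat_lit 1310) (nat_lit 50) (nat_lit 350)
  (.node (.node .nil (nat_lit 1311) (nat_lit 69) (nat_lit 1665) .nil) (nat_lit 1312) (nat_lit 52) (nat_lit
  119) (.node .nil (nat_lit 1313) (nat_lit 69) (nat_lit 1618) .nil))))) (nat_lit 1314) (nat_lit 101) (nat_lit
  1614) (.node (.node (.node (.node (.node .nil (nat_lit 1315) (nat_lit 54) (nat_lit 1318) .nil) (nat_lit
  1316) (nat_lit 85) (nat_lit 1038) (.node .nil (nat_lit 1317) (nat_lit 84) (nat_lit 369) .nil)) (nat_lit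
  1318) (nat_lit 37) (nat_lit 1356) (.node (.node .nil (nat_lit 1319) (nat_lit 101) (nat_lit 1510) .nil)
  (nat_lit 1320) (nat_lit 87) (nat_lit 1682) (.node .nil (nat_lit 1321) (nat_lit 51) (nat_lit 1636) .nil)))
  (nat_lit 1322) (nat_lit 68) (nat_lit 334) (.node (.node (.node .nil (nat_lit 1323) (nat_lit 67) (nat_lit
  293) .nil) (nat_lit 1324) (nat_lit 71) (nat_lit 1645) (.node .nil (nat_lit 1325) (nat_lit 70) (nat_lit 1374)
  .nil)) (nat_lit 1326) (nat_lit 86) (nat_lit 1375) (.node (.node .nil (nat_lit 1327) (nat_lit 86) (nat_lit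
  1367) .nil) (nat_lit 1328) (nat_lit 85) (nat_lit 1485) (.node .nil (nat_lit 1329) (nat_lit 102) (nat_lit
  1136) .nil)))) (nat_lit 1330) (nat_lit 102) (nat_lit 483) (.node (.node (.node (.node .nil (nat_lit 1331)
  (nat_lit 83) (nat_lit 280) .nil) (nat_lit 1332) (nat_lit 82) (nat_lit 1463) (.node .nil (nat_lit 1333)
  (nat_lit 101) (nat_lit 1113) .nil)) (nat_lit 1334) (nat_lit 52) (nat_lit 1636) (.node (.node .nil (nat_lit
  1335) (nat_lit 70) (nat_lit 1334) .nil) (nat_lit 1336) (nat_lit 67) (nat_lit 312) (.node .nil (nat_lit 1337)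
  (nat_lit 54) (nat_lit 505) .nil))) (nat_lit 1338) (nat_lit 54) (nat_lit 1147) (.node (.node (.node .nil
  (nat_lit 1339) (nat_lit 38) (nat_lit 1356) .nil) (nat_lit 1340) (nat_lit 66) (nat_lit 1612) (.node .nil
  (nat_lit 1341) (nat_lit 85) (nat_lit 1322) .nil)) (nat_lit 1342) (nat_lit 84) (nat_lit 1483) (.node (.node
  .nil (nat_lit 1343) (nat_lit 32) (nat_lit 1371) .nil) (nat_lit 1344) (nat_lit 71) (nat_lit 629) (.node .nil
  (nat_lit 1345) (nat_lit 84) (nat_lit 1418) .nil)))))))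
def kA1t_5 : T := (.node (.node (.node (.node (.node (.node (.node .nil (nat_lit 1347) (nat_lit 69) (nat_lit
  1450) .nil) (nat_lit 1348) (nat_lit 87) (nat_lit 1653) (.node .nil (nat_lit 1349) (nat_lit 68) (nat_lit
  1041) .nil)) (nat_lit 1350) (nat_lit 68) (nat_lit 1305) (.node (.node .nil (nat_lit 1351) (nat_lit 85)
  (nat_lit 1415) .nil) (nat_lit 1352) (nat_lit 85) (nat_lit 1123) (.node .nil (nat_lit 1353) (nat_lit 69)
  (nat_lit 1237) .nil))) (nat_lit 1354) (nat_lit 101) (nat_lit 1507) (.node (.node (.node .nil (nat_lit 1355)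
  (nat_lit 87) (nat_lit 1434) .nil) (nat_lit 1356) (nat_lit 16) (nat_lit 1141) (.node .nil (nat_lit 1357)
  (nat_lit 102) (nat_lit 1146) .nil)) (nat_lit 1358) (nat_lit 84) (nat_lit 456) (.node (.node .nil (nat_lit
  1359) (nat_lit 103) (nat_lit 1435) .nil) (nat_lit 1360) (nat_lit 102) (nat_lit 1346) (.node .nil (nat_lit
  1361) (nat_lit 86) (nat_lit 1350) .nil)))) (nat_lit 1362) (nat_lit 83) (nat_lit 366) (.node (.node (.node
  (.node .nil (nat_lit 1363) (nat_lit 38) (nat_lit 737) .nil) (nat_lit 1364) (nat_lit 84) (nat_lit 280) (.node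
  .nil (nat_lit 1365) (nat_lit 99) (nat_lit 1143) .nil)) (nat_lit 1366) (nat_lit 66) (nat_lit 1675) (.node
  (.node .nil (nat_lit 1367) (nat_lit 69) (nat_lit 1312) .nil) (nat_lit 1368) (nat_lit 68) (nat_lit 1272)
  (.node .nil (nat_lit 1369) (nat_lit 86) (nat_lit 1381) .nil))) (nat_lit 1370) (nat_lit 70) (nat_lit 1378)
  (.node (.node (.node .nil (nat_lit 1371) (nat_lit 22) (nat_lit 1141) .nil) (nat_lit 1372) (nat_lit 50)
  (nat_lit 1636) (.node .nil (nat_lit 1373) (nat_lit 49) (nat_lit 1518) .nil)) (nat_lit 1374) (nat_lit 48)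
  (nat_lit 1339) (.node (.node .nil (nat_lit 1375) (nat_lit 69) (nat_lit 735) .nil) (nat_lit 1376) (nat_lit
  67) (nat_lit 314) (.node .nil (nat_lit 1377) (nat_lit 50) (nat_lit 1594) .nil))))) (nat_lit 1378) (nat_lit
  52) (nat_lit 536) (.node (.node (.node (.node (.node .nil (nat_lit 1379) (nat_lit 70) (nat_lit 1377) .nil)
  (nat_lit 1380) (nat_lit 68) (nat_lit 1611) (.node .nil (nat_lit 1381) (nat_lit 68) (nat_lit 1612) .nil))
  (nat_lit 1382) (nat_lit 103) (nat_lit 1352) (.node (.node .nil (nat_lit 1383) (nat_lit 118) (nat_lit 1579)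
  .nil) (nat_lit 1384) (nat_lit 71) (nat_lit 1476) (.node .nil (nat_lit 1385) (nat_lit 85) (nat_lit 1679)
  .nil))) (nat_lit 1386) (nat_lit 68) (nat_lit 1373) (.node (.node (.node .nil (nat_lit 1387) (nat_lit 70)
  (nat_lit 1271) .nil) (nat_lit 1388) (nat_lit 98) (nat_lit 1627) (.node .nil (nat_lit 1389) (nat_lit 87)
  (nat_lit 1225) .nil)) (nat_lit 1390) (nat_lit 85) (nat_lit 1725) (.node (.node .nil (nat_lit 1391) (nat_lit
  70) (nat_lit 1164) .nil) (nat_lit 1392) (nat_lit 117) (nat_lit 396) (.node .nil (nat_lit 1393) (nat_lit 119)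
  (nat_lit 440) .nil)))) (nat_lit 1394) (nat_lit 117) (nat_lit 1699) (.node (.node (.node (.node .nil (nat_lit
  1395) (nat_lit 118) (nat_lit 564) .nil) (nat_lit 1396) (nat_lit 119) (nat_lit 1189) (.node .nil (nat_lit
  1397) (nat_lit 86) (nat_lit 1133) .nil)) (nat_lit 1398) (nat_lit 87) (nat_lit 1221) (.node (.node .nil
  (nat_lit 1399) (nat_lit 71) (nat_lit 1315) .nil) (nat_lit 1400) (nat_lit 69) (nat_lit 1630) (.node .nil
  (nat_lit 1401) (nat_lit 119) (nat_lit 546) .nil))) (nat_lit 1402) (nat_lit 118) (nat_lit 1166) (.node (.node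
  (.node .nil (nat_lit 1403) (nat_lit 39) (nat_lit 1069) .nil) (nat_lit 1404) (nat_lit 66) (nat_lit 1645)
  (.node .nil (nat_lit 1405) (nat_lit 67) (nat_lit 453) .nil)) (nat_lit 1406) (nat_lit 71) (nat_lit 1637)
  (.node (.node .nil (nat_lit 1407) (nat_lit 67) (nat_lit 1207) .nil) (nat_lit 1408) (nat_lit 68) (nat_lit
  409) (.node .nil (nat_lit 1409) (nat_lit 64) (nat_lit 1149) .nil)))))) (nat_lit 1410) (nat_lit 34) (nat_lit
  1174) (.node (.node (.node (.node (.node (.node .nil (nat_lit 1411) (nat_lit 54) (nat_lit 653) .nil)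
  (nat_lit 1412) (nat_lit 55) (nat_lit 324) (.node .nil (nat_lit 1413) (nat_lit 55) (nat_lit 323) .nil))
  (nat_lit 1414) (nat_lit 51) (nat_lit 1689) (.node (.node .nil (nat_lit 1415) (nat_lit 71) (nat_lit 589)
  .nil) (nat_lit 1416) (nat_lit 84) (nat_lit 257) (.node .nil (nat_lit 1417) (nat_lit 71) (nat_lit 806)
  .nil))) (nat_lit 1418) (nat_lit 65) (nat_lit 1149) (.node (.node (.node .nil (nat_lit 1419) (nat_lit 87)
  (nat_lit 1322) .nil) (nat_lit 1420) (nat_lit 64) (nat_lit 1450) (.node .nil (nat_lit 1421) (nat_lit 67)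
  (nat_lit 1149) .nil)) (nat_lit 1422) (nat_lit 83) (nat_lit 545) (.node (.node .nil (nat_lit 1423) (nat_lit
  83) (nat_lit 1125) .nil) (nat_lit 1424) (nat_lit 66) (nat_lit 1726) (.node .nil (nat_lit 1425) (nat_lit 69)
  (nat_lit 308) .nil)))) (nat_lit 1426) (nat_lit 67) (nat_lit 1233) (.node (.node (.node (.node .nil (nat_lit
  1427) (nat_lit 69) (nat_lit 307) .nil) (nat_lit 1428) (nat_lit 66) (nat_lit 1717) (.node .nil (nat_lit 1429)
  (nat_lit 68) (nat_lit 342) .nil)) (nat_lit 1430) (nat_lit 85) (nat_lit 1680) (.node (.node .nil (nat_lit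
  1431) (nat_lit 52) (nat_lit 1775) .nil) (nat_lit 1432) (nat_lit 52) (nat_lit 1457) (.node .nil (nat_lit
  1433) (nat_lit 39) (nat_lit 1356) .nil))) (nat_lit 1434) (nat_lit 65) (nat_lit 1717) (.node (.node (.node
  .nil (nat_lit 1435) (nat_lit 84) (nat_lit 1387) .nil) (nat_lit 1436) (nat_lit 84) (nat_lit 1366) (.node .nil
  (nat_lit 1437) (nat_lit 54) (nat_lit 1252) .nil)) (nat_lit 1438) (nat_lit 52) (nat_lit 1702) (.node (.node
  .nil (nat_lit 1439) (nat_lit 55) (nat_lit 1252) .nil) (nat_lit 1440) (nat_lit 52) (nat_lit 1518) (.node .nil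
  (nat_lit 1441) (nat_lit 50) (nat_lit 617) .nil))))) (nat_lit 1442) (nat_lit 69) (nat_lit 1577) (.node (.node
  (.node (.node (.node .nil (nat_lit 1443) (nat_lit 69) (nat_lit 1578) .nil) (nat_lit 1444) (nat_lit 52)
  (nat_lit 118) (.node .nil (nat_lit 1445) (nat_lit 53) (nat_lit 505) .nil)) (nat_lit 1446) (nat_lit 71)
  (nat_lit 1445) (.node (.node .nil (nat_lit 1447) (nat_lit 71) (nat_lit 1448) .nil) (nat_lit 1448) (nat_lit
  53) (nat_lit 1147) (.node .nil (nat_lit 1449) (nat_lit 83) (nat_lit 1409) .nil))) (nat_lit 1450) (nat_lit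
  55) (nat_lit 1491) (.node (.node (.node .nil (nat_lit 1451) (nat_lit 85) (nat_lit 257) .nil) (nat_lit 1452)
  (nat_lit 85) (nat_lit 275) (.node .nil (nat_lit 1453) (nat_lit 80) (nat_lit 1415) .nil)) (nat_lit 1454)
  (nat_lit 51) (nat_lit 1403) (.node (.node .nil (nat_lit 1455) (nat_lit 87) (nat_lit 1483) .nil) (nat_lit
  1456) (nat_lit 64) (nat_lit 1675) (.node .nil (nat_lit 1457) (nat_lit 33) (nat_lit 1371) .nil)))) (nat_lit
  1458) (nat_lit 102) (nat_lit 1475) (.node (.node (.node (.node .nil (nat_lit 1459) (nat_lit 66) (nat_lit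
  117) .nil) (nat_lit 1460) (nat_lit 85) (nat_lit 1167) (.node .nil (nat_lit 1461) (nat_lit 70) (nat_lit 806)
  .nil)) (nat_lit 1462) (nat_lit 68) (nat_lit 1615) (.node (.node .nil (nat_lit 1463) (nat_lit 69) (nat_lit
  334) .nil) (nat_lit 1464) (nat_lit 83) (nat_lit 1641) (.node .nil (nat_lit 1465) (nat_lit 70) (nat_lit 1312)
  .nil))) (nat_lit 1466) (nat_lit 86) (nat_lit 1463) (.node (.node (.node .nil (nat_lit 1467) (nat_lit 68)
  (nat_lit 318) .nil) (nat_lit 1468) (nat_lit 21) (nat_lit 1141) (.node .nil (nat_lit 1469) (nat_lit 86)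
  (nat_lit 1583) .nil)) (nat_lit 1470) (nat_lit 52) (nat_lit 1339) (.node (.node .nil (nat_lit 1471) (nat_lit
  68) (nat_lit 278) .nil) (nat_lit 1472) (nat_lit 83) (nat_lit 1255) (.node .nil (nat_lit 1473) (nat_lit 49)
  (nat_lit 1636) .nil)))))))
def kA1t_6 : T := (.node (.node (.node (.node (.node (.node (.node .nil (nat_lit 1475) (nat_lit 85) (nat_lit
  366) .nil) (nat_lit 1476) (nat_lit 53) (nat_lit 1339) (.node .nil (nat_lit 1477) (nat_lit 102) (nat_lit
  1430) .nil)) (nat_lit 1478) (nat_lit 70) (nat_lit 1272) (.node (.node .nil (nat_lit 1479) (nat_lit 87)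
  (nat_lit 1421) .nil) (nat_lit 1480) (nat_lit 67) (nat_lit 1114) (.node .nil (nat_lit 1481) (nat_lit 101)
  (nat_lit 300) .nil))) (nat_lit 1482) (nat_lit 54) (nat_lit 1491) (.node (.node (.node .nil (nat_lit 1483)
  (nat_lit 67) (nat_lit 1192) .nil) (nat_lit 1484) (nat_lit 34) (nat_lit 627) (.node .nil (nat_lit 1485)
  (nat_lit 70) (nat_lit 735) .nil)) (nat_lit 1486) (nat_lit 68) (nat_lit 153) (.node (.node .nil (nat_lit
  1487) (nat_lit 82) (nat_lit 364) .nil) (nat_lit 1488) (nat_lit 55) (nat_lit 1228) (.node .nil (nat_lit 1489)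
  (nat_lit 85) (nat_lit 322) .nil)))) (nat_lit 1490) (nat_lit 86) (nat_lit 1483) (.node (.node (.node (.node
  .nil (nat_lit 1491) (nat_lit 35) (nat_lit 1069) .nil) (nat_lit 1492) (nat_lit 69) (nat_lit 1615) (.node .nil
  (nat_lit 1493) (nat_lit 81) (nat_lit 1176) .nil)) (nat_lit 1494) (nat_lit 50) (nat_lit 1457) (.node (.node
  .nil (nat_lit 1495) (nat_lit 82) (nat_lit 1603) .nil) (nat_lit 1496) (nat_lit 84) (nat_lit 1167) (.node .nil
  (nat_lit 1497) (nat_lit 51) (nat_lit 1609) .nil))) (nat_lit 1498) (nat_lit 101) (nat_lit 1660) (.node (.node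
  (.node .nil (nat_lit 1499) (nat_lit 85) (nat_lit 1308) .nil) (nat_lit 1500) (nat_lit 64) (nat_lit 1482)
  (.node .nil (nat_lit 1501) (nat_lit 67) (nat_lit 1605) .nil)) (nat_lit 1502) (nat_lit 82) (nat_lit 1353)
  (.node (.node .nil (nat_lit 1503) (nat_lit 83) (nat_lit 1239) .nil) (nat_lit 1504) (nat_lit 70) (nat_lit
  589) (.node .nil (nat_lit 1505) (nat_lit 67) (nat_lit 1612) .nil))))) (nat_lit 1506) (nat_lit 84) (nat_lit
  343) (.node (.node (.node (.node (.node .nil (nat_lit 1507) (nat_lit 86) (nat_lit 639) .nil) (nat_lit 1508)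
  (nat_lit 85) (nat_lit 280) (.node .nil (nat_lit 1509) (nat_lit 86) (nat_lit 566) .nil)) (nat_lit 1510)
  (nat_lit 86) (nat_lit 1322) (.node (.node .nil (nat_lit 1511) (nat_lit 84) (nat_lit 159) .nil) (nat_lit
  1512) (nat_lit 69) (nat_lit 1075) (.node .nil (nat_lit 1513) (nat_lit 85) (nat_lit 1505) .nil))) (nat_lit
  1514) (nat_lit 52) (nat_lit 535) (.node (.node (.node .nil (nat_lit 1515) (nat_lit 71) (nat_lit 1374) .nil)
  (nat_lit 1516) (nat_lit 69) (nat_lit 1321) (.node .nil (nat_lit 1517) (nat_lit 85) (nat_lit 1068) .nil))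
  (nat_lit 1518) (nat_lit 38) (nat_lit 627) (.node (.node .nil (nat_lit 1519) (nat_lit 87) (nat_lit 1367)
  .nil) (nat_lit 1520) (nat_lit 103) (nat_lit 1342) (.node .nil (nat_lit 1521) (nat_lit 83) (nat_lit 1603)
  .nil)))) (nat_lit 1522) (nat_lit 69) (nat_lit 1637) (.node (.node (.node (.node .nil (nat_lit 1535) (nat_lit
  70) (nat_lit 1575) .nil) (nat_lit 1536) (nat_lit 87) (nat_lit 1370) (.node .nil (nat_lit 1537) (nat_lit 71)
  (nat_lit 1378) .nil)) (nat_lit 1538) (nat_lit 87) (nat_lit 1353) (.node (.node .nil (nat_lit 1539) (nat_lit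
  71) (nat_lit 1338) .nil) (nat_lit 1540) (nat_lit 86) (nat_lit 1550) (.node .nil (nat_lit 1541) (nat_lit 84)
  (nat_lit 1183) .nil))) (nat_lit 1542) (nat_lit 71) (nat_lit 1334) (.node (.node (.node .nil (nat_lit 1543)
  (nat_lit 119) (nat_lit 1333) .nil) (nat_lit 1544) (nat_lit 119) (nat_lit 1329) (.node .nil (nat_lit 1545)
  (nat_lit 101) (nat_lit 1058) .nil)) (nat_lit 1546) (nat_lit 102) (nat_lit 1547) (.node (.node .nil (nat_lit
  1547) (nat_lit 85) (nat_lit 1211) .nil) (nat_lit 1548) (nat_lit 87) (nat_lit 1323) (.node .nil (nat_lit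
  1549) (nat_lit 71) (nat_lit 1377) .nil)))))) (nat_lit 1550) (nat_lit 68) (nat_lit 1149) (.node (.node (.node
  (.node (.node (.node .nil (nat_lit 1575) (nat_lit 52) (nat_lit 1403) .nil) (nat_lit 1576) (nat_lit 80)
  (nat_lit 1549) (.node .nil (nat_lit 1577) (nat_lit 55) (nat_lit 1147) .nil)) (nat_lit 1578) (nat_lit 55)
  (nat_lit 505) (.node (.node .nil (nat_lit 1579) (nat_lit 101) (nat_lit 1199) .nil) (nat_lit 1580) (nat_lit
  103) (nat_lit 1332) (.node .nil (nat_lit 1581) (nat_lit 103) (nat_lit 1136) .nil))) (nat_lit 1582) (nat_lit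
  103) (nat_lit 483) (.node (.node (.node .nil (nat_lit 1583) (nat_lit 69) (nat_lit 312) .nil) (nat_lit 1584)
  (nat_lit 68) (nat_lit 1665) (.node .nil (nat_lit 1585) (nat_lit 65) (nat_lit 1263) .nil)) (nat_lit 1586)
  (nat_lit 37) (nat_lit 1371) (.node (.node .nil (nat_lit 1587) (nat_lit 67) (nat_lit 1448) .nil) (nat_lit
  1588) (nat_lit 69) (nat_lit 318) (.node .nil (nat_lit 1589) (nat_lit 69) (nat_lit 1373) .nil)))) (nat_lit
  1590) (nat_lit 38) (nat_lit 1468) (.node (.node (.node (.node .nil (nat_lit 1591) (nat_lit 85) (nat_lit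
  1682) .nil) (nat_lit 1592) (nat_lit 85) (nat_lit 1681) (.node .nil (nat_lit 1593) (nat_lit 66) (nat_lit
  1378) .nil)) (nat_lit 1594) (nat_lit 36) (nat_lit 1356) (.node (.node .nil (nat_lit 1595) (nat_lit 86)
  (nat_lit 1313) .nil) (nat_lit 1596) (nat_lit 86) (nat_lit 1492) (.node .nil (nat_lit 1597) (nat_lit 67)
  (nat_lit 1637) .nil))) (nat_lit 1598) (nat_lit 70) (nat_lit 1470) (.node (.node (.node .nil (nat_lit 1599)
  (nat_lit 69) (nat_lit 1612) .nil) (nat_lit 1600) (nat_lit 66) (nat_lit 1476) (.node .nil (nat_lit 1601)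
  (nat_lit 70) (nat_lit 117) .nil)) (nat_lit 1602) (nat_lit 66) (nat_lit 1315) (.node (.node .nil (nat_lit
  1603) (nat_lit 68) (nat_lit 1237) .nil) (nat_lit 1604) (nat_lit 66) (nat_lit 1312) (.node .nil (nat_lit
  1605) (nat_lit 48) (nat_lit 1636) .nil))))) (nat_lit 1606) (nat_lit 50) (nat_lit 1343) (.node (.node (.node
  (.node (.node .nil (nat_lit 1607) (nat_lit 35) (nat_lit 737) .nil) (nat_lit 1608) (nat_lit 67) (nat_lit 870)
  (.node .nil (nat_lit 1609) (nat_lit 36) (nat_lit 277) .nil)) (nat_lit 1610) (nat_lit 66) (nat_lit 312)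
  (.node (.node .nil (nat_lit 1611) (nat_lit 50) (nat_lit 1339) .nil) (nat_lit 1612) (nat_lit 54) (nat_lit
  536) (.node .nil (nat_lit 1613) (nat_lit 66) (nat_lit 1149) .nil))) (nat_lit 1614) (nat_lit 86) (nat_lit
  1680) (.node (.node (.node .nil (nat_lit 1615) (nat_lit 50) (nat_lit 1252) .nil) (nat_lit 1616) (nat_lit
  101) (nat_lit 1419) (.node .nil (nat_lit 1617) (nat_lit 103) (nat_lit 712) .nil)) (nat_lit 1618) (nat_lit
  52) (nat_lit 1484) (.node (.node .nil (nat_lit 1619) (nat_lit 53) (nat_lit 1636) .nil) (nat_lit 1620)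
  (nat_lit 82) (nat_lit 1322) (.node .nil (nat_lit 1621) (nat_lit 67) (nat_lit 1618) .nil)))) (nat_lit 1622)
  (nat_lit 83) (nat_lit 1680) (.node (.node (.node (.node .nil (nat_lit 1623) (nat_lit 83) (nat_lit 1679)
  .nil) (nat_lit 1624) (nat_lit 50) (nat_lit 1586) (.node .nil (nat_lit 1625) (nat_lit 54) (nat_lit 350)
  .nil)) (nat_lit 1626) (nat_lit 50) (nat_lit 1590) (.node (.node .nil (nat_lit 1627) (nat_lit 84) (nat_lit
  857) .nil) (nat_lit 1628) (nat_lit 67) (nat_lit 1615) (.node .nil (nat_lit 1629) (nat_lit 102) (nat_lit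
  1435) .nil))) (nat_lit 1630) (nat_lit 55) (nat_lit 1339) (.node (.node (.node .nil (nat_lit 1631) (nat_lit
  117) (nat_lit 1102) .nil) (nat_lit 1632) (nat_lit 68) (nat_lit 736) (.node .nil (nat_lit 1633) (nat_lit 68)
  (nat_lit 869) .nil)) (nat_lit 1634) (nat_lit 119) (nat_lit 569) (.node (.node .nil (nat_lit 1635) (nat_lit
  34) (nat_lit 1371) .nil) (nat_lit 1636) (nat_lit 38) (nat_lit 1069) (.node .nil (nat_lit 1637) (nat_lit 52)
  (nat_lit 281) .nil)))))))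
def kA1t_7 : T := (.node (.node (.node (.node (.node (.node (.node .nil (nat_lit 1639) (nat_lit 51) (nat_lit
  1594) .nil) (nat_lit 1640) (nat_lit 83) (nat_lit 1593) (.node .nil (nat_lit 1641) (nat_lit 64) (nat_lit
  1612) .nil)) (nat_lit 1642) (nat_lit 66) (nat_lit 1374) (.node (.node .nil (nat_lit 1643) (nat_lit 87)
  (nat_lit 1376) .nil) (nat_lit 1644) (nat_lit 85) (nat_lit 1303) (.node .nil (nat_lit 1645) (nat_lit 48)
  (nat_lit 1433) .nil))) (nat_lit 1646) (nat_lit 86) (nat_lit 1456) (.node (.node (.node .nil (nat_lit 1647)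
  (nat_lit 54) (nat_lit 1457) .nil) (nat_lit 1648) (nat_lit 86) (nat_lit 1171) (.node .nil (nat_lit 1649)
  (nat_lit 86) (nat_lit 1522) .nil)) (nat_lit 1650) (nat_lit 85) (nat_lit 1112) (.node (.node .nil (nat_lit
  1651) (nat_lit 70) (nat_lit 1666) .nil) (nat_lit 1652) (nat_lit 70) (nat_lit 1665) (.node .nil (nat_lit
  1653) (nat_lit 66) (nat_lit 1114) .nil)))) (nat_lit 1654) (nat_lit 67) (nat_lit 331) (.node (.node (.node
  (.node .nil (nat_lit 1655) (nat_lit 69) (nat_lit 1482) .nil) (nat_lit 1656) (nat_lit 87) (nat_lit 1368)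
  (.node .nil (nat_lit 1657) (nat_lit 50) (nat_lit 1403) .nil)) (nat_lit 1658) (nat_lit 103) (nat_lit 1341)
  (.node (.node .nil (nat_lit 1659) (nat_lit 32) (nat_lit 1174) .nil) (nat_lit 1660) (nat_lit 86) (nat_lit
  1679) (.node .nil (nat_lit 1661) (nat_lit 65) (nat_lit 1374) .nil))) (nat_lit 1662) (nat_lit 86) (nat_lit
  1633) (.node (.node (.node .nil (nat_lit 1663) (nat_lit 68) (nat_lit 1066) .nil) (nat_lit 1664) (nat_lit 85)
  (nat_lit 1504) (.node .nil (nat_lit 1665) (nat_lit 51) (nat_lit 350) .nil)) (nat_lit 1666) (nat_lit 53)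
  (nat_lit 1491) (.node (.node .nil (nat_lit 1667) (nat_lit 86) (nat_lit 1167) .nil) (nat_lit 1668) (nat_lit
  86) (nat_lit 630) (.node .nil (nat_lit 1669) (nat_lit 69) (nat_lit 1117) .nil))))) (nat_lit 1670) (nat_lit
  70) (nat_lit 1674) (.node (.node (.node (.node (.node .nil (nat_lit 1671) (nat_lit 33) (nat_lit 1356) .nil)
  (nat_lit 1672) (nat_lit 71) (nat_lit 1726) (.node .nil (nat_lit 1673) (nat_lit 70) (nat_lit 1677) .nil))
  (nat_lit 1674) (nat_lit 53) (nat_lit 1609) (.node (.node .nil (nat_lit 1675) (nat_lit 54) (nat_lit 1671)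
  .nil) (nat_lit 1676) (nat_lit 49) (nat_lit 1343) (.node .nil (nat_lit 1677) (nat_lit 53) (nat_lit 1607)
  .nil))) (nat_lit 1678) (nat_lit 51) (nat_lit 617) (.node (.node (.node .nil (nat_lit 1679) (nat_lit 66)
  (nat_lit 465) .nil) (nat_lit 1680) (nat_lit 68) (nat_lit 1271) (.node .nil (nat_lit 1681) (nat_lit 70)
  (nat_lit 1615) .nil)) (nat_lit 1682) (nat_lit 70) (nat_lit 1618) (.node (.node .nil (nat_lit 1683) (nat_lit
  99) (nat_lit 1627) .nil) (nat_lit 1684) (nat_lit 48) (nat_lit 1689) (.node .nil (nat_lit 1685) (nat_lit 70)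
  (nat_lit 1645) .nil)))) (nat_lit 1686) (nat_lit 64) (nat_lit 1630) (.node (.node (.node (.node .nil (nat_lit
  1687) (nat_lit 54) (nat_lit 1659) .nil) (nat_lit 1688) (nat_lit 55) (nat_lit 1343) (.node .nil (nat_lit
  1689) (nat_lit 39) (nat_lit 1371) .nil)) (nat_lit 1690) (nat_lit 102) (nat_lit 1644) (.node (.node .nil
  (nat_lit 1691) (nat_lit 118) (nat_lit 1616) .nil) (nat_lit 1692) (nat_lit 119) (nat_lit 1319) (.node .nil
  (nat_lit 1693) (nat_lit 103) (nat_lit 1306) .nil))) (nat_lit 1694) (nat_lit 87) (nat_lit 1663) (.node (.node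
  (.node .nil (nat_lit 1695) (nat_lit 64) (nat_lit 1717) .nil) (nat_lit 1696) (nat_lit 100) (nat_lit 1058)
  (.node .nil (nat_lit 1697) (nat_lit 87) (nat_lit 1599) .nil)) (nat_lit 1698) (nat_lit 85) (nat_lit 1183)
  (.node (.node .nil (nat_lit 1699) (nat_lit 103) (nat_lit 155) .nil) (nat_lit 1702) (nat_lit 33) (nat_lit
  1174) (.node .nil (nat_lit 1703) (nat_lit 85) (nat_lit 1406) .nil)))))) (nat_lit 1704) (nat_lit 86) (nat_lit
  1729) (.node (.node (.node (.node (.node (.node .nil (nat_lit 1705) (nat_lit 102) (nat_lit 1703) .nil)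
  (nat_lit 1706) (nat_lit 54) (nat_lit 1702) (.node .nil (nat_lit 1707) (nat_lit 71) (nat_lit 631) .nil))
  (nat_lit 1708) (nat_lit 49) (nat_lit 1659) (.node (.node .nil (nat_lit 1709) (nat_lit 71) (nat_lit 1674)
  .nil) (nat_lit 1710) (nat_lit 87) (nat_lit 1603) (.node .nil (nat_lit 1711) (nat_lit 55) (nat_lit 118)
  .nil))) (nat_lit 1712) (nat_lit 116) (nat_lit 1094) (.node (.node (.node .nil (nat_lit 1713) (nat_lit 119)
  (nat_lit 328) .nil) (nat_lit 1714) (nat_lit 53) (nat_lit 1403) (.node .nil (nat_lit 1715) (nat_lit 83)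
  (nat_lit 713) .nil)) (nat_lit 1716) (nat_lit 71) (nat_lit 1678) (.node (.node .nil (nat_lit 1717) (nat_lit
  55) (nat_lit 1671) .nil) (nat_lit 1718) (nat_lit 70) (nat_lit 1726) (.node .nil (nat_lit 1719) (nat_lit 55)
  (nat_lit 1457) .nil)))) (nat_lit 1720) (nat_lit 101) (nat_lit 1105) (.node (.node (.node (.node .nil
  (nat_lit 1721) (nat_lit 85) (nat_lit 647) .nil) (nat_lit 1722) (nat_lit 49) (nat_lit 1689) (.node .nil
  (nat_lit 1723) (nat_lit 103) (nat_lit 1517) .nil)) (nat_lit 1724) (nat_lit 87) (nat_lit 1512) (.node (.node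
  .nil (nat_lit 1725) (nat_lit 71) (nat_lit 1675) .nil) (nat_lit 1726) (nat_lit 49) (nat_lit 1433) (.node .nil
  (nat_lit 1727) (nat_lit 71) (nat_lit 1514) .nil))) (nat_lit 1728) (nat_lit 48) (nat_lit 1775) (.node (.node
  (.node .nil (nat_lit 1729) (nat_lit 69) (nat_lit 1229) .nil) (nat_lit 1730) (nat_lit 87) (nat_lit 1670)
  (.node .nil (nat_lit 1731) (nat_lit 103) (nat_lit 1649) .nil)) (nat_lit 1732) (nat_lit 55) (nat_lit 1518)
  (.node (.node .nil (nat_lit 1733) (nat_lit 65) (nat_lit 1630) .nil) (nat_lit 1734) (nat_lit 86) (nat_lit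
  1347) (.node .nil (nat_lit 1735) (nat_lit 87) (nat_lit 1655) .nil))))) (nat_lit 1736) (nat_lit 101) (nat_lit
  1063) (.node (.node (.node (.node (.node .nil (nat_lit 1737) (nat_lit 103) (nat_lit 1668) .nil) (nat_lit
  1738) (nat_lit 85) (nat_lit 1154) (.node .nil (nat_lit 1739) (nat_lit 87) (nat_lit 1651) .nil)) (nat_lit
  1740) (nat_lit 102) (nat_lit 1351) (.node (.node .nil (nat_lit 1741) (nat_lit 103) (nat_lit 1664) .nil)
  (nat_lit 1742) (nat_lit 55) (nat_lit 350) (.node .nil (nat_lit 1743) (nat_lit 83) (nat_lit 1350) .nil)))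
  (nat_lit 1744) (nat_lit 84) (nat_lit 1211) (.node (.node (.node .nil (nat_lit 1745) (nat_lit 118) (nat_lit
  1748) .nil) (nat_lit 1746) (nat_lit 119) (nat_lit 346) (.node .nil (nat_lit 1747) (nat_lit 53) (nat_lit
  1410) .nil)) (nat_lit 1748) (nat_lit 100) (nat_lit 1199) (.node (.node .nil (nat_lit 1749) (nat_lit 69)
  (nat_lit 1234) .nil) (nat_lit 1750) (nat_lit 71) (nat_lit 331) (.node .nil (nat_lit 1751) (nat_lit 71)
  (nat_lit 1625) .nil)))) (nat_lit 1753) (nat_lit 70) (nat_lit 1714) (.node (.node (.node (.node .nil (nat_lit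
  1754) (nat_lit 103) (nat_lit 1627) .nil) (nat_lit 1755) (nat_lit 65) (nat_lit 1645) (.node .nil (nat_lit
  1756) (nat_lit 87) (nat_lit 1522) .nil)) (nat_lit 1757) (nat_lit 103) (nat_lit 341) (.node (.node .nil
  (nat_lit 1758) (nat_lit 102) (nat_lit 1744) .nil) (nat_lit 1759) (nat_lit 99) (nat_lit 1279) (.node .nil
  (nat_lit 1760) (nat_lit 69) (nat_lit 1149) .nil))) (nat_lit 1761) (nat_lit 71) (nat_lit 117) (.node (.node
  (.node .nil (nat_lit 1762) (nat_lit 99) (nat_lit 1346) .nil) (nat_lit 1763) (nat_lit 71) (nat_lit 1619)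
  (.node .nil (nat_lit 1764) (nat_lit 69) (nat_lit 1106) .nil)) (nat_lit 1773) (nat_lit 87) (nat_lit 1601)
  (.node (.node .nil (nat_lit 1774) (nat_lit 86) (nat_lit 1760) .nil) (nat_lit 1775) (nat_lit 39) (nat_lit
  627) (.node .nil (nat_lit 1776) (nat_lit 87) (nat_lit 632) .nil)))))))
def kA1t : T := (.node (.node (.node kA1t_0 (nat_lit 389) (nat_lit 103) (nat_lit 371) kA1t_1) (nat_lit 619)
  (nat_lit 85) (nat_lit 1593) (.node kA1t_2 (nat_lit 1090) (nat_lit 87) (nat_lit 547) kA1t_3)) (nat_lit 1218)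
  (nat_lit 86) (nat_lit 1178) (.node (.node kA1t_4 (nat_lit 1346) (nat_lit 84) (nat_lit 568) kA1t_5) (nat_lit
  1474) (nat_lit 54) (nat_lit 570) (.node kA1t_6 (nat_lit 1638) (nat_lit 82) (nat_lit 366) kA1t_7)))
def kA1 : Lvl := ⟨nat_lit 1141, [nat_lit 3, nat_lit 4, nat_lit 5, nat_lit 6, nat_lit 7, nat_lit 8, nat_lit 11,
  nat_lit 12], [], kA1t⟩
def kA : List Lvl := [kA0, kA1]
def sY0t : T := (.node (.node (.node (.node (.node .nil (nat_lit 19) (nat_lit 67) (nat_lit 415) .nil) (nat_lit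
  54) (nat_lit 66) (nat_lit 413) .nil) (nat_lit 90) (nat_lit 49) (nat_lit 1700) (.node .nil (nat_lit 92)
  (nat_lit 48) (nat_lit 1701) .nil)) (nat_lit 256) (nat_lit 17) (nat_lit 1752) (.node (.node (.node .nil
  (nat_lit 413) (nat_lit 51) (nat_lit 1701) .nil) (nat_lit 414) (nat_lit 51) (nat_lit 1700) .nil) (nat_lit
  415) (nat_lit 50) (nat_lit 1701) (.node .nil (nat_lit 416) (nat_lit 50) (nat_lit 1700) .nil))) (nat_lit 509)
  (nat_lit 16) (nat_lit 1752) (.node (.node (.node (.node .nil (nat_lit 528) (nat_lit 66) (nat_lit 92) .nil)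
  (nat_lit 529) (nat_lit 67) (nat_lit 90) .nil) (nat_lit 652) (nat_lit 34) (nat_lit 256) (.node .nil (nat_lit
  655) (nat_lit 35) (nat_lit 509) .nil)) (nat_lit 1700) (nat_lit 32) (nat_lit 256) (.node (.node .nil (nat_lit
  1701) (nat_lit 33) (nat_lit 509) .nil) (nat_lit 1752) (nat_lit 0) (nat_lit 1752) (.node .nil (nat_lit 1781)
  (nat_lit 65) (nat_lit 92) .nil))))
def sY0 : Lvl := ⟨nat_lit 1752, [nat_lit 17, nat_lit 18, nat_lit 4, nat_lit 12], [], sY0t⟩
def sY1t : T := (.node (.node (.node (.node (.node (.node (.node .nil (nat_lit 482) (nat_lit 67) (nat_lit 637)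
  .nil) (nat_lit 542) (nat_lit 51) (nat_lit 1659) .nil) (nat_lit 627) (nat_lit 17) (nat_lit 1141) (.node .nil
  (nat_lit 628) (nat_lit 66) (nat_lit 1175) .nil)) (nat_lit 631) (nat_lit 49) (nat_lit 1339) (.node (.node
  .nil (nat_lit 637) (nat_lit 49) (nat_lit 1775) .nil) (nat_lit 1129) (nat_lit 50) (nat_lit 1343) (.node .nil
  (nat_lit 1141) (nat_lit 0) (nat_lit 1141) .nil))) (nat_lit 1160) (nat_lit 66) (nat_lit 631) (.node (.node
  (.node .nil (nat_lit 1170) (nat_lit 51) (nat_lit 1702) .nil) (nat_lit 1174) (nat_lit 19) (nat_lit 1141)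
  (.node .nil (nat_lit 1175) (nat_lit 48) (nat_lit 1518) .nil)) (nat_lit 1308) (nat_lit 65) (nat_lit 1675)
  (.node (.node .nil (nat_lit 1324) (nat_lit 67) (nat_lit 1645) .nil) (nat_lit 1325) (nat_lit 66) (nat_lit
  1374) (.node .nil (nat_lit 1339) (nat_lit 34) (nat_lit 1356) .nil)))) (nat_lit 1340) (nat_lit 65) (nat_lit
  1175) (.node (.node (.node (.node .nil (nat_lit 1343) (nat_lit 32) (nat_lit 1371) .nil) (nat_lit 1355)
  (nat_lit 83) (nat_lit 1434) (.node .nil (nat_lit 1356) (nat_lit 16) (nat_lit 1141) .nil)) (nat_lit 1371)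
  (nat_lit 18) (nat_lit 1141) (.node (.node .nil (nat_lit 1372) (nat_lit 81) (nat_lit 1456) .nil) (nat_lit
  1373) (nat_lit 49) (nat_lit 1518) (.node .nil (nat_lit 1374) (nat_lit 48) (nat_lit 1339) .nil))) (nat_lit
  1433) (nat_lit 35) (nat_lit 1356) (.node (.node (.node .nil (nat_lit 1434) (nat_lit 65) (nat_lit 1717) .nil)
  (nat_lit 1456) (nat_lit 64) (nat_lit 1675) (.node .nil (nat_lit 1457) (nat_lit 33) (nat_lit 1371) .nil))
  (nat_lit 1515) (nat_lit 67) (nat_lit 1374) (.node (.node .nil (nat_lit 1518) (nat_lit 34) (nat_lit 627)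
  .nil) (nat_lit 1613) (nat_lit 65) (nat_lit 1728) (.node .nil (nat_lit 1630) (nat_lit 51) (nat_lit 1339)
  .nil))))) (nat_lit 1645) (nat_lit 48) (nat_lit 1433) (.node (.node (.node (.node (.node .nil (nat_lit 1646)
  (nat_lit 82) (nat_lit 1456) .nil) (nat_lit 1647) (nat_lit 50) (nat_lit 1457) (.node .nil (nat_lit 1657)
  (nat_lit 81) (nat_lit 1695) .nil)) (nat_lit 1659) (nat_lit 32) (nat_lit 1174) (.node (.node .nil (nat_lit
  1661) (nat_lit 65) (nat_lit 1374) .nil) (nat_lit 1671) (nat_lit 33) (nat_lit 1356) (.node .nil (nat_lit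
  1672) (nat_lit 67) (nat_lit 1726) .nil))) (nat_lit 1675) (nat_lit 50) (nat_lit 1671) (.node (.node (.node
  .nil (nat_lit 1676) (nat_lit 49) (nat_lit 1343) .nil) (nat_lit 1684) (nat_lit 48) (nat_lit 1689) (.node .nil
  (nat_lit 1685) (nat_lit 66) (nat_lit 1645) .nil)) (nat_lit 1686) (nat_lit 64) (nat_lit 1630) (.node (.node
  .nil (nat_lit 1687) (nat_lit 50) (nat_lit 1659) .nil) (nat_lit 1688) (nat_lit 51) (nat_lit 1343) (.node .nil
  (nat_lit 1689) (nat_lit 35) (nat_lit 1371) .nil)))) (nat_lit 1695) (nat_lit 64) (nat_lit 1717) (.node (.node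
  (.node (.node .nil (nat_lit 1702) (nat_lit 33) (nat_lit 1174) .nil) (nat_lit 1706) (nat_lit 50) (nat_lit
  1702) (.node .nil (nat_lit 1707) (nat_lit 67) (nat_lit 631) .nil)) (nat_lit 1708) (nat_lit 49) (nat_lit
  1659) (.node (.node .nil (nat_lit 1717) (nat_lit 51) (nat_lit 1671) .nil) (nat_lit 1718) (nat_lit 66)
  (nat_lit 1726) (.node .nil (nat_lit 1719) (nat_lit 51) (nat_lit 1457) .nil))) (nat_lit 1722) (nat_lit 49)
  (nat_lit 1689) (.node (.node (.node .nil (nat_lit 1725) (nat_lit 67) (nat_lit 1675) .nil) (nat_lit 1726)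
  (nat_lit 49) (nat_lit 1433) (.node .nil (nat_lit 1728) (nat_lit 48) (nat_lit 1775) .nil)) (nat_lit 1732)
  (nat_lit 51) (nat_lit 1518) (.node (.node .nil (nat_lit 1733) (nat_lit 65) (nat_lit 1630) .nil) (nat_lit
  1755) (nat_lit 65) (nat_lit 1645) (.node .nil (nat_lit 1775) (nat_lit 35) (nat_lit 627) .nil))))))
def sY1 : Lvl := ⟨nat_lit 1141, [nat_lit 3, nat_lit 4, nat_lit 11, nat_lit 12], [], sY1t⟩
def sY : List Lvl := [sY0, sY1]
def kB0t_0 : T := (.node (.node (.node (.node (.node (.node (.node .nil (nat_lit 2) (nat_lit 96) (nat_lit 83)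
  .nil) (nat_lit 3) (nat_lit 82) (nat_lit 24) (.node .nil (nat_lit 4) (nat_lit 48) (nat_lit 82) .nil))
  (nat_lit 5) (nat_lit 145) (nat_lit 202) (.node (.node .nil (nat_lit 6) (nat_lit 210) (nat_lit 1534) .nil)
  (nat_lit 7) (nat_lit 193) (nat_lit 109) .nil)) (nat_lit 8) (nat_lit 146) (nat_lit 1529) (.node (.node (.node
  .nil (nat_lit 9) (nat_lit 162) (nat_lit 1528) .nil) (nat_lit 10) (nat_lit 130) (nat_lit 1570) (.node .nil
  (nat_lit 11) (nat_lit 161) (nat_lit 103) .nil)) (nat_lit 12) (nat_lit 145) (nat_lit 72) (.node (.node .nil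
  (nat_lit 13) (nat_lit 80) (nat_lit 24) .nil) (nat_lit 14) (nat_lit 162) (nat_lit 446) .nil))) (nat_lit 15)
  (nat_lit 144) (nat_lit 728) (.node (.node (.node (.node .nil (nat_lit 16) (nat_lit 144) (nat_lit 61) .nil)
  (nat_lit 17) (nat_lit 194) (nat_lit 927) (.node .nil (nat_lit 20) (nat_lit 96) (nat_lit 29) .nil)) (nat_lit
  21) (nat_lit 49) (nat_lit 204) (.node (.node .nil (nat_lit 22) (nat_lit 160) (nat_lit 1527) .nil) (nat_lit
  23) (nat_lit 145) (nat_lit 165) .nil)) (nat_lit 24) (nat_lit 65) (nat_lit 699) (.node (.node (.node .nil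
  (nat_lit 25) (nat_lit 129) (nat_lit 677) .nil) (nat_lit 26) (nat_lit 144) (nat_lit 1529) (.node .nil
  (nat_lit 27) (nat_lit 145) (nat_lit 700) .nil)) (nat_lit 28) (nat_lit 129) (nat_lit 1686) (.node (.node .nil
  (nat_lit 29) (nat_lit 82) (nat_lit 32) .nil) (nat_lit 30) (nat_lit 178) (nat_lit 1572) .nil)))) (nat_lit 31)
  (nat_lit 176) (nat_lit 1572) (.node (.node (.node (.node (.node .nil (nat_lit 32) (nat_lit 64) (nat_lit 21)
  .nil) (nat_lit 33) (nat_lit 160) (nat_lit 76) (.node .nil (nat_lit 35) (nat_lit 146) (nat_lit 767) .nil))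
  (nat_lit 36) (nat_lit 178) (nat_lit 721) (.node (.node .nil (nat_lit 37) (nat_lit 48) (nat_lit 195) .nil)
  (nat_lit 38) (nat_lit 82) (nat_lit 768) .nil)) (nat_lit 39) (nat_lit 114) (nat_lit 785) (.node (.node (.node
  .nil (nat_lit 40) (nat_lit 130) (nat_lit 425) .nil) (nat_lit 41) (nat_lit 146) (nat_lit 234) (.node .nil
  (nat_lit 42) (nat_lit 208) (nat_lit 43) .nil)) (nat_lit 43) (nat_lit 194) (nat_lit 229) (.node (.node .nil
  (nat_lit 44) (nat_lit 162) (nat_lit 230) .nil) (nat_lit 45) (nat_lit 160) (nat_lit 1006) .nil))) (nat_lit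
  46) (nat_lit 114) (nat_lit 827) (.node (.node (.node (.node .nil (nat_lit 47) (nat_lit 192) (nat_lit 1009)
  .nil) (nat_lit 48) (nat_lit 176) (nat_lit 1007) (.node .nil (nat_lit 49) (nat_lit 193) (nat_lit 1617) .nil))
  (nat_lit 50) (nat_lit 160) (nat_lit 379) (.node (.node .nil (nat_lit 51) (nat_lit 176) (nat_lit 380) .nil)
  (nat_lit 52) (nat_lit 160) (nat_lit 376) .nil)) (nat_lit 56) (nat_lit 193) (nat_lit 516) (.node (.node
  (.node .nil (nat_lit 57) (nat_lit 128) (nat_lit 39) .nil) (nat_lit 58) (nat_lit 162) (nat_lit 813) .nil)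
  (nat_lit 59) (nat_lit 210) (nat_lit 802) (.node (.node .nil (nat_lit 60) (nat_lit 178) (nat_lit 466) .nil)
  (nat_lit 61) (nat_lit 130) (nat_lit 905) .nil))))) (nat_lit 62) (nat_lit 177) (nat_lit 310) (.node (.node
  (.node (.node (.node (.node .nil (nat_lit 63) (nat_lit 161) (nat_lit 289) .nil) (nat_lit 64) (nat_lit 112)
  (nat_lit 200) (.node .nil (nat_lit 65) (nat_lit 96) (nat_lit 163) .nil)) (nat_lit 66) (nat_lit 192) (nat_lit
  187) (.node (.node .nil (nat_lit 67) (nat_lit 162) (nat_lit 94) .nil) (nat_lit 68) (nat_lit 114) (nat_lit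
  1024) .nil)) (nat_lit 69) (nat_lit 130) (nat_lit 1025) (.node (.node (.node .nil (nat_lit 70) (nat_lit 176)
  (nat_lit 182) .nil) (nat_lit 71) (nat_lit 145) (nat_lit 1684) (.node .nil (nat_lit 72) (nat_lit 128)
  (nat_lit 104) .nil)) (nat_lit 73) (nat_lit 161) (nat_lit 1528) (.node (.node .nil (nat_lit 74) (nat_lit 178)
  (nat_lit 443) .nil) (nat_lit 75) (nat_lit 178) (nat_lit 421) .nil))) (nat_lit 76) (nat_lit 146) (nat_lit
  458) (.node (.node (.node (.node .nil (nat_lit 77) (nat_lit 161) (nat_lit 1733) .nil) (nat_lit 78) (nat_lit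
  160) (nat_lit 759) (.node .nil (nat_lit 79) (nat_lit 194) (nat_lit 70) .nil)) (nat_lit 80) (nat_lit 130)
  (nat_lit 740) (.node (.node .nil (nat_lit 81) (nat_lit 160) (nat_lit 478) .nil) (nat_lit 82) (nat_lit 34)
  (nat_lit 796) .nil)) (nat_lit 83) (nat_lit 81) (nat_lit 706) (.node (.node (.node .nil (nat_lit 84) (nat_lit
  144) (nat_lit 1532) .nil) (nat_lit 85) (nat_lit 162) (nat_lit 23) .nil) (nat_lit 86) (nat_lit 194) (nat_lit
  930) (.node (.node .nil (nat_lit 87) (nat_lit 161) (nat_lit 1693) .nil) (nat_lit 88) (nat_lit 192) (nat_lit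
  241) .nil)))) (nat_lit 89) (nat_lit 146) (nat_lit 72) (.node (.node (.node (.node (.node .nil (nat_lit 93)
  (nat_lit 209) (nat_lit 79) .nil) (nat_lit 94) (nat_lit 144) (nat_lit 723) (.node .nil (nat_lit 95) (nat_lit
  162) (nat_lit 1017) .nil)) (nat_lit 96) (nat_lit 161) (nat_lit 15) (.node (.node .nil (nat_lit 97) (nat_lit
  146) (nat_lit 1015) .nil) (nat_lit 98) (nat_lit 97) (nat_lit 38) .nil)) (nat_lit 99) (nat_lit 97) (nat_lit
  13) (.node (.node (.node .nil (nat_lit 100) (nat_lit 144) (nat_lit 458) .nil) (nat_lit 101) (nat_lit 130)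
  (nat_lit 666) (.node .nil (nat_lit 102) (nat_lit 160) (nat_lit 194) .nil)) (nat_lit 103) (nat_lit 146)
  (nat_lit 106) (.node (.node .nil (nat_lit 104) (nat_lit 114) (nat_lit 378) .nil) (nat_lit 105) (nat_lit 144)
  (nat_lit 237) .nil))) (nat_lit 106) (nat_lit 129) (nat_lit 1712) (.node (.node (.node (.node .nil (nat_lit
  107) (nat_lit 146) (nat_lit 597) .nil) (nat_lit 108) (nat_lit 130) (nat_lit 457) (.node .nil (nat_lit 109)
  (nat_lit 178) (nat_lit 188) .nil)) (nat_lit 110) (nat_lit 193) (nat_lit 1525) (.node (.node .nil (nat_lit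
  111) (nat_lit 176) (nat_lit 261) .nil) (nat_lit 112) (nat_lit 192) (nat_lit 856) .nil)) (nat_lit 113)
  (nat_lit 177) (nat_lit 1167) (.node (.node (.node .nil (nat_lit 114) (nat_lit 209) (nat_lit 47) .nil)
  (nat_lit 115) (nat_lit 113) (nat_lit 693) .nil) (nat_lit 116) (nat_lit 33) (nat_lit 796) (.node (.node .nil
  (nat_lit 117) (nat_lit 146) (nat_lit 1631) .nil) (nat_lit 118) (nat_lit 146) (nat_lit 1616) .nil))))))
def kB0t_1 : T := (.node (.node (.node (.node (.node (.node (.node .nil (nat_lit 120) (nat_lit 130) (nat_lit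
  588) .nil) (nat_lit 121) (nat_lit 178) (nat_lit 138) (.node .nil (nat_lit 122) (nat_lit 113) (nat_lit 340)
  .nil)) (nat_lit 123) (nat_lit 112) (nat_lit 246) (.node (.node .nil (nat_lit 124) (nat_lit 160) (nat_lit
  245) .nil) (nat_lit 125) (nat_lit 176) (nat_lit 493) .nil)) (nat_lit 126) (nat_lit 112) (nat_lit 496) (.node
  (.node (.node .nil (nat_lit 127) (nat_lit 160) (nat_lit 250) .nil) (nat_lit 128) (nat_lit 98) (nat_lit 214)
  (.node .nil (nat_lit 129) (nat_lit 162) (nat_lit 759) .nil)) (nat_lit 130) (nat_lit 112) (nat_lit 222)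
  (.node (.node .nil (nat_lit 131) (nat_lit 161) (nat_lit 1582) .nil) (nat_lit 132) (nat_lit 178) (nat_lit
  1302) .nil))) (nat_lit 133) (nat_lit 130) (nat_lit 205) (.node (.node (.node (.node .nil (nat_lit 134)
  (nat_lit 114) (nat_lit 206) .nil) (nat_lit 135) (nat_lit 145) (nat_lit 1545) (.node .nil (nat_lit 136)
  (nat_lit 130) (nat_lit 973) .nil)) (nat_lit 137) (nat_lit 161) (nat_lit 446) (.node (.node .nil (nat_lit
  138) (nat_lit 160) (nat_lit 824) .nil) (nat_lit 139) (nat_lit 112) (nat_lit 172) .nil)) (nat_lit 140)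
  (nat_lit 194) (nat_lit 181) (.node (.node (.node .nil (nat_lit 141) (nat_lit 145) (nat_lit 405) .nil)
  (nat_lit 142) (nat_lit 161) (nat_lit 427) .nil) (nat_lit 143) (nat_lit 194) (nat_lit 168) (.node (.node .nil
  (nat_lit 144) (nat_lit 145) (nat_lit 1776) .nil) (nat_lit 145) (nat_lit 161) (nat_lit 1761) .nil))))
  (nat_lit 146) (nat_lit 177) (nat_lit 1579) (.node (.node (.node (.node (.node .nil (nat_lit 147) (nat_lit
  210) (nat_lit 594) .nil) (nat_lit 148) (nat_lit 192) (nat_lit 1052) (.node .nil (nat_lit 149) (nat_lit 66)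
  (nat_lit 705) .nil)) (nat_lit 150) (nat_lit 193) (nat_lit 525) (.node (.node .nil (nat_lit 151) (nat_lit
  176) (nat_lit 385) .nil) (nat_lit 152) (nat_lit 82) (nat_lit 706) .nil)) (nat_lit 153) (nat_lit 145)
  (nat_lit 1337) (.node (.node (.node .nil (nat_lit 154) (nat_lit 146) (nat_lit 268) .nil) (nat_lit 155)
  (nat_lit 145) (nat_lit 349) (.node .nil (nat_lit 156) (nat_lit 65) (nat_lit 4) .nil)) (nat_lit 157) (nat_lit
  113) (nat_lit 2) (.node (.node .nil (nat_lit 158) (nat_lit 161) (nat_lit 428) .nil) (nat_lit 159) (nat_lit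
  178) (nat_lit 1310) .nil))) (nat_lit 160) (nat_lit 161) (nat_lit 1017) (.node (.node (.node (.node .nil
  (nat_lit 161) (nat_lit 178) (nat_lit 920) .nil) (nat_lit 162) (nat_lit 160) (nat_lit 855) (.node .nil
  (nat_lit 163) (nat_lit 82) (nat_lit 156) .nil)) (nat_lit 164) (nat_lit 130) (nat_lit 157) (.node (.node .nil
  (nat_lit 165) (nat_lit 130) (nat_lit 179) .nil) (nat_lit 166) (nat_lit 162) (nat_lit 144) .nil)) (nat_lit
  167) (nat_lit 177) (nat_lit 22) (.node (.node (.node .nil (nat_lit 168) (nat_lit 177) (nat_lit 9) .nil)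
  (nat_lit 169) (nat_lit 178) (nat_lit 492) .nil) (nat_lit 170) (nat_lit 144) (nat_lit 165) (.node (.node .nil
  (nat_lit 171) (nat_lit 194) (nat_lit 373) .nil) (nat_lit 172) (nat_lit 98) (nat_lit 489) .nil))))) (nat_lit
  173) (nat_lit 194) (nat_lit 810) (.node (.node (.node (.node (.node (.node .nil (nat_lit 174) (nat_lit 130)
  (nat_lit 433) .nil) (nat_lit 175) (nat_lit 128) (nat_lit 238) (.node .nil (nat_lit 176) (nat_lit 144)
  (nat_lit 703) .nil)) (nat_lit 177) (nat_lit 113) (nat_lit 1747) (.node (.node .nil (nat_lit 178) (nat_lit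
  192) (nat_lit 765) .nil) (nat_lit 179) (nat_lit 113) (nat_lit 1757) .nil)) (nat_lit 180) (nat_lit 129)
  (nat_lit 1714) (.node (.node (.node .nil (nat_lit 181) (nat_lit 177) (nat_lit 1727) .nil) (nat_lit 182)
  (nat_lit 161) (nat_lit 1719) (.node .nil (nat_lit 183) (nat_lit 146) (nat_lit 963) .nil)) (nat_lit 184)
  (nat_lit 162) (nat_lit 690) (.node (.node .nil (nat_lit 185) (nat_lit 194) (nat_lit 988) .nil) (nat_lit 186)
  (nat_lit 192) (nat_lit 75) .nil))) (nat_lit 187) (nat_lit 177) (nat_lit 1706) (.node (.node (.node (.node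
  .nil (nat_lit 188) (nat_lit 161) (nat_lit 1729) .nil) (nat_lit 189) (nat_lit 146) (nat_lit 709) (.node .nil
  (nat_lit 190) (nat_lit 146) (nat_lit 460) .nil)) (nat_lit 191) (nat_lit 177) (nat_lit 1411) (.node (.node
  .nil (nat_lit 192) (nat_lit 146) (nat_lit 968) .nil) (nat_lit 193) (nat_lit 162) (nat_lit 967) .nil))
  (nat_lit 194) (nat_lit 146) (nat_lit 944) (.node (.node (.node .nil (nat_lit 195) (nat_lit 34) (nat_lit 459)
  .nil) (nat_lit 196) (nat_lit 130) (nat_lit 704) .nil) (nat_lit 197) (nat_lit 128) (nat_lit 68) (.node (.node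
  .nil (nat_lit 198) (nat_lit 50) (nat_lit 116) .nil) (nat_lit 199) (nat_lit 130) (nat_lit 115) .nil))))
  (nat_lit 200) (nat_lit 98) (nat_lit 203) (.node (.node (.node (.node (.node .nil (nat_lit 201) (nat_lit 113)
  (nat_lit 20) .nil) (nat_lit 202) (nat_lit 128) (nat_lit 157) (.node .nil (nat_lit 203) (nat_lit 80) (nat_lit
  156) .nil)) (nat_lit 204) (nat_lit 32) (nat_lit 459) (.node (.node .nil (nat_lit 205) (nat_lit 113) (nat_lit
  1568) .nil) (nat_lit 206) (nat_lit 96) (nat_lit 695) .nil)) (nat_lit 207) (nat_lit 128) (nat_lit 384) (.node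
  (.node (.node .nil (nat_lit 208) (nat_lit 161) (nat_lit 1543) .nil) (nat_lit 209) (nat_lit 96) (nat_lit 214)
  (.node .nil (nat_lit 210) (nat_lit 177) (nat_lit 81) .nil)) (nat_lit 211) (nat_lit 146) (nat_lit 934) (.node
  (.node .nil (nat_lit 212) (nat_lit 176) (nat_lit 1051) .nil) (nat_lit 213) (nat_lit 176) (nat_lit 742)
  .nil))) (nat_lit 214) (nat_lit 81) (nat_lit 426) (.node (.node (.node (.node .nil (nat_lit 215) (nat_lit
  194) (nat_lit 912) .nil) (nat_lit 216) (nat_lit 193) (nat_lit 558) (.node .nil (nat_lit 217) (nat_lit 130)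
  (nat_lit 779) .nil)) (nat_lit 218) (nat_lit 96) (nat_lit 3) (.node (.node .nil (nat_lit 219) (nat_lit 146)
  (nat_lit 220) .nil) (nat_lit 220) (nat_lit 128) (nat_lit 1531) .nil)) (nat_lit 221) (nat_lit 193) (nat_lit
  556) (.node (.node (.node .nil (nat_lit 222) (nat_lit 98) (nat_lit 770) .nil) (nat_lit 223) (nat_lit 160)
  (nat_lit 1021) .nil) (nat_lit 224) (nat_lit 146) (nat_lit 814) (.node (.node .nil (nat_lit 225) (nat_lit
  160) (nat_lit 211) .nil) (nat_lit 226) (nat_lit 209) (nat_lit 563) .nil))))))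
def kB0t_2 : T := (.node (.node (.node (.node (.node (.node (.node .nil (nat_lit 228) (nat_lit 162) (nat_lit
  817) .nil) (nat_lit 229) (nat_lit 176) (nat_lit 145) (.node .nil (nat_lit 230) (nat_lit 144) (nat_lit 180)
  .nil)) (nat_lit 231) (nat_lit 144) (nat_lit 495) (.node (.node .nil (nat_lit 232) (nat_lit 128) (nat_lit
  494) .nil) (nat_lit 233) (nat_lit 209) (nat_lit 1645) .nil)) (nat_lit 234) (nat_lit 128) (nat_lit 177)
  (.node (.node (.node .nil (nat_lit 235) (nat_lit 64) (nat_lit 499) .nil) (nat_lit 236) (nat_lit 146)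
  (nat_lit 435) (.node .nil (nat_lit 237) (nat_lit 129) (nat_lit 1540) .nil)) (nat_lit 238) (nat_lit 114)
  (nat_lit 673) (.node (.node .nil (nat_lit 239) (nat_lit 178) (nat_lit 859) .nil) (nat_lit 240) (nat_lit 176)
  (nat_lit 679) .nil))) (nat_lit 241) (nat_lit 177) (nat_lit 1541) (.node (.node (.node (.node .nil (nat_lit
  242) (nat_lit 144) (nat_lit 174) .nil) (nat_lit 243) (nat_lit 130) (nat_lit 860) (.node .nil (nat_lit 244)
  (nat_lit 194) (nat_lit 962) .nil)) (nat_lit 245) (nat_lit 146) (nat_lit 464) (.node (.node .nil (nat_lit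
  246) (nat_lit 98) (nat_lit 463) .nil) (nat_lit 247) (nat_lit 66) (nat_lit 699) .nil)) (nat_lit 248) (nat_lit
  114) (nat_lit 696) (.node (.node (.node .nil (nat_lit 249) (nat_lit 114) (nat_lit 461) .nil) (nat_lit 250)
  (nat_lit 146) (nat_lit 462) .nil) (nat_lit 251) (nat_lit 146) (nat_lit 700) (.node (.node .nil (nat_lit 252)
  (nat_lit 98) (nat_lit 695) .nil) (nat_lit 254) (nat_lit 160) (nat_lit 888) .nil)))) (nat_lit 255) (nat_lit
  160) (nat_lit 1311) (.node (.node (.node (.node (.node .nil (nat_lit 257) (nat_lit 177) (nat_lit 227) .nil)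
  (nat_lit 258) (nat_lit 176) (nat_lit 716) (.node .nil (nat_lit 259) (nat_lit 97) (nat_lit 582) .nil))
  (nat_lit 260) (nat_lit 177) (nat_lit 1549) (.node (.node .nil (nat_lit 261) (nat_lit 162) (nat_lit 645)
  .nil) (nat_lit 262) (nat_lit 161) (nat_lit 1577) .nil)) (nat_lit 263) (nat_lit 146) (nat_lit 485) (.node
  (.node (.node .nil (nat_lit 264) (nat_lit 113) (nat_lit 798) .nil) (nat_lit 265) (nat_lit 145) (nat_lit 799)
  (.node .nil (nat_lit 266) (nat_lit 176) (nat_lit 184) .nil)) (nat_lit 267) (nat_lit 162) (nat_lit 1589)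
  (.node (.node .nil (nat_lit 268) (nat_lit 129) (nat_lit 726) .nil) (nat_lit 269) (nat_lit 144) (nat_lit
  1293) .nil))) (nat_lit 270) (nat_lit 194) (nat_lit 1318) (.node (.node (.node (.node .nil (nat_lit 271)
  (nat_lit 210) (nat_lit 1354) .nil) (nat_lit 272) (nat_lit 162) (nat_lit 1164) (.node .nil (nat_lit 273)
  (nat_lit 178) (nat_lit 1368) .nil)) (nat_lit 274) (nat_lit 178) (nat_lit 1301) (.node (.node .nil (nat_lit
  275) (nat_lit 192) (nat_lit 642) .nil) (nat_lit 276) (nat_lit 194) (nat_lit 1612) .nil)) (nat_lit 277)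
  (nat_lit 160) (nat_lit 1491) (.node (.node (.node .nil (nat_lit 278) (nat_lit 176) (nat_lit 550) .nil)
  (nat_lit 279) (nat_lit 210) (nat_lit 1319) .nil) (nat_lit 280) (nat_lit 177) (nat_lit 254) (.node (.node
  .nil (nat_lit 281) (nat_lit 194) (nat_lit 1165) .nil) (nat_lit 282) (nat_lit 161) (nat_lit 1654) .nil)))))
  (nat_lit 283) (nat_lit 192) (nat_lit 1591) (.node (.node (.node (.node (.node (.node .nil (nat_lit 284)
  (nat_lit 194) (nat_lit 1305) .nil) (nat_lit 285) (nat_lit 162) (nat_lit 1375) (.node .nil (nat_lit 286)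
  (nat_lit 176) (nat_lit 1263) .nil)) (nat_lit 287) (nat_lit 177) (nat_lit 223) (.node (.node .nil (nat_lit
  288) (nat_lit 178) (nat_lit 1606) .nil) (nat_lit 289) (nat_lit 146) (nat_lit 1605) .nil)) (nat_lit 290)
  (nat_lit 209) (nat_lit 215) (.node (.node (.node .nil (nat_lit 291) (nat_lit 98) (nat_lit 1384) .nil)
  (nat_lit 292) (nat_lit 114) (nat_lit 1391) (.node .nil (nat_lit 293) (nat_lit 194) (nat_lit 1342) .nil))
  (nat_lit 294) (nat_lit 194) (nat_lit 1341) (.node (.node .nil (nat_lit 295) (nat_lit 176) (nat_lit 1108)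
  .nil) (nat_lit 296) (nat_lit 130) (nat_lit 1227) .nil))) (nat_lit 297) (nat_lit 144) (nat_lit 1501) (.node
  (.node (.node (.node .nil (nat_lit 298) (nat_lit 146) (nat_lit 1231) .nil) (nat_lit 299) (nat_lit 146)
  (nat_lit 1228) (.node .nil (nat_lit 300) (nat_lit 192) (nat_lit 1112) .nil)) (nat_lit 301) (nat_lit 146)
  (nat_lit 312) (.node (.node .nil (nat_lit 302) (nat_lit 162) (nat_lit 317) .nil) (nat_lit 303) (nat_lit 160)
  (nat_lit 1442) .nil)) (nat_lit 304) (nat_lit 129) (nat_lit 46) (.node (.node (.node .nil (nat_lit 305)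
  (nat_lit 146) (nat_lit 823) .nil) (nat_lit 306) (nat_lit 178) (nat_lit 1225) .nil) (nat_lit 307) (nat_lit
  209) (nat_lit 148) (.node (.node .nil (nat_lit 308) (nat_lit 161) (nat_lit 224) .nil) (nat_lit 309) (nat_lit
  177) (nat_lit 45) .nil)))) (nat_lit 310) (nat_lit 162) (nat_lit 1074) (.node (.node (.node (.node (.node
  .nil (nat_lit 311) (nat_lit 210) (nat_lit 300) .nil) (nat_lit 312) (nat_lit 128) (nat_lit 1610) (.node .nil
  (nat_lit 313) (nat_lit 162) (nat_lit 1424) .nil)) (nat_lit 314) (nat_lit 176) (nat_lit 591) (.node (.node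
  .nil (nat_lit 315) (nat_lit 98) (nat_lit 568) .nil) (nat_lit 316) (nat_lit 176) (nat_lit 1313) .nil))
  (nat_lit 317) (nat_lit 144) (nat_lit 1607) (.node (.node (.node .nil (nat_lit 318) (nat_lit 194) (nat_lit
  295) .nil) (nat_lit 319) (nat_lit 193) (nat_lit 321) (.node .nil (nat_lit 320) (nat_lit 176) (nat_lit 1119)
  .nil)) (nat_lit 321) (nat_lit 176) (nat_lit 1039) (.node (.node .nil (nat_lit 322) (nat_lit 161) (nat_lit
  301) .nil) (nat_lit 323) (nat_lit 162) (nat_lit 507) .nil))) (nat_lit 324) (nat_lit 162) (nat_lit 1270)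
  (.node (.node (.node (.node .nil (nat_lit 325) (nat_lit 176) (nat_lit 1464) .nil) (nat_lit 326) (nat_lit
  145) (nat_lit 1614) (.node .nil (nat_lit 327) (nat_lit 194) (nat_lit 1658) .nil)) (nat_lit 328) (nat_lit
  194) (nat_lit 354) (.node (.node .nil (nat_lit 329) (nat_lit 192) (nat_lit 1067) .nil) (nat_lit 330)
  (nat_lit 177) (nat_lit 1332) .nil)) (nat_lit 331) (nat_lit 192) (nat_lit 1318) (.node (.node (.node .nil
  (nat_lit 332) (nat_lit 162) (nat_lit 337) .nil) (nat_lit 333) (nat_lit 129) (nat_lit 1309) .nil) (nat_lit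
  334) (nat_lit 145) (nat_lit 1323) (.node (.node .nil (nat_lit 335) (nat_lit 145) (nat_lit 767) .nil)
  (nat_lit 336) (nat_lit 177) (nat_lit 746) .nil))))))
def kB0t_3 : T := (.node (.node (.node (.node (.node (.node (.node .nil (nat_lit 338) (nat_lit 176) (nat_lit
  717) .nil) (nat_lit 339) (nat_lit 145) (nat_lit 1331) (.node .nil (nat_lit 340) (nat_lit 98) (nat_lit 1634)
  .nil)) (nat_lit 341) (nat_lit 192) (nat_lit 1429) (.node (.node .nil (nat_lit 342) (nat_lit 193) (nat_lit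
  1379) .nil) (nat_lit 343) (nat_lit 177) (nat_lit 1381) .nil)) (nat_lit 344) (nat_lit 194) (nat_lit 1315)
  (.node (.node (.node .nil (nat_lit 345) (nat_lit 161) (nat_lit 117) .nil) (nat_lit 346) (nat_lit 178)
  (nat_lit 355) (.node .nil (nat_lit 347) (nat_lit 209) (nat_lit 1130) .nil)) (nat_lit 348) (nat_lit 178)
  (nat_lit 1468) (.node (.node .nil (nat_lit 349) (nat_lit 128) (nat_lit 1507) .nil) (nat_lit 350) (nat_lit
  146) (nat_lit 1520) .nil))) (nat_lit 351) (nat_lit 145) (nat_lit 1015) (.node (.node (.node (.node .nil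
  (nat_lit 352) (nat_lit 146) (nat_lit 349) .nil) (nat_lit 353) (nat_lit 161) (nat_lit 1046) (.node .nil
  (nat_lit 354) (nat_lit 177) (nat_lit 1013) .nil)) (nat_lit 355) (nat_lit 161) (nat_lit 1010) (.node (.node
  .nil (nat_lit 356) (nat_lit 113) (nat_lit 1048) .nil) (nat_lit 357) (nat_lit 194) (nat_lit 1150) .nil))
  (nat_lit 358) (nat_lit 177) (nat_lit 1668) (.node (.node (.node .nil (nat_lit 359) (nat_lit 145) (nat_lit
  1680) .nil) (nat_lit 360) (nat_lit 178) (nat_lit 1071) .nil) (nat_lit 361) (nat_lit 82) (nat_lit 1184)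
  (.node (.node .nil (nat_lit 362) (nat_lit 161) (nat_lit 1664) .nil) (nat_lit 363) (nat_lit 178) (nat_lit
  1101) .nil)))) (nat_lit 364) (nat_lit 177) (nat_lit 1662) (.node (.node (.node (.node (.node .nil (nat_lit
  365) (nat_lit 145) (nat_lit 312) .nil) (nat_lit 366) (nat_lit 176) (nat_lit 1638) (.node .nil (nat_lit 367)
  (nat_lit 144) (nat_lit 823) .nil)) (nat_lit 368) (nat_lit 177) (nat_lit 285) (.node (.node .nil (nat_lit
  369) (nat_lit 162) (nat_lit 365) .nil) (nat_lit 370) (nat_lit 192) (nat_lit 1639) .nil)) (nat_lit 371)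
  (nat_lit 161) (nat_lit 367) (.node (.node (.node .nil (nat_lit 372) (nat_lit 193) (nat_lit 273) .nil)
  (nat_lit 373) (nat_lit 177) (nat_lit 1764) (.node .nil (nat_lit 374) (nat_lit 178) (nat_lit 73) .nil))
  (nat_lit 375) (nat_lit 177) (nat_lit 1748) (.node (.node .nil (nat_lit 376) (nat_lit 145) (nat_lit 1710)
  .nil) (nat_lit 377) (nat_lit 162) (nat_lit 170) .nil))) (nat_lit 378) (nat_lit 97) (nat_lit 1697) (.node
  (.node (.node (.node .nil (nat_lit 379) (nat_lit 145) (nat_lit 1759) .nil) (nat_lit 380) (nat_lit 161)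
  (nat_lit 1743) (.node .nil (nat_lit 381) (nat_lit 193) (nat_lit 1575) .nil)) (nat_lit 382) (nat_lit 161)
  (nat_lit 1537) (.node (.node .nil (nat_lit 383) (nat_lit 160) (nat_lit 135) .nil) (nat_lit 384) (nat_lit
  114) (nat_lit 1558) .nil)) (nat_lit 385) (nat_lit 162) (nat_lit 982) (.node (.node (.node .nil (nat_lit 386)
  (nat_lit 160) (nat_lit 192) .nil) (nat_lit 387) (nat_lit 144) (nat_lit 136) .nil) (nat_lit 388) (nat_lit
  176) (nat_lit 208) (.node (.node .nil (nat_lit 389) (nat_lit 161) (nat_lit 448) .nil) (nat_lit 390) (nat_lit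
  192) (nat_lit 1389) .nil))))) (nat_lit 391) (nat_lit 146) (nat_lit 1604) (.node (.node (.node (.node (.node
  (.node .nil (nat_lit 392) (nat_lit 162) (nat_lit 1603) .nil) (nat_lit 393) (nat_lit 81) (nat_lit 768) (.node
  .nil (nat_lit 394) (nat_lit 129) (nat_lit 740) .nil)) (nat_lit 395) (nat_lit 97) (nat_lit 764) (.node (.node
  .nil (nat_lit 396) (nat_lit 145) (nat_lit 503) .nil) (nat_lit 397) (nat_lit 178) (nat_lit 1622) .nil))
  (nat_lit 398) (nat_lit 97) (nat_lit 1011) (.node (.node (.node .nil (nat_lit 399) (nat_lit 161) (nat_lit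
  1049) .nil) (nat_lit 400) (nat_lit 129) (nat_lit 1016) (.node .nil (nat_lit 401) (nat_lit 177) (nat_lit
  1000) .nil)) (nat_lit 402) (nat_lit 113) (nat_lit 1012) (.node (.node .nil (nat_lit 403) (nat_lit 178)
  (nat_lit 1649) .nil) (nat_lit 404) (nat_lit 144) (nat_lit 1133) .nil))) (nat_lit 405) (nat_lit 130) (nat_lit
  1151) (.node (.node (.node (.node .nil (nat_lit 406) (nat_lit 144) (nat_lit 1415) .nil) (nat_lit 407)
  (nat_lit 193) (nat_lit 675) (.node .nil (nat_lit 408) (nat_lit 177) (nat_lit 688) .nil)) (nat_lit 409)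
  (nat_lit 194) (nat_lit 1040) (.node (.node .nil (nat_lit 410) (nat_lit 160) (nat_lit 1202) .nil) (nat_lit
  417) (nat_lit 113) (nat_lit 852) .nil)) (nat_lit 418) (nat_lit 146) (nat_lit 752) (.node (.node (.node .nil
  (nat_lit 419) (nat_lit 177) (nat_lit 1296) .nil) (nat_lit 420) (nat_lit 160) (nat_lit 898) .nil) (nat_lit
  421) (nat_lit 161) (nat_lit 1292) (.node (.node .nil (nat_lit 422) (nat_lit 161) (nat_lit 1295) .nil)
  (nat_lit 423) (nat_lit 177) (nat_lit 551) .nil)))) (nat_lit 424) (nat_lit 178) (nat_lit 984) (.node (.node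
  (.node (.node (.node .nil (nat_lit 425) (nat_lit 113) (nat_lit 209) .nil) (nat_lit 426) (nat_lit 66)
  (nat_lit 37) (.node .nil (nat_lit 427) (nat_lit 144) (nat_lit 435) .nil)) (nat_lit 428) (nat_lit 146)
  (nat_lit 28) (.node (.node .nil (nat_lit 429) (nat_lit 114) (nat_lit 1048) .nil) (nat_lit 430) (nat_lit 128)
  (nat_lit 429) .nil)) (nat_lit 431) (nat_lit 129) (nat_lit 429) (.node (.node (.node .nil (nat_lit 432)
  (nat_lit 144) (nat_lit 431) .nil) (nat_lit 433) (nat_lit 112) (nat_lit 785) (.node .nil (nat_lit 434)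
  (nat_lit 145) (nat_lit 1027) .nil)) (nat_lit 435) (nat_lit 129) (nat_lit 1025) (.node (.node .nil (nat_lit
  436) (nat_lit 178) (nat_lit 781) .nil) (nat_lit 437) (nat_lit 146) (nat_lit 1110) .nil))) (nat_lit 438)
  (nat_lit 176) (nat_lit 1741) (.node (.node (.node (.node .nil (nat_lit 439) (nat_lit 176) (nat_lit 1718)
  .nil) (nat_lit 440) (nat_lit 178) (nat_lit 1346) (.node .nil (nat_lit 441) (nat_lit 194) (nat_lit 534)
  .nil)) (nat_lit 442) (nat_lit 160) (nat_lit 1630) (.node (.node .nil (nat_lit 443) (nat_lit 161) (nat_lit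
  1105) .nil) (nat_lit 444) (nat_lit 193) (nat_lit 1249) .nil)) (nat_lit 445) (nat_lit 209) (nat_lit 533)
  (.node (.node (.node .nil (nat_lit 446) (nat_lit 144) (nat_lit 133) .nil) (nat_lit 447) (nat_lit 114)
  (nat_lit 480) .nil) (nat_lit 448) (nat_lit 144) (nat_lit 199) (.node (.node .nil (nat_lit 449) (nat_lit 193)
  (nat_lit 1365) .nil) (nat_lit 450) (nat_lit 145) (nat_lit 1594) .nil))))))
def kB0t_4 : T := (.node (.node (.node (.node (.node (.node (.node .nil (nat_lit 452) (nat_lit 192) (nat_lit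
  1576) .nil) (nat_lit 453) (nat_lit 177) (nat_lit 842) (.node .nil (nat_lit 454) (nat_lit 192) (nat_lit 1277)
  .nil)) (nat_lit 455) (nat_lit 144) (nat_lit 484) (.node (.node .nil (nat_lit 456) (nat_lit 160) (nat_lit
  1719) .nil) (nat_lit 457) (nat_lit 112) (nat_lit 99) .nil)) (nat_lit 458) (nat_lit 129) (nat_lit 797) (.node
  (.node (.node .nil (nat_lit 459) (nat_lit 17) (nat_lit 1567) .nil) (nat_lit 460) (nat_lit 129) (nat_lit
  1569) (.node .nil (nat_lit 461) (nat_lit 96) (nat_lit 463) .nil)) (nat_lit 462) (nat_lit 129) (nat_lit 780)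
  (.node (.node .nil (nat_lit 463) (nat_lit 81) (nat_lit 583) .nil) (nat_lit 464) (nat_lit 129) (nat_lit 692)
  .nil))) (nat_lit 465) (nat_lit 161) (nat_lit 1483) (.node (.node (.node (.node .nil (nat_lit 466) (nat_lit
  160) (nat_lit 987) .nil) (nat_lit 470) (nat_lit 145) (nat_lit 1455) (.node .nil (nat_lit 471) (nat_lit 176)
  (nat_lit 849) .nil)) (nat_lit 472) (nat_lit 161) (nat_lit 1166) (.node (.node .nil (nat_lit 473) (nat_lit
  193) (nat_lit 957) .nil) (nat_lit 474) (nat_lit 194) (nat_lit 1256) .nil)) (nat_lit 475) (nat_lit 194)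
  (nat_lit 1268) (.node (.node (.node .nil (nat_lit 476) (nat_lit 162) (nat_lit 901) .nil) (nat_lit 477)
  (nat_lit 161) (nat_lit 269) .nil) (nat_lit 478) (nat_lit 146) (nat_lit 503) (.node (.node .nil (nat_lit 479)
  (nat_lit 193) (nat_lit 1268) .nil) (nat_lit 480) (nat_lit 97) (nat_lit 1286) .nil)))) (nat_lit 481) (nat_lit
  193) (nat_lit 439) (.node (.node (.node (.node (.node .nil (nat_lit 482) (nat_lit 176) (nat_lit 1115) .nil)
  (nat_lit 483) (nat_lit 178) (nat_lit 1303) (.node .nil (nat_lit 484) (nat_lit 130) (nat_lit 1610) .nil))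
  (nat_lit 485) (nat_lit 128) (nat_lit 1016) (.node (.node .nil (nat_lit 486) (nat_lit 176) (nat_lit 1047)
  .nil) (nat_lit 487) (nat_lit 162) (nat_lit 265) .nil)) (nat_lit 488) (nat_lit 130) (nat_lit 139) (.node
  (.node (.node .nil (nat_lit 489) (nat_lit 81) (nat_lit 1708) .nil) (nat_lit 490) (nat_lit 114) (nat_lit 259)
  (.node .nil (nat_lit 491) (nat_lit 130) (nat_lit 264) .nil)) (nat_lit 492) (nat_lit 160) (nat_lit 1046)
  (.node (.node .nil (nat_lit 493) (nat_lit 161) (nat_lit 1731) .nil) (nat_lit 494) (nat_lit 114) (nat_lit 99)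
  .nil))) (nat_lit 495) (nat_lit 130) (nat_lit 201) (.node (.node (.node (.node .nil (nat_lit 496) (nat_lit
  97) (nat_lit 1721) .nil) (nat_lit 497) (nat_lit 177) (nat_lit 1723) (.node .nil (nat_lit 498) (nat_lit 162)
  (nat_lit 100) .nil)) (nat_lit 499) (nat_lit 50) (nat_lit 204) (.node (.node .nil (nat_lit 500) (nat_lit 176)
  (nat_lit 129) .nil) (nat_lit 501) (nat_lit 177) (nat_lit 1298) .nil)) (nat_lit 503) (nat_lit 128) (nat_lit
  179) (.node (.node (.node .nil (nat_lit 504) (nat_lit 161) (nat_lit 1098) .nil) (nat_lit 505) (nat_lit 160)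
  (nat_lit 737) .nil) (nat_lit 506) (nat_lit 193) (nat_lit 1453) (.node (.node .nil (nat_lit 507) (nat_lit
  144) (nat_lit 1751) .nil) (nat_lit 508) (nat_lit 160) (nat_lit 1729) .nil))))) (nat_lit 510) (nat_lit 161)
  (nat_lit 16) (.node (.node (.node (.node (.node (.node .nil (nat_lit 511) (nat_lit 192) (nat_lit 1094) .nil)
  (nat_lit 512) (nat_lit 145) (nat_lit 61) (.node .nil (nat_lit 513) (nat_lit 193) (nat_lit 36) .nil))
  (nat_lit 514) (nat_lit 194) (nat_lit 1262) (.node (.node .nil (nat_lit 515) (nat_lit 145) (nat_lit 57) .nil)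
  (nat_lit 516) (nat_lit 178) (nat_lit 550) .nil)) (nat_lit 517) (nat_lit 129) (nat_lit 39) (.node (.node
  (.node .nil (nat_lit 518) (nat_lit 114) (nat_lit 1397) .nil) (nat_lit 519) (nat_lit 161) (nat_lit 192)
  (.node .nil (nat_lit 520) (nat_lit 194) (nat_lit 1245) .nil)) (nat_lit 521) (nat_lit 178) (nat_lit 442)
  (.node (.node .nil (nat_lit 522) (nat_lit 146) (nat_lit 1133) .nil) (nat_lit 523) (nat_lit 161) (nat_lit
  694) .nil))) (nat_lit 524) (nat_lit 146) (nat_lit 1403) (.node (.node (.node (.node .nil (nat_lit 525)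
  (nat_lit 178) (nat_lit 1182) .nil) (nat_lit 526) (nat_lit 162) (nat_lit 1135) (.node .nil (nat_lit 530)
  (nat_lit 177) (nat_lit 184) .nil)) (nat_lit 531) (nat_lit 162) (nat_lit 1398) (.node (.node .nil (nat_lit
  532) (nat_lit 146) (nat_lit 1246) .nil) (nat_lit 533) (nat_lit 192) (nat_lit 1738) .nil)) (nat_lit 534)
  (nat_lit 176) (nat_lit 586) (.node (.node (.node .nil (nat_lit 535) (nat_lit 177) (nat_lit 1597) .nil)
  (nat_lit 536) (nat_lit 161) (nat_lit 1388) .nil) (nat_lit 537) (nat_lit 177) (nat_lit 1464) (.node (.node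
  .nil (nat_lit 538) (nat_lit 178) (nat_lit 544) .nil) (nat_lit 539) (nat_lit 192) (nat_lit 974) .nil))))
  (nat_lit 540) (nat_lit 129) (nat_lit 1073) (.node (.node (.node (.node (.node .nil (nat_lit 541) (nat_lit
  128) (nat_lit 773) .nil) (nat_lit 542) (nat_lit 178) (nat_lit 1373) (.node .nil (nat_lit 543) (nat_lit 145)
  (nat_lit 120) .nil)) (nat_lit 544) (nat_lit 161) (nat_lit 760) (.node (.node .nil (nat_lit 545) (nat_lit
  176) (nat_lit 1346) .nil) (nat_lit 546) (nat_lit 146) (nat_lit 1614) .nil)) (nat_lit 547) (nat_lit 209)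
  (nat_lit 1113) (.node (.node (.node .nil (nat_lit 548) (nat_lit 194) (nat_lit 889) .nil) (nat_lit 549)
  (nat_lit 194) (nat_lit 453) (.node .nil (nat_lit 550) (nat_lit 161) (nat_lit 1496) .nil)) (nat_lit 551)
  (nat_lit 162) (nat_lit 1443) (.node (.node .nil (nat_lit 552) (nat_lit 160) (nat_lit 1548) .nil) (nat_lit
  553) (nat_lit 145) (nat_lit 747) .nil))) (nat_lit 554) (nat_lit 194) (nat_lit 608) (.node (.node (.node
  (.node .nil (nat_lit 555) (nat_lit 160) (nat_lit 800) .nil) (nat_lit 556) (nat_lit 178) (nat_lit 1115)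
  (.node .nil (nat_lit 557) (nat_lit 161) (nat_lit 211) .nil)) (nat_lit 558) (nat_lit 176) (nat_lit 551)
  (.node (.node .nil (nat_lit 559) (nat_lit 113) (nat_lit 222) .nil) (nat_lit 560) (nat_lit 162) (nat_lit
  1111) .nil)) (nat_lit 561) (nat_lit 209) (nat_lit 86) (.node (.node (.node .nil (nat_lit 562) (nat_lit 129)
  (nat_lit 130) .nil) (nat_lit 563) (nat_lit 194) (nat_lit 1642) .nil) (nat_lit 564) (nat_lit 160) (nat_lit
  1643) (.node (.node .nil (nat_lit 565) (nat_lit 194) (nat_lit 998) .nil) (nat_lit 566) (nat_lit 130)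
  (nat_lit 619) .nil))))))
def kB0t_5 : T := (.node (.node (.node (.node (.node (.node (.node .nil (nat_lit 568) (nat_lit 80) (nat_lit
  1708) .nil) (nat_lit 569) (nat_lit 209) (nat_lit 1319) (.node .nil (nat_lit 570) (nat_lit 146) (nat_lit
  1501) .nil)) (nat_lit 571) (nat_lit 112) (nat_lit 1715) (.node (.node .nil (nat_lit 572) (nat_lit 178)
  (nat_lit 931) .nil) (nat_lit 573) (nat_lit 177) (nat_lit 1289) .nil)) (nat_lit 574) (nat_lit 192) (nat_lit
  670) (.node (.node (.node .nil (nat_lit 575) (nat_lit 194) (nat_lit 1629) .nil) (nat_lit 576) (nat_lit 192)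
  (nat_lit 1330) (.node .nil (nat_lit 577) (nat_lit 210) (nat_lit 1317) .nil)) (nat_lit 578) (nat_lit 224)
  (nat_lit 885) (.node (.node .nil (nat_lit 579) (nat_lit 192) (nat_lit 912) .nil) (nat_lit 580) (nat_lit 192)
  (nat_lit 834) .nil))) (nat_lit 581) (nat_lit 128) (nat_lit 779) (.node (.node (.node (.node .nil (nat_lit
  582) (nat_lit 80) (nat_lit 583) .nil) (nat_lit 583) (nat_lit 66) (nat_lit 21) (.node .nil (nat_lit 584)
  (nat_lit 145) (nat_lit 174) .nil)) (nat_lit 585) (nat_lit 162) (nat_lit 1295) (.node (.node .nil (nat_lit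
  586) (nat_lit 161) (nat_lit 387) .nil) (nat_lit 587) (nat_lit 176) (nat_lit 345) .nil)) (nat_lit 588)
  (nat_lit 112) (nat_lit 340) (.node (.node (.node .nil (nat_lit 589) (nat_lit 194) (nat_lit 1493) .nil)
  (nat_lit 590) (nat_lit 130) (nat_lit 1593) .nil) (nat_lit 591) (nat_lit 161) (nat_lit 1194) (.node (.node
  .nil (nat_lit 592) (nat_lit 146) (nat_lit 180) .nil) (nat_lit 593) (nat_lit 130) (nat_lit 177) .nil))))
  (nat_lit 594) (nat_lit 192) (nat_lit 595) (.node (.node (.node (.node (.node .nil (nat_lit 595) (nat_lit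
  178) (nat_lit 145) .nil) (nat_lit 596) (nat_lit 193) (nat_lit 1574) (.node .nil (nat_lit 597) (nat_lit 128)
  (nat_lit 677) .nil)) (nat_lit 598) (nat_lit 177) (nat_lit 1530) (.node (.node .nil (nat_lit 599) (nat_lit
  178) (nat_lit 182) .nil) (nat_lit 600) (nat_lit 177) (nat_lit 1097) .nil)) (nat_lit 601) (nat_lit 178)
  (nat_lit 947) (.node (.node (.node .nil (nat_lit 602) (nat_lit 129) (nat_lit 457) .nil) (nat_lit 603)
  (nat_lit 177) (nat_lit 386) (.node .nil (nat_lit 604) (nat_lit 176) (nat_lit 1663) .nil)) (nat_lit 605)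
  (nat_lit 194) (nat_lit 866) (.node (.node .nil (nat_lit 606) (nat_lit 208) (nat_lit 1601) .nil) (nat_lit
  607) (nat_lit 161) (nat_lit 1316) .nil))) (nat_lit 608) (nat_lit 177) (nat_lit 1131) (.node (.node (.node
  (.node .nil (nat_lit 609) (nat_lit 209) (nat_lit 565) .nil) (nat_lit 610) (nat_lit 161) (nat_lit 1352)
  (.node .nil (nat_lit 611) (nat_lit 177) (nat_lit 1329) .nil)) (nat_lit 612) (nat_lit 161) (nat_lit 1307)
  (.node (.node .nil (nat_lit 613) (nat_lit 176) (nat_lit 1216) .nil) (nat_lit 614) (nat_lit 162) (nat_lit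
  1274) .nil)) (nat_lit 615) (nat_lit 144) (nat_lit 1061) (.node (.node (.node .nil (nat_lit 616) (nat_lit
  114) (nat_lit 1509) .nil) (nat_lit 617) (nat_lit 177) (nat_lit 505) .nil) (nat_lit 618) (nat_lit 193)
  (nat_lit 1335) (.node (.node .nil (nat_lit 619) (nat_lit 113) (nat_lit 1378) .nil) (nat_lit 620) (nat_lit
  130) (nat_lit 807) .nil))))) (nat_lit 621) (nat_lit 193) (nat_lit 1336) (.node (.node (.node (.node (.node
  (.node .nil (nat_lit 622) (nat_lit 194) (nat_lit 890) .nil) (nat_lit 623) (nat_lit 160) (nat_lit 326) (.node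
  .nil (nat_lit 624) (nat_lit 96) (nat_lit 1694) .nil)) (nat_lit 625) (nat_lit 176) (nat_lit 1660) (.node
  (.node .nil (nat_lit 626) (nat_lit 210) (nat_lit 1199) .nil) (nat_lit 627) (nat_lit 145) (nat_lit 1646)
  .nil)) (nat_lit 628) (nat_lit 194) (nat_lit 1515) (.node (.node (.node .nil (nat_lit 629) (nat_lit 177)
  (nat_lit 277) .nil) (nat_lit 630) (nat_lit 113) (nat_lit 291) (.node .nil (nat_lit 631) (nat_lit 194)
  (nat_lit 1688) .nil)) (nat_lit 632) (nat_lit 130) (nat_lit 356) (.node (.node .nil (nat_lit 633) (nat_lit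
  176) (nat_lit 1349) .nil) (nat_lit 634) (nat_lit 208) (nat_lit 1581) .nil))) (nat_lit 635) (nat_lit 176)
  (nat_lit 1632) (.node (.node (.node (.node .nil (nat_lit 636) (nat_lit 160) (nat_lit 1731) .nil) (nat_lit
  637) (nat_lit 193) (nat_lit 229) (.node .nil (nat_lit 638) (nat_lit 161) (nat_lit 690) .nil)) (nat_lit 639)
  (nat_lit 128) (nat_lit 1623) (.node (.node .nil (nat_lit 640) (nat_lit 209) (nat_lit 1385) .nil) (nat_lit
  641) (nat_lit 193) (nat_lit 604) .nil)) (nat_lit 642) (nat_lit 178) (nat_lit 1037) (.node (.node (.node .nil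
  (nat_lit 643) (nat_lit 194) (nat_lit 854) .nil) (nat_lit 644) (nat_lit 193) (nat_lit 1245) .nil) (nat_lit
  645) (nat_lit 144) (nat_lit 814) (.node (.node .nil (nat_lit 646) (nat_lit 193) (nat_lit 545) .nil) (nat_lit
  647) (nat_lit 144) (nat_lit 268) .nil)))) (nat_lit 648) (nat_lit 161) (nat_lit 236) (.node (.node (.node
  (.node (.node .nil (nat_lit 649) (nat_lit 194) (nat_lit 1149) .nil) (nat_lit 650) (nat_lit 162) (nat_lit
  711) (.node .nil (nat_lit 653) (nat_lit 194) (nat_lit 1390) .nil)) (nat_lit 654) (nat_lit 161) (nat_lit 681)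
  (.node (.node .nil (nat_lit 656) (nat_lit 145) (nat_lit 101) .nil) (nat_lit 657) (nat_lit 193) (nat_lit 74)
  .nil)) (nat_lit 658) (nat_lit 146) (nat_lit 175) (.node (.node (.node .nil (nat_lit 659) (nat_lit 226)
  (nat_lit 1557) .nil) (nat_lit 660) (nat_lit 193) (nat_lit 1159) (.node .nil (nat_lit 661) (nat_lit 161)
  (nat_lit 1156) .nil)) (nat_lit 662) (nat_lit 178) (nat_lit 208) (.node (.node .nil (nat_lit 663) (nat_lit
  177) (nat_lit 1037) .nil) (nat_lit 664) (nat_lit 194) (nat_lit 957) .nil))) (nat_lit 665) (nat_lit 178)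
  (nat_lit 688) (.node (.node (.node (.node .nil (nat_lit 666) (nat_lit 113) (nat_lit 1033) .nil) (nat_lit
  667) (nat_lit 145) (nat_lit 892) (.node .nil (nat_lit 668) (nat_lit 161) (nat_lit 1247) .nil)) (nat_lit 669)
  (nat_lit 160) (nat_lit 895) (.node (.node .nil (nat_lit 670) (nat_lit 177) (nat_lit 999) .nil) (nat_lit 671)
  (nat_lit 193) (nat_lit 1083) .nil)) (nat_lit 672) (nat_lit 145) (nat_lit 1104) (.node (.node (.node .nil
  (nat_lit 673) (nat_lit 97) (nat_lit 1106) .nil) (nat_lit 674) (nat_lit 178) (nat_lit 493) .nil) (nat_lit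
  675) (nat_lit 178) (nat_lit 422) (.node (.node .nil (nat_lit 676) (nat_lit 128) (nat_lit 698) .nil) (nat_lit
  677) (nat_lit 114) (nat_lit 496) .nil))))))
def kB0t_6 : T := (.node (.node (.node (.node (.node (.node (.node .nil (nat_lit 679) (nat_lit 161) (nat_lit
  406) .nil) (nat_lit 680) (nat_lit 162) (nat_lit 877) (.node .nil (nat_lit 681) (nat_lit 146) (nat_lit 867)
  .nil)) (nat_lit 682) (nat_lit 161) (nat_lit 219) (.node (.node .nil (nat_lit 683) (nat_lit 162) (nat_lit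
  379) .nil) (nat_lit 684) (nat_lit 210) (nat_lit 580) .nil)) (nat_lit 685) (nat_lit 130) (nat_lit 958) (.node
  (.node (.node .nil (nat_lit 686) (nat_lit 161) (nat_lit 26) .nil) (nat_lit 687) (nat_lit 193) (nat_lit 31)
  (.node .nil (nat_lit 688) (nat_lit 160) (nat_lit 694) .nil)) (nat_lit 689) (nat_lit 145) (nat_lit 220)
  (.node (.node .nil (nat_lit 690) (nat_lit 144) (nat_lit 928) .nil) (nat_lit 691) (nat_lit 178) (nat_lit 872)
  .nil))) (nat_lit 692) (nat_lit 114) (nat_lit 218) (.node (.node (.node (.node .nil (nat_lit 693) (nat_lit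
  98) (nat_lit 83) .nil) (nat_lit 694) (nat_lit 146) (nat_lit 540) (.node .nil (nat_lit 695) (nat_lit 81)
  (nat_lit 32) .nil)) (nat_lit 696) (nat_lit 97) (nat_lit 29) (.node (.node .nil (nat_lit 697) (nat_lit 161)
  (nat_lit 524) .nil) (nat_lit 698) (nat_lit 113) (nat_lit 805) .nil)) (nat_lit 699) (nat_lit 48) (nat_lit
  116) (.node (.node (.node .nil (nat_lit 700) (nat_lit 128) (nat_lit 115) .nil) (nat_lit 701) (nat_lit 144)
  (nat_lit 685) .nil) (nat_lit 702) (nat_lit 161) (nat_lit 522) (.node (.node .nil (nat_lit 703) (nat_lit 129)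
  (nat_lit 518) .nil) (nat_lit 704) (nat_lit 113) (nat_lit 218) .nil)))) (nat_lit 705) (nat_lit 49) (nat_lit
  82) (.node (.node (.node (.node (.node .nil (nat_lit 706) (nat_lit 64) (nat_lit 705) .nil) (nat_lit 707)
  (nat_lit 177) (nat_lit 526) (.node .nil (nat_lit 708) (nat_lit 194) (nat_lit 1562) .nil)) (nat_lit 709)
  (nat_lit 128) (nat_lit 704) (.node (.node .nil (nat_lit 710) (nat_lit 145) (nat_lit 1480) .nil) (nat_lit
  711) (nat_lit 144) (nat_lit 1659) .nil)) (nat_lit 712) (nat_lit 161) (nat_lit 1375) (.node (.node (.node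
  .nil (nat_lit 713) (nat_lit 146) (nat_lit 1223) .nil) (nat_lit 714) (nat_lit 161) (nat_lit 851) (.node .nil
  (nat_lit 715) (nat_lit 194) (nat_lit 48) .nil)) (nat_lit 716) (nat_lit 162) (nat_lit 512) (.node (.node .nil
  (nat_lit 717) (nat_lit 161) (nat_lit 658) .nil) (nat_lit 720) (nat_lit 192) (nat_lit 926) .nil))) (nat_lit
  721) (nat_lit 161) (nat_lit 507) (.node (.node (.node (.node .nil (nat_lit 722) (nat_lit 194) (nat_lit 731)
  .nil) (nat_lit 723) (nat_lit 130) (nat_lit 126) (.node .nil (nat_lit 724) (nat_lit 130) (nat_lit 417) .nil))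
  (nat_lit 725) (nat_lit 146) (nat_lit 728) (.node (.node .nil (nat_lit 726) (nat_lit 112) (nat_lit 252) .nil)
  (nat_lit 727) (nat_lit 178) (nat_lit 894) .nil)) (nat_lit 728) (nat_lit 129) (nat_lit 1023) (.node (.node
  (.node .nil (nat_lit 729) (nat_lit 130) (nat_lit 726) .nil) (nat_lit 730) (nat_lit 177) (nat_lit 1154) .nil)
  (nat_lit 731) (nat_lit 177) (nat_lit 636) (.node (.node .nil (nat_lit 732) (nat_lit 178) (nat_lit 1107)
  .nil) (nat_lit 733) (nat_lit 162) (nat_lit 855) .nil))))) (nat_lit 734) (nat_lit 192) (nat_lit 358) (.node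
  (.node (.node (.node (.node (.node .nil (nat_lit 735) (nat_lit 176) (nat_lit 1628) .nil) (nat_lit 736)
  (nat_lit 160) (nat_lit 1518) (.node .nil (nat_lit 737) (nat_lit 145) (nat_lit 1110) .nil)) (nat_lit 738)
  (nat_lit 146) (nat_lit 57) (.node (.node .nil (nat_lit 739) (nat_lit 192) (nat_lit 419) .nil) (nat_lit 740)
  (nat_lit 112) (nat_lit 378) .nil)) (nat_lit 741) (nat_lit 146) (nat_lit 790) (.node (.node (.node .nil
  (nat_lit 742) (nat_lit 162) (nat_lit 745) .nil) (nat_lit 743) (nat_lit 178) (nat_lit 87) (.node .nil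
  (nat_lit 744) (nat_lit 192) (nat_lit 727) .nil)) (nat_lit 745) (nat_lit 144) (nat_lit 106) (.node (.node
  .nil (nat_lit 746) (nat_lit 162) (nat_lit 751) .nil) (nat_lit 747) (nat_lit 130) (nat_lit 911) .nil)))
  (nat_lit 748) (nat_lit 144) (nat_lit 747) (.node (.node (.node (.node .nil (nat_lit 749) (nat_lit 98)
  (nat_lit 764) .nil) (nat_lit 750) (nat_lit 194) (nat_lit 125) (.node .nil (nat_lit 751) (nat_lit 144)
  (nat_lit 80) .nil)) (nat_lit 752) (nat_lit 128) (nat_lit 447) (.node (.node .nil (nat_lit 753) (nat_lit 176)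
  (nat_lit 476) .nil) (nat_lit 754) (nat_lit 82) (nat_lit 235) .nil)) (nat_lit 755) (nat_lit 129) (nat_lit
  1026) (.node (.node (.node .nil (nat_lit 756) (nat_lit 160) (nat_lit 741) .nil) (nat_lit 757) (nat_lit 192)
  (nat_lit 436) .nil) (nat_lit 758) (nat_lit 161) (nat_lit 478) (.node (.node .nil (nat_lit 759) (nat_lit 145)
  (nat_lit 723) .nil) (nat_lit 760) (nat_lit 144) (nat_lit 724) .nil)))) (nat_lit 761) (nat_lit 210) (nat_lit
  791) (.node (.node (.node (.node (.node .nil (nat_lit 762) (nat_lit 146) (nat_lit 763) .nil) (nat_lit 763)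
  (nat_lit 128) (nat_lit 248) (.node .nil (nat_lit 764) (nat_lit 80) (nat_lit 247) .nil)) (nat_lit 765)
  (nat_lit 178) (nat_lit 758) (.node (.node .nil (nat_lit 766) (nat_lit 178) (nat_lit 81) .nil) (nat_lit 767)
  (nat_lit 128) (nat_lit 134) .nil)) (nat_lit 768) (nat_lit 64) (nat_lit 198) (.node (.node (.node .nil
  (nat_lit 769) (nat_lit 192) (nat_lit 374) .nil) (nat_lit 770) (nat_lit 81) (nat_lit 1184) (.node .nil
  (nat_lit 771) (nat_lit 161) (nat_lit 1084) .nil)) (nat_lit 772) (nat_lit 162) (nat_lit 16) (.node (.node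
  .nil (nat_lit 773) (nat_lit 113) (nat_lit 1391) .nil) (nat_lit 774) (nat_lit 194) (nat_lit 789) .nil)))
  (nat_lit 775) (nat_lit 161) (nat_lit 1153) (.node (.node (.node (.node .nil (nat_lit 776) (nat_lit 194)
  (nat_lit 753) .nil) (nat_lit 777) (nat_lit 177) (nat_lit 1297) (.node .nil (nat_lit 778) (nat_lit 129)
  (nat_lit 1273) .nil)) (nat_lit 779) (nat_lit 113) (nat_lit 461) (.node (.node .nil (nat_lit 780) (nat_lit
  114) (nat_lit 20) .nil) (nat_lit 781) (nat_lit 161) (nat_lit 1402) .nil)) (nat_lit 782) (nat_lit 177)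
  (nat_lit 1155) (.node (.node (.node .nil (nat_lit 783) (nat_lit 193) (nat_lit 534) .nil) (nat_lit 784)
  (nat_lit 192) (nat_lit 662) .nil) (nat_lit 785) (nat_lit 97) (nat_lit 1384) (.node (.node .nil (nat_lit 786)
  (nat_lit 176) (nat_lit 771) .nil) (nat_lit 787) (nat_lit 192) (nat_lit 730) .nil))))))
def kB0t_7 : T := (.node (.node (.node (.node (.node (.node (.node .nil (nat_lit 789) (nat_lit 177) (nat_lit
  555) .nil) (nat_lit 790) (nat_lit 129) (nat_lit 1186) (.node .nil (nat_lit 791) (nat_lit 193) (nat_lit 1188)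
  .nil)) (nat_lit 792) (nat_lit 162) (nat_lit 898) (.node (.node .nil (nat_lit 793) (nat_lit 177) (nat_lit
  1300) .nil) (nat_lit 794) (nat_lit 193) (nat_lit 1185) .nil)) (nat_lit 795) (nat_lit 193) (nat_lit 1150)
  (.node (.node (.node .nil (nat_lit 796) (nat_lit 16) (nat_lit 1567) .nil) (nat_lit 797) (nat_lit 112)
  (nat_lit 1568) (.node .nil (nat_lit 798) (nat_lit 98) (nat_lit 582) .nil)) (nat_lit 799) (nat_lit 130)
  (nat_lit 797) (.node (.node .nil (nat_lit 800) (nat_lit 145) (nat_lit 685) .nil) (nat_lit 801) (nat_lit 160)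
  (nat_lit 919) .nil))) (nat_lit 802) (nat_lit 193) (nat_lit 1165) (.node (.node (.node (.node .nil (nat_lit
  803) (nat_lit 145) (nat_lit 676) .nil) (nat_lit 804) (nat_lit 146) (nat_lit 1104) (.node .nil (nat_lit 805)
  (nat_lit 98) (nat_lit 1106) .nil)) (nat_lit 806) (nat_lit 178) (nat_lit 1272) (.node (.node .nil (nat_lit
  807) (nat_lit 112) (nat_lit 1672) .nil) (nat_lit 808) (nat_lit 177) (nat_lit 825) .nil)) (nat_lit 809)
  (nat_lit 209) (nat_lit 1199) (.node (.node (.node .nil (nat_lit 810) (nat_lit 177) (nat_lit 1234) .nil)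
  (nat_lit 811) (nat_lit 177) (nat_lit 1427) .nil) (nat_lit 812) (nat_lit 177) (nat_lit 552) (.node (.node
  .nil (nat_lit 813) (nat_lit 145) (nat_lit 1231) .nil) (nat_lit 814) (nat_lit 129) (nat_lit 1227) .nil))))
  (nat_lit 815) (nat_lit 161) (nat_lit 1425) (.node (.node (.node (.node (.node .nil (nat_lit 816) (nat_lit
  160) (nat_lit 829) .nil) (nat_lit 817) (nat_lit 145) (nat_lit 1228) (.node .nil (nat_lit 818) (nat_lit 178)
  (nat_lit 1216) .nil)) (nat_lit 819) (nat_lit 176) (nat_lit 308) (.node (.node .nil (nat_lit 820) (nat_lit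
  176) (nat_lit 607) .nil) (nat_lit 821) (nat_lit 160) (nat_lit 967) .nil)) (nat_lit 822) (nat_lit 193)
  (nat_lit 818) (.node (.node (.node .nil (nat_lit 823) (nat_lit 129) (nat_lit 1507) .nil) (nat_lit 824)
  (nat_lit 145) (nat_lit 867) (.node .nil (nat_lit 825) (nat_lit 162) (nat_lit 297) .nil)) (nat_lit 826)
  (nat_lit 176) (nat_lit 815) (.node (.node .nil (nat_lit 827) (nat_lit 97) (nat_lit 568) .nil) (nat_lit 828)
  (nat_lit 176) (nat_lit 859) .nil))) (nat_lit 829) (nat_lit 145) (nat_lit 1415) (.node (.node (.node (.node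
  .nil (nat_lit 830) (nat_lit 193) (nat_lit 1420) .nil) (nat_lit 831) (nat_lit 178) (nat_lit 1007) (.node .nil
  (nat_lit 832) (nat_lit 193) (nat_lit 1210) .nil)) (nat_lit 833) (nat_lit 192) (nat_lit 921) (.node (.node
  .nil (nat_lit 834) (nat_lit 177) (nat_lit 1148) .nil) (nat_lit 835) (nat_lit 144) (nat_lit 968) .nil))
  (nat_lit 836) (nat_lit 177) (nat_lit 1426) (.node (.node (.node .nil (nat_lit 837) (nat_lit 161) (nat_lit
  1424) .nil) (nat_lit 838) (nat_lit 177) (nat_lit 1418) .nil) (nat_lit 839) (nat_lit 192) (nat_lit 925)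
  (.node (.node .nil (nat_lit 840) (nat_lit 178) (nat_lit 1020) .nil) (nat_lit 841) (nat_lit 145) (nat_lit
  1422) .nil))))) (nat_lit 842) (nat_lit 162) (nat_lit 919) (.node (.node (.node (.node (.node (.node .nil
  (nat_lit 843) (nat_lit 177) (nat_lit 1207) .nil) (nat_lit 844) (nat_lit 160) (nat_lit 1566) (.node .nil
  (nat_lit 845) (nat_lit 192) (nat_lit 1562) .nil)) (nat_lit 846) (nat_lit 176) (nat_lit 907) (.node (.node
  .nil (nat_lit 847) (nat_lit 177) (nat_lit 1209) .nil) (nat_lit 848) (nat_lit 194) (nat_lit 1249) .nil))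
  (nat_lit 849) (nat_lit 161) (nat_lit 711) (.node (.node (.node .nil (nat_lit 850) (nat_lit 193) (nat_lit
  642) .nil) (nat_lit 851) (nat_lit 146) (nat_lit 1061) (.node .nil (nat_lit 852) (nat_lit 96) (nat_lit 1758)
  .nil)) (nat_lit 853) (nat_lit 209) (nat_lit 1226) (.node (.node .nil (nat_lit 854) (nat_lit 177) (nat_lit
  1431) .nil) (nat_lit 855) (nat_lit 145) (nat_lit 963) .nil))) (nat_lit 856) (nat_lit 177) (nat_lit 1587)
  (.node (.node (.node (.node .nil (nat_lit 857) (nat_lit 129) (nat_lit 1492) .nil) (nat_lit 858) (nat_lit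
  177) (nat_lit 1198) (.node .nil (nat_lit 859) (nat_lit 161) (nat_lit 1135) .nil)) (nat_lit 860) (nat_lit
  112) (nat_lit 827) (.node (.node .nil (nat_lit 861) (nat_lit 161) (nat_lit 455) .nil) (nat_lit 862) (nat_lit
  192) (nat_lit 902) .nil)) (nat_lit 863) (nat_lit 210) (nat_lit 1560) (.node (.node (.node .nil (nat_lit 864)
  (nat_lit 176) (nat_lit 472) .nil) (nat_lit 865) (nat_lit 193) (nat_lit 633) .nil) (nat_lit 866) (nat_lit
  176) (nat_lit 872) (.node (.node .nil (nat_lit 867) (nat_lit 128) (nat_lit 918) .nil) (nat_lit 868) (nat_lit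
  194) (nat_lit 1479) .nil)))) (nat_lit 869) (nat_lit 176) (nat_lit 1661) (.node (.node (.node (.node (.node
  .nil (nat_lit 870) (nat_lit 161) (nat_lit 1122) .nil) (nat_lit 871) (nat_lit 160) (nat_lit 841) (.node .nil
  (nat_lit 872) (nat_lit 161) (nat_lit 1443) .nil)) (nat_lit 873) (nat_lit 178) (nat_lit 1632) (.node (.node
  .nil (nat_lit 874) (nat_lit 178) (nat_lit 1466) .nil) (nat_lit 875) (nat_lit 161) (nat_lit 1641) .nil))
  (nat_lit 876) (nat_lit 192) (nat_lit 946) (.node (.node (.node .nil (nat_lit 877) (nat_lit 144) (nat_lit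
  916) .nil) (nat_lit 878) (nat_lit 193) (nat_lit 1439) (.node .nil (nat_lit 879) (nat_lit 194) (nat_lit 111)
  .nil)) (nat_lit 880) (nat_lit 177) (nat_lit 1447) (.node (.node .nil (nat_lit 881) (nat_lit 178) (nat_lit
  386) .nil) (nat_lit 882) (nat_lit 194) (nat_lit 946) .nil))) (nat_lit 883) (nat_lit 178) (nat_lit 382)
  (.node (.node (.node (.node .nil (nat_lit 884) (nat_lit 162) (nat_lit 176) .nil) (nat_lit 885) (nat_lit 209)
  (nat_lit 848) (.node .nil (nat_lit 886) (nat_lit 145) (nat_lit 1635) .nil)) (nat_lit 887) (nat_lit 193)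
  (nat_lit 1471) (.node (.node .nil (nat_lit 888) (nat_lit 146) (nat_lit 517) .nil) (nat_lit 889) (nat_lit
  177) (nat_lit 1120) .nil)) (nat_lit 890) (nat_lit 177) (nat_lit 1168) (.node (.node (.node .nil (nat_lit
  891) (nat_lit 160) (nat_lit 351) .nil) (nat_lit 892) (nat_lit 128) (nat_lit 559) .nil) (nat_lit 893)
  (nat_lit 192) (nat_lit 483) (.node (.node .nil (nat_lit 894) (nat_lit 161) (nat_lit 1102) .nil) (nat_lit
  895) (nat_lit 145) (nat_lit 1100) .nil))))))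
def kB0t_8 : T := (.node (.node (.node (.node (.node (.node (.node .nil (nat_lit 897) (nat_lit 194) (nat_lit
  929) .nil) (nat_lit 898) (nat_lit 145) (nat_lit 1282) (.node .nil (nat_lit 899) (nat_lit 161) (nat_lit 1031)
  .nil)) (nat_lit 900) (nat_lit 194) (nat_lit 730) (.node (.node .nil (nat_lit 901) (nat_lit 144) (nat_lit
  540) .nil) (nat_lit 902) (nat_lit 177) (nat_lit 1060) .nil)) (nat_lit 903) (nat_lit 193) (nat_lit 1451)
  (.node (.node (.node .nil (nat_lit 904) (nat_lit 193) (nat_lit 1163) .nil) (nat_lit 905) (nat_lit 112)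
  (nat_lit 673) (.node .nil (nat_lit 906) (nat_lit 194) (nat_lit 419) .nil)) (nat_lit 907) (nat_lit 161)
  (nat_lit 1202) (.node (.node .nil (nat_lit 908) (nat_lit 177) (nat_lit 1302) .nil) (nat_lit 909) (nat_lit
  162) (nat_lit 829) .nil))) (nat_lit 910) (nat_lit 192) (nat_lit 501) (.node (.node (.node (.node .nil
  (nat_lit 911) (nat_lit 113) (nat_lit 1032) .nil) (nat_lit 912) (nat_lit 177) (nat_lit 1301) (.node .nil
  (nat_lit 913) (nat_lit 160) (nat_lit 953) .nil)) (nat_lit 914) (nat_lit 144) (nat_lit 778) (.node (.node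
  .nil (nat_lit 915) (nat_lit 193) (nat_lit 1450) .nil) (nat_lit 916) (nat_lit 129) (nat_lit 1086) .nil))
  (nat_lit 917) (nat_lit 177) (nat_lit 1071) (.node (.node (.node .nil (nat_lit 918) (nat_lit 113) (nat_lit
  624) .nil) (nat_lit 919) (nat_lit 145) (nat_lit 1454) .nil) (nat_lit 920) (nat_lit 160) (nat_lit 982) (.node
  (.node .nil (nat_lit 921) (nat_lit 177) (nat_lit 1203) .nil) (nat_lit 922) (nat_lit 178) (nat_lit 504)
  .nil)))) (nat_lit 923) (nat_lit 210) (nat_lit 830) (.node (.node (.node (.node (.node .nil (nat_lit 924)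
  (nat_lit 162) (nat_lit 1021) .nil) (nat_lit 925) (nat_lit 178) (nat_lit 801) (.node .nil (nat_lit 926)
  (nat_lit 177) (nat_lit 1063) .nil)) (nat_lit 927) (nat_lit 177) (nat_lit 1288) (.node (.node .nil (nat_lit
  928) (nat_lit 129) (nat_lit 571) .nil) (nat_lit 929) (nat_lit 176) (nat_lit 842) .nil)) (nat_lit 930)
  (nat_lit 176) (nat_lit 975) (.node (.node (.node .nil (nat_lit 931) (nat_lit 161) (nat_lit 437) .nil)
  (nat_lit 932) (nat_lit 177) (nat_lit 1138) (.node .nil (nat_lit 933) (nat_lit 176) (nat_lit 1563) .nil))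
  (nat_lit 934) (nat_lit 128) (nat_lit 973) (.node (.node .nil (nat_lit 935) (nat_lit 209) (nat_lit 1062)
  .nil) (nat_lit 936) (nat_lit 193) (nat_lit 1204) .nil))) (nat_lit 937) (nat_lit 161) (nat_lit 1276) (.node
  (.node (.node (.node .nil (nat_lit 944) (nat_lit 128) (nat_lit 911) .nil) (nat_lit 945) (nat_lit 193)
  (nat_lit 1257) (.node .nil (nat_lit 946) (nat_lit 177) (nat_lit 1212) .nil)) (nat_lit 947) (nat_lit 160)
  (nat_lit 667) (.node (.node .nil (nat_lit 948) (nat_lit 193) (nat_lit 819) .nil) (nat_lit 949) (nat_lit 160)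
  (nat_lit 813) .nil)) (nat_lit 950) (nat_lit 193) (nat_lit 1394) (.node (.node (.node .nil (nat_lit 951)
  (nat_lit 178) (nat_lit 131) .nil) (nat_lit 952) (nat_lit 145) (nat_lit 1403) .nil) (nat_lit 953) (nat_lit
  146) (nat_lit 676) (.node (.node .nil (nat_lit 954) (nat_lit 193) (nat_lit 1258) .nil) (nat_lit 955)
  (nat_lit 178) (nat_lit 1561) .nil))))) (nat_lit 956) (nat_lit 176) (nat_lit 861) (.node (.node (.node (.node
  (.node (.node .nil (nat_lit 957) (nat_lit 176) (nat_lit 668) .nil) (nat_lit 958) (nat_lit 112) (nat_lit 480)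
  (.node .nil (nat_lit 959) (nat_lit 177) (nat_lit 1251) .nil)) (nat_lit 960) (nat_lit 194) (nat_lit 423)
  (.node (.node .nil (nat_lit 961) (nat_lit 208) (nat_lit 850) .nil) (nat_lit 962) (nat_lit 177) (nat_lit 891)
  .nil)) (nat_lit 963) (nat_lit 128) (nat_lit 417) (.node (.node (.node .nil (nat_lit 964) (nat_lit 208)
  (nat_lit 791) .nil) (nat_lit 965) (nat_lit 193) (nat_lit 438) (.node .nil (nat_lit 966) (nat_lit 162)
  (nat_lit 105) .nil)) (nat_lit 967) (nat_lit 145) (nat_lit 1405) (.node (.node .nil (nat_lit 968) (nat_lit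
  129) (nat_lit 1408) .nil) (nat_lit 969) (nat_lit 192) (nat_lit 927) .nil))) (nat_lit 970) (nat_lit 177)
  (nat_lit 1065) (.node (.node (.node (.node .nil (nat_lit 971) (nat_lit 177) (nat_lit 1078) .nil) (nat_lit
  972) (nat_lit 194) (nat_lit 663) (.node .nil (nat_lit 973) (nat_lit 113) (nat_lit 1397) .nil)) (nat_lit 974)
  (nat_lit 177) (nat_lit 1254) (.node (.node .nil (nat_lit 975) (nat_lit 162) (nat_lit 135) .nil) (nat_lit
  976) (nat_lit 192) (nat_lit 663) .nil)) (nat_lit 977) (nat_lit 209) (nat_lit 1140) (.node (.node (.node .nil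
  (nat_lit 978) (nat_lit 178) (nat_lit 679) .nil) (nat_lit 979) (nat_lit 193) (nat_lit 1125) .nil) (nat_lit
  980) (nat_lit 210) (nat_lit 539) (.node (.node .nil (nat_lit 981) (nat_lit 162) (nat_lit 701) .nil) (nat_lit
  982) (nat_lit 145) (nat_lit 1246) .nil)))) (nat_lit 983) (nat_lit 130) (nat_lit 698) (.node (.node (.node
  (.node (.node .nil (nat_lit 984) (nat_lit 161) (nat_lit 992) .nil) (nat_lit 985) (nat_lit 177) (nat_lit 442)
  (.node .nil (nat_lit 986) (nat_lit 162) (nat_lit 667) .nil)) (nat_lit 987) (nat_lit 146) (nat_lit 237)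
  (.node (.node .nil (nat_lit 988) (nat_lit 177) (nat_lit 1244) .nil) (nat_lit 989) (nat_lit 208) (nat_lit
  979) .nil)) (nat_lit 990) (nat_lit 194) (nat_lit 1001) (.node (.node (.node .nil (nat_lit 991) (nat_lit 210)
  (nat_lit 1437) .nil) (nat_lit 992) (nat_lit 144) (nat_lit 517) (.node .nil (nat_lit 993) (nat_lit 178)
  (nat_lit 1000) .nil)) (nat_lit 994) (nat_lit 178) (nat_lit 1003) (.node (.node .nil (nat_lit 995) (nat_lit
  193) (nat_lit 993) .nil) (nat_lit 996) (nat_lit 178) (nat_lit 844) .nil))) (nat_lit 997) (nat_lit 194)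
  (nat_lit 933) (.node (.node (.node (.node .nil (nat_lit 998) (nat_lit 176) (nat_lit 1745) .nil) (nat_lit
  999) (nat_lit 160) (nat_lit 391) (.node .nil (nat_lit 1000) (nat_lit 160) (nat_lit 144) .nil)) (nat_lit
  1001) (nat_lit 177) (nat_lit 138) (.node (.node .nil (nat_lit 1002) (nat_lit 193) (nat_lit 397) .nil)
  (nat_lit 1003) (nat_lit 161) (nat_lit 352) .nil)) (nat_lit 1004) (nat_lit 210) (nat_lit 845) (.node (.node
  (.node .nil (nat_lit 1005) (nat_lit 178) (nat_lit 937) .nil) (nat_lit 1006) (nat_lit 146) (nat_lit 916)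
  .nil) (nat_lit 1007) (nat_lit 161) (nat_lit 713) (.node (.node .nil (nat_lit 1008) (nat_lit 130) (nat_lit
  918) .nil) (nat_lit 1009) (nat_lit 177) (nat_lit 1349) .nil))))))
def kB0t_9 : T := (.node (.node (.node (.node (.node (.node (.node .nil (nat_lit 1011) (nat_lit 80) (nat_lit
  149) .nil) (nat_lit 1012) (nat_lit 96) (nat_lit 152) (.node .nil (nat_lit 1013) (nat_lit 160) (nat_lit 189)
  .nil)) (nat_lit 1014) (nat_lit 161) (nat_lit 404) (.node (.node .nil (nat_lit 1015) (nat_lit 128) (nat_lit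
  490) .nil) (nat_lit 1016) (nat_lit 114) (nat_lit 98) .nil)) (nat_lit 1017) (nat_lit 144) (nat_lit 491)
  (.node (.node (.node .nil (nat_lit 1018) (nat_lit 162) (nat_lit 841) .nil) (nat_lit 1019) (nat_lit 146)
  (nat_lit 928) (.node .nil (nat_lit 1020) (nat_lit 160) (nat_lit 224) .nil)) (nat_lit 1021) (nat_lit 145)
  (nat_lit 484) (.node (.node .nil (nat_lit 1022) (nat_lit 145) (nat_lit 729) .nil) (nat_lit 1023) (nat_lit
  114) (nat_lit 1012) .nil))) (nat_lit 1024) (nat_lit 97) (nat_lit 754) (.node (.node (.node (.node .nil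
  (nat_lit 1025) (nat_lit 112) (nat_lit 1024) .nil) (nat_lit 1026) (nat_lit 114) (nat_lit 65) (.node .nil
  (nat_lit 1027) (nat_lit 130) (nat_lit 64) .nil)) (nat_lit 1028) (nat_lit 98) (nat_lit 1011) (.node (.node
  .nil (nat_lit 1029) (nat_lit 162) (nat_lit 1010) .nil) (nat_lit 1030) (nat_lit 176) (nat_lit 1361) .nil))
  (nat_lit 1031) (nat_lit 146) (nat_lit 857) (.node (.node (.node .nil (nat_lit 1032) (nat_lit 96) (nat_lit
  1721) .nil) (nat_lit 1033) (nat_lit 96) (nat_lit 1634) .nil) (nat_lit 1034) (nat_lit 176) (nat_lit 712)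
  (.node (.node .nil (nat_lit 1035) (nat_lit 145) (nat_lit 1502) .nil) (nat_lit 1036) (nat_lit 144) (nat_lit
  1542) .nil)))) (nat_lit 1037) (nat_lit 160) (nat_lit 1128) (.node (.node (.node (.node (.node .nil (nat_lit
  1038) (nat_lit 193) (nat_lit 874) .nil) (nat_lit 1039) (nat_lit 161) (nat_lit 1499) (.node .nil (nat_lit
  1040) (nat_lit 176) (nat_lit 399) .nil)) (nat_lit 1041) (nat_lit 208) (nat_lit 1695) (.node (.node .nil
  (nat_lit 1042) (nat_lit 146) (nat_lit 1735) .nil) (nat_lit 1043) (nat_lit 178) (nat_lit 1300) .nil))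
  (nat_lit 1044) (nat_lit 210) (nat_lit 1079) (.node (.node (.node .nil (nat_lit 1045) (nat_lit 112) (nat_lit
  1651) .nil) (nat_lit 1046) (nat_lit 146) (nat_lit 431) (.node .nil (nat_lit 1047) (nat_lit 162) (nat_lit
  432) .nil)) (nat_lit 1048) (nat_lit 96) (nat_lit 489) (.node (.node .nil (nat_lit 1049) (nat_lit 146)
  (nat_lit 430) .nil) (nat_lit 1050) (nat_lit 178) (nat_lit 472) .nil))) (nat_lit 1051) (nat_lit 162) (nat_lit
  835) (.node (.node (.node (.node .nil (nat_lit 1052) (nat_lit 178) (nat_lit 821) .nil) (nat_lit 1053)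
  (nat_lit 208) (nat_lit 215) (.node .nil (nat_lit 1054) (nat_lit 193) (nat_lit 1056) .nil)) (nat_lit 1055)
  (nat_lit 178) (nat_lit 52) (.node (.node .nil (nat_lit 1056) (nat_lit 178) (nat_lit 50) .nil) (nat_lit 1057)
  (nat_lit 194) (nat_lit 51) .nil)) (nat_lit 1058) (nat_lit 194) (nat_lit 633) (.node (.node (.node .nil
  (nat_lit 1059) (nat_lit 176) (nat_lit 1411) .nil) (nat_lit 1060) (nat_lit 160) (nat_lit 1761) .nil) (nat_lit
  1061) (nat_lit 129) (nat_lit 1467) (.node (.node .nil (nat_lit 1062) (nat_lit 192) (nat_lit 732) .nil)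
  (nat_lit 1063) (nat_lit 160) (nat_lit 656) .nil))))) (nat_lit 1064) (nat_lit 176) (nat_lit 510) (.node
  (.node (.node (.node (.node (.node .nil (nat_lit 1065) (nat_lit 160) (nat_lit 1737) .nil) (nat_lit 1066)
  (nat_lit 162) (nat_lit 1098) (.node .nil (nat_lit 1067) (nat_lit 178) (nat_lit 1296) .nil)) (nat_lit 1068)
  (nat_lit 176) (nat_lit 302) (.node (.node .nil (nat_lit 1069) (nat_lit 178) (nat_lit 557) .nil) (nat_lit
  1070) (nat_lit 162) (nat_lit 803) .nil)) (nat_lit 1071) (nat_lit 160) (nat_lit 1707) (.node (.node (.node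
  .nil (nat_lit 1072) (nat_lit 128) (nat_lit 1712) .nil) (nat_lit 1073) (nat_lit 112) (nat_lit 395) (.node
  .nil (nat_lit 1074) (nat_lit 145) (nat_lit 639) .nil)) (nat_lit 1075) (nat_lit 208) (nat_lit 319) (.node
  (.node .nil (nat_lit 1076) (nat_lit 178) (nat_lit 1203) .nil) (nat_lit 1077) (nat_lit 129) (nat_lit 1593)
  .nil))) (nat_lit 1078) (nat_lit 160) (nat_lit 1280) (.node (.node (.node (.node .nil (nat_lit 1079) (nat_lit
  192) (nat_lit 288) .nil) (nat_lit 1080) (nat_lit 162) (nat_lit 406) (.node .nil (nat_lit 1081) (nat_lit 128)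
  (nat_lit 1519) .nil)) (nat_lit 1082) (nat_lit 208) (nat_lit 1734) (.node (.node .nil (nat_lit 1083) (nat_lit
  178) (nat_lit 1431) .nil) (nat_lit 1084) (nat_lit 146) (nat_lit 1252) .nil)) (nat_lit 1085) (nat_lit 192)
  (nat_lit 1383) (.node (.node (.node .nil (nat_lit 1086) (nat_lit 112) (nat_lit 1703) .nil) (nat_lit 1087)
  (nat_lit 194) (nat_lit 113) .nil) (nat_lit 1088) (nat_lit 128) (nat_lit 619) (.node (.node .nil (nat_lit
  1089) (nat_lit 160) (nat_lit 1436) .nil) (nat_lit 1090) (nat_lit 160) (nat_lit 1546) .nil)))) (nat_lit 1091)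
  (nat_lit 177) (nat_lit 1366) (.node (.node (.node (.node (.node .nil (nat_lit 1092) (nat_lit 162) (nat_lit
  1153) .nil) (nat_lit 1093) (nat_lit 208) (nat_lit 1740) (.node .nil (nat_lit 1094) (nat_lit 178) (nat_lit
  1251) .nil)) (nat_lit 1095) (nat_lit 192) (nat_lit 1736) (.node (.node .nil (nat_lit 1096) (nat_lit 192)
  (nat_lit 516) .nil) (nat_lit 1097) (nat_lit 160) (nat_lit 532) .nil)) (nat_lit 1098) (nat_lit 144) (nat_lit
  1545) (.node (.node (.node .nil (nat_lit 1099) (nat_lit 194) (nat_lit 635) .nil) (nat_lit 1100) (nat_lit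
  128) (nat_lit 1713) (.node .nil (nat_lit 1101) (nat_lit 161) (nat_lit 738) .nil)) (nat_lit 1102) (nat_lit
  144) (nat_lit 1746) (.node (.node .nil (nat_lit 1103) (nat_lit 129) (nat_lit 905) .nil) (nat_lit 1104)
  (nat_lit 128) (nat_lit 1686) .nil))) (nat_lit 1105) (nat_lit 146) (nat_lit 1382) (.node (.node (.node (.node
  .nil (nat_lit 1106) (nat_lit 80) (nat_lit 1685) .nil) (nat_lit 1107) (nat_lit 160) (nat_lit 396) (.node .nil
  (nat_lit 1108) (nat_lit 161) (nat_lit 1586) .nil)) (nat_lit 1109) (nat_lit 162) (nat_lit 1036) (.node (.node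
  .nil (nat_lit 1110) (nat_lit 128) (nat_lit 630) .nil) (nat_lit 1111) (nat_lit 145) (nat_lit 1472) .nil))
  (nat_lit 1112) (nat_lit 177) (nat_lit 1590) (.node (.node (.node .nil (nat_lit 1113) (nat_lit 194) (nat_lit
  1299) .nil) (nat_lit 1114) (nat_lit 192) (nat_lit 1653) .nil) (nat_lit 1115) (nat_lit 161) (nat_lit 1312)
  (.node (.node .nil (nat_lit 1116) (nat_lit 193) (nat_lit 735) .nil) (nat_lit 1117) (nat_lit 176) (nat_lit
  322) .nil))))))
def kB0t_10 : T := (.node (.node (.node (.node (.node (.node (.node .nil (nat_lit 1119) (nat_lit 161) (nat_lit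
  1589) .nil) (nat_lit 1120) (nat_lit 160) (nat_lit 153) (.node .nil (nat_lit 1121) (nat_lit 178) (nat_lit
  552) .nil)) (nat_lit 1122) (nat_lit 144) (nat_lit 1666) (.node (.node .nil (nat_lit 1123) (nat_lit 144)
  (nat_lit 333) .nil) (nat_lit 1124) (nat_lit 178) (nat_lit 1126) .nil)) (nat_lit 1125) (nat_lit 176) (nat_lit
  1279) (.node (.node (.node .nil (nat_lit 1126) (nat_lit 160) (nat_lit 289) .nil) (nat_lit 1127) (nat_lit
  194) (nat_lit 819) (.node .nil (nat_lit 1128) (nat_lit 145) (nat_lit 724) .nil)) (nat_lit 1129) (nat_lit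
  160) (nat_lit 1074) (.node (.node .nil (nat_lit 1130) (nat_lit 192) (nat_lit 806) .nil) (nat_lit 1131)
  (nat_lit 162) (nat_lit 1102) .nil))) (nat_lit 1132) (nat_lit 177) (nat_lit 871) (.node (.node (.node (.node
  .nil (nat_lit 1133) (nat_lit 129) (nat_lit 860) .nil) (nat_lit 1134) (nat_lit 192) (nat_lit 1656) (.node
  .nil (nat_lit 1135) (nat_lit 144) (nat_lit 400) .nil)) (nat_lit 1136) (nat_lit 178) (nat_lit 1304) (.node
  (.node .nil (nat_lit 1137) (nat_lit 192) (nat_lit 603) .nil) (nat_lit 1138) (nat_lit 162) (nat_lit 1123)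
  .nil)) (nat_lit 1139) (nat_lit 209) (nat_lit 876) (.node (.node (.node .nil (nat_lit 1140) (nat_lit 192)
  (nat_lit 1278) .nil) (nat_lit 1141) (nat_lit 192) (nat_lit 1069) .nil) (nat_lit 1142) (nat_lit 225) (nat_lit
  1053) (.node (.node .nil (nat_lit 1143) (nat_lit 146) (nat_lit 1454) .nil) (nat_lit 1144) (nat_lit 193)
  (nat_lit 587) .nil)))) (nat_lit 1145) (nat_lit 193) (nat_lit 996) (.node (.node (.node (.node (.node .nil
  (nat_lit 1146) (nat_lit 192) (nat_lit 1267) .nil) (nat_lit 1147) (nat_lit 178) (nat_lit 1232) (.node .nil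
  (nat_lit 1148) (nat_lit 160) (nat_lit 1716) .nil)) (nat_lit 1149) (nat_lit 177) (nat_lit 884) (.node (.node
  .nil (nat_lit 1150) (nat_lit 176) (nat_lit 1722) .nil) (nat_lit 1151) (nat_lit 113) (nat_lit 1558) .nil))
  (nat_lit 1152) (nat_lit 192) (nat_lit 1413) (.node (.node (.node .nil (nat_lit 1153) (nat_lit 144) (nat_lit
  1544) .nil) (nat_lit 1154) (nat_lit 162) (nat_lit 1035) (.node .nil (nat_lit 1155) (nat_lit 160) (nat_lit
  1543) .nil)) (nat_lit 1156) (nat_lit 144) (nat_lit 1735) (.node (.node .nil (nat_lit 1157) (nat_lit 160)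
  (nat_lit 512) .nil) (nat_lit 1158) (nat_lit 160) (nat_lit 515) .nil))) (nat_lit 1159) (nat_lit 178) (nat_lit
  1198) (.node (.node (.node (.node .nil (nat_lit 1160) (nat_lit 82) (nat_lit 1685) .nil) (nat_lit 1161)
  (nat_lit 194) (nat_lit 1429) (.node .nil (nat_lit 1162) (nat_lit 176) (nat_lit 1393) .nil)) (nat_lit 1163)
  (nat_lit 178) (nat_lit 1334) (.node (.node .nil (nat_lit 1164) (nat_lit 144) (nat_lit 1760) .nil) (nat_lit
  1165) (nat_lit 176) (nat_lit 1749) .nil)) (nat_lit 1166) (nat_lit 144) (nat_lit 1776) (.node (.node (.node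
  .nil (nat_lit 1167) (nat_lit 162) (nat_lit 1312) .nil) (nat_lit 1168) (nat_lit 162) (nat_lit 1128) .nil)
  (nat_lit 1169) (nat_lit 177) (nat_lit 1505) (.node (.node .nil (nat_lit 1170) (nat_lit 192) (nat_lit 1462)
  .nil) (nat_lit 1171) (nat_lit 177) (nat_lit 1663) .nil))))) (nat_lit 1172) (nat_lit 209) (nat_lit 539)
  (.node (.node (.node (.node (.node (.node .nil (nat_lit 1173) (nat_lit 144) (nat_lit 1520) .nil) (nat_lit
  1174) (nat_lit 162) (nat_lit 627) (.node .nil (nat_lit 1175) (nat_lit 144) (nat_lit 566) .nil)) (nat_lit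
  1176) (nat_lit 113) (nat_lit 1314) (.node (.node .nil (nat_lit 1177) (nat_lit 193) (nat_lit 1460) .nil)
  (nat_lit 1178) (nat_lit 192) (nat_lit 1435) .nil)) (nat_lit 1179) (nat_lit 209) (nat_lit 1317) (.node (.node
  (.node .nil (nat_lit 1180) (nat_lit 160) (nat_lit 337) .nil) (nat_lit 1181) (nat_lit 192) (nat_lit 336)
  (.node .nil (nat_lit 1182) (nat_lit 161) (nat_lit 987) .nil)) (nat_lit 1183) (nat_lit 178) (nat_lit 410)
  (.node (.node .nil (nat_lit 1184) (nat_lit 64) (nat_lit 1732) .nil) (nat_lit 1185) (nat_lit 178) (nat_lit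
  362) .nil))) (nat_lit 1186) (nat_lit 112) (nat_lit 1757) (.node (.node (.node (.node .nil (nat_lit 1187)
  (nat_lit 162) (nat_lit 543) .nil) (nat_lit 1188) (nat_lit 176) (nat_lit 1696) (.node .nil (nat_lit 1189)
  (nat_lit 162) (nat_lit 1280) .nil)) (nat_lit 1190) (nat_lit 145) (nat_lit 566) (.node (.node .nil (nat_lit
  1191) (nat_lit 194) (nat_lit 257) .nil) (nat_lit 1192) (nat_lit 192) (nat_lit 280) .nil)) (nat_lit 1193)
  (nat_lit 160) (nat_lit 339) (.node (.node (.node .nil (nat_lit 1194) (nat_lit 146) (nat_lit 1282) .nil)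
  (nat_lit 1195) (nat_lit 177) (nat_lit 623) .nil) (nat_lit 1196) (nat_lit 178) (nat_lit 1155) (.node (.node
  .nil (nat_lit 1197) (nat_lit 210) (nat_lit 533) .nil) (nat_lit 1198) (nat_lit 160) (nat_lit 1348) .nil))))
  (nat_lit 1199) (nat_lit 192) (nat_lit 287) (.node (.node (.node (.node (.node .nil (nat_lit 1200) (nat_lit
  225) (nat_lit 863) .nil) (nat_lit 1201) (nat_lit 193) (nat_lit 929) (.node .nil (nat_lit 1202) (nat_lit 146)
  (nat_lit 1088) .nil)) (nat_lit 1203) (nat_lit 160) (nat_lit 1577) (.node (.node .nil (nat_lit 1204) (nat_lit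
  178) (nat_lit 1120) .nil) (nat_lit 1205) (nat_lit 193) (nat_lit 925) .nil)) (nat_lit 1206) (nat_lit 176)
  (nat_lit 650) (.node (.node (.node .nil (nat_lit 1207) (nat_lit 162) (nat_lit 1237) .nil) (nat_lit 1208)
  (nat_lit 176) (nat_lit 1549) (.node .nil (nat_lit 1209) (nat_lit 162) (nat_lit 1220) .nil)) (nat_lit 1210)
  (nat_lit 176) (nat_lit 519) (.node (.node .nil (nat_lit 1211) (nat_lit 178) (nat_lit 1078) .nil) (nat_lit
  1212) (nat_lit 160) (nat_lit 305) .nil))) (nat_lit 1213) (nat_lit 192) (nat_lit 1347) (.node (.node (.node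
  (.node .nil (nat_lit 1214) (nat_lit 208) (nat_lit 1344) .nil) (nat_lit 1215) (nat_lit 194) (nat_lit 545)
  (.node .nil (nat_lit 1216) (nat_lit 161) (nat_lit 1386) .nil)) (nat_lit 1217) (nat_lit 161) (nat_lit 1503)
  (.node (.node .nil (nat_lit 1218) (nat_lit 194) (nat_lit 1449) .nil) (nat_lit 1219) (nat_lit 194) (nat_lit
  1210) .nil)) (nat_lit 1220) (nat_lit 145) (nat_lit 1275) (.node (.node (.node .nil (nat_lit 1221) (nat_lit
  193) (nat_lit 1485) .nil) (nat_lit 1222) (nat_lit 178) (nat_lit 308) .nil) (nat_lit 1223) (nat_lit 129)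
  (nat_lit 588) (.node (.node .nil (nat_lit 1224) (nat_lit 210) (nat_lit 1145) .nil) (nat_lit 1225) (nat_lit
  161) (nat_lit 1486) .nil))))))
def kB0t_11 : T := (.node (.node (.node (.node (.node (.node (.node .nil (nat_lit 1227) (nat_lit 112) (nat_lit
  1747) .nil) (nat_lit 1228) (nat_lit 128) (nat_lit 1714) (.node .nil (nat_lit 1229) (nat_lit 176) (nat_lit
  355) .nil)) (nat_lit 1230) (nat_lit 161) (nat_lit 877) (.node (.node .nil (nat_lit 1231) (nat_lit 128)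
  (nat_lit 1711) .nil) (nat_lit 1232) (nat_lit 161) (nat_lit 835) .nil)) (nat_lit 1233) (nat_lit 178) (nat_lit
  519) (.node (.node (.node .nil (nat_lit 1234) (nat_lit 160) (nat_lit 1433) .nil) (nat_lit 1235) (nat_lit
  176) (nat_lit 1709) (.node .nil (nat_lit 1236) (nat_lit 193) (nat_lit 1321) .nil)) (nat_lit 1237) (nat_lit
  144) (nat_lit 119) (.node (.node .nil (nat_lit 1238) (nat_lit 177) (nat_lit 1430) .nil) (nat_lit 1239)
  (nat_lit 193) (nat_lit 873) .nil))) (nat_lit 1240) (nat_lit 178) (nat_lit 510) (.node (.node (.node (.node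
  .nil (nat_lit 1241) (nat_lit 193) (nat_lit 1494) .nil) (nat_lit 1242) (nat_lit 193) (nat_lit 1387) (.node
  .nil (nat_lit 1243) (nat_lit 144) (nat_lit 1616) .nil)) (nat_lit 1244) (nat_lit 162) (nat_lit 584) (.node
  (.node .nil (nat_lit 1245) (nat_lit 176) (nat_lit 160) .nil) (nat_lit 1246) (nat_lit 128) (nat_lit 356)
  .nil)) (nat_lit 1247) (nat_lit 144) (nat_lit 562) (.node (.node (.node .nil (nat_lit 1248) (nat_lit 193)
  (nat_lit 424) .nil) (nat_lit 1249) (nat_lit 176) (nat_lit 544) .nil) (nat_lit 1250) (nat_lit 194) (nat_lit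
  1059) (.node (.node .nil (nat_lit 1251) (nat_lit 160) (nat_lit 553) .nil) (nat_lit 1252) (nat_lit 128)
  (nat_lit 1615) .nil)))) (nat_lit 1253) (nat_lit 208) (nat_lit 1320) (.node (.node (.node (.node (.node .nil
  (nat_lit 1254) (nat_lit 162) (nat_lit 992) .nil) (nat_lit 1255) (nat_lit 193) (nat_lit 806) (.node .nil
  (nat_lit 1256) (nat_lit 176) (nat_lit 610) .nil)) (nat_lit 1257) (nat_lit 176) (nat_lit 560) (.node (.node
  .nil (nat_lit 1258) (nat_lit 176) (nat_lit 557) .nil) (nat_lit 1259) (nat_lit 161) (nat_lit 570) .nil))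
  (nat_lit 1260) (nat_lit 192) (nat_lit 608) (.node (.node (.node .nil (nat_lit 1261) (nat_lit 177) (nat_lit
  947) .nil) (nat_lit 1262) (nat_lit 176) (nat_lit 285) (.node .nil (nat_lit 1263) (nat_lit 162) (nat_lit 515)
  .nil)) (nat_lit 1264) (nat_lit 178) (nat_lit 1361) (.node (.node .nil (nat_lit 1265) (nat_lit 162) (nat_lit
  553) .nil) (nat_lit 1266) (nat_lit 192) (nat_lit 273) .nil))) (nat_lit 1267) (nat_lit 177) (nat_lit 1459)
  (.node (.node (.node (.node .nil (nat_lit 1268) (nat_lit 176) (nat_lit 523) .nil) (nat_lit 1269) (nat_lit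
  176) (nat_lit 137) (.node .nil (nat_lit 1270) (nat_lit 145) (nat_lit 934) .nil)) (nat_lit 1271) (nat_lit
  193) (nat_lit 1639) (.node (.node .nil (nat_lit 1272) (nat_lit 161) (nat_lit 1143) .nil) (nat_lit 1273)
  (nat_lit 112) (nat_lit 805) .nil)) (nat_lit 1274) (nat_lit 144) (nat_lit 1646) (.node (.node (.node .nil
  (nat_lit 1275) (nat_lit 128) (nat_lit 1309) .nil) (nat_lit 1276) (nat_lit 144) (nat_lit 1710) .nil) (nat_lit
  1277) (nat_lit 177) (nat_lit 1018) (.node (.node .nil (nat_lit 1278) (nat_lit 178) (nat_lit 1039) .nil)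
  (nat_lit 1279) (nat_lit 162) (nat_lit 1190) .nil))))) (nat_lit 1280) (nat_lit 145) (nat_lit 1008) (.node
  (.node (.node (.node (.node (.node .nil (nat_lit 1281) (nat_lit 176) (nat_lit 585) .nil) (nat_lit 1282)
  (nat_lit 128) (nat_lit 1540) (.node .nil (nat_lit 1283) (nat_lit 192) (nat_lit 408) .nil)) (nat_lit 1284)
  (nat_lit 161) (nat_lit 914) (.node (.node .nil (nat_lit 1285) (nat_lit 209) (nat_lit 739) .nil) (nat_lit
  1286) (nat_lit 80) (nat_lit 1730) .nil)) (nat_lit 1287) (nat_lit 192) (nat_lit 1753) (.node (.node (.node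
  .nil (nat_lit 1288) (nat_lit 160) (nat_lit 1763) .nil) (nat_lit 1289) (nat_lit 162) (nat_lit 1362) (.node
  .nil (nat_lit 1290) (nat_lit 160) (nat_lit 1724) .nil)) (nat_lit 1291) (nat_lit 193) (nat_lit 665) (.node
  (.node .nil (nat_lit 1292) (nat_lit 144) (nat_lit 1692) .nil) (nat_lit 1293) (nat_lit 129) (nat_lit 433)
  .nil))) (nat_lit 1294) (nat_lit 145) (nat_lit 541) (.node (.node (.node (.node .nil (nat_lit 1295) (nat_lit
  144) (nat_lit 1631) .nil) (nat_lit 1296) (nat_lit 160) (nat_lit 1535) (.node .nil (nat_lit 1297) (nat_lit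
  162) (nat_lit 1448) .nil)) (nat_lit 1298) (nat_lit 160) (nat_lit 803) (.node (.node .nil (nat_lit 1299)
  (nat_lit 176) (nat_lit 1539) .nil) (nat_lit 1300) (nat_lit 160) (nat_lit 584) .nil)) (nat_lit 1301) (nat_lit
  160) (nat_lit 1775) (.node (.node (.node .nil (nat_lit 1302) (nat_lit 160) (nat_lit 1702) .nil) (nat_lit
  1303) (nat_lit 160) (nat_lit 1744) .nil) (nat_lit 1304) (nat_lit 160) (nat_lit 1743) (.node (.node .nil
  (nat_lit 1305) (nat_lit 177) (nat_lit 920) .nil) (nat_lit 1306) (nat_lit 193) (nat_lit 1357) .nil))))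
  (nat_lit 1307) (nat_lit 146) (nat_lit 1422) (.node (.node (.node (.node (.node .nil (nat_lit 1308) (nat_lit
  144) (nat_lit 1605) .nil) (nat_lit 1309) (nat_lit 114) (nat_lit 624) (.node .nil (nat_lit 1310) (nat_lit
  160) (nat_lit 350) .nil)) (nat_lit 1311) (nat_lit 145) (nat_lit 1088) (.node (.node .nil (nat_lit 1312)
  (nat_lit 144) (nat_lit 1604) .nil) (nat_lit 1313) (nat_lit 161) (nat_lit 1237) .nil)) (nat_lit 1314)
  (nat_lit 96) (nat_lit 361) (.node (.node (.node .nil (nat_lit 1315) (nat_lit 176) (nat_lit 1602) .nil)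
  (nat_lit 1316) (nat_lit 146) (nat_lit 1072) (.node .nil (nat_lit 1317) (nat_lit 192) (nat_lit 113) .nil))
  (nat_lit 1318) (nat_lit 177) (nat_lit 1265) (.node (.node .nil (nat_lit 1319) (nat_lit 192) (nat_lit 538)
  .nil) (nat_lit 1320) (nat_lit 194) (nat_lit 1267) .nil))) (nat_lit 1321) (nat_lit 176) (nat_lit 324) (.node
  (.node (.node (.node .nil (nat_lit 1322) (nat_lit 192) (nat_lit 1620) .nil) (nat_lit 1323) (nat_lit 130)
  (nat_lit 1186) (.node .nil (nat_lit 1324) (nat_lit 160) (nat_lit 1111) .nil)) (nat_lit 1325) (nat_lit 208)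
  (nat_lit 449) (.node (.node .nil (nat_lit 1326) (nat_lit 177) (nat_lit 1328) .nil) (nat_lit 1327) (nat_lit
  176) (nat_lit 1189) .nil)) (nat_lit 1328) (nat_lit 160) (nat_lit 1190) (.node (.node (.node .nil (nat_lit
  1329) (nat_lit 162) (nat_lit 1423) .nil) (nat_lit 1330) (nat_lit 178) (nat_lit 1416) .nil) (nat_lit 1331)
  (nat_lit 130) (nat_lit 571) (.node (.node .nil (nat_lit 1332) (nat_lit 162) (nat_lit 1276) .nil) (nat_lit
  1333) (nat_lit 177) (nat_lit 614) .nil))))))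
def kB0t_12 : T := (.node (.node (.node (.node (.node (.node (.node .nil (nat_lit 1335) (nat_lit 178) (nat_lit
  508) .nil) (nat_lit 1336) (nat_lit 178) (nat_lit 1148) (.node .nil (nat_lit 1337) (nat_lit 130) (nat_lit
  1086) .nil)) (nat_lit 1338) (nat_lit 162) (nat_lit 1166) (.node (.node .nil (nat_lit 1339) (nat_lit 193)
  (nat_lit 1343) .nil) (nat_lit 1340) (nat_lit 162) (nat_lit 1308) .nil)) (nat_lit 1341) (nat_lit 177)
  (nat_lit 1368) (.node (.node (.node .nil (nat_lit 1342) (nat_lit 176) (nat_lit 1265) .nil) (nat_lit 1343)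
  (nat_lit 176) (nat_lit 1606) (.node .nil (nat_lit 1344) (nat_lit 193) (nat_lit 1052) .nil)) (nat_lit 1345)
  (nat_lit 194) (nat_lit 1091) (.node (.node .nil (nat_lit 1346) (nat_lit 161) (nat_lit 1006) .nil) (nat_lit
  1347) (nat_lit 178) (nat_lit 1119) .nil))) (nat_lit 1348) (nat_lit 146) (nat_lit 1607) (.node (.node (.node
  (.node .nil (nat_lit 1349) (nat_lit 162) (nat_lit 710) .nil) (nat_lit 1350) (nat_lit 192) (nat_lit 1439)
  (.node .nil (nat_lit 1351) (nat_lit 193) (nat_lit 1050) .nil)) (nat_lit 1352) (nat_lit 146) (nat_lit 1100)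
  (.node (.node .nil (nat_lit 1353) (nat_lit 114) (nat_lit 852) .nil) (nat_lit 1354) (nat_lit 193) (nat_lit
  1327) .nil)) (nat_lit 1355) (nat_lit 160) (nat_lit 1118) (.node (.node (.node .nil (nat_lit 1356) (nat_lit
  162) (nat_lit 1371) .nil) (nat_lit 1357) (nat_lit 176) (nat_lit 1168) .nil) (nat_lit 1358) (nat_lit 176)
  (nat_lit 1254) (.node (.node .nil (nat_lit 1359) (nat_lit 210) (nat_lit 1242) .nil) (nat_lit 1360) (nat_lit
  210) (nat_lit 1241) .nil)))) (nat_lit 1361) (nat_lit 161) (nat_lit 748) (.node (.node (.node (.node (.node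
  .nil (nat_lit 1362) (nat_lit 145) (nat_lit 620) .nil) (nat_lit 1363) (nat_lit 178) (nat_lit 1505) (.node
  .nil (nat_lit 1364) (nat_lit 192) (nat_lit 363) .nil)) (nat_lit 1365) (nat_lit 176) (nat_lit 1622) (.node
  (.node .nil (nat_lit 1366) (nat_lit 162) (nat_lit 615) .nil) (nat_lit 1367) (nat_lit 194) (nat_lit 258)
  .nil)) (nat_lit 1368) (nat_lit 160) (nat_lit 710) (.node (.node (.node .nil (nat_lit 1369) (nat_lit 161)
  (nat_lit 615) .nil) (nat_lit 1370) (nat_lit 210) (nat_lit 1392) (.node .nil (nat_lit 1371) (nat_lit 144)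
  (nat_lit 1635) .nil)) (nat_lit 1372) (nat_lit 178) (nat_lit 1355) (.node (.node .nil (nat_lit 1373) (nat_lit
  160) (nat_lit 1641) .nil) (nat_lit 1374) (nat_lit 161) (nat_lit 1308) .nil))) (nat_lit 1375) (nat_lit 144)
  (nat_lit 1223) (.node (.node (.node (.node .nil (nat_lit 1376) (nat_lit 194) (nat_lit 286) .nil) (nat_lit
  1377) (nat_lit 114) (nat_lit 1032) (.node .nil (nat_lit 1378) (nat_lit 98) (nat_lit 1286) .nil)) (nat_lit
  1379) (nat_lit 178) (nat_lit 636) (.node (.node .nil (nat_lit 1380) (nat_lit 162) (nat_lit 1401) .nil)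
  (nat_lit 1381) (nat_lit 162) (nat_lit 1402) .nil)) (nat_lit 1382) (nat_lit 129) (nat_lit 384) (.node (.node
  (.node .nil (nat_lit 1383) (nat_lit 177) (nat_lit 383) .nil) (nat_lit 1384) (nat_lit 80) (nat_lit 1774)
  .nil) (nat_lit 1385) (nat_lit 192) (nat_lit 360) (.node (.node .nil (nat_lit 1386) (nat_lit 144) (nat_lit
  1337) .nil) (nat_lit 1387) (nat_lit 176) (nat_lit 1676) .nil))))) (nat_lit 1388) (nat_lit 144) (nat_lit
  1627) (.node (.node (.node (.node (.node (.node .nil (nat_lit 1389) (nat_lit 178) (nat_lit 654) .nil)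
  (nat_lit 1390) (nat_lit 177) (nat_lit 975) (.node .nil (nat_lit 1391) (nat_lit 96) (nat_lit 1697) .nil))
  (nat_lit 1392) (nat_lit 192) (nat_lit 1720) (.node (.node .nil (nat_lit 1393) (nat_lit 161) (nat_lit 953)
  .nil) (nat_lit 1394) (nat_lit 176) (nat_lit 648) .nil)) (nat_lit 1395) (nat_lit 145) (nat_lit 944) (.node
  (.node (.node .nil (nat_lit 1396) (nat_lit 129) (nat_lit 958) .nil) (nat_lit 1397) (nat_lit 96) (nat_lit
  393) (.node .nil (nat_lit 1398) (nat_lit 144) (nat_lit 394) .nil)) (nat_lit 1399) (nat_lit 160) (nat_lit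
  1698) (.node (.node .nil (nat_lit 1400) (nat_lit 176) (nat_lit 1773) .nil) (nat_lit 1401) (nat_lit 145)
  (nat_lit 788) .nil))) (nat_lit 1402) (nat_lit 144) (nat_lit 1705) (.node (.node (.node (.node .nil (nat_lit
  1403) (nat_lit 128) (nat_lit 1657) .nil) (nat_lit 1404) (nat_lit 177) (nat_lit 949) (.node .nil (nat_lit
  1405) (nat_lit 128) (nat_lit 402) .nil)) (nat_lit 1406) (nat_lit 194) (nat_lit 1383) (.node (.node .nil
  (nat_lit 1407) (nat_lit 178) (nat_lit 586) .nil) (nat_lit 1408) (nat_lit 112) (nat_lit 398) .nil)) (nat_lit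
  1409) (nat_lit 193) (nat_lit 951) (.node (.node (.node .nil (nat_lit 1410) (nat_lit 161) (nat_lit 645) .nil)
  (nat_lit 1411) (nat_lit 162) (nat_lit 1294) .nil) (nat_lit 1412) (nat_lit 161) (nat_lit 194) (.node (.node
  .nil (nat_lit 1413) (nat_lit 178) (nat_lit 717) .nil) (nat_lit 1414) (nat_lit 146) (nat_lit 1293) .nil))))
  (nat_lit 1415) (nat_lit 130) (nat_lit 1176) (.node (.node (.node (.node (.node .nil (nat_lit 1416) (nat_lit
  160) (nat_lit 1754) .nil) (nat_lit 1417) (nat_lit 177) (nat_lit 816) (.node .nil (nat_lit 1418) (nat_lit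
  160) (nat_lit 1728) .nil)) (nat_lit 1419) (nat_lit 176) (nat_lit 1748) (.node (.node .nil (nat_lit 1420)
  (nat_lit 176) (nat_lit 526) .nil) (nat_lit 1421) (nat_lit 193) (nat_lit 826) .nil)) (nat_lit 1422) (nat_lit
  128) (nat_lit 1762) (.node (.node (.node .nil (nat_lit 1423) (nat_lit 144) (nat_lit 1759) .nil) (nat_lit
  1424) (nat_lit 144) (nat_lit 1726) (.node .nil (nat_lit 1425) (nat_lit 146) (nat_lit 1077) .nil)) (nat_lit
  1426) (nat_lit 160) (nat_lit 522) (.node (.node .nil (nat_lit 1427) (nat_lit 162) (nat_lit 1122) .nil)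
  (nat_lit 1428) (nat_lit 193) (nat_lit 828) .nil))) (nat_lit 1429) (nat_lit 177) (nat_lit 1263) (.node (.node
  (.node (.node .nil (nat_lit 1430) (nat_lit 160) (nat_lit 359) .nil) (nat_lit 1431) (nat_lit 160) (nat_lit
  713) (.node .nil (nat_lit 1432) (nat_lit 176) (nat_lit 1681) .nil)) (nat_lit 1433) (nat_lit 145) (nat_lit
  234) (.node (.node .nil (nat_lit 1434) (nat_lit 177) (nat_lit 127) .nil) (nat_lit 1435) (nat_lit 177)
  (nat_lit 323) .nil)) (nat_lit 1436) (nat_lit 145) (nat_lit 296) (.node (.node (.node .nil (nat_lit 1437)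
  (nat_lit 192) (nat_lit 1682) .nil) (nat_lit 1438) (nat_lit 178) (nat_lit 1158) .nil) (nat_lit 1439) (nat_lit
  178) (nat_lit 1157) (.node (.node .nil (nat_lit 1440) (nat_lit 178) (nat_lit 1063) .nil) (nat_lit 1441)
  (nat_lit 178) (nat_lit 555) .nil))))))
def kB0t_13 : T := (.node (.node (.node (.node (.node (.node (.node .nil (nat_lit 1443) (nat_lit 144) (nat_lit
  304) .nil) (nat_lit 1444) (nat_lit 130) (nat_lit 1273) (.node .nil (nat_lit 1445) (nat_lit 178) (nat_lit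
  1298) .nil)) (nat_lit 1446) (nat_lit 176) (nat_lit 310) (.node (.node .nil (nat_lit 1447) (nat_lit 162)
  (nat_lit 1247) .nil) (nat_lit 1448) (nat_lit 145) (nat_lit 590) .nil)) (nat_lit 1449) (nat_lit 176) (nat_lit
  654) (.node (.node (.node .nil (nat_lit 1450) (nat_lit 178) (nat_lit 1217) .nil) (nat_lit 1451) (nat_lit
  176) (nat_lit 1579) (.node .nil (nat_lit 1452) (nat_lit 177) (nat_lit 801) .nil)) (nat_lit 1453) (nat_lit
  178) (nat_lit 465) (.node (.node .nil (nat_lit 1454) (nat_lit 128) (nat_lit 518) .nil) (nat_lit 1455)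
  (nat_lit 130) (nat_lit 1045) .nil))) (nat_lit 1456) (nat_lit 194) (nat_lit 1434) (.node (.node (.node (.node
  .nil (nat_lit 1457) (nat_lit 162) (nat_lit 1433) .nil) (nat_lit 1458) (nat_lit 194) (nat_lit 1435) (.node
  .nil (nat_lit 1459) (nat_lit 160) (nat_lit 117) .nil)) (nat_lit 1460) (nat_lit 176) (nat_lit 282) (.node
  (.node .nil (nat_lit 1461) (nat_lit 162) (nat_lit 1483) .nil) (nat_lit 1462) (nat_lit 178) (nat_lit 610)
  .nil)) (nat_lit 1463) (nat_lit 145) (nat_lit 1252) (.node (.node (.node .nil (nat_lit 1464) (nat_lit 162)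
  (nat_lit 737) .nil) (nat_lit 1465) (nat_lit 162) (nat_lit 1665) .nil) (nat_lit 1466) (nat_lit 160) (nat_lit
  1307) (.node (.node .nil (nat_lit 1467) (nat_lit 112) (nat_lit 291) .nil) (nat_lit 1468) (nat_lit 160)
  (nat_lit 118) .nil)))) (nat_lit 1469) (nat_lit 112) (nat_lit 1512) (.node (.node (.node (.node (.node .nil
  (nat_lit 1470) (nat_lit 176) (nat_lit 1381) .nil) (nat_lit 1471) (nat_lit 176) (nat_lit 313) (.node .nil
  (nat_lit 1472) (nat_lit 128) (nat_lit 1621) .nil)) (nat_lit 1473) (nat_lit 193) (nat_lit 440) (.node (.node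
  .nil (nat_lit 1474) (nat_lit 192) (nat_lit 1336) .nil) (nat_lit 1475) (nat_lit 194) (nat_lit 1682) .nil))
  (nat_lit 1476) (nat_lit 161) (nat_lit 1042) (.node (.node (.node .nil (nat_lit 1477) (nat_lit 178) (nat_lit
  591) .nil) (nat_lit 1478) (nat_lit 161) (nat_lit 1123) (.node .nil (nat_lit 1479) (nat_lit 176) (nat_lit
  272) .nil)) (nat_lit 1480) (nat_lit 128) (nat_lit 122) (.node (.node .nil (nat_lit 1481) (nat_lit 160)
  (nat_lit 1648) .nil) (nat_lit 1482) (nat_lit 176) (nat_lit 323) .nil))) (nat_lit 1483) (nat_lit 144)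
  (nat_lit 1331) (.node (.node (.node (.node .nil (nat_lit 1484) (nat_lit 160) (nat_lit 627) .nil) (nat_lit
  1485) (nat_lit 176) (nat_lit 332) (.node .nil (nat_lit 1486) (nat_lit 146) (nat_lit 1666) .nil)) (nat_lit
  1487) (nat_lit 178) (nat_lit 1430) (.node (.node .nil (nat_lit 1488) (nat_lit 208) (nat_lit 327) .nil)
  (nat_lit 1489) (nat_lit 160) (nat_lit 1673) .nil)) (nat_lit 1490) (nat_lit 193) (nat_lit 1076) (.node (.node
  (.node .nil (nat_lit 1491) (nat_lit 145) (nat_lit 1444) .nil) (nat_lit 1492) (nat_lit 114) (nat_lit 1314)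
  .nil) (nat_lit 1493) (nat_lit 176) (nat_lit 1380) (.node (.node .nil (nat_lit 1494) (nat_lit 178) (nat_lit
  612) .nil) (nat_lit 1495) (nat_lit 130) (nat_lit 630) .nil))))) (nat_lit 1496) (nat_lit 144) (nat_lit 632)
  (.node (.node (.node (.node (.node (.node .nil (nat_lit 1497) (nat_lit 194) (nat_lit 1482) .nil) (nat_lit
  1498) (nat_lit 178) (nat_lit 1313) (.node .nil (nat_lit 1499) (nat_lit 146) (nat_lit 119) .nil)) (nat_lit
  1500) (nat_lit 146) (nat_lit 1275) (.node (.node .nil (nat_lit 1501) (nat_lit 129) (nat_lit 1045) .nil)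
  (nat_lit 1502) (nat_lit 128) (nat_lit 1353) .nil)) (nat_lit 1503) (nat_lit 146) (nat_lit 1502) (.node (.node
  (.node .nil (nat_lit 1504) (nat_lit 162) (nat_lit 1386) .nil) (nat_lit 1505) (nat_lit 160) (nat_lit 298)
  (.node .nil (nat_lit 1506) (nat_lit 192) (nat_lit 346) .nil)) (nat_lit 1507) (nat_lit 114) (nat_lit 1651)
  (.node (.node .nil (nat_lit 1508) (nat_lit 177) (nat_lit 1638) .nil) (nat_lit 1509) (nat_lit 96) (nat_lit
  1160) .nil))) (nat_lit 1510) (nat_lit 193) (nat_lit 1262) (.node (.node (.node (.node .nil (nat_lit 1511)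
  (nat_lit 192) (nat_lit 121) .nil) (nat_lit 1512) (nat_lit 98) (nat_lit 393) (.node .nil (nat_lit 1513)
  (nat_lit 193) (nat_lit 274) .nil)) (nat_lit 1514) (nat_lit 145) (nat_lit 632) (.node (.node .nil (nat_lit
  1515) (nat_lit 176) (nat_lit 451) .nil) (nat_lit 1516) (nat_lit 192) (nat_lit 537) .nil)) (nat_lit 1517)
  (nat_lit 178) (nat_lit 399) (.node (.node (.node .nil (nat_lit 1518) (nat_lit 146) (nat_lit 1659) .nil)
  (nat_lit 1519) (nat_lit 113) (nat_lit 65) .nil) (nat_lit 1520) (nat_lit 129) (nat_lit 68) (.node (.node .nil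
  (nat_lit 1521) (nat_lit 194) (nat_lit 1588) .nil) (nat_lit 1522) (nat_lit 178) (nat_lit 353) .nil))))
  (nat_lit 1523) (nat_lit 161) (nat_lit 592) (.node (.node (.node (.node (.node .nil (nat_lit 1524) (nat_lit
  209) (nat_lit 594) .nil) (nat_lit 1525) (nat_lit 178) (nat_lit 1530) (.node .nil (nat_lit 1526) (nat_lit
  160) (nat_lit 219) .nil)) (nat_lit 1527) (nat_lit 145) (nat_lit 597) (.node (.node .nil (nat_lit 1528)
  (nat_lit 144) (nat_lit 25) .nil) (nat_lit 1529) (nat_lit 129) (nat_lit 104) .nil)) (nat_lit 1530) (nat_lit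
  160) (nat_lit 23) (.node (.node (.node .nil (nat_lit 1531) (nat_lit 113) (nat_lit 172) .nil) (nat_lit 1532)
  (nat_lit 129) (nat_lit 139) (.node .nil (nat_lit 1533) (nat_lit 146) (nat_lit 25) .nil)) (nat_lit 1534)
  (nat_lit 193) (nat_lit 595) (.node (.node .nil (nat_lit 1535) (nat_lit 145) (nat_lit 175) .nil) (nat_lit
  1536) (nat_lit 210) (nat_lit 1291) .nil))) (nat_lit 1537) (nat_lit 146) (nat_lit 1396) (.node (.node (.node
  (.node .nil (nat_lit 1538) (nat_lit 192) (nat_lit 1417) .nil) (nat_lit 1539) (nat_lit 161) (nat_lit 242)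
  (.node .nil (nat_lit 1540) (nat_lit 114) (nat_lit 1033) .nil)) (nat_lit 1541) (nat_lit 162) (nat_lit 1292)
  (.node (.node .nil (nat_lit 1542) (nat_lit 129) (nat_lit 238) .nil) (nat_lit 1543) (nat_lit 146) (nat_lit
  1405) .nil)) (nat_lit 1544) (nat_lit 130) (nat_lit 1408) (.node (.node (.node .nil (nat_lit 1545) (nat_lit
  130) (nat_lit 1073) .nil) (nat_lit 1546) (nat_lit 145) (nat_lit 136) .nil) (nat_lit 1547) (nat_lit 162)
  (nat_lit 647) (.node (.node .nil (nat_lit 1548) (nat_lit 145) (nat_lit 243) .nil) (nat_lit 1549) (nat_lit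
  162) (nat_lit 1395) .nil))))))
def kB0t_14 : T := (.node (.node (.node (.node (.node (.node (.node .nil (nat_lit 1551) (nat_lit 177) (nat_lit
  1158) .nil) (nat_lit 1552) (nat_lit 178) (nat_lit 383) (.node .nil (nat_lit 1553) (nat_lit 177) (nat_lit
  1157) .nil)) (nat_lit 1554) (nat_lit 162) (nat_lit 387) (.node (.node .nil (nat_lit 1555) (nat_lit 194)
  (nat_lit 388) .nil) (nat_lit 1556) (nat_lit 193) (nat_lit 1094) .nil)) (nat_lit 1557) (nat_lit 208) (nat_lit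
  1556) (.node (.node (.node .nil (nat_lit 1558) (nat_lit 96) (nat_lit 770) .nil) (nat_lit 1559) (nat_lit 161)
  (nat_lit 1173) (.node .nil (nat_lit 1560) (nat_lit 193) (nat_lit 1124) .nil)) (nat_lit 1561) (nat_lit 161)
  (nat_lit 1442) (.node (.node .nil (nat_lit 1562) (nat_lit 177) (nat_lit 564) .nil) (nat_lit 1563) (nat_lit
  161) (nat_lit 1243) .nil))) (nat_lit 1564) (nat_lit 177) (nat_lit 1126) (.node (.node (.node (.node .nil
  (nat_lit 1565) (nat_lit 193) (nat_lit 1446) .nil) (nat_lit 1566) (nat_lit 146) (nat_lit 703) (.node .nil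
  (nat_lit 1567) (nat_lit 0) (nat_lit 1567) .nil)) (nat_lit 1568) (nat_lit 98) (nat_lit 13) (.node (.node .nil
  (nat_lit 1569) (nat_lit 112) (nat_lit 693) .nil) (nat_lit 1570) (nat_lit 113) (nat_lit 206) .nil)) (nat_lit
  1571) (nat_lit 160) (nat_lit 12) (.node (.node (.node .nil (nat_lit 1572) (nat_lit 161) (nat_lit 170) .nil)
  (nat_lit 1573) (nat_lit 194) (nat_lit 31) .nil) (nat_lit 1574) (nat_lit 176) (nat_lit 11) (.node (.node .nil
  (nat_lit 1575) (nat_lit 176) (nat_lit 1138) .nil) (nat_lit 1576) (nat_lit 177) (nat_lit 261) .nil))))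
  (nat_lit 1577) (nat_lit 146) (nat_lit 1081) (.node (.node (.node (.node (.node .nil (nat_lit 1578) (nat_lit
  177) (nat_lit 385) .nil) (nat_lit 1579) (nat_lit 162) (nat_lit 824) (.node .nil (nat_lit 1580) (nat_lit 192)
  (nat_lit 1452) .nil)) (nat_lit 1581) (nat_lit 194) (nat_lit 1229) (.node (.node .nil (nat_lit 1582) (nat_lit
  144) (nat_lit 1455) .nil) (nat_lit 1583) (nat_lit 210) (nat_lit 1618) .nil)) (nat_lit 1584) (nat_lit 130)
  (nat_lit 1615) (.node (.node (.node .nil (nat_lit 1585) (nat_lit 176) (nat_lit 1625) .nil) (nat_lit 1586)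
  (nat_lit 146) (nat_lit 333) (.node .nil (nat_lit 1587) (nat_lit 160) (nat_lit 1514) .nil)) (nat_lit 1588)
  (nat_lit 176) (nat_lit 1674) (.node (.node .nil (nat_lit 1589) (nat_lit 144) (nat_lit 1619) .nil) (nat_lit
  1590) (nat_lit 162) (nat_lit 153) .nil))) (nat_lit 1591) (nat_lit 177) (nat_lit 1089) (.node (.node (.node
  (.node .nil (nat_lit 1592) (nat_lit 194) (nat_lit 1591) .nil) (nat_lit 1593) (nat_lit 112) (nat_lit 1378)
  (.node .nil (nat_lit 1594) (nat_lit 130) (nat_lit 1467) .nil)) (nat_lit 1595) (nat_lit 193) (nat_lit 625)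
  (.node (.node .nil (nat_lit 1596) (nat_lit 192) (nat_lit 274) .nil) (nat_lit 1597) (nat_lit 162) (nat_lit
  1491) .nil)) (nat_lit 1598) (nat_lit 162) (nat_lit 1311) (.node (.node (.node .nil (nat_lit 1599) (nat_lit
  160) (nat_lit 1499) .nil) (nat_lit 1600) (nat_lit 178) (nat_lit 648) .nil) (nat_lit 1601) (nat_lit 193)
  (nat_lit 1626) (.node (.node .nil (nat_lit 1602) (nat_lit 162) (nat_lit 1690) .nil) (nat_lit 1603) (nat_lit
  144) (nat_lit 1495) .nil))))) (nat_lit 1604) (nat_lit 129) (nat_lit 1621) (.node (.node (.node (.node (.node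
  (.node .nil (nat_lit 1605) (nat_lit 129) (nat_lit 1469) .nil) (nat_lit 1606) (nat_lit 161) (nat_lit 546)
  (.node .nil (nat_lit 1607) (nat_lit 129) (nat_lit 807) .nil)) (nat_lit 1608) (nat_lit 193) (nat_lit 1462)
  (.node (.node .nil (nat_lit 1609) (nat_lit 209) (nat_lit 554) .nil) (nat_lit 1610) (nat_lit 113) (nat_lit
  1509) .nil)) (nat_lit 1611) (nat_lit 209) (nat_lit 1458) (.node (.node (.node .nil (nat_lit 1612) (nat_lit
  176) (nat_lit 1340) .nil) (nat_lit 1613) (nat_lit 161) (nat_lit 230) (.node .nil (nat_lit 1614) (nat_lit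
  128) (nat_lit 1176) .nil)) (nat_lit 1615) (nat_lit 113) (nat_lit 315) (.node (.node .nil (nat_lit 1616)
  (nat_lit 129) (nat_lit 64) .nil) (nat_lit 1617) (nat_lit 176) (nat_lit 1244) .nil))) (nat_lit 1618) (nat_lit
  193) (nat_lit 360) (.node (.node (.node (.node .nil (nat_lit 1619) (nat_lit 130) (nat_lit 1519) .nil)
  (nat_lit 1620) (nat_lit 177) (nat_lit 1628) (.node .nil (nat_lit 1621) (nat_lit 114) (nat_lit 395) .nil))
  (nat_lit 1622) (nat_lit 161) (nat_lit 1603) (.node (.node .nil (nat_lit 1623) (nat_lit 114) (nat_lit 398)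
  .nil) (nat_lit 1624) (nat_lit 160) (nat_lit 1586) .nil)) (nat_lit 1625) (nat_lit 162) (nat_lit 1643) (.node
  (.node (.node .nil (nat_lit 1626) (nat_lit 176) (nat_lit 1590) .nil) (nat_lit 1627) (nat_lit 130) (nat_lit
  402) .nil) (nat_lit 1628) (nat_lit 162) (nat_lit 396) (.node (.node .nil (nat_lit 1629) (nat_lit 176)
  (nat_lit 1217) .nil) (nat_lit 1630) (nat_lit 145) (nat_lit 40) .nil)))) (nat_lit 1631) (nat_lit 129)
  (nat_lit 126) (.node (.node (.node (.node (.node .nil (nat_lit 1632) (nat_lit 161) (nat_lit 298) .nil)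
  (nat_lit 1633) (nat_lit 193) (nat_lit 325) (.node .nil (nat_lit 1634) (nat_lit 81) (nat_lit 235) .nil))
  (nat_lit 1635) (nat_lit 130) (nat_lit 559) (.node (.node .nil (nat_lit 1636) (nat_lit 177) (nat_lit 1489)
  .nil) (nat_lit 1637) (nat_lit 160) (nat_lit 365) .nil)) (nat_lit 1638) (nat_lit 162) (nat_lit 1737) (.node
  (.node (.node .nil (nat_lit 1639) (nat_lit 178) (nat_lit 1741) .nil) (nat_lit 1640) (nat_lit 176) (nat_lit
  369) (.node .nil (nat_lit 1641) (nat_lit 146) (nat_lit 562) .nil)) (nat_lit 1642) (nat_lit 176) (nat_lit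
  1374) (.node (.node .nil (nat_lit 1643) (nat_lit 145) (nat_lit 69) .nil) (nat_lit 1644) (nat_lit 178)
  (nat_lit 1624) .nil))) (nat_lit 1645) (nat_lit 192) (nat_lit 1404) (.node (.node (.node (.node .nil (nat_lit
  1646) (nat_lit 130) (nat_lit 1657) .nil) (nat_lit 1647) (nat_lit 208) (nat_lit 554) (.node .nil (nat_lit
  1648) (nat_lit 146) (nat_lit 400) .nil)) (nat_lit 1649) (nat_lit 161) (nat_lit 1673) (.node (.node .nil
  (nat_lit 1650) (nat_lit 160) (nat_lit 886) .nil) (nat_lit 1651) (nat_lit 97) (nat_lit 361) .nil)) (nat_lit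
  1652) (nat_lit 193) (nat_lit 132) (.node (.node (.node .nil (nat_lit 1653) (nat_lit 177) (nat_lit 255) .nil)
  (nat_lit 1654) (nat_lit 146) (nat_lit 1472) .nil) (nat_lit 1655) (nat_lit 192) (nat_lit 1169) (.node (.node
  .nil (nat_lit 1656) (nat_lit 177) (nat_lit 52) .nil) (nat_lit 1657) (nat_lit 113) (nat_lit 128) .nil))))))
def kB0t_15 : T := (.node (.node (.node (.node (.node (.node (.node .nil (nat_lit 1659) (nat_lit 129) (nat_lit
  123) .nil) (nat_lit 1660) (nat_lit 161) (nat_lit 299) (.node .nil (nat_lit 1661) (nat_lit 161) (nat_lit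
  1175) .nil)) (nat_lit 1662) (nat_lit 160) (nat_lit 1035) (.node (.node .nil (nat_lit 1663) (nat_lit 162)
  (nat_lit 351) .nil) (nat_lit 1664) (nat_lit 146) (nat_lit 639) .nil)) (nat_lit 1665) (nat_lit 144) (nat_lit
  1077) (.node (.node (.node .nil (nat_lit 1666) (nat_lit 129) (nat_lit 292) .nil) (nat_lit 1667) (nat_lit
  192) (nat_lit 1195) (.node .nil (nat_lit 1668) (nat_lit 162) (nat_lit 1388) .nil)) (nat_lit 1669) (nat_lit
  176) (nat_lit 875) (.node (.node .nil (nat_lit 1670) (nat_lit 178) (nat_lit 389) .nil) (nat_lit 1671)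
  (nat_lit 194) (nat_lit 1689) .nil))) (nat_lit 1672) (nat_lit 97) (nat_lit 1160) (.node (.node (.node (.node
  .nil (nat_lit 1673) (nat_lit 146) (nat_lit 394) .nil) (nat_lit 1674) (nat_lit 162) (nat_lit 335) (.node .nil
  (nat_lit 1675) (nat_lit 146) (nat_lit 1684) .nil)) (nat_lit 1676) (nat_lit 162) (nat_lit 1630) (.node (.node
  .nil (nat_lit 1677) (nat_lit 194) (nat_lit 338) .nil) (nat_lit 1678) (nat_lit 144) (nat_lit 1584) .nil))
  (nat_lit 1679) (nat_lit 176) (nat_lit 465) (.node (.node (.node .nil (nat_lit 1680) (nat_lit 130) (nat_lit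
  1469) .nil) (nat_lit 1681) (nat_lit 161) (nat_lit 297) .nil) (nat_lit 1682) (nat_lit 177) (nat_lit 324)
  (.node (.node .nil (nat_lit 1683) (nat_lit 177) (nat_lit 313) .nil) (nat_lit 1684) (nat_lit 128) (nat_lit
  1151) .nil)))) (nat_lit 1685) (nat_lit 65) (nat_lit 37) (.node (.node (.node (.node (.node .nil (nat_lit
  1686) (nat_lit 114) (nat_lit 1672) .nil) (nat_lit 1687) (nat_lit 162) (nat_lit 1175) (.node .nil (nat_lit
  1688) (nat_lit 177) (nat_lit 33) .nil)) (nat_lit 1689) (nat_lit 176) (nat_lit 1070) (.node (.node .nil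
  (nat_lit 1690) (nat_lit 145) (nat_lit 232) .nil) (nat_lit 1691) (nat_lit 177) (nat_lit 129) .nil)) (nat_lit
  1692) (nat_lit 130) (nat_lit 122) (.node (.node (.node .nil (nat_lit 1693) (nat_lit 144) (nat_lit 1396)
  .nil) (nat_lit 1694) (nat_lit 81) (nat_lit 149) (.node .nil (nat_lit 1695) (nat_lit 194) (nat_lit 1755)
  .nil)) (nat_lit 1696) (nat_lit 161) (nat_lit 251) (.node (.node .nil (nat_lit 1697) (nat_lit 82) (nat_lit
  1730) .nil) (nat_lit 1698) (nat_lit 145) (nat_lit 199) .nil))) (nat_lit 1699) (nat_lit 178) (nat_lit 1696)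
  (.node (.node (.node (.node .nil (nat_lit 1702) (nat_lit 145) (nat_lit 488) .nil) (nat_lit 1703) (nat_lit
  97) (nat_lit 152) (.node .nil (nat_lit 1704) (nat_lit 162) (nat_lit 1698) .nil)) (nat_lit 1705) (nat_lit
  129) (nat_lit 494) (.node (.node .nil (nat_lit 1706) (nat_lit 162) (nat_lit 1728) .nil) (nat_lit 1707)
  (nat_lit 145) (nat_lit 108) .nil)) (nat_lit 1708) (nat_lit 66) (nat_lit 1732) (.node (.node (.node .nil
  (nat_lit 1709) (nat_lit 161) (nat_lit 189) .nil) (nat_lit 1710) (nat_lit 130) (nat_lit 1713) .nil) (nat_lit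
  1711) (nat_lit 113) (nat_lit 246) (.node (.node .nil (nat_lit 1712) (nat_lit 114) (nat_lit 1715) .nil)
  (nat_lit 1713) (nat_lit 113) (nat_lit 252) .nil))))) (nat_lit 1714) (nat_lit 114) (nat_lit 1703) (.node
  (.node (.node (.node (.node (.node .nil (nat_lit 1715) (nat_lit 97) (nat_lit 163) .nil) (nat_lit 1716)
  (nat_lit 145) (nat_lit 196) (.node .nil (nat_lit 1717) (nat_lit 178) (nat_lit 1722) .nil)) (nat_lit 1718)
  (nat_lit 161) (nat_lit 76) (.node (.node .nil (nat_lit 1719) (nat_lit 146) (nat_lit 1726) .nil) (nat_lit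
  1720) (nat_lit 177) (nat_lit 498) .nil)) (nat_lit 1721) (nat_lit 82) (nat_lit 1774) (.node (.node (.node
  .nil (nat_lit 1722) (nat_lit 161) (nat_lit 190) .nil) (nat_lit 1723) (nat_lit 160) (nat_lit 1401) (.node
  .nil (nat_lit 1724) (nat_lit 145) (nat_lit 495) .nil)) (nat_lit 1725) (nat_lit 162) (nat_lit 1707) (.node
  (.node .nil (nat_lit 1726) (nat_lit 129) (nat_lit 490) .nil) (nat_lit 1727) (nat_lit 162) (nat_lit 1763)
  .nil))) (nat_lit 1728) (nat_lit 145) (nat_lit 491) (.node (.node (.node (.node .nil (nat_lit 1729) (nat_lit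
  146) (nat_lit 1751) .nil) (nat_lit 1730) (nat_lit 65) (nat_lit 499) (.node .nil (nat_lit 1731) (nat_lit 146)
  (nat_lit 1760) .nil)) (nat_lit 1732) (nat_lit 49) (nat_lit 195) (.node (.node .nil (nat_lit 1733) (nat_lit
  144) (nat_lit 1103) .nil) (nat_lit 1734) (nat_lit 194) (nat_lit 1112) .nil)) (nat_lit 1735) (nat_lit 129)
  (nat_lit 447) (.node (.node (.node .nil (nat_lit 1736) (nat_lit 178) (nat_lit 1637) .nil) (nat_lit 1737)
  (nat_lit 145) (nat_lit 752) .nil) (nat_lit 1738) (nat_lit 177) (nat_lit 476) (.node (.node .nil (nat_lit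
  1739) (nat_lit 177) (nat_lit 756) .nil) (nat_lit 1740) (nat_lit 193) (nat_lit 753) .nil)))) (nat_lit 1741)
  (nat_lit 161) (nat_lit 741) (.node (.node (.node (.node (.node .nil (nat_lit 1742) (nat_lit 161) (nat_lit
  250) .nil) (nat_lit 1743) (nat_lit 146) (nat_lit 1746) (.node .nil (nat_lit 1744) (nat_lit 145) (nat_lit
  164) .nil)) (nat_lit 1745) (nat_lit 162) (nat_lit 1744) (.node (.node .nil (nat_lit 1746) (nat_lit 129)
  (nat_lit 248) .nil) (nat_lit 1747) (nat_lit 98) (nat_lit 1694) .nil)) (nat_lit 1748) (nat_lit 162) (nat_lit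
  1754) (.node (.node (.node .nil (nat_lit 1749) (nat_lit 161) (nat_lit 245) .nil) (nat_lit 1750) (nat_lit
  194) (nat_lit 1720) (.node .nil (nat_lit 1751) (nat_lit 129) (nat_lit 134) .nil)) (nat_lit 1753) (nat_lit
  178) (nat_lit 1709) (.node (.node .nil (nat_lit 1754) (nat_lit 145) (nat_lit 197) .nil) (nat_lit 1755)
  (nat_lit 177) (nat_lit 487) .nil))) (nat_lit 1756) (nat_lit 178) (nat_lit 1742) (.node (.node (.node (.node
  .nil (nat_lit 1757) (nat_lit 98) (nat_lit 1758) .nil) (nat_lit 1758) (nat_lit 81) (nat_lit 247) (.node .nil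
  (nat_lit 1759) (nat_lit 130) (nat_lit 1762) .nil)) (nat_lit 1760) (nat_lit 129) (nat_lit 249) (.node (.node
  .nil (nat_lit 1761) (nat_lit 146) (nat_lit 1705) .nil) (nat_lit 1762) (nat_lit 113) (nat_lit 200) .nil))
  (nat_lit 1763) (nat_lit 145) (nat_lit 133) (.node (.node (.node .nil (nat_lit 1764) (nat_lit 162) (nat_lit
  1716) .nil) (nat_lit 1773) (nat_lit 162) (nat_lit 1724) .nil) (nat_lit 1774) (nat_lit 65) (nat_lit 198)
  (.node (.node .nil (nat_lit 1775) (nat_lit 145) (nat_lit 485) .nil) (nat_lit 1776) (nat_lit 130) (nat_lit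
  1711) .nil))))))
def kB0t : T := (.node (.node (.node (.node kB0t_0 (nat_lit 119) (nat_lit 129) (nat_lit 1353) kB0t_1) (nat_lit
  227) (nat_lit 160) (nat_lit 1019) (.node kB0t_2 (nat_lit 337) (nat_lit 145) (nat_lit 763) kB0t_3)) (nat_lit
  451) (nat_lit 162) (nat_lit 800) (.node (.node kB0t_4 (nat_lit 567) (nat_lit 176) (nat_lit 353) kB0t_5)
  (nat_lit 678) (nat_lit 161) (nat_lit 84) (.node kB0t_6 (nat_lit 788) (nat_lit 128) (nat_lit 666) kB0t_7)))
  (nat_lit 896) (nat_lit 161) (nat_lit 1164) (.node (.node (.node kB0t_8 (nat_lit 1010) (nat_lit 144) (nat_lit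
  196) kB0t_9) (nat_lit 1118) (nat_lit 145) (nat_lit 1495) (.node kB0t_10 (nat_lit 1226) (nat_lit 192)
  (nat_lit 354) kB0t_11)) (nat_lit 1334) (nat_lit 160) (nat_lit 570) (.node (.node kB0t_12 (nat_lit 1442)
  (nat_lit 146) (nat_lit 892) kB0t_13) (nat_lit 1550) (nat_lit 192) (nat_lit 453) (.node kB0t_14 (nat_lit
  1658) (nat_lit 177) (nat_lit 50) kB0t_15))))
def kB0 : Lvl := ⟨nat_lit 1567, [nat_lit 5, nat_lit 17, nat_lit 15], [], kB0t⟩
def kB1t : T := (.node (.node (.node (.node (.node (.node .nil (nat_lit 482) (nat_lit 33) (nat_lit 505) .nil)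
  (nat_lit 505) (nat_lit 17) (nat_lit 1141) .nil) (nat_lit 535) (nat_lit 18) (nat_lit 1141) (.node .nil
  (nat_lit 552) (nat_lit 51) (nat_lit 1503) .nil)) (nat_lit 564) (nat_lit 67) (nat_lit 1224) (.node (.node
  .nil (nat_lit 713) (nat_lit 49) (nat_lit 1775) .nil) (nat_lit 1121) (nat_lit 50) (nat_lit 482) (.node .nil
  (nat_lit 1132) (nat_lit 66) (nat_lit 1145) .nil))) (nat_lit 1141) (nat_lit 0) (nat_lit 1141) (.node (.node
  (.node .nil (nat_lit 1145) (nat_lit 51) (nat_lit 1521) .nil) (nat_lit 1147) (nat_lit 49) (nat_lit 482)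
  (.node .nil (nat_lit 1213) (nat_lit 35) (nat_lit 535) .nil)) (nat_lit 1214) (nat_lit 34) (nat_lit 1657)
  (.node (.node .nil (nat_lit 1223) (nat_lit 49) (nat_lit 1503) .nil) (nat_lit 1224) (nat_lit 50) (nat_lit
  1521) (.node .nil (nat_lit 1232) (nat_lit 50) (nat_lit 1575) .nil)))) (nat_lit 1235) (nat_lit 51) (nat_lit
  1588) (.node (.node (.node (.node .nil (nat_lit 1417) (nat_lit 50) (nat_lit 1775) .nil) (nat_lit 1502)
  (nat_lit 66) (nat_lit 1647) (.node .nil (nat_lit 1503) (nat_lit 34) (nat_lit 1646) .nil)) (nat_lit 1521)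
  (nat_lit 33) (nat_lit 1646) (.node (.node .nil (nat_lit 1575) (nat_lit 35) (nat_lit 505) .nil) (nat_lit
  1576) (nat_lit 33) (nat_lit 1657) (.node .nil (nat_lit 1587) (nat_lit 33) (nat_lit 535) .nil))) (nat_lit
  1588) (nat_lit 34) (nat_lit 505) (.node (.node (.node .nil (nat_lit 1645) (nat_lit 48) (nat_lit 1775) .nil)
  (nat_lit 1646) (nat_lit 16) (nat_lit 1141) (.node .nil (nat_lit 1647) (nat_lit 49) (nat_lit 1521) .nil))
  (nat_lit 1657) (nat_lit 19) (nat_lit 1141) (.node (.node .nil (nat_lit 1662) (nat_lit 65) (nat_lit 1647)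
  .nil) (nat_lit 1702) (nat_lit 32) (nat_lit 1657) (.node .nil (nat_lit 1775) (nat_lit 35) (nat_lit 1646)
  .nil)))))
def kB1 : Lvl := ⟨nat_lit 1141, [nat_lit 36, nat_lit 167, nat_lit 200, nat_lit 44], [], kB1t⟩
def kB : List Lvl := [kB0, kB1]
def sV0t : T := (.node (.node (.node (.node (.node (.node .nil (nat_lit 2) (nat_lit 35) (nat_lit 27) .nil)
  (nat_lit 3) (nat_lit 51) (nat_lit 32) .nil) (nat_lit 4) (nat_lit 64) (nat_lit 3) (.node .nil (nat_lit 5)
  (nat_lit 48) (nat_lit 2) .nil)) (nat_lit 10) (nat_lit 34) (nat_lit 796) (.node (.node .nil (nat_lit 13)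
  (nat_lit 99) (nat_lit 82) .nil) (nat_lit 20) (nat_lit 83) (nat_lit 217) (.node .nil (nat_lit 21) (nat_lit
  50) (nat_lit 1568) .nil))) (nat_lit 24) (nat_lit 83) (nat_lit 4) (.node (.node (.node .nil (nat_lit 27)
  (nat_lit 18) (nat_lit 1567) .nil) (nat_lit 29) (nat_lit 67) (nat_lit 5) (.node .nil (nat_lit 32) (nat_lit
  34) (nat_lit 797) .nil)) (nat_lit 82) (nat_lit 80) (nat_lit 218) (.node (.node .nil (nat_lit 83) (nat_lit
  51) (nat_lit 10) .nil) (nat_lit 217) (nat_lit 64) (nat_lit 83) (.node .nil (nat_lit 218) (nat_lit 67)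
  (nat_lit 21) .nil)))) (nat_lit 581) (nat_lit 48) (nat_lit 798) (.node (.node (.node (.node .nil (nat_lit
  582) (nat_lit 32) (nat_lit 799) .nil) (nat_lit 583) (nat_lit 48) (nat_lit 692) (.node .nil (nat_lit 602)
  (nat_lit 51) (nat_lit 582) .nil)) (nat_lit 692) (nat_lit 35) (nat_lit 796) (.node (.node .nil (nat_lit 693)
  (nat_lit 83) (nat_lit 779) .nil) (nat_lit 779) (nat_lit 64) (nat_lit 780) (.node .nil (nat_lit 780) (nat_lit
  51) (nat_lit 1568) .nil))) (nat_lit 796) (nat_lit 17) (nat_lit 1567) (.node (.node (.node .nil (nat_lit 797)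
  (nat_lit 16) (nat_lit 1567) .nil) (nat_lit 798) (nat_lit 35) (nat_lit 797) (.node .nil (nat_lit 799)
  (nat_lit 19) (nat_lit 1567) .nil)) (nat_lit 1567) (nat_lit 0) (nat_lit 1567) (.node (.node .nil (nat_lit
  1568) (nat_lit 33) (nat_lit 797) .nil) (nat_lit 1569) (nat_lit 67) (nat_lit 581) (.node .nil (nat_lit 1570)
  (nat_lit 67) (nat_lit 583) .nil)))))
def sV0 : Lvl := ⟨nat_lit 1567, [nat_lit 3, nat_lit 5, nat_lit 6, nat_lit 11], [], sV0t⟩
def sV1t : T := (.node (.node (.node (.node (.node (.node .nil (nat_lit 482) (nat_lit 33) (nat_lit 505) .nil)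
  (nat_lit 505) (nat_lit 17) (nat_lit 1141) .nil) (nat_lit 535) (nat_lit 18) (nat_lit 1141) (.node .nil
  (nat_lit 552) (nat_lit 51) (nat_lit 1503) .nil)) (nat_lit 564) (nat_lit 67) (nat_lit 1224) (.node (.node
  .nil (nat_lit 713) (nat_lit 49) (nat_lit 1775) .nil) (nat_lit 1121) (nat_lit 50) (nat_lit 482) (.node .nil
  (nat_lit 1132) (nat_lit 66) (nat_lit 1145) .nil))) (nat_lit 1141) (nat_lit 0) (nat_lit 1141) (.node (.node
  (.node .nil (nat_lit 1145) (nat_lit 51) (nat_lit 1521) .nil) (nat_lit 1147) (nat_lit 49) (nat_lit 482)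
  (.node .nil (nat_lit 1213) (nat_lit 35) (nat_lit 535) .nil)) (nat_lit 1214) (nat_lit 34) (nat_lit 1657)
  (.node (.node .nil (nat_lit 1223) (nat_lit 49) (nat_lit 1503) .nil) (nat_lit 1224) (nat_lit 50) (nat_lit
  1521) (.node .nil (nat_lit 1232) (nat_lit 50) (nat_lit 1575) .nil)))) (nat_lit 1235) (nat_lit 51) (nat_lit
  1588) (.node (.node (.node (.node .nil (nat_lit 1417) (nat_lit 50) (nat_lit 1775) .nil) (nat_lit 1502)
  (nat_lit 66) (nat_lit 1647) (.node .nil (nat_lit 1503) (nat_lit 34) (nat_lit 1646) .nil)) (nat_lit 1521)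
  (nat_lit 33) (nat_lit 1646) (.node (.node .nil (nat_lit 1575) (nat_lit 35) (nat_lit 505) .nil) (nat_lit
  1576) (nat_lit 33) (nat_lit 1657) (.node .nil (nat_lit 1587) (nat_lit 33) (nat_lit 535) .nil))) (nat_lit
  1588) (nat_lit 34) (nat_lit 505) (.node (.node (.node .nil (nat_lit 1645) (nat_lit 48) (nat_lit 1775) .nil)
  (nat_lit 1646) (nat_lit 16) (nat_lit 1141) (.node .nil (nat_lit 1647) (nat_lit 49) (nat_lit 1521) .nil))
  (nat_lit 1657) (nat_lit 19) (nat_lit 1141) (.node (.node .nil (nat_lit 1662) (nat_lit 65) (nat_lit 1647)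
  .nil) (nat_lit 1702) (nat_lit 32) (nat_lit 1657) (.node .nil (nat_lit 1775) (nat_lit 35) (nat_lit 1646)
  .nil)))))
def sV1 : Lvl := ⟨nat_lit 1141, [nat_lit 36, nat_lit 167, nat_lit 200, nat_lit 44], [], sV1t⟩
def sV : List Lvl := [sV0, sV1]
def kC0t : T := (.node (.node (.node (.node (.node (.node .nil (nat_lit 0) (nat_lit 129) (nat_lit 718) .nil)
  (nat_lit 1) (nat_lit 97) (nat_lit 938) (.node .nil (nat_lit 18) (nat_lit 128) (nat_lit 651) .nil)) (nat_lit
  19) (nat_lit 146) (nat_lit 719) (.node (.node .nil (nat_lit 34) (nat_lit 97) (nat_lit 939) .nil) (nat_lit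
  53) (nat_lit 81) (nat_lit 502) .nil)) (nat_lit 54) (nat_lit 130) (nat_lit 943) (.node (.node (.node .nil
  (nat_lit 55) (nat_lit 112) (nat_lit 527) .nil) (nat_lit 90) (nat_lit 97) (nat_lit 92) (.node .nil (nat_lit
  91) (nat_lit 113) (nat_lit 1779) .nil)) (nat_lit 92) (nat_lit 80) (nat_lit 1701) (.node (.node .nil (nat_lit
  253) (nat_lit 113) (nat_lit 1780) .nil) (nat_lit 256) (nat_lit 33) (nat_lit 509) .nil))) (nat_lit 411)
  (nat_lit 96) (nat_lit 53) (.node (.node (.node (.node .nil (nat_lit 412) (nat_lit 112) (nat_lit 34) .nil)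
  (nat_lit 413) (nat_lit 129) (nat_lit 416) (.node .nil (nat_lit 414) (nat_lit 81) (nat_lit 415) .nil))
  (nat_lit 415) (nat_lit 64) (nat_lit 528) (.node (.node .nil (nat_lit 416) (nat_lit 112) (nat_lit 652) .nil)
  (nat_lit 467) (nat_lit 146) (nat_lit 18) .nil)) (nat_lit 468) (nat_lit 129) (nat_lit 942) (.node (.node
  (.node .nil (nat_lit 469) (nat_lit 130) (nat_lit 412) .nil) (nat_lit 502) (nat_lit 66) (nat_lit 1700) (.node
  .nil (nat_lit 509) (nat_lit 16) (nat_lit 1752) .nil)) (nat_lit 527) (nat_lit 97) (nat_lit 1770) (.node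
  (.node .nil (nat_lit 528) (nat_lit 50) (nat_lit 256) .nil) (nat_lit 529) (nat_lit 65) (nat_lit 528) .nil))))
  (nat_lit 651) (nat_lit 113) (nat_lit 1769) (.node (.node (.node (.node (.node .nil (nat_lit 652) (nat_lit
  98) (nat_lit 92) .nil) (nat_lit 655) (nat_lit 113) (nat_lit 652) (.node .nil (nat_lit 718) (nat_lit 112)
  (nat_lit 1779) .nil)) (nat_lit 719) (nat_lit 128) (nat_lit 1772) (.node (.node .nil (nat_lit 938) (nat_lit
  82) (nat_lit 415) .nil) (nat_lit 939) (nat_lit 82) (nat_lit 1701) .nil)) (nat_lit 940) (nat_lit 114)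
  (nat_lit 1) (.node (.node (.node .nil (nat_lit 941) (nat_lit 130) (nat_lit 55) .nil) (nat_lit 942) (nat_lit
  114) (nat_lit 411) (.node .nil (nat_lit 943) (nat_lit 112) (nat_lit 1766) .nil)) (nat_lit 1700) (nat_lit 48)
  (nat_lit 256) (.node (.node .nil (nat_lit 1701) (nat_lit 65) (nat_lit 1700) .nil) (nat_lit 1752) (nat_lit 0)
  (nat_lit 1752) .nil))) (nat_lit 1765) (nat_lit 98) (nat_lit 53) (.node (.node (.node (.node .nil (nat_lit
  1766) (nat_lit 98) (nat_lit 414) .nil) (nat_lit 1767) (nat_lit 128) (nat_lit 940) (.node .nil (nat_lit 1768)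
  (nat_lit 144) (nat_lit 468) .nil)) (nat_lit 1769) (nat_lit 96) (nat_lit 939) (.node (.node .nil (nat_lit
  1770) (nat_lit 80) (nat_lit 502) .nil) (nat_lit 1771) (nat_lit 114) (nat_lit 34) .nil)) (nat_lit 1772)
  (nat_lit 113) (nat_lit 411) (.node (.node (.node .nil (nat_lit 1777) (nat_lit 144) (nat_lit 941) .nil)
  (nat_lit 1778) (nat_lit 160) (nat_lit 467) .nil) (nat_lit 1779) (nat_lit 98) (nat_lit 1770) (.node (.node
  .nil (nat_lit 1780) (nat_lit 96) (nat_lit 938) .nil) (nat_lit 1781) (nat_lit 112) (nat_lit 90) .nil)))))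
def kC0 : Lvl := ⟨nat_lit 1752, [nat_lit 17, nat_lit 15, nat_lit 5], [], kC0t⟩
def kC1t : T := (.node (.node (.node (.node (.node (.node .nil (nat_lit 0) (nat_lit 67) (nat_lit 53) .nil)
  (nat_lit 1) (nat_lit 64) (nat_lit 18) .nil) (nat_lit 18) (nat_lit 51) (nat_lit 412) (.node .nil (nat_lit 19)
  (nat_lit 67) (nat_lit 415) .nil)) (nat_lit 34) (nat_lit 83) (nat_lit 1) (.node (.node .nil (nat_lit 53)
  (nat_lit 50) (nat_lit 54) .nil) (nat_lit 54) (nat_lit 33) (nat_lit 943) (.node .nil (nat_lit 55) (nat_lit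
  80) (nat_lit 0) .nil))) (nat_lit 411) (nat_lit 99) (nat_lit 55) (.node (.node (.node .nil (nat_lit 412)
  (nat_lit 34) (nat_lit 413) .nil) (nat_lit 413) (nat_lit 17) (nat_lit 1772) (.node .nil (nat_lit 414)
  (nat_lit 83) (nat_lit 1700) .nil)) (nat_lit 415) (nat_lit 48) (nat_lit 1701) (.node (.node .nil (nat_lit
  416) (nat_lit 51) (nat_lit 54) .nil) (nat_lit 467) (nat_lit 35) (nat_lit 469) (.node .nil (nat_lit 468)
  (nat_lit 51) (nat_lit 1765) .nil)))) (nat_lit 469) (nat_lit 18) (nat_lit 1772) (.node (.node (.node (.node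
  .nil (nat_lit 502) (nat_lit 48) (nat_lit 718) .nil) (nat_lit 718) (nat_lit 35) (nat_lit 943) (.node .nil
  (nat_lit 719) (nat_lit 51) (nat_lit 938) .nil)) (nat_lit 938) (nat_lit 32) (nat_lit 939) (.node (.node .nil
  (nat_lit 939) (nat_lit 19) (nat_lit 1772) .nil) (nat_lit 940) (nat_lit 48) (nat_lit 467) (.node .nil
  (nat_lit 941) (nat_lit 64) (nat_lit 468) .nil))) (nat_lit 942) (nat_lit 83) (nat_lit 941) (.node (.node
  (.node .nil (nat_lit 943) (nat_lit 16) (nat_lit 1772) .nil) (nat_lit 1700) (nat_lit 64) (nat_lit 416) (.node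
  .nil (nat_lit 1701) (nat_lit 35) (nat_lit 413) .nil)) (nat_lit 1765) (nat_lit 34) (nat_lit 943) (.node
  (.node .nil (nat_lit 1766) (nat_lit 67) (nat_lit 502) .nil) (nat_lit 1771) (nat_lit 67) (nat_lit 940) (.node
  .nil (nat_lit 1772) (nat_lit 0) (nat_lit 1772) .nil)))))
def kC1 : Lvl := ⟨nat_lit 1772, [nat_lit 4, nat_lit 5, nat_lit 6, nat_lit 12], [], kC1t⟩
def kC2t : T := (.node (.node (.node (.node (.node .nil (nat_lit 18) (nat_lit 65) (nat_lit 468) .nil) (nat_lit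
  19) (nat_lit 18) (nat_lit 1771) .nil) (nat_lit 34) (nat_lit 82) (nat_lit 18) (.node (.node .nil (nat_lit 53)
  (nat_lit 82) (nat_lit 55) .nil) (nat_lit 54) (nat_lit 33) (nat_lit 19) .nil)) (nat_lit 55) (nat_lit 65)
  (nat_lit 940) (.node (.node (.node .nil (nat_lit 411) (nat_lit 97) (nat_lit 53) .nil) (nat_lit 412) (nat_lit
  97) (nat_lit 34) .nil) (nat_lit 413) (nat_lit 49) (nat_lit 414) (.node .nil (nat_lit 414) (nat_lit 32)
  (nat_lit 19) .nil))) (nat_lit 415) (nat_lit 34) (nat_lit 942) (.node (.node (.node (.node .nil (nat_lit 416)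
  (nat_lit 34) (nat_lit 469) .nil) (nat_lit 468) (nat_lit 48) (nat_lit 415) .nil) (nat_lit 469) (nat_lit 16)
  (nat_lit 1771) (.node .nil (nat_lit 718) (nat_lit 49) (nat_lit 416) .nil)) (nat_lit 938) (nat_lit 49)
  (nat_lit 415) (.node (.node (.node .nil (nat_lit 940) (nat_lit 48) (nat_lit 416) .nil) (nat_lit 942)
  (nat_lit 17) (nat_lit 1771) .nil) (nat_lit 1765) (nat_lit 33) (nat_lit 469) (.node .nil (nat_lit 1771)
  (nat_lit 0) (nat_lit 1771) .nil))))
def kC2 : Lvl := ⟨nat_lit 1771, [nat_lit 137, nat_lit 74, nat_lit 15586], [], kC2t⟩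
def kC3t : T := (.node (.node (.node (.node .nil (nat_lit 18) (nat_lit 48) (nat_lit 415) .nil) (nat_lit 19)
  (nat_lit 48) (nat_lit 413) (.node .nil (nat_lit 34) (nat_lit 49) (nat_lit 415) .nil)) (nat_lit 53) (nat_lit
  17) (nat_lit 416) (.node (.node .nil (nat_lit 54) (nat_lit 49) (nat_lit 411) .nil) (nat_lit 55) (nat_lit 16)
  (nat_lit 416) .nil)) (nat_lit 411) (nat_lit 32) (nat_lit 53) (.node (.node (.node .nil (nat_lit 412)
  (nat_lit 64) (nat_lit 34) .nil) (nat_lit 413) (nat_lit 33) (nat_lit 55) .nil) (nat_lit 414) (nat_lit 65)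
  (nat_lit 18) (.node (.node .nil (nat_lit 415) (nat_lit 32) (nat_lit 55) .nil) (nat_lit 416) (nat_lit 0)
  (nat_lit 416) .nil)))
def kC3 : Lvl := ⟨nat_lit 416, [nat_lit 272553, nat_lit 212428], [], kC3t⟩
def kC4t : T := (.node (.node .nil (nat_lit 1779) (nat_lit 16) (nat_lit 1780) .nil) (nat_lit 1780) (nat_lit 0)
  (nat_lit 1780) .nil)
def kC4 : Lvl := ⟨nat_lit 1780, [nat_lit 75], [], kC4t⟩
def kC5t : T := (.node (.node .nil (nat_lit 467) (nat_lit 16) (nat_lit 941) .nil) (nat_lit 941) (nat_lit 0)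
  (nat_lit 941) .nil)
def kC5 : Lvl := ⟨nat_lit 941, [nat_lit 139463], [], kC5t⟩
def kC : List Lvl := [kC0, kC1, kC2, kC3, kC4, kC5]
def sQ0t : T := (.node (.node .nil (nat_lit 1752) (nat_lit 0) (nat_lit 1752) .nil) (nat_lit 1781) (nat_lit 16)
  (nat_lit 1752) .nil)
def sQ0 : Lvl := ⟨nat_lit 1752, [nat_lit 16], [], sQ0t⟩
def sQ1t : T := (.node (.node .nil (nat_lit 1766) (nat_lit 16) (nat_lit 1772) .nil) (nat_lit 1772) (nat_lit 0)
  (nat_lit 1772) .nil)
def sQ1 : Lvl := ⟨nat_lit 1772, [nat_lit 2], [], sQ1t⟩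
def sQ2t : T := (.node (.node .nil (nat_lit 1765) (nat_lit 16) (nat_lit 1771) .nil) (nat_lit 1771) (nat_lit 0)
  (nat_lit 1771) .nil)
def sQ2 : Lvl := ⟨nat_lit 1771, [nat_lit 84], [], sQ2t⟩
def sQ3t : T := (.node (.node .nil (nat_lit 415) (nat_lit 16) (nat_lit 416) .nil) (nat_lit 416) (nat_lit 0)
  (nat_lit 416) .nil)
def sQ3 : Lvl := ⟨nat_lit 416, [nat_lit 67], [], sQ3t⟩
def sQ4t : T := (.node (.node .nil (nat_lit 1779) (nat_lit 16) (nat_lit 1780) .nil) (nat_lit 1780) (nat_lit 0)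
  (nat_lit 1780) .nil)
def sQ4 : Lvl := ⟨nat_lit 1780, [nat_lit 75], [], sQ4t⟩
def sQ5t : T := (.node (.node .nil (nat_lit 467) (nat_lit 16) (nat_lit 941) .nil) (nat_lit 941) (nat_lit 0)
  (nat_lit 941) .nil)
def sQ5 : Lvl := ⟨nat_lit 941, [nat_lit 371], [], sQ5t⟩
def sQ : List Lvl := [sQ0, sQ1, sQ2, sQ3, sQ4, sQ5]
def sW0t : T := (.node (.node (.node (.node .nil (nat_lit 581) (nat_lit 48) (nat_lit 798) .nil) (nat_lit 582)
  (nat_lit 32) (nat_lit 799) .nil) (nat_lit 602) (nat_lit 49) (nat_lit 582) (.node .nil (nat_lit 797) (nat_lit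
  16) (nat_lit 1567) .nil)) (nat_lit 798) (nat_lit 33) (nat_lit 797) (.node (.node .nil (nat_lit 799) (nat_lit
  17) (nat_lit 1567) .nil) (nat_lit 1567) (nat_lit 0) (nat_lit 1567) (.node .nil (nat_lit 1569) (nat_lit 65)
  (nat_lit 581) .nil)))
def sW0 : Lvl := ⟨nat_lit 1567, [nat_lit 3, nat_lit 11], [], sW0t⟩
def sW1t : T := (.node (.node (.node (.node .nil (nat_lit 482) (nat_lit 65) (nat_lit 1645) .nil) (nat_lit
  1141) (nat_lit 0) (nat_lit 1141) .nil) (nat_lit 1645) (nat_lit 48) (nat_lit 1775) (.node .nil (nat_lit 1646)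
  (nat_lit 16) (nat_lit 1141) .nil)) (nat_lit 1647) (nat_lit 49) (nat_lit 1702) (.node (.node .nil (nat_lit
  1657) (nat_lit 17) (nat_lit 1141) .nil) (nat_lit 1702) (nat_lit 32) (nat_lit 1657) (.node .nil (nat_lit
  1775) (nat_lit 33) (nat_lit 1646) .nil)))
def sW1 : Lvl := ⟨nat_lit 1141, [nat_lit 36, nat_lit 44], [], sW1t⟩
def sW : List Lvl := [sW0, sW1]
def tW : T := (.node (.node (.node (.node (.node (.node (.node (.node .nil (nat_lit 0x905a4dffc34) (nat_lit 2)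
  (nat_lit 0) .nil) (nat_lit 0x905a4dfffd4) (nat_lit 418) (nat_lit 0) (.node .nil (nat_lit 0x905a4dfffef)
  (nat_lit 450) (nat_lit 0) .nil)) (nat_lit 0x905a4e19dfe) (nat_lit 3137) (nat_lit 0) (.node (.node .nil
  (nat_lit 0x905a4e1a154) (nat_lit 461889) (nat_lit 0) .nil) (nat_lit 0x905a4e1a17f) (nat_lit 429121) (nat_lit
  0) .nil)) (nat_lit 0x905a4e3ee83) (nat_lit 4) (nat_lit 0) (.node (.node (.node .nil (nat_lit 0x905a4e3f153)
  (nat_lit 452) (nat_lit 0) .nil) (nat_lit 0x905a4e3f214) (nat_lit 420) (nat_lit 0) .nil) (nat_lit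
  0x905a4e3f573) (nat_lit 4193) (nat_lit 0) (.node (.node .nil (nat_lit 0x905a4e3f7d1) (nat_lit 430177)
  (nat_lit 0) .nil) (nat_lit 0x905a4e3f7d9) (nat_lit 462945) (nat_lit 0) .nil))) (nat_lit 0x905a4e409e6)
  (nat_lit 4451) (nat_lit 0) (.node (.node (.node (.node .nil (nat_lit 0x905a4e40c5b) (nat_lit 430435)
  (nat_lit 0) .nil) (nat_lit 0x905a4e40dc4) (nat_lit 463203) (nat_lit 0) .nil) (nat_lit 0x905a4e4347d)
  (nat_lit 386) (nat_lit 0) (.node (.node .nil (nat_lit 0x905a4e43730) (nat_lit 14722) (nat_lit 0) .nil)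
  (nat_lit 0x905a4e437d4) (nat_lit 13698) (nat_lit 0) .nil)) (nat_lit 0x905a4f1940f) (nat_lit 97) (nat_lit 0)
  (.node (.node (.node .nil (nat_lit 0x905a4f19719) (nat_lit 14433) (nat_lit 0) .nil) (nat_lit 0x905a4f19792)
  (nat_lit 13409) (nat_lit 0) .nil) (nat_lit 0x905a4f1e6d4) (nat_lit 0) (nat_lit 0) (.node (.node .nil
  (nat_lit 0x905a4f1eb15) (nat_lit 13) (nat_lit 13) .nil) (nat_lit 0x905a4f1eb2e) (nat_lit 14) (nat_lit 14)
  .nil)))) (nat_lit 0x905a4f26cb6) (nat_lit 134209) (nat_lit 0) (.node (.node (.node (.node (.node .nil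
  (nat_lit 0x905a4f26eda) (nat_lit 0xd20c41) (nat_lit 0) .nil) (nat_lit 0x905a4f26edc) (nat_lit 0xe20c41)
  (nat_lit 0) .nil) (nat_lit 0x905a4f2b1da) (nat_lit 130) (nat_lit 0) (.node (.node .nil (nat_lit
  0x905a4f2b51e) (nat_lit 14466) (nat_lit 0) .nil) (nat_lit 0x905a4f2b5d7) (nat_lit 13442) (nat_lit 0) .nil))
  (nat_lit 0x905a4f2ce86) (nat_lit 12) (nat_lit 0) (.node (.node (.node .nil (nat_lit 0x905a4f2d1e8) (nat_lit
  460) (nat_lit 0) .nil) (nat_lit 0x905a4f2d1f1) (nat_lit 428) (nat_lit 0) .nil) (nat_lit 0x905a4f2d51a)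
  (nat_lit 3428) (nat_lit 0) (.node (.node .nil (nat_lit 0x905a4f2d7ef) (nat_lit 429412) (nat_lit 0) .nil)
  (nat_lit 0x905a4f2d883) (nat_lit 462180) (nat_lit 0) .nil))) (nat_lit 0x905a4f6730d) (nat_lit 3426) (nat_lit
  0) (.node (.node (.node (.node .nil (nat_lit 0x905a4f674e3) (nat_lit 429410) (nat_lit 0) .nil) (nat_lit
  0x905a4f6764b) (nat_lit 462178) (nat_lit 0) .nil) (nat_lit 0x905a4f6e15d) (nat_lit 65) (nat_lit 0) (.node
  (.node .nil (nat_lit 0x905a4f6e375) (nat_lit 14401) (nat_lit 0) .nil) (nat_lit 0x905a4f6e4ae) (nat_lit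
  13377) (nat_lit 0) .nil)) (nat_lit 0x905a4f6e852) (nat_lit 1) (nat_lit 1) (.node (.node (.node .nil (nat_lit
  0x905a4f6e8f6) (nat_lit 417) (nat_lit 417) .nil) (nat_lit 0x905a4f6ebfd) (nat_lit 449) (nat_lit 449) .nil)
  (nat_lit 0x905a4f74ad2) (nat_lit 355) (nat_lit 0) (.node (.node .nil (nat_lit 0x905a4f74da7) (nat_lit 13667)
  (nat_lit 0) .nil) (nat_lit 0x905a4f74e1d) (nat_lit 14691) (nat_lit 0) .nil))))) (nat_lit 0x905a4f751c9)
  (nat_lit 11362) (nat_lit 0) (.node (.node (.node (.node (.node (.node .nil (nat_lit 0x905a4f7549e) (nat_lit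
  437346) (nat_lit 0) .nil) (nat_lit 0x905a4f75514) (nat_lit 470114) (nat_lit 0) .nil) (nat_lit 0x905a4f766ae)
  (nat_lit 107) (nat_lit 0) (.node (.node .nil (nat_lit 0x905a4f76983) (nat_lit 13419) (nat_lit 0) .nil)
  (nat_lit 0x905a4f769e6) (nat_lit 14443) (nat_lit 0) .nil)) (nat_lit 0x905a4f7b935) (nat_lit 98) (nat_lit 0)
  (.node (.node (.node .nil (nat_lit 0x905a4f7bc77) (nat_lit 13410) (nat_lit 0) .nil) (nat_lit 0x905a4f7bc93)
  (nat_lit 14434) (nat_lit 0) .nil) (nat_lit 0x905a4f7c02c) (nat_lit 3) (nat_lit 0) (.node (.node .nil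
  (nat_lit 0x905a4f7c0c1) (nat_lit 419) (nat_lit 0) .nil) (nat_lit 0x905a4f7c320) (nat_lit 451) (nat_lit 0)
  .nil))) (nat_lit 0x905a4f82999) (nat_lit 11) (nat_lit 0) (.node (.node (.node (.node .nil (nat_lit
  0x905a4f82c6e) (nat_lit 459) (nat_lit 0) .nil) (nat_lit 0x905a4f82c7a) (nat_lit 427) (nat_lit 0) .nil)
  (nat_lit 0x905a4f8308e) (nat_lit 354) (nat_lit 0) (.node (.node .nil (nat_lit 0x905a4f83363) (nat_lit 14690)
  (nat_lit 0) .nil) (nat_lit 0x905a4f8336f) (nat_lit 13666) (nat_lit 0) .nil)) (nat_lit 0x905a4f83780)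
  (nat_lit 11329) (nat_lit 0) (.node (.node (.node .nil (nat_lit 0x905a4f8395e) (nat_lit 437313) (nat_lit 0)
  .nil) (nat_lit 0x905a4f83a48) (nat_lit 470081) (nat_lit 0) .nil) (nat_lit 0x905a4f83e43) (nat_lit 14689)
  (nat_lit 0) (.node (.node .nil (nat_lit 0x905a4f83e77) (nat_lit 353) (nat_lit 0) .nil) (nat_lit
  0x905a4f84158) (nat_lit 13665) (nat_lit 0) .nil)))) (nat_lit 0x905a4f9d966) (nat_lit 387) (nat_lit 0) (.node
  (.node (.node (.node (.node .nil (nat_lit 0x905a4f9dc20) (nat_lit 14723) (nat_lit 0) .nil) (nat_lit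
  0x905a4f9dd34) (nat_lit 13699) (nat_lit 0) .nil) (nat_lit 0x905a4f9e05d) (nat_lit 3457) (nat_lit 0) (.node
  (.node .nil (nat_lit 0x905a4f9e3b8) (nat_lit 462209) (nat_lit 0) .nil) (nat_lit 0x905a4f9e429) (nat_lit
  429441) (nat_lit 0) .nil)) (nat_lit 0x905a4fa7a38) (nat_lit 11393) (nat_lit 0) (.node (.node (.node .nil
  (nat_lit 0x905a4fa7bf7) (nat_lit 437377) (nat_lit 0) .nil) (nat_lit 0x905a4fa7c22) (nat_lit 470145) (nat_lit
  0) .nil) (nat_lit 0x905a4fa812d) (nat_lit 139) (nat_lit 0) (.node (.node .nil (nat_lit 0x905a4fa8210)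
  (nat_lit 13451) (nat_lit 0) .nil) (nat_lit 0x905a4fa8317) (nat_lit 14475) (nat_lit 0) .nil))) (nat_lit
  0x905a4fc142a) (nat_lit 12641) (nat_lit 0) (.node (.node (.node (.node .nil (nat_lit 0x905a4fc1730) (nat_lit
  438625) (nat_lit 0) .nil) (nat_lit 0x905a4fc17fb) (nat_lit 471393) (nat_lit 0) .nil) (nat_lit 0x905a4fc29cd)
  (nat_lit 356) (nat_lit 0) (.node (.node .nil (nat_lit 0x905a4fc2b8d) (nat_lit 13668) (nat_lit 0) .nil)
  (nat_lit 0x905a4fc2b9d) (nat_lit 14692) (nat_lit 0) .nil)) (nat_lit 0x905a4febe5a) (nat_lit 12385) (nat_lit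
  0) (.node (.node (.node .nil (nat_lit 0x905a4fec1a5) (nat_lit 471137) (nat_lit 0) .nil) (nat_lit
  0x905a4fec230) (nat_lit 438369) (nat_lit 0) .nil) (nat_lit 0x905a4ff3489) (nat_lit 438627) (nat_lit 0)
  (.node (.node .nil (nat_lit 0x905a4ff34aa) (nat_lit 12643) (nat_lit 0) .nil) (nat_lit 0x905a4ff376b)
  (nat_lit 471395) (nat_lit 0) .nil)))))) (nat_lit 0x905a4ff9d19) (nat_lit 12353) (nat_lit 0) (.node (.node
  (.node (.node (.node (.node (.node .nil (nat_lit 0x905a4ff9d93) (nat_lit 438337) (nat_lit 0) .nil) (nat_lit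
  0x905a4ffa06e) (nat_lit 471105) (nat_lit 0) .nil) (nat_lit 0x905a4ffa3b1) (nat_lit 129) (nat_lit 0) (.node
  (.node .nil (nat_lit 0x905a4ffa523) (nat_lit 14465) (nat_lit 0) .nil) (nat_lit 0x905a4ffa747) (nat_lit
  13441) (nat_lit 0) .nil)) (nat_lit 0x905a4ffaa33) (nat_lit 4161) (nat_lit 0) (.node (.node (.node .nil
  (nat_lit 0x905a4ffaad5) (nat_lit 462913) (nat_lit 0) .nil) (nat_lit 0x905a4ffab17) (nat_lit 430145) (nat_lit
  0) .nil) (nat_lit 0x905a4fff085) (nat_lit 14721) (nat_lit 0) (.node (.node .nil (nat_lit 0x905a4fff0a4)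
  (nat_lit 385) (nat_lit 0) .nil) (nat_lit 0x905a4fff1a0) (nat_lit 13697) (nat_lit 0) .nil))) (nat_lit
  0x905a4fffe72) (nat_lit 14444) (nat_lit 0) (.node (.node (.node (.node .nil (nat_lit 0x905a4fffe8f) (nat_lit
  108) (nat_lit 0) .nil) (nat_lit 0x905a5000263) (nat_lit 13420) (nat_lit 0) .nil) (nat_lit 0x905a5000cdf)
  (nat_lit 463201) (nat_lit 0) (.node (.node .nil (nat_lit 0x905a5000d32) (nat_lit 4449) (nat_lit 0) .nil)
  (nat_lit 0x905a5000ef8) (nat_lit 430433) (nat_lit 0) .nil)) (nat_lit 0x905a5005238) (nat_lit 131) (nat_lit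
  0) (.node (.node (.node .nil (nat_lit 0x905a5005415) (nat_lit 13443) (nat_lit 0) .nil) (nat_lit
  0x905a500541d) (nat_lit 14467) (nat_lit 0) .nil) (nat_lit 0x905a50058c5) (nat_lit 430178) (nat_lit 0) (.node
  (.node .nil (nat_lit 0x905a500592d) (nat_lit 4194) (nat_lit 0) .nil) (nat_lit 0x905a5005ab4) (nat_lit
  462946) (nat_lit 0) .nil)))) (nat_lit 0x905a5006d91) (nat_lit 11395) (nat_lit 0) (.node (.node (.node (.node
  (.node .nil (nat_lit 0x905a5006df8) (nat_lit 437379) (nat_lit 0) .nil) (nat_lit 0x905a50070f4) (nat_lit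
  470147) (nat_lit 0) .nil) (nat_lit 0x905a5007413) (nat_lit 4203) (nat_lit 0) (.node (.node .nil (nat_lit
  0x905a5007710) (nat_lit 430187) (nat_lit 0) .nil) (nat_lit 0x905a50077e9) (nat_lit 462955) (nat_lit 0)
  .nil)) (nat_lit 0x905a500ac8f) (nat_lit 3467) (nat_lit 0) (.node (.node (.node .nil (nat_lit 0x905a500ad90)
  (nat_lit 429451) (nat_lit 0) .nil) (nat_lit 0x905a500b007) (nat_lit 462219) (nat_lit 0) .nil) (nat_lit
  0x905a500b383) (nat_lit 404545) (nat_lit 0) (.node (.node .nil (nat_lit 0x905a500b675) (nat_lit 0xd62c41)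
  (nat_lit 0) .nil) (nat_lit 0x905a500b758) (nat_lit 0xe62c41) (nat_lit 0) .nil))) (nat_lit 0x905a500ba52)
  (nat_lit 438626) (nat_lit 0) (.node (.node (.node (.node .nil (nat_lit 0x905a500ba77) (nat_lit 12642)
  (nat_lit 0) .nil) (nat_lit 0x905a500be4a) (nat_lit 471394) (nat_lit 0) .nil) (nat_lit 0x905a500c16c)
  (nat_lit 470124) (nat_lit 0) (.node (.node .nil (nat_lit 0x905a500c174) (nat_lit 11372) (nat_lit 0) .nil)
  (nat_lit 0x905a500c4e3) (nat_lit 437356) (nat_lit 0) .nil)) (nat_lit 0x905a500c864) (nat_lit 12395) (nat_lit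
  0) (.node (.node (.node .nil (nat_lit 0x905a500cbc2) (nat_lit 438379) (nat_lit 0) .nil) (nat_lit
  0x905a500cbc8) (nat_lit 471147) (nat_lit 0) .nil) (nat_lit 0x905a500cf5f) (nat_lit 395) (nat_lit 0) (.node
  (.node .nil (nat_lit 0x905a500d1f5) (nat_lit 13707) (nat_lit 0) .nil) (nat_lit 0x905a500d32b) (nat_lit
  14731) (nat_lit 0) .nil))))) (nat_lit 0x905a500f826) (nat_lit 4481) (nat_lit 0) (.node (.node (.node (.node
  (.node (.node .nil (nat_lit 0x905a500fa36) (nat_lit 463233) (nat_lit 0) .nil) (nat_lit 0x905a500fba5)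
  (nat_lit 430465) (nat_lit 0) .nil) (nat_lit 0x905a50128e4) (nat_lit 140) (nat_lit 0) (.node (.node .nil
  (nat_lit 0x905a5012b83) (nat_lit 13452) (nat_lit 0) .nil) (nat_lit 0x905a5012c50) (nat_lit 14476) (nat_lit
  0) .nil)) (nat_lit 0x905a50144b9) (nat_lit 11404) (nat_lit 0) (.node (.node (.node .nil (nat_lit
  0x905a50145cb) (nat_lit 437388) (nat_lit 0) .nil) (nat_lit 0x905a5014842) (nat_lit 470156) (nat_lit 0) .nil)
  (nat_lit 0x905a5014b62) (nat_lit 397667) (nat_lit 0) (.node (.node .nil (nat_lit 0x905a5014ee0) (nat_lit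
  0xd61163) (nat_lit 0) .nil) (nat_lit 0x905a5014f0b) (nat_lit 0xe61163) (nat_lit 0) .nil))) (nat_lit
  0x905a5015276) (nat_lit 4204) (nat_lit 0) (.node (.node (.node (.node .nil (nat_lit 0x905a5015494) (nat_lit
  462956) (nat_lit 0) .nil) (nat_lit 0x905a50155fd) (nat_lit 430188) (nat_lit 0) .nil) (nat_lit 0x905a501911d)
  (nat_lit 12419) (nat_lit 0) (.node (.node .nil (nat_lit 0x905a5019459) (nat_lit 438403) (nat_lit 0) .nil)
  (nat_lit 0x905a5019489) (nat_lit 471171) (nat_lit 0) .nil)) (nat_lit 0x905a50197ea) (nat_lit 364931)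
  (nat_lit 0) (.node (.node (.node .nil (nat_lit 0x905a5019b70) (nat_lit 0xd59183) (nat_lit 0) .nil) (nat_lit
  0x905a5019ba1) (nat_lit 0xe59183) (nat_lit 0) .nil) (nat_lit 0x905a5019f33) (nat_lit 12427) (nat_lit 0)
  (.node (.node .nil (nat_lit 0x905a501a2bc) (nat_lit 471179) (nat_lit 0) .nil) (nat_lit 0x905a501a366)
  (nat_lit 438411) (nat_lit 0) .nil)))) (nat_lit 0x905a501b416) (nat_lit 4491) (nat_lit 0) (.node (.node
  (.node (.node (.node .nil (nat_lit 0x905a501b79f) (nat_lit 463243) (nat_lit 0) .nil) (nat_lit 0x905a501b84d)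
  (nat_lit 430475) (nat_lit 0) .nil) (nat_lit 0x905a501c816) (nat_lit 404611) (nat_lit 0) (.node (.node .nil
  (nat_lit 0x905a501ca03) (nat_lit 0xd62c83) (nat_lit 0) .nil) (nat_lit 0x905a501cac9) (nat_lit 0xe62c83)
  (nat_lit 0) .nil)) (nat_lit 0x905a501cfc4) (nat_lit 4483) (nat_lit 0) (.node (.node (.node .nil (nat_lit
  0x905a501d059) (nat_lit 430467) (nat_lit 0) .nil) (nat_lit 0x905a501d330) (nat_lit 463235) (nat_lit 0) .nil)
  (nat_lit 0x905a501ddad) (nat_lit 3460) (nat_lit 0) (.node (.node .nil (nat_lit 0x905a501def5) (nat_lit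
  462212) (nat_lit 0) .nil) (nat_lit 0x905a501e136) (nat_lit 429444) (nat_lit 0) .nil))) (nat_lit
  0x905a501f9b6) (nat_lit 12644) (nat_lit 0) (.node (.node (.node (.node .nil (nat_lit 0x905a501fb18) (nat_lit
  471396) (nat_lit 0) .nil) (nat_lit 0x905a501fdec) (nat_lit 438628) (nat_lit 0) .nil) (nat_lit 0x905a502005d)
  (nat_lit 143715) (nat_lit 0) (.node (.node .nil (nat_lit 0x905a5020383) (nat_lit 0xd23163) (nat_lit 0) .nil)
  (nat_lit 0x905a5020408) (nat_lit 0xe23163) (nat_lit 0) .nil)) (nat_lit 0x905a50299cd) (nat_lit 12417)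
  (nat_lit 0) (.node (.node (.node .nil (nat_lit 0x905a5029a8c) (nat_lit 471169) (nat_lit 0) .nil) (nat_lit
  0x905a5029d4a) (nat_lit 438401) (nat_lit 0) .nil) (nat_lit 0x905a5032509) (nat_lit 388) (nat_lit 0) (.node
  (.node .nil (nat_lit 0x905a5032875) (nat_lit 14724) (nat_lit 0) .nil) (nat_lit 0x905a5032880) (nat_lit
  13700) (nat_lit 0) .nil)))))))
def sqV : List (List ℕ) := [[204], [167], [295], [296], [173, 14, 296, 325], [14, 422, 296, 325], [456, 13,
  295, 391], [13, 456, 295, 391], [13, 457], [14, 426], [491, 295], [489, 296, 489, 489], [14], [13], [489,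
  13, 457]]
def nQ : List (List ℕ) := [[0], [1], [2], [10], [18], [19], [15], [0, 15], [0, 10], [0, 18], [0, 19], [0, 1,
  10], [0, 1, 18], [0, 1, 19], [1, 15, 2], [1, 10], [2, 19, 18, 15], [10, 18, 15], [1, 18], [1, 2, 19, 10,
  15], [1, 19], [1, 18, 19, 15], [2, 10, 18, 19], [1, 2, 10, 19, 18], [0, 2], [0, 1, 2], [1, 15, 10], [0, 1],
  [1, 2, 15, 10], [0, 18, 15], [0, 19, 15]]
def nR : List (List ℕ) := [[0], [1], [2], [10], [15], [0, 15], [0, 10], [0, 1, 10], [1, 15, 2], [0, 2], [0, 1,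
  2], [1, 15, 10], [0, 1], [1, 2, 15, 10], [1, 2, 10, 15]]
def nB : List (List ℕ) := [[0], [1], [2], [3], [4], [5], [6], [7], [8], [9], [0, 2], [0, 1, 3], [1, 4], [1,
  5], [0, 6], [0, 7], [5, 6, 4, 8], [4, 7, 5, 9, 5], [0, 1, 2], [1, 3], [0, 4], [0, 5], [0, 1, 6], [0, 1, 7],
  [5, 7, 8], [4, 6, 9, 7, 5], [0, 2, 3, 4, 5], [0, 1, 2, 6, 7], [8, 9], [0, 1], [0, 1, 2, 3], [2, 3, 7], [0,
  1, 3, 6, 7], [0, 1, 2, 4, 5], [1, 3, 4], [0, 3], [0, 1, 5, 9, 6], [4, 7, 5, 8, 9], [0, 2, 7, 5, 8], [5, 7,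
  4, 9, 6], [0, 1, 4], [0, 1, 5]]

end Cfsg.Agent.SZ
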