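import Cfsg.Agent.M24.Chain

/-! # The model of `Suz`: a Sylow 2-subgroup -/

set_option autoImplicit false
set_option maxRecDepth 100000

namespace Cfsg.Agent.SZ

open Cfsg.Agent.M24

def tT_0 : T := (.node (.node (.node (.node (.node (.node (.node (.node .nil (nat_lit 0x905a4d5ee04) (nat_lit
  271521) (nat_lit 0) .nil) (nat_lit 0x905a4d5f00d) (nat_lit 300328) (nat_lit 0) .nil) (nat_lit 0x905a4d5f127)
  (nat_lit 11595) (nat_lit 0xc2c5ee) (.node .nil (nat_lit 0x905a4d5f240) (nat_lit 336165) (nat_lit 0) .nil))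
  (nat_lit 0x905a4d5f6c0) (nat_lit 235815) (nat_lit 0) (.node (.node .nil (nat_lit 0x905a4d5f700) (nat_lit
  337090) (nat_lit 0) .nil) (nat_lit 0x905a4d5f80b) (nat_lit 10436) (nat_lit 0) (.node .nil (nat_lit
  0x905a4d5f937) (nat_lit 199745) (nat_lit 336365) .nil))) (nat_lit 0x905a4d5feac) (nat_lit 401635) (nat_lit
  0) (.node (.node (.node .nil (nat_lit 0x905a4d5fee1) (nat_lit 0x74b146) (nat_lit 0) .nil) (nat_lit
  0x905a4d5ff37) (nat_lit 401703) (nat_lit 0) (.node .nil (nat_lit 0x905a4d5ffb3) (nat_lit 400712) (nat_lit 0)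
  .nil)) (nat_lit 0x905a4d612f7) (nat_lit 300290) (nat_lit 0) (.node (.node .nil (nat_lit 0x905a4d6131f)
  (nat_lit 272545) (nat_lit 0xc3c5ee) .nil) (nat_lit 0x905a4d6148c) (nat_lit 8355) (nat_lit 0) (.node .nil
  (nat_lit 0x905a4d614af) (nat_lit 0x851521) (nat_lit 0) .nil)))) (nat_lit 0x905a4d61991) (nat_lit 5385)
  (nat_lit 0) (.node (.node (.node (.node .nil (nat_lit 0x905a4d61a06) (nat_lit 10501) (nat_lit 0xd6222f)
  .nil) (nat_lit 0x905a4d61b59) (nat_lit 168) (nat_lit 0) (.node .nil (nat_lit 0x905a4d61bc5) (nat_lit 336041)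
  (nat_lit 0) .nil)) (nat_lit 0x905a4d62101) (nat_lit 9410) (nat_lit 0) (.node (.node .nil (nat_lit
  0x905a4d621e2) (nat_lit 6468) (nat_lit 0) .nil) (nat_lit 0x905a4d6223e) (nat_lit 196) (nat_lit 8685) (.node
  .nil (nat_lit 0x905a4d62250) (nat_lit 301378) (nat_lit 0) .nil))) (nat_lit 0x905a4d627fc) (nat_lit 238791)
  (nat_lit 0) (.node (.node (.node .nil (nat_lit 0x905a4d6285a) (nat_lit 10434) (nat_lit 0) .nil) (nat_lit
  0x905a4d62933) (nat_lit 200801) (nat_lit 276783) (.node .nil (nat_lit 0x905a4d62972) (nat_lit 334114)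
  (nat_lit 0) .nil)) (nat_lit 0x905a4d62e40) (nat_lit 0x852ce6) (nat_lit 0) (.node (.node .nil (nat_lit
  0x905a4d62ed8) (nat_lit 298340) (nat_lit 0) .nil) (nat_lit 0x905a4d63043) (nat_lit 0x91ad24) (nat_lit 0)
  (.node .nil (nat_lit 0x905a4d63099) (nat_lit 0x91ad44) (nat_lit 0) .nil))))) (nat_lit 0x905a4d635a4)
  (nat_lit 272546) (nat_lit 0xc345ee) (.node (.node (.node (.node (.node .nil (nat_lit 0x905a4d6360c) (nat_lit
  9477) (nat_lit 0) .nil) (nat_lit 0x905a4d636ca) (nat_lit 337064) (nat_lit 0) (.node .nil (nat_lit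
  0x905a4d63758) (nat_lit 172130) (nat_lit 0) .nil)) (nat_lit 0x905a4d678e1) (nat_lit 240936) (nat_lit 0)
  (.node (.node .nil (nat_lit 0x905a4d67bd8) (nat_lit 0xb520e1) (nat_lit 0) .nil) (nat_lit 0x905a4d67c1a)
  (nat_lit 0xa48d66) (nat_lit 0) (.node .nil (nat_lit 0x905a4d67d77) (nat_lit 273636) (nat_lit 0) .nil)))
  (nat_lit 0x905a4d69bda) (nat_lit 403563) (nat_lit 0) (.node (.node (.node .nil (nat_lit 0x905a4d69f4b)
  (nat_lit 0x962d47) (nat_lit 0) .nil) (nat_lit 0x905a4d69f6b) (nat_lit 0x74b164) (nat_lit 0) (.node .nil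
  (nat_lit 0x905a4d69fe8) (nat_lit 0xb430a4) (nat_lit 0) .nil)) (nat_lit 0x905a4d6a58a) (nat_lit 0x9620e5)
  (nat_lit 0) (.node (.node .nil (nat_lit 0x905a4d6a6ce) (nat_lit 0x851181) (nat_lit 0) .nil) (nat_lit
  0x905a4d6a705) (nat_lit 400581) (nat_lit 0) (.node .nil (nat_lit 0x905a4d6a71e) (nat_lit 207148) (nat_lit 0)
  .nil)))) (nat_lit 0x905a4d70d06) (nat_lit 369857) (nat_lit 0) (.node (.node (.node (.node .nil (nat_lit
  0x905a4d70d49) (nat_lit 370883) (nat_lit 0) .nil) (nat_lit 0x905a4d70f04) (nat_lit 0xb49941) (nat_lit 0)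
  (.node .nil (nat_lit 0x905a4d70f96) (nat_lit 4454) (nat_lit 0) .nil)) (nat_lit 0x905a4d713fd) (nat_lit
  0xb3a8c5) (nat_lit 0) (.node (.node .nil (nat_lit 0x905a4d71440) (nat_lit 306305) (nat_lit 0) .nil) (nat_lit
  0x905a4d715f7) (nat_lit 0x95a481) (nat_lit 0) (.node .nil (nat_lit 0x905a4d7168d) (nat_lit 0x95a881)
  (nat_lit 0) .nil))) (nat_lit 0x905a4d71b14) (nat_lit 9355) (nat_lit 0) (.node (.node (.node .nil (nat_lit
  0x905a4d71bc7) (nat_lit 0x65a8e5) (nat_lit 0) .nil) (nat_lit 0x905a4d71c4d) (nat_lit 299369) (nat_lit 0)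
  (.node .nil (nat_lit 0x905a4d71d80) (nat_lit 299370) (nat_lit 0) .nil)) (nat_lit 0x905a4d73546) (nat_lit
  142531) (nat_lit 457) (.node (.node .nil (nat_lit 0x905a4d736c5) (nat_lit 109862) (nat_lit 0) .nil) (nat_lit
  0x905a4d7375f) (nat_lit 11590) (nat_lit 0) (.node .nil (nat_lit 0x905a4d738c6) (nat_lit 370889) (nat_lit 0)
  .nil)))))) (nat_lit 0x905a4d73d31) (nat_lit 335238) (nat_lit 0) (.node (.node (.node (.node (.node (.node
  .nil (nat_lit 0x905a4d73fe3) (nat_lit 398632) (nat_lit 0) .nil) (nat_lit 0x905a4d74022) (nat_lit 0x862925)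
  (nat_lit 0) (.node .nil (nat_lit 0x905a4d74043) (nat_lit 398596) (nat_lit 0) .nil)) (nat_lit 0x905a4d74a80)
  (nat_lit 12587) (nat_lit 0) (.node (.node .nil (nat_lit 0x905a4d74b04) (nat_lit 340325) (nat_lit 0) .nil)
  (nat_lit 0x905a4d74e23) (nat_lit 402793) (nat_lit 0) (.node .nil (nat_lit 0x905a4d74e25) (nat_lit 402794)
  (nat_lit 0) .nil))) (nat_lit 0x905a4d9ccdb) (nat_lit 173314) (nat_lit 0) (.node (.node (.node .nil (nat_lit
  0x905a4d9cd07) (nat_lit 172162) (nat_lit 0) .nil) (nat_lit 0x905a4d9cdb4) (nat_lit 370795) (nat_lit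
  0xc8bdc3) (.node .nil (nat_lit 0x905a4d9cea7) (nat_lit 0x8524a1) (nat_lit 0) .nil)) (nat_lit 0x905a4d9d3d0)
  (nat_lit 6466) (nat_lit 0) (.node (.node .nil (nat_lit 0x905a4d9d3fc) (nat_lit 207138) (nat_lit 0) .nil)
  (nat_lit 0x905a4d9d495) (nat_lit 6434) (nat_lit 0) (.node .nil (nat_lit 0x905a4d9d59c) (nat_lit 194)
  (nat_lit 303597) .nil)))) (nat_lit 0x905a4d9e21d) (nat_lit 307528) (nat_lit 0) (.node (.node (.node (.node
  .nil (nat_lit 0x905a4d9e24a) (nat_lit 399491) (nat_lit 343364) .nil) (nat_lit 0x905a4d9e2a0) (nat_lit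
  0xc51841) (nat_lit 0) (.node .nil (nat_lit 0x905a4d9e324) (nat_lit 307459) (nat_lit 0) .nil)) (nat_lit
  0x905a4d9e5f6) (nat_lit 10595) (nat_lit 0) (.node (.node .nil (nat_lit 0x905a4d9e8e9) (nat_lit 0x55a501)
  (nat_lit 0) .nil) (nat_lit 0x905a4d9e92f) (nat_lit 339267) (nat_lit 0) (.node .nil (nat_lit 0x905a4d9ea8a)
  (nat_lit 339235) (nat_lit 0) .nil))) (nat_lit 0x905a4da26b5) (nat_lit 201066) (nat_lit 0) (.node (.node
  (.node .nil (nat_lit 0x905a4da2796) (nat_lit 306405) (nat_lit 0) .nil) (nat_lit 0x905a4da27ec) (nat_lit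
  0x622d49) (nat_lit 0) (.node .nil (nat_lit 0x905a4da2921) (nat_lit 6283) (nat_lit 0) .nil)) (nat_lit
  0x905a4da2bbd) (nat_lit 340139) (nat_lit 0) (.node (.node .nil (nat_lit 0x905a4da2ce1) (nat_lit 402786)
  (nat_lit 0) .nil) (nat_lit 0x905a4da3000) (nat_lit 0x95a581) (nat_lit 0) (.node .nil (nat_lit 0x905a4da3002)
  (nat_lit 0xc4ad42) (nat_lit 0) .nil))))) (nat_lit 0x905a4da32b1) (nat_lit 0xb2a586) (nat_lit 0) (.node
  (.node (.node (.node (.node .nil (nat_lit 0x905a4da360e) (nat_lit 0xc5a0a4) (nat_lit 0) .nil) (nat_lit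
  0x905a4da3644) (nat_lit 110923) (nat_lit 0) (.node .nil (nat_lit 0x905a4da3660) (nat_lit 0x362969) (nat_lit
  0) .nil)) (nat_lit 0x905a4da3bd9) (nat_lit 9411) (nat_lit 0) (.node (.node .nil (nat_lit 0x905a4da3c81)
  (nat_lit 10433) (nat_lit 0) .nil) (nat_lit 0x905a4da3d94) (nat_lit 334113) (nat_lit 0) (.node .nil (nat_lit
  0x905a4da3dd4) (nat_lit 334145) (nat_lit 468451) .nil))) (nat_lit 0x905a4da4127) (nat_lit 267395) (nat_lit
  0) (.node (.node (.node .nil (nat_lit 0x905a4da42e9) (nat_lit 0x849441) (nat_lit 0) .nil) (nat_lit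
  0x905a4da43ef) (nat_lit 371042) (nat_lit 0xc8bdc4) (.node .nil (nat_lit 0x905a4da451e) (nat_lit 0x552501)
  (nat_lit 0) .nil)) (nat_lit 0x905a4da4738) (nat_lit 10534) (nat_lit 0) (.node (.node .nil (nat_lit
  0x905a4da49b9) (nat_lit 205921) (nat_lit 0) .nil) (nat_lit 0x905a4da4ad6) (nat_lit 206945) (nat_lit 0)
  (.node .nil (nat_lit 0x905a4da4c13) (nat_lit 6241) (nat_lit 10733) .nil)))) (nat_lit 0x905a4da50cb) (nat_lit
  339042) (nat_lit 0) (.node (.node (.node (.node .nil (nat_lit 0x905a4da5154) (nat_lit 0xb2a501) (nat_lit 0)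
  .nil) (nat_lit 0x905a4da519a) (nat_lit 368804) (nat_lit 0) (.node .nil (nat_lit 0x905a4da530e) (nat_lit
  0xa5a462) (nat_lit 0) .nil)) (nat_lit 0x905a4da57c7) (nat_lit 0x75a502) (nat_lit 0) (.node (.node .nil
  (nat_lit 0x905a4da584b) (nat_lit 0x752ca1) (nat_lit 0) .nil) (nat_lit 0x905a4da5868) (nat_lit 0x652561)
  (nat_lit 0) (.node .nil (nat_lit 0x905a4da5a05) (nat_lit 142599) (nat_lit 0) .nil))) (nat_lit 0x905a4da5f6a)
  (nat_lit 0xc51921) (nat_lit 0) (.node (.node (.node .nil (nat_lit 0x905a4da5f95) (nat_lit 143555) (nat_lit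
  343363) .nil) (nat_lit 0x905a4da6002) (nat_lit 403649) (nat_lit 0) (.node .nil (nat_lit 0x905a4da606f)
  (nat_lit 402627) (nat_lit 0) .nil)) (nat_lit 0x905a4da6659) (nat_lit 0x861c61) (nat_lit 0) (.node (.node
  .nil (nat_lit 0x905a4da668e) (nat_lit 0xa4a185) (nat_lit 0) .nil) (nat_lit 0x905a4da66f7) (nat_lit 206060)
  (nat_lit 0) (.node .nil (nat_lit 0x905a4da6760) (nat_lit 0x762901) (nat_lit 0) .nil)))))))
def tT_1 : T := (.node (.node (.node (.node (.node (.node (.node .nil (nat_lit 0x905a4da6d1f) (nat_lit 6473)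
  (nat_lit 0) .nil) (nat_lit 0x905a4da6dc0) (nat_lit 201) (nat_lit 0) (.node .nil (nat_lit 0x905a4da6efe)
  (nat_lit 6) (nat_lit 9709) .nil)) (nat_lit 0x905a4da73e8) (nat_lit 5416) (nat_lit 0) (.node (.node .nil
  (nat_lit 0x905a4da7418) (nat_lit 5380) (nat_lit 0) .nil) (nat_lit 0x905a4da74c3) (nat_lit 336036) (nat_lit
  0xc8a9ee) (.node .nil (nat_lit 0x905a4da75f3) (nat_lit 173322) (nat_lit 0) .nil))) (nat_lit 0x905a4da7836)
  (nat_lit 371041) (nat_lit 0xc445ee) (.node (.node (.node .nil (nat_lit 0x905a4da7a4c) (nat_lit 8485)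
  (nat_lit 0) .nil) (nat_lit 0x905a4da7b54) (nat_lit 271529) (nat_lit 0) (.node .nil (nat_lit 0x905a4da7cc3)
  (nat_lit 271530) (nat_lit 0) .nil)) (nat_lit 0x905a4da8192) (nat_lit 271522) (nat_lit 0) (.node (.node .nil
  (nat_lit 0x905a4da8249) (nat_lit 172163) (nat_lit 0) .nil) (nat_lit 0x905a4da828d) (nat_lit 272548) (nat_lit
  0xc89dee) (.node .nil (nat_lit 0x905a4da83c2) (nat_lit 174376) (nat_lit 0) .nil)))) (nat_lit 0x905a4da8861)
  (nat_lit 6435) (nat_lit 0) (.node (.node (.node (.node .nil (nat_lit 0x905a4da893e) (nat_lit 337089)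
  (nat_lit 0) .nil) (nat_lit 0x905a4da8975) (nat_lit 6467) (nat_lit 0) (.node .nil (nat_lit 0x905a4da8abb)
  (nat_lit 195) (nat_lit 343459) .nil)) (nat_lit 0x905a4da8d11) (nat_lit 205922) (nat_lit 0) (.node (.node
  .nil (nat_lit 0x905a4da9037) (nat_lit 0xa49841) (nat_lit 0) .nil) (nat_lit 0x905a4da906c) (nat_lit 333953)
  (nat_lit 0) (.node .nil (nat_lit 0x905a4da91a4) (nat_lit 6242) (nat_lit 343460) .nil))) (nat_lit
  0x905a4da95ef) (nat_lit 370951) (nat_lit 0) (.node (.node (.node .nil (nat_lit 0x905a4da9620) (nat_lit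
  367912) (nat_lit 0) .nil) (nat_lit 0x905a4da9737) (nat_lit 0x652562) (nat_lit 0) (.node .nil (nat_lit
  0x905a4da989c) (nat_lit 368868) (nat_lit 0) .nil)) (nat_lit 0x905a4da9b05) (nat_lit 207147) (nat_lit 0)
  (.node (.node .nil (nat_lit 0x905a4da9d60) (nat_lit 0xb3a502) (nat_lit 0) .nil) (nat_lit 0x905a4da9deb)
  (nat_lit 239973) (nat_lit 0) (.node .nil (nat_lit 0x905a4da9f99) (nat_lit 266599) (nat_lit 0) .nil)))))
  (nat_lit 0x905a4daa1f2) (nat_lit 273572) (nat_lit 0) (.node (.node (.node (.node (.node .nil (nat_lit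
  0x905a4daa455) (nat_lit 331106) (nat_lit 0) .nil) (nat_lit 0x905a4daa4d8) (nat_lit 365864) (nat_lit 0)
  (.node .nil (nat_lit 0x905a4daa68c) (nat_lit 0xa1ad22) (nat_lit 0) .nil)) (nat_lit 0x905a4daaad0) (nat_lit
  175400) (nat_lit 0) (.node (.node .nil (nat_lit 0x905a4daab05) (nat_lit 10347) (nat_lit 0) .nil) (nat_lit
  0x905a4daab30) (nat_lit 175364) (nat_lit 0) (.node .nil (nat_lit 0x905a4daad7f) (nat_lit 331113) (nat_lit 0)
  .nil))) (nat_lit 0x905a4daafa1) (nat_lit 0x962901) (nat_lit 0) (.node (.node (.node .nil (nat_lit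
  0x905a4daafe8) (nat_lit 403650) (nat_lit 0) .nil) (nat_lit 0x905a4dab315) (nat_lit 209027) (nat_lit 343434)
  (.node .nil (nat_lit 0x905a4dab3fc) (nat_lit 110886) (nat_lit 0) .nil)) (nat_lit 0x905a4dab696) (nat_lit
  0xc41c61) (nat_lit 0) (.node (.node .nil (nat_lit 0x905a4dab6d8) (nat_lit 206215) (nat_lit 0) .nil) (nat_lit
  0x905a4daba06) (nat_lit 0xa4b105) (nat_lit 0) (.node .nil (nat_lit 0x905a4dabae3) (nat_lit 174470) (nat_lit
  0) .nil)))) (nat_lit 0x905a4dabf27) (nat_lit 274727) (nat_lit 0) (.node (.node (.node (.node .nil (nat_lit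
  0x905a4dac01f) (nat_lit 274659) (nat_lit 0) .nil) (nat_lit 0x905a4dac103) (nat_lit 0xa624c5) (nat_lit 0)
  (.node .nil (nat_lit 0x905a4dac1da) (nat_lit 241992) (nat_lit 0) .nil)) (nat_lit 0x905a4dac710) (nat_lit
  403657) (nat_lit 0) (.node (.node .nil (nat_lit 0x905a4dac79a) (nat_lit 12614) (nat_lit 0) .nil) (nat_lit
  0x905a4dac7f8) (nat_lit 201091) (nat_lit 10730) (.node .nil (nat_lit 0x905a4dac8dd) (nat_lit 303491)
  (nat_lit 0) .nil))) (nat_lit 0x905a4dacc0f) (nat_lit 205889) (nat_lit 0) (.node (.node (.node .nil (nat_lit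
  0x905a4dace13) (nat_lit 206913) (nat_lit 0) .nil) (nat_lit 0x905a4daced6) (nat_lit 0x652441) (nat_lit 0)
  (.node .nil (nat_lit 0x905a4dad03d) (nat_lit 6209) (nat_lit 310692) .nil)) (nat_lit 0x905a4dad353) (nat_lit
  6465) (nat_lit 0) (.node (.node .nil (nat_lit 0x905a4dad5cf) (nat_lit 207137) (nat_lit 0) .nil) (nat_lit
  0x905a4dad62b) (nat_lit 6433) (nat_lit 0) (.node .nil (nat_lit 0x905a4dad77c) (nat_lit 193) (nat_lit 310691)
  .nil)))))) (nat_lit 0x905a4dad97e) (nat_lit 173313) (nat_lit 0) (.node (.node (.node (.node (.node (.node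
  .nil (nat_lit 0x905a4dadcc4) (nat_lit 8356) (nat_lit 0) .nil) (nat_lit 0x905a4dadd31) (nat_lit 333060)
  (nat_lit 0x19153dc3) (.node .nil (nat_lit 0x905a4dade71) (nat_lit 333096) (nat_lit 0) .nil)) (nat_lit
  0x905a4dae0f2) (nat_lit 371043) (nat_lit 411118) (.node (.node .nil (nat_lit 0x905a4dae2f4) (nat_lit
  0x54a041) (nat_lit 0) .nil) (nat_lit 0x905a4dae3b9) (nat_lit 267394) (nat_lit 0) (.node .nil (nat_lit
  0x905a4dae51e) (nat_lit 272677) (nat_lit 0) .nil))) (nat_lit 0x905a4dae97a) (nat_lit 0xb51cc5) (nat_lit 0)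
  (.node (.node (.node .nil (nat_lit 0x905a4dae99d) (nat_lit 9323) (nat_lit 0) .nil) (nat_lit 0x905a4daec31)
  (nat_lit 298346) (nat_lit 0) (.node .nil (nat_lit 0x905a4daec39) (nat_lit 298345) (nat_lit 0) .nil))
  (nat_lit 0x905a4daf071) (nat_lit 200041) (nat_lit 0) (.node (.node .nil (nat_lit 0x905a4daf092) (nat_lit
  370884) (nat_lit 0) .nil) (nat_lit 0x905a4daf326) (nat_lit 6251) (nat_lit 0) (.node .nil (nat_lit
  0x905a4daf32c) (nat_lit 0xb524c2) (nat_lit 0) .nil)))) (nat_lit 0x905a4daf7aa) (nat_lit 109770) (nat_lit 0)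
  (.node (.node (.node (.node .nil (nat_lit 0x905a4daf83b) (nat_lit 109769) (nat_lit 0) .nil) (nat_lit
  0x905a4dafa13) (nat_lit 3430) (nat_lit 0) (.node .nil (nat_lit 0x905a4dafa23) (nat_lit 370982) (nat_lit 0)
  .nil)) (nat_lit 0x905a4dafcc2) (nat_lit 366883) (nat_lit 0) (.node (.node .nil (nat_lit 0x905a4dafea2)
  (nat_lit 366915) (nat_lit 0) .nil) (nat_lit 0x905a4db00f8) (nat_lit 11459) (nat_lit 0) (.node .nil (nat_lit
  0x905a4db011d) (nat_lit 0xb524c1) (nat_lit 0) .nil))) (nat_lit 0x905a4db0309) (nat_lit 208195) (nat_lit 0)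
  (.node (.node (.node .nil (nat_lit 0x905a4db05da) (nat_lit 208163) (nat_lit 0) .nil) (nat_lit 0x905a4db0802)
  (nat_lit 6499) (nat_lit 0) (.node .nil (nat_lit 0x905a4db0812) (nat_lit 0x65a923) (nat_lit 0) .nil))
  (nat_lit 0x905a4db09f3) (nat_lit 9571) (nat_lit 0) (.node (.node .nil (nat_lit 0x905a4db0d4f) (nat_lit
  0x95a923) (nat_lit 0) .nil) (nat_lit 0x905a4db0ef7) (nat_lit 306499) (nat_lit 0) (.node .nil (nat_lit
  0x905a4db0f03) (nat_lit 306467) (nat_lit 0) .nil))))) (nat_lit 0x905a4db137f) (nat_lit 306274) (nat_lit 0)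
  (.node (.node (.node (.node (.node .nil (nat_lit 0x905a4db1446) (nat_lit 0xb518e5) (nat_lit 0) .nil)
  (nat_lit 0x905a4db15db) (nat_lit 0x95a862) (nat_lit 0) (.node .nil (nat_lit 0x905a4db15f8) (nat_lit
  0x95a462) (nat_lit 0) .nil)) (nat_lit 0x905a4db1a77) (nat_lit 298338) (nat_lit 0) (.node (.node .nil
  (nat_lit 0x905a4db1b38) (nat_lit 0x759945) (nat_lit 0) .nil) (nat_lit 0x905a4db1ce0) (nat_lit 0x91ad42)
  (nat_lit 0) (.node .nil (nat_lit 0x905a4db1cf2) (nat_lit 0x91ad22) (nat_lit 0) .nil))) (nat_lit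
  0x905a4db2087) (nat_lit 0xc41d41) (nat_lit 0) (.node (.node (.node .nil (nat_lit 0x905a4db2187) (nat_lit
  401633) (nat_lit 0x97b943) .nil) (nat_lit 0x905a4db2199) (nat_lit 0x942985) (nat_lit 0) (.node .nil (nat_lit
  0x905a4db2216) (nat_lit 204076) (nat_lit 0) .nil)) (nat_lit 0x905a4db260d) (nat_lit 0x93b146) (nat_lit 0)
  (.node (.node .nil (nat_lit 0x905a4db2632) (nat_lit 8583) (nat_lit 0x97b944) .nil) (nat_lit 0x905a4db2670)
  (nat_lit 334213) (nat_lit 0) (.node .nil (nat_lit 0x905a4db273a) (nat_lit 274665) (nat_lit 0) .nil))))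
  (nat_lit 0x905a4db2d29) (nat_lit 303498) (nat_lit 0) (.node (.node (.node (.node .nil (nat_lit
  0x905a4db2dd2) (nat_lit 6284) (nat_lit 0) .nil) (nat_lit 0x905a4db2deb) (nat_lit 9484) (nat_lit 0) (.node
  .nil (nat_lit 0x905a4db2e31) (nat_lit 403651) (nat_lit 0) .nil)) (nat_lit 0x905a4db3566) (nat_lit 307457)
  (nat_lit 0) (.node (.node .nil (nat_lit 0x905a4db366a) (nat_lit 0x962141) (nat_lit 0) .nil) (nat_lit
  0x905a4db367a) (nat_lit 6532) (nat_lit 0) (.node .nil (nat_lit 0x905a4db36f7) (nat_lit 209220) (nat_lit 0)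
  .nil))) (nat_lit 0x905a4db3e34) (nat_lit 12484) (nat_lit 0) (.node (.node (.node .nil (nat_lit
  0x905a4db3e3f) (nat_lit 307466) (nat_lit 0) .nil) (nat_lit 0x905a4db3ecf) (nat_lit 9608) (nat_lit 0) (.node
  .nil (nat_lit 0x905a4db3eda) (nat_lit 399684) (nat_lit 0) .nil)) (nat_lit 0x905a4db4517) (nat_lit 402634)
  (nat_lit 0) (.node (.node .nil (nat_lit 0x905a4db4529) (nat_lit 4486) (nat_lit 0) .nil) (nat_lit
  0x905a4db45ae) (nat_lit 12582) (nat_lit 0) (.node .nil (nat_lit 0x905a4db45d1) (nat_lit 143562) (nat_lit 0)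
  .nil)))))))
def tT_2 : T := (.node (.node (.node (.node (.node (.node (.node .nil (nat_lit 0x905a4db4c2d) (nat_lit 274657)
  (nat_lit 0x97b98a) .nil) (nat_lit 0x905a4db4ca5) (nat_lit 340165) (nat_lit 0) (.node .nil (nat_lit
  0x905a4db4cc0) (nat_lit 235820) (nat_lit 0) .nil)) (nat_lit 0x905a4db530f) (nat_lit 0x961d46) (nat_lit 0)
  (.node (.node .nil (nat_lit 0x905a4db5324) (nat_lit 12551) (nat_lit 310730) .nil) (nat_lit 0x905a4db53b0)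
  (nat_lit 401642) (nat_lit 0) (.node .nil (nat_lit 0x905a4db53b7) (nat_lit 401641) (nat_lit 0) .nil)))
  (nat_lit 0x905a4db5985) (nat_lit 174279) (nat_lit 0) (.node (.node (.node .nil (nat_lit 0x905a4db59e4)
  (nat_lit 370017) (nat_lit 400943) .nil) (nat_lit 0x905a4db5a15) (nat_lit 5350) (nat_lit 0) (.node .nil
  (nat_lit 0x905a4db5b8f) (nat_lit 0xb4ad41) (nat_lit 0) .nil)) (nat_lit 0x905a4db607c) (nat_lit 235690)
  (nat_lit 0) (.node (.node .nil (nat_lit 0x905a4db60d9) (nat_lit 301223) (nat_lit 0xc8bc83) .nil) (nat_lit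
  0x905a4db6108) (nat_lit 7365) (nat_lit 0) (.node .nil (nat_lit 0x905a4db6278) (nat_lit 0x749945) (nat_lit 0)
  .nil)))) (nat_lit 0x905a4db6538) (nat_lit 336098) (nat_lit 0) (.node (.node (.node (.node .nil (nat_lit
  0x905a4db6777) (nat_lit 238850) (nat_lit 0) .nil) (nat_lit 0x905a4db67ff) (nat_lit 0x8524e2) (nat_lit 0)
  (.node .nil (nat_lit 0x905a4db696f) (nat_lit 530945) (nat_lit 310697) .nil)) (nat_lit 0x905a4db6e45)
  (nat_lit 10503) (nat_lit 0) (.node (.node .nil (nat_lit 0x905a4db6e6e) (nat_lit 7464) (nat_lit 0) .nil)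
  (nat_lit 0x905a4db6ef6) (nat_lit 272679) (nat_lit 0) (.node .nil (nat_lit 0x905a4db706e) (nat_lit 8420)
  (nat_lit 0x97b4a9) .nil))) (nat_lit 0x905a4db751a) (nat_lit 238849) (nat_lit 0) (.node (.node (.node .nil
  (nat_lit 0x905a4db751f) (nat_lit 0x8524e1) (nat_lit 0) .nil) (nat_lit 0x905a4db7581) (nat_lit 336097)
  (nat_lit 0) (.node .nil (nat_lit 0x905a4db7766) (nat_lit 269441) (nat_lit 0x97b524) .nil)) (nat_lit
  0x905a4db7962) (nat_lit 530953) (nat_lit 0) (.node (.node .nil (nat_lit 0x905a4db7a65) (nat_lit 0x1034149)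
  (nat_lit 0) .nil) (nat_lit 0x905a4db7c78) (nat_lit 530954) (nat_lit 0) (.node .nil (nat_lit 0x905a4db7e48)
  (nat_lit 16592) (nat_lit 533997) .nil))))) (nat_lit 0x905a4db8057) (nat_lit 174310) (nat_lit 0) (.node
  (.node (.node (.node (.node .nil (nat_lit 0x905a4db8076) (nat_lit 6311) (nat_lit 0) .nil) (nat_lit
  0x905a4db83ab) (nat_lit 370018) (nat_lit 411108) (.node .nil (nat_lit 0x905a4db853f) (nat_lit 0xb4ad42)
  (nat_lit 0) .nil)) (nat_lit 0x905a4db8999) (nat_lit 11563) (nat_lit 0xc3c5e3) (.node (.node .nil (nat_lit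
  0x905a4db89f9) (nat_lit 203946) (nat_lit 0) .nil) (nat_lit 0x905a4db89fe) (nat_lit 6373) (nat_lit 0) (.node
  .nil (nat_lit 0x905a4db8c47) (nat_lit 370026) (nat_lit 0) .nil))) (nat_lit 0x905a4db911f) (nat_lit 306241)
  (nat_lit 0) (.node (.node (.node .nil (nat_lit 0x905a4db9183) (nat_lit 0x55a8c7) (nat_lit 0) .nil) (nat_lit
  0x905a4db933a) (nat_lit 0x95a841) (nat_lit 0) (.node .nil (nat_lit 0x905a4db934b) (nat_lit 367813) (nat_lit
  0x97b236) .nil)) (nat_lit 0x905a4db977b) (nat_lit 0x95a921) (nat_lit 0) (.node (.node .nil (nat_lit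
  0x905a4db9814) (nat_lit 9569) (nat_lit 0) .nil) (nat_lit 0x905a4db9a1c) (nat_lit 306497) (nat_lit 0) (.node
  .nil (nat_lit 0x905a4db9a40) (nat_lit 306465) (nat_lit 0x97c616) .nil)))) (nat_lit 0x905a4db9c32) (nat_lit
  9570) (nat_lit 0) (.node (.node (.node (.node .nil (nat_lit 0x905a4db9f6b) (nat_lit 0x95a922) (nat_lit 0)
  .nil) (nat_lit 0x905a4dba12c) (nat_lit 306498) (nat_lit 0) (.node .nil (nat_lit 0x905a4dba133) (nat_lit
  306466) (nat_lit 0x92be36) .nil)) (nat_lit 0x905a4dba5de) (nat_lit 299) (nat_lit 0) (.node (.node .nil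
  (nat_lit 0x905a4dba662) (nat_lit 306505) (nat_lit 0) .nil) (nat_lit 0x905a4dba819) (nat_lit 9578) (nat_lit
  0) (.node .nil (nat_lit 0x905a4dba828) (nat_lit 9577) (nat_lit 310838) .nil))) (nat_lit 0x905a4dbacd5)
  (nat_lit 6506) (nat_lit 0) (.node (.node (.node .nil (nat_lit 0x905a4dbad3c) (nat_lit 6505) (nat_lit 0)
  .nil) (nat_lit 0x905a4dbaf0e) (nat_lit 203) (nat_lit 0) (.node .nil (nat_lit 0x905a4dbaf21) (nat_lit 208201)
  (nat_lit 0) .nil)) (nat_lit 0x905a4dbb106) (nat_lit 11466) (nat_lit 0) (.node (.node .nil (nat_lit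
  0x905a4dbb431) (nat_lit 11465) (nat_lit 0) .nil) (nat_lit 0x905a4dbb60f) (nat_lit 358) (nat_lit 0) (.node
  .nil (nat_lit 0x905a4dbb616) (nat_lit 366921) (nat_lit 0) .nil)))))) (nat_lit 0x905a4dbbae0) (nat_lit
  366913) (nat_lit 0) (.node (.node (.node (.node (.node (.node .nil (nat_lit 0x905a4dbbb25) (nat_lit 366881)
  (nat_lit 0) .nil) (nat_lit 0x905a4dbbcfd) (nat_lit 11457) (nat_lit 0) (.node .nil (nat_lit 0x905a4dbbd08)
  (nat_lit 0xb32921) (nat_lit 0) .nil)) (nat_lit 0x905a4dbc13e) (nat_lit 208161) (nat_lit 0) (.node (.node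
  .nil (nat_lit 0x905a4dbc1d7) (nat_lit 208193) (nat_lit 0) .nil) (nat_lit 0x905a4dbc3e1) (nat_lit 6497)
  (nat_lit 0) (.node .nil (nat_lit 0x905a4dbc3ff) (nat_lit 0x65a921) (nat_lit 0) .nil))) (nat_lit
  0x905a4dbc89a) (nat_lit 267554) (nat_lit 0) (.node (.node (.node .nil (nat_lit 0x905a4dbc8a1) (nat_lit
  333058) (nat_lit 0x1ac345e3) .nil) (nat_lit 0x905a4dbc8c4) (nat_lit 303429) (nat_lit 0) (.node .nil (nat_lit
  0x905a4dbca3c) (nat_lit 8354) (nat_lit 0) .nil)) (nat_lit 0x905a4dbce00) (nat_lit 0x922d23) (nat_lit 0)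
  (.node (.node .nil (nat_lit 0x905a4dbcfc3) (nat_lit 299363) (nat_lit 0) .nil) (nat_lit 0x905a4dbd007)
  (nat_lit 0x72ad46) (nat_lit 0) (.node .nil (nat_lit 0x905a4dbd186) (nat_lit 0x922d43) (nat_lit 0) .nil))))
  (nat_lit 0x905a4dbd464) (nat_lit 0xb51922) (nat_lit 0) (.node (.node (.node (.node .nil (nat_lit
  0x905a4dbd6a4) (nat_lit 201059) (nat_lit 14505) .nil) (nat_lit 0x905a4dbd6ba) (nat_lit 370882) (nat_lit 0)
  (.node .nil (nat_lit 0x905a4dbd71f) (nat_lit 238949) (nat_lit 0) .nil)) (nat_lit 0x905a4dbdd82) (nat_lit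
  9409) (nat_lit 0) (.node (.node .nil (nat_lit 0x905a4dbde9a) (nat_lit 10435) (nat_lit 0) .nil) (nat_lit
  0x905a4dbdf1b) (nat_lit 301377) (nat_lit 0) (.node .nil (nat_lit 0x905a4dbdf61) (nat_lit 200769) (nat_lit
  15779) .nil))) (nat_lit 0x905a4dbe1cc) (nat_lit 8517) (nat_lit 0xc8a5ee) (.node (.node (.node .nil (nat_lit
  0x905a4dbe4e1) (nat_lit 303266) (nat_lit 0) .nil) (nat_lit 0x905a4dbe59f) (nat_lit 272553) (nat_lit 0)
  (.node .nil (nat_lit 0x905a4dbe62d) (nat_lit 5379) (nat_lit 0) .nil)) (nat_lit 0x905a4dbeb4e) (nat_lit 9572)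
  (nat_lit 0) (.node (.node .nil (nat_lit 0x905a4dbeb86) (nat_lit 306500) (nat_lit 0) .nil) (nat_lit
  0x905a4dbeb90) (nat_lit 0x95a924) (nat_lit 0) (.node .nil (nat_lit 0x905a4dbed04) (nat_lit 306468) (nat_lit
  0) .nil))))) (nat_lit 0x905a4dbf23f) (nat_lit 208196) (nat_lit 0) (.node (.node (.node (.node (.node .nil
  (nat_lit 0x905a4dbf305) (nat_lit 11558) (nat_lit 0) .nil) (nat_lit 0x905a4dbf3fb) (nat_lit 369866) (nat_lit
  0) (.node .nil (nat_lit 0x905a4dbf454) (nat_lit 6500) (nat_lit 0) .nil)) (nat_lit 0x905a4dbf6ad) (nat_lit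
  301154) (nat_lit 0) (.node (.node .nil (nat_lit 0x905a4dbf8f9) (nat_lit 333889) (nat_lit 0) .nil) (nat_lit
  0x905a4dbfb13) (nat_lit 0xa32441) (nat_lit 0) (.node .nil (nat_lit 0x905a4dbfb53) (nat_lit 6275) (nat_lit
  468452) .nil))) (nat_lit 0x905a4dbff49) (nat_lit 0x55a586) (nat_lit 0) (.node (.node (.node .nil (nat_lit
  0x905a4dc0179) (nat_lit 0xc52d43) (nat_lit 0) .nil) (nat_lit 0x905a4dc0198) (nat_lit 403811) (nat_lit 0)
  (.node .nil (nat_lit 0x905a4dc025b) (nat_lit 0xc52d23) (nat_lit 0) .nil)) (nat_lit 0x905a4dc0895) (nat_lit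
  402785) (nat_lit 0) (.node (.node .nil (nat_lit 0x905a4dc08a9) (nat_lit 339116) (nat_lit 0) .nil) (nat_lit
  0x905a4dc08bd) (nat_lit 0xc4ad21) (nat_lit 0) (.node .nil (nat_lit 0x905a4dc095d) (nat_lit 0xc4ad41)
  (nat_lit 0) .nil)))) (nat_lit 0x905a4dc0f88) (nat_lit 333195) (nat_lit 0) (.node (.node (.node (.node .nil
  (nat_lit 0x905a4dc0fa0) (nat_lit 0xc4ac41) (nat_lit 0) .nil) (nat_lit 0x905a4dc0fb2) (nat_lit 0xa2b169)
  (nat_lit 0) (.node .nil (nat_lit 0x905a4dc104a) (nat_lit 306476) (nat_lit 0) .nil)) (nat_lit 0x905a4dc142a)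
  (nat_lit 0x362961) (nat_lit 0) (.node (.node .nil (nat_lit 0x905a4dc1670) (nat_lit 0x6c52d21) (nat_lit 0)
  .nil) (nat_lit 0x905a4dc167d) (nat_lit 0xc59528) (nat_lit 0) (.node .nil (nat_lit 0x905a4dc173c) (nat_lit
  0xa5a983) (nat_lit 0) .nil))) (nat_lit 0x905a4dc1c6d) (nat_lit 301153) (nat_lit 0) (.node (.node (.node .nil
  (nat_lit 0x905a4dc1ccb) (nat_lit 326) (nat_lit 0) .nil) (nat_lit 0x905a4dc1de3) (nat_lit 10441) (nat_lit 0)
  (.node .nil (nat_lit 0x905a4dc1e2e) (nat_lit 10442) (nat_lit 14639) .nil)) (nat_lit 0x905a4dc212a) (nat_lit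
  9384) (nat_lit 0) (.node (.node .nil (nat_lit 0x905a4dc236a) (nat_lit 371044) (nat_lit 0xc8b54f) .nil)
  (nat_lit 0x905a4dc24d5) (nat_lit 267362) (nat_lit 0) (.node .nil (nat_lit 0x905a4dc2527) (nat_lit 337157)
  (nat_lit 0) .nil)))))))
def tT_3 : T := (.node (.node (.node (.node (.node (.node (.node .nil (nat_lit 0x905a4dc27ec) (nat_lit
  0x922d21) (nat_lit 0) .nil) (nat_lit 0x905a4dc2814) (nat_lit 0xa5a0c7) (nat_lit 0) (.node .nil (nat_lit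
  0x905a4dc282a) (nat_lit 0x922d41) (nat_lit 0) .nil)) (nat_lit 0x905a4dc2e4f) (nat_lit 366916) (nat_lit 0)
  (.node (.node .nil (nat_lit 0x905a4dc2f74) (nat_lit 0xb49942) (nat_lit 0) .nil) (nat_lit 0x905a4dc31ac)
  (nat_lit 369858) (nat_lit 0) (.node .nil (nat_lit 0x905a4dc32f7) (nat_lit 11460) (nat_lit 0) .nil)))
  (nat_lit 0x905a4dc380c) (nat_lit 0xb51841) (nat_lit 0) (.node (.node (.node .nil (nat_lit 0x905a4dc388f)
  (nat_lit 0x74aca1) (nat_lit 0) .nil) (nat_lit 0x905a4dc38f5) (nat_lit 0x959d45) (nat_lit 0) (.node .nil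
  (nat_lit 0x905a4dc3a2b) (nat_lit 366723) (nat_lit 14628) .nil)) (nat_lit 0x905a4dc3f38) (nat_lit 294)
  (nat_lit 0) (.node (.node .nil (nat_lit 0x905a4dc4014) (nat_lit 333921) (nat_lit 0) .nil) (nat_lit
  0x905a4dc4090) (nat_lit 9418) (nat_lit 0) (.node .nil (nat_lit 0x905a4dc40fe) (nat_lit 6274) (nat_lit 493)
  .nil)))) (nat_lit 0x905a4dc45e8) (nat_lit 172322) (nat_lit 0) (.node (.node (.node (.node .nil (nat_lit
  0x905a4dc4627) (nat_lit 336034) (nat_lit 0xd61a2f) .nil) (nat_lit 0x905a4dc4787) (nat_lit 5378) (nat_lit 0)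
  (.node .nil (nat_lit 0x905a4dc47f3) (nat_lit 0x9428a1) (nat_lit 0) .nil)) (nat_lit 0x905a4dc4cef) (nat_lit
  299115) (nat_lit 0) (.node (.node .nil (nat_lit 0x905a4dc4d55) (nat_lit 0xb29d46) (nat_lit 0) .nil) (nat_lit
  0x905a4dc4dd6) (nat_lit 0x920d69) (nat_lit 0) (.node .nil (nat_lit 0x905a4dc4f0c) (nat_lit 0xa4ad05)
  (nat_lit 0) .nil))) (nat_lit 0x905a4dc512a) (nat_lit 301121) (nat_lit 0) (.node (.node (.node .nil (nat_lit
  0x905a4dc519e) (nat_lit 206977) (nat_lit 0) .nil) (nat_lit 0x905a4dc5243) (nat_lit 0x932841) (nat_lit 0)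
  (.node .nil (nat_lit 0x905a4dc55b6) (nat_lit 6273) (nat_lit 15780) .nil)) (nat_lit 0x905a4dc5824) (nat_lit
  370881) (nat_lit 0) (.node (.node .nil (nat_lit 0x905a4dc5b5e) (nat_lit 369859) (nat_lit 0) .nil) (nat_lit
  0x905a4dc5c63) (nat_lit 0xb51921) (nat_lit 0) (.node .nil (nat_lit 0x905a4dc5cf6) (nat_lit 208003) (nat_lit
  526) .nil))))) (nat_lit 0x905a4dc5f0c) (nat_lit 306307) (nat_lit 0) (.node (.node (.node (.node (.node .nil
  (nat_lit 0x905a4dc6238) (nat_lit 0xb39546) (nat_lit 0) .nil) (nat_lit 0x905a4dc635c) (nat_lit 0x95a483)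
  (nat_lit 0) (.node .nil (nat_lit 0x905a4dc63ed) (nat_lit 0x95a883) (nat_lit 0) .nil)) (nat_lit
  0x905a4dc660f) (nat_lit 10408) (nat_lit 0x1ac445e3) (.node (.node .nil (nat_lit 0x905a4dc667c) (nat_lit
  8361) (nat_lit 0) .nil) (nat_lit 0x905a4dc66a3) (nat_lit 261) (nat_lit 0) (.node .nil (nat_lit
  0x905a4dc66c5) (nat_lit 333065) (nat_lit 0) .nil))) (nat_lit 0x905a4dc6db1) (nat_lit 0x961546) (nat_lit 0)
  (.node (.node (.node .nil (nat_lit 0x905a4dc7109) (nat_lit 334215) (nat_lit 0) .nil) (nat_lit 0x905a4dc7171)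
  (nat_lit 173446) (nat_lit 0) (.node .nil (nat_lit 0x905a4dc71d1) (nat_lit 401572) (nat_lit 0) .nil))
  (nat_lit 0x905a4dc74aa) (nat_lit 204165) (nat_lit 0) (.node (.node .nil (nat_lit 0x905a4dc7800) (nat_lit
  0xc5a562) (nat_lit 0) .nil) (nat_lit 0x905a4dc786e) (nat_lit 272524) (nat_lit 0) (.node .nil (nat_lit
  0x905a4dc78be) (nat_lit 0x652581) (nat_lit 0) .nil)))) (nat_lit 0x905a4dc7dbc) (nat_lit 0xc42925) (nat_lit
  0) (.node (.node (.node (.node .nil (nat_lit 0x905a4dc7ee1) (nat_lit 340198) (nat_lit 0) .nil) (nat_lit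
  0x905a4dc7f5e) (nat_lit 0x54b0c2) (nat_lit 0) (.node .nil (nat_lit 0x905a4dc7f87) (nat_lit 267652) (nat_lit
  0) .nil)) (nat_lit 0x905a4dc824a) (nat_lit 0xc5a561) (nat_lit 0) (.node (.node .nil (nat_lit 0x905a4dc865d)
  (nat_lit 0x853081) (nat_lit 0) .nil) (nat_lit 0x905a4dc8696) (nat_lit 209125) (nat_lit 0) (.node .nil
  (nat_lit 0x905a4dc86ad) (nat_lit 0x652582) (nat_lit 0) .nil))) (nat_lit 0x905a4dc8ba5) (nat_lit 241861)
  (nat_lit 0) (.node (.node (.node .nil (nat_lit 0x905a4dc8ccc) (nat_lit 404779) (nat_lit 0) .nil) (nat_lit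
  0x905a4dc8d00) (nat_lit 0xa4b0c3) (nat_lit 0) (.node .nil (nat_lit 0x905a4dc8d4f) (nat_lit 272772) (nat_lit
  0) .nil)) (nat_lit 0x905a4dc9030) (nat_lit 334060) (nat_lit 0) (.node (.node .nil (nat_lit 0x905a4dc943c)
  (nat_lit 0xc2a502) (nat_lit 0) .nil) (nat_lit 0x905a4dc947b) (nat_lit 0x64b145) (nat_lit 0) (.node .nil
  (nat_lit 0x905a4dc949c) (nat_lit 274596) (nat_lit 0) .nil)))))) (nat_lit 0x905a4dc96b8) (nat_lit 0xb4a0e1)
  (nat_lit 0) (.node (.node (.node (.node (.node (.node .nil (nat_lit 0x905a4dc9a51) (nat_lit 0xa4acc1)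
  (nat_lit 0) .nil) (nat_lit 0x905a4dc9a74) (nat_lit 273735) (nat_lit 0) (.node .nil (nat_lit 0x905a4dc9bc6)
  (nat_lit 0x859c83) (nat_lit 0) .nil)) (nat_lit 0x905a4dca03d) (nat_lit 0x959905) (nat_lit 0) (.node (.node
  .nil (nat_lit 0x905a4dca148) (nat_lit 0xa49961) (nat_lit 0) .nil) (nat_lit 0x905a4dca169) (nat_lit 0x53a961)
  (nat_lit 0) (.node .nil (nat_lit 0x905a4dca2a2) (nat_lit 0x45a0e3) (nat_lit 0) .nil))) (nat_lit
  0x905a4dca75c) (nat_lit 0x851c41) (nat_lit 0) (.node (.node (.node .nil (nat_lit 0x905a4dca79c) (nat_lit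
  0x941c41) (nat_lit 0) .nil) (nat_lit 0x905a4dca830) (nat_lit 0x10524d0) (nat_lit 0) (.node .nil (nat_lit
  0x905a4dca994) (nat_lit 530947) (nat_lit 535021) .nil)) (nat_lit 0x905a4dcae1d) (nat_lit 272609) (nat_lit 0)
  (.node (.node .nil (nat_lit 0x905a4dcae91) (nat_lit 303329) (nat_lit 0) .nil) (nat_lit 0x905a4dcaf25)
  (nat_lit 0xa424e1) (nat_lit 0) (.node .nil (nat_lit 0x905a4dcb0d3) (nat_lit 0x839061) (nat_lit 0xa7b524)
  .nil)))) (nat_lit 0x905a4dcb503) (nat_lit 369927) (nat_lit 0) (.node (.node (.node (.node .nil (nat_lit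
  0x905a4dcb542) (nat_lit 337254) (nat_lit 0) .nil) (nat_lit 0x905a4dcb64d) (nat_lit 368967) (nat_lit 0)
  (.node .nil (nat_lit 0x905a4dcb794) (nat_lit 0xb41c83) (nat_lit 0) .nil)) (nat_lit 0x905a4dcb9f0) (nat_lit
  337099) (nat_lit 0) (.node (.node .nil (nat_lit 0x905a4dcbc17) (nat_lit 0xb4a0e2) (nat_lit 0) .nil) (nat_lit
  0x905a4dcbd44) (nat_lit 171339) (nat_lit 0) (.node .nil (nat_lit 0x905a4dcbe87) (nat_lit 0x822ce3) (nat_lit
  0) .nil))) (nat_lit 0x905a4dcc08d) (nat_lit 303330) (nat_lit 0) (.node (.node (.node .nil (nat_lit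
  0x905a4dcc332) (nat_lit 272610) (nat_lit 0) .nil) (nat_lit 0x905a4dcc3c6) (nat_lit 0xa424e2) (nat_lit 0)
  (.node .nil (nat_lit 0x905a4dcc565) (nat_lit 530544) (nat_lit 343465) .nil)) (nat_lit 0x905a4dcc7f0)
  (nat_lit 8519) (nat_lit 0) (.node (.node .nil (nat_lit 0x905a4dcca2f) (nat_lit 9479) (nat_lit 0) .nil)
  (nat_lit 0x905a4dccabb) (nat_lit 336167) (nat_lit 0) (.node .nil (nat_lit 0x905a4dccc97) (nat_lit 269443)
  (nat_lit 0xa7b4a9) .nil))))) (nat_lit 0x905a4dcceea) (nat_lit 369771) (nat_lit 411107) (.node (.node (.node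
  (.node (.node .nil (nat_lit 0x905a4dcd124) (nat_lit 335045) (nat_lit 0) .nil) (nat_lit 0x905a4dcd1b0)
  (nat_lit 171203) (nat_lit 0) (.node .nil (nat_lit 0x905a4dcd38e) (nat_lit 0xa498a7) (nat_lit 0) .nil))
  (nat_lit 0x905a4dcd56c) (nat_lit 333030) (nat_lit 0) (.node (.node .nil (nat_lit 0x905a4dcd8a5) (nat_lit
  235683) (nat_lit 0) .nil) (nat_lit 0x905a4dcd932) (nat_lit 0x7498a1) (nat_lit 410927) (.node .nil (nat_lit
  0x905a4dcda46) (nat_lit 0xa5a561) (nat_lit 0) .nil))) (nat_lit 0x905a4dcdcc7) (nat_lit 0xa5a841) (nat_lit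
  0xa7b236) (.node (.node (.node .nil (nat_lit 0x905a4dcdee8) (nat_lit 339009) (nat_lit 0) .nil) (nat_lit
  0x905a4dce018) (nat_lit 0xb424a2) (nat_lit 0) (.node .nil (nat_lit 0x905a4dce154) (nat_lit 0xa5a441)
  (nat_lit 0) .nil)) (nat_lit 0x905a4dce5ba) (nat_lit 10593) (nat_lit 0) (.node (.node .nil (nat_lit
  0x905a4dce6e5) (nat_lit 339265) (nat_lit 0xa7c616) .nil) (nat_lit 0x905a4dce70d) (nat_lit 368933) (nat_lit
  0) (.node .nil (nat_lit 0x905a4dce851) (nat_lit 339233) (nat_lit 0) .nil)))) (nat_lit 0x905a4dced3e)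
  (nat_lit 333991) (nat_lit 0) (.node (.node (.node (.node .nil (nat_lit 0x905a4dcedca) (nat_lit 203939)
  (nat_lit 0) .nil) (nat_lit 0x905a4dcee1e) (nat_lit 370019) (nat_lit 12847) (.node .nil (nat_lit
  0x905a4dcef7a) (nat_lit 0xa5a562) (nat_lit 0) .nil)) (nat_lit 0x905a4dcf433) (nat_lit 334053) (nat_lit 0)
  (.node (.node .nil (nat_lit 0x905a4dcf4c3) (nat_lit 201955) (nat_lit 0) .nil) (nat_lit 0x905a4dcf510)
  (nat_lit 238789) (nat_lit 0xc8a5e3) (.node .nil (nat_lit 0x905a4dcf627) (nat_lit 339243) (nat_lit 0) .nil)))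
  (nat_lit 0x905a4dcfab8) (nat_lit 10594) (nat_lit 0) (.node (.node (.node .nil (nat_lit 0x905a4dcfb9e)
  (nat_lit 339266) (nat_lit 0xa2be36) .nil) (nat_lit 0x905a4dcfbe6) (nat_lit 0x85a4a2) (nat_lit 0) (.node .nil
  (nat_lit 0x905a4dcfd21) (nat_lit 339234) (nat_lit 0) .nil)) (nat_lit 0x905a4dcff21) (nat_lit 331) (nat_lit
  0) (.node (.node .nil (nat_lit 0x905a4dcffe8) (nat_lit 273701) (nat_lit 0) .nil) (nat_lit 0x905a4dd02ba)
  (nat_lit 10602) (nat_lit 343606) (.node .nil (nat_lit 0x905a4dd0431) (nat_lit 10601) (nat_lit 0) .nil)))))))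
def tT_4 : T := (.node (.node (.node (.node (.node (.node (.node .nil (nat_lit 0x905a4dd7639) (nat_lit
  0xc52d22) (nat_lit 0) .nil) (nat_lit 0x905a4dd798b) (nat_lit 0x959d84) (nat_lit 0) (.node .nil (nat_lit
  0x905a4dd7a54) (nat_lit 0xa5a981) (nat_lit 0) .nil)) (nat_lit 0x905a4dd7e31) (nat_lit 12619) (nat_lit 0)
  (.node (.node .nil (nat_lit 0x905a4dd7f4f) (nat_lit 403817) (nat_lit 0) .nil) (nat_lit 0x905a4dd806a)
  (nat_lit 0x961d64) (nat_lit 0) (.node .nil (nat_lit 0x905a4dd8149) (nat_lit 403818) (nat_lit 0) .nil)))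
  (nat_lit 0x905a4dd83e8) (nat_lit 174475) (nat_lit 0) (.node (.node (.node .nil (nat_lit 0x905a4dd8528)
  (nat_lit 402787) (nat_lit 0) .nil) (nat_lit 0x905a4dd879b) (nat_lit 0xc4ad43) (nat_lit 0) (.node .nil
  (nat_lit 0x905a4dd8825) (nat_lit 0xc4ad23) (nat_lit 0) .nil)) (nat_lit 0x905a4dd8ada) (nat_lit 110891)
  (nat_lit 0) (.node (.node .nil (nat_lit 0x905a4dd8d9f) (nat_lit 0x553162) (nat_lit 0) .nil) (nat_lit
  0x905a4dd8e90) (nat_lit 0x1061e07) (nat_lit 0) (.node .nil (nat_lit 0x905a4dd8f14) (nat_lit 0x36256a)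
  (nat_lit 0) .nil)))) (nat_lit 0x905a4dd9310) (nat_lit 0x93b164) (nat_lit 0) (.node (.node (.node (.node .nil
  (nat_lit 0x905a4dd954f) (nat_lit 0xc52c41) (nat_lit 0) .nil) (nat_lit 0x905a4dd95fb) (nat_lit 339276)
  (nat_lit 0) (.node .nil (nat_lit 0x905a4dd9626) (nat_lit 0xa62568) (nat_lit 0) .nil)) (nat_lit
  0x905a4dd98b2) (nat_lit 0x962ce4) (nat_lit 0) (.node (.node .nil (nat_lit 0x905a4dd9c56) (nat_lit 403809)
  (nat_lit 0) .nil) (nat_lit 0x905a4dd9cf0) (nat_lit 0xc52d41) (nat_lit 0) (.node .nil (nat_lit 0x905a4dd9d1b)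
  (nat_lit 0xc52d21) (nat_lit 0) .nil))) (nat_lit 0x905a4dda2d9) (nat_lit 0x553161) (nat_lit 0) (.node (.node
  (.node .nil (nat_lit 0x905a4dda2f1) (nat_lit 402539) (nat_lit 0) .nil) (nat_lit 0x905a4dda3f7) (nat_lit
  0xc48d6a) (nat_lit 0) (.node .nil (nat_lit 0x905a4dda3f9) (nat_lit 0xa62d45) (nat_lit 0) .nil)) (nat_lit
  0x905a4dda9d2) (nat_lit 0x362561) (nat_lit 0) (.node (.node .nil (nat_lit 0x905a4dda9e6) (nat_lit 0xa2b163)
  (nat_lit 0) .nil) (nat_lit 0x905a4ddaaee) (nat_lit 0x6c4ad41) (nat_lit 0) (.node .nil (nat_lit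
  0x905a4ddaaf0) (nat_lit 0x95a583) (nat_lit 0) .nil))))) (nat_lit 0x905a4ddae53) (nat_lit 336012) (nat_lit 0)
  (.node (.node (.node (.node (.node .nil (nat_lit 0x905a4ddb069) (nat_lit 0x7624c5) (nat_lit 0) .nil)
  (nat_lit 0x905a4ddb164) (nat_lit 337100) (nat_lit 0) (.node .nil (nat_lit 0x905a4ddb1f4) (nat_lit 0x661ca3)
  (nat_lit 0) .nil)) (nat_lit 0x905a4ddb58f) (nat_lit 0x74b105) (nat_lit 0) (.node (.node .nil (nat_lit
  0x905a4ddb5ce) (nat_lit 336260) (nat_lit 0) .nil) (nat_lit 0x905a4ddb8e7) (nat_lit 0xa49982) (nat_lit 0)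
  (.node .nil (nat_lit 0x905a4ddb8e9) (nat_lit 0xc398a3) (nat_lit 0) .nil))) (nat_lit 0x905a4ddbde6) (nat_lit
  0xa33127) (nat_lit 0) (.node (.node (.node .nil (nat_lit 0x905a4ddbf36) (nat_lit 274725) (nat_lit 0) .nil)
  (nat_lit 0x905a4ddbf3c) (nat_lit 0xc5a962) (nat_lit 0) (.node .nil (nat_lit 0x905a4ddbfb0) (nat_lit
  0xc41483) (nat_lit 0) .nil)) (nat_lit 0x905a4ddc2c8) (nat_lit 0xc52125) (nat_lit 0) (.node (.node .nil
  (nat_lit 0x905a4ddc617) (nat_lit 206213) (nat_lit 0) .nil) (nat_lit 0x905a4ddc633) (nat_lit 404811) (nat_lit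
  0) (.node .nil (nat_lit 0x905a4ddc6a3) (nat_lit 0x82b083) (nat_lit 0) .nil)))) (nat_lit 0x905a4ddc9bf)
  (nat_lit 0x7618a3) (nat_lit 0) (.node (.node (.node (.node .nil (nat_lit 0x905a4ddc9c2) (nat_lit 337286)
  (nat_lit 0) .nil) (nat_lit 0x905a4ddcd0c) (nat_lit 340228) (nat_lit 0) (.node .nil (nat_lit 0x905a4ddcd2e)
  (nat_lit 0xc5a563) (nat_lit 0) .nil)) (nat_lit 0x905a4ddd2c9) (nat_lit 0x63b0a3) (nat_lit 0) (.node (.node
  .nil (nat_lit 0x905a4ddd2d3) (nat_lit 0xa4b0c2) (nat_lit 0) .nil) (nat_lit 0x905a4ddd419) (nat_lit 332168)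
  (nat_lit 0) (.node .nil (nat_lit 0x905a4ddd425) (nat_lit 0xc3a4c5) (nat_lit 0) .nil))) (nat_lit
  0x905a4ddd85c) (nat_lit 0xa3b0c3) (nat_lit 0) (.node (.node (.node .nil (nat_lit 0x905a4ddd89f) (nat_lit
  0x8624a1) (nat_lit 0) .nil) (nat_lit 0x905a4dddbb4) (nat_lit 0xc2a083) (nat_lit 0) (.node .nil (nat_lit
  0x905a4dddbbe) (nat_lit 0x9628c5) (nat_lit 0) .nil)) (nat_lit 0x905a4ddde88) (nat_lit 401701) (nat_lit 0)
  (.node (.node .nil (nat_lit 0x905a4dde124) (nat_lit 0xc5a961) (nat_lit 0) .nil) (nat_lit 0x905a4dde21d)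
  (nat_lit 0x861483) (nat_lit 0) (.node .nil (nat_lit 0x905a4dde2b3) (nat_lit 0xc424aa) (nat_lit 0) .nil))))))
  (nat_lit 0x905a4dde4e4) (nat_lit 301447) (nat_lit 0) (.node (.node (.node (.node (.node (.node .nil (nat_lit
  0x905a4dde595) (nat_lit 0x8230e3) (nat_lit 0) .nil) (nat_lit 0x905a4dde7ea) (nat_lit 207237) (nat_lit 0)
  (.node .nil (nat_lit 0x905a4dde97f) (nat_lit 0xa61925) (nat_lit 0) .nil)) (nat_lit 0x905a4ddebd9) (nat_lit
  209219) (nat_lit 0) (.node (.node .nil (nat_lit 0x905a4ddec8e) (nat_lit 403750) (nat_lit 0) .nil) (nat_lit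
  0x905a4ddeed9) (nat_lit 209187) (nat_lit 0) (.node .nil (nat_lit 0x905a4ddf002) (nat_lit 6531) (nat_lit 0)
  .nil))) (nat_lit 0x905a4ddf59f) (nat_lit 0x959583) (nat_lit 0) (.node (.node (.node .nil (nat_lit
  0x905a4ddf5a5) (nat_lit 0x1033202) (nat_lit 0) .nil) (nat_lit 0x905a4ddf5e8) (nat_lit 0x853166) (nat_lit 0)
  (.node .nil (nat_lit 0x905a4ddf7a0) (nat_lit 0x962d45) (nat_lit 0) .nil)) (nat_lit 0x905a4ddfc19) (nat_lit
  0x962ca3) (nat_lit 0) (.node (.node .nil (nat_lit 0x905a4ddfc94) (nat_lit 0xc3a965) (nat_lit 0) .nil)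
  (nat_lit 0x905a4ddfe65) (nat_lit 0xc3292b) (nat_lit 0) (.node .nil (nat_lit 0x905a4ddfe8f) (nat_lit
  0x1061a02) (nat_lit 0) .nil)))) (nat_lit 0x905a4de0327) (nat_lit 399683) (nat_lit 0) (.node (.node (.node
  (.node .nil (nat_lit 0x905a4de0371) (nat_lit 399651) (nat_lit 0) .nil) (nat_lit 0x905a4de056f) (nat_lit
  0xc524c1) (nat_lit 0) (.node .nil (nat_lit 0x905a4de0587) (nat_lit 12483) (nat_lit 0) .nil)) (nat_lit
  0x905a4de0a1a) (nat_lit 302470) (nat_lit 0) (.node (.node .nil (nat_lit 0x905a4de0a68) (nat_lit 401735)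
  (nat_lit 0) .nil) (nat_lit 0x905a4de0c5e) (nat_lit 0xc41c83) (nat_lit 0) (.node .nil (nat_lit 0x905a4de0c80)
  (nat_lit 0xa33125) (nat_lit 0) .nil))) (nat_lit 0x905a4dec351) (nat_lit 0xc32965) (nat_lit 0) (.node (.node
  (.node .nil (nat_lit 0x905a4dec444) (nat_lit 142636) (nat_lit 0) .nil) (nat_lit 0x905a4dec645) (nat_lit
  0x45a58a) (nat_lit 0) (.node .nil (nat_lit 0x905a4dec7c9) (nat_lit 0xb430c4) (nat_lit 0) .nil)) (nat_lit
  0x905a4deca42) (nat_lit 0xb4b061) (nat_lit 0) (.node (.node .nil (nat_lit 0x905a4decd35) (nat_lit 0xb430c3)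
  (nat_lit 0) .nil) (nat_lit 0x905a4deceb4) (nat_lit 0x16962861) (nat_lit 0) (.node .nil (nat_lit
  0x905a4decf31) (nat_lit 0x55a987) (nat_lit 0) .nil))))) (nat_lit 0x905a4ded067) (nat_lit 0x862961) (nat_lit
  0) (.node (.node (.node (.node (.node .nil (nat_lit 0x905a4ded0fc) (nat_lit 0xc5a4a2) (nat_lit 0) .nil)
  (nat_lit 0x905a4ded493) (nat_lit 0x10c52d21) (nat_lit 0) (.node .nil (nat_lit 0x905a4ded60a) (nat_lit
  0xb2b083) (nat_lit 0x1497a8a9) .nil)) (nat_lit 0x905a4ded9e4) (nat_lit 404812) (nat_lit 0) (.node (.node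
  .nil (nat_lit 0x905a4dedb0a) (nat_lit 306441) (nat_lit 0) .nil) (nat_lit 0x905a4dedb66) (nat_lit 306442)
  (nat_lit 0) (.node .nil (nat_lit 0x905a4dedd9b) (nat_lit 9576) (nat_lit 0) .nil))) (nat_lit 0x905a4dee041)
  (nat_lit 368835) (nat_lit 10409) (.node (.node (.node .nil (nat_lit 0x905a4dee0dd) (nat_lit 0xb49903)
  (nat_lit 0) .nil) (nat_lit 0x905a4dee205) (nat_lit 0xa3a562) (nat_lit 0) (.node .nil (nat_lit 0x905a4dee493)
  (nat_lit 339141) (nat_lit 0) .nil)) (nat_lit 0x905a4dee5f6) (nat_lit 0xc5a8a2) (nat_lit 0) (.node (.node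
  .nil (nat_lit 0x905a4dee5f8) (nat_lit 0x562d23) (nat_lit 0) .nil) (nat_lit 0x905a4dee998) (nat_lit 176483)
  (nat_lit 0) (.node .nil (nat_lit 0x905a4deea74) (nat_lit 0x14362561) (nat_lit 0) .nil)))) (nat_lit
  0x905a4df1778) (nat_lit 5441) (nat_lit 0) (.node (.node (.node (.node .nil (nat_lit 0x905a4df18a3) (nat_lit
  174369) (nat_lit 0) .nil) (nat_lit 0x905a4df19a1) (nat_lit 161) (nat_lit 436707) (.node .nil (nat_lit
  0x905a4df1c39) (nat_lit 5409) (nat_lit 0) .nil)) (nat_lit 0x905a4df1e6d) (nat_lit 0x941861) (nat_lit 573743)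
  (.node (.node .nil (nat_lit 0x905a4df1f98) (nat_lit 204897) (nat_lit 0) .nil) (nat_lit 0x905a4df21ed)
  (nat_lit 0x652121) (nat_lit 0) (.node .nil (nat_lit 0x905a4df232e) (nat_lit 207105) (nat_lit 0) .nil)))
  (nat_lit 0x905a4df23f0) (nat_lit 398697) (nat_lit 0) (.node (.node (.node .nil (nat_lit 0x905a4df247f)
  (nat_lit 398698) (nat_lit 0) .nil) (nat_lit 0x905a4df281a) (nat_lit 12459) (nat_lit 0) (.node .nil (nat_lit
  0x905a4df2987) (nat_lit 0xa62562) (nat_lit 0) .nil)) (nat_lit 0x905a4df2ba4) (nat_lit 241953) (nat_lit 0)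
  (.node (.node .nil (nat_lit 0x905a4df2bbd) (nat_lit 241985) (nat_lit 0) .nil) (nat_lit 0x905a4df2ff4)
  (nat_lit 0x762921) (nat_lit 0) (.node .nil (nat_lit 0x905a4df2fff) (nat_lit 7553) (nat_lit 0) .nil)))))))
def tT_5 : T := (.node (.node (.node (.node (.node (.node (.node .nil (nat_lit 0x905a4df3295) (nat_lit 12583)
  (nat_lit 0) .nil) (nat_lit 0x905a4df3582) (nat_lit 402666) (nat_lit 0) (.node .nil (nat_lit 0x905a4df36fe)
  (nat_lit 12515) (nat_lit 0xa7b544) .nil)) (nat_lit 0x905a4df3972) (nat_lit 300) (nat_lit 0) (.node (.node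
  .nil (nat_lit 0x905a4df398c) (nat_lit 340135) (nat_lit 0) .nil) (nat_lit 0x905a4df3df3) (nat_lit 9610)
  (nat_lit 0) (.node .nil (nat_lit 0x905a4df3ea0) (nat_lit 12488) (nat_lit 0x97e216) .nil))) (nat_lit
  0x905a4df4087) (nat_lit 0x5530e1) (nat_lit 0) (.node (.node (.node .nil (nat_lit 0x905a4df4096) (nat_lit
  298369) (nat_lit 0) .nil) (nat_lit 0x905a4df44e2) (nat_lit 0x91b141) (nat_lit 0) (.node .nil (nat_lit
  0x905a4df4577) (nat_lit 401603) (nat_lit 0) .nil)) (nat_lit 0x905a4df4764) (nat_lit 0xc59524) (nat_lit 0)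
  (.node (.node .nil (nat_lit 0x905a4df476d) (nat_lit 0xc52162) (nat_lit 0) .nil) (nat_lit 0x905a4df4b16)
  (nat_lit 0xa62564) (nat_lit 0) (.node .nil (nat_lit 0x905a4df4be9) (nat_lit 404644) (nat_lit 0) .nil))))
  (nat_lit 0x905a4df8660) (nat_lit 9444) (nat_lit 0) (.node (.node (.node (.node .nil (nat_lit 0x905a4df8701)
  (nat_lit 7299) (nat_lit 16719) .nil) (nat_lit 0x905a4df881d) (nat_lit 10473) (nat_lit 0) (.node .nil
  (nat_lit 0x905a4df8b78) (nat_lit 327) (nat_lit 0) .nil)) (nat_lit 0x905a4dfbeb4) (nat_lit 0x962d41) (nat_lit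
  0) (.node (.node .nil (nat_lit 0x905a4dfc0e5) (nat_lit 307553) (nat_lit 0) .nil) (nat_lit 0x905a4dfc2c5)
  (nat_lit 0x962d21) (nat_lit 0x412f5e216) (.node .nil (nat_lit 0x905a4dfc2ea) (nat_lit 403815) (nat_lit 0)
  .nil))) (nat_lit 0x905a4dfc5a6) (nat_lit 0xa62966) (nat_lit 0) (.node (.node (.node .nil (nat_lit
  0x905a4dfc8ba) (nat_lit 0x65a981) (nat_lit 0) .nil) (nat_lit 0x905a4dfc90d) (nat_lit 0x95918a) (nat_lit 0)
  (.node .nil (nat_lit 0x905a4dfc9e7) (nat_lit 306316) (nat_lit 0) .nil)) (nat_lit 0x905a4dfcd42) (nat_lit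
  306376) (nat_lit 0) (.node (.node .nil (nat_lit 0x905a4dfcf04) (nat_lit 368869) (nat_lit 0) .nil) (nat_lit
  0x905a4dfcf79) (nat_lit 339177) (nat_lit 0) (.node .nil (nat_lit 0x905a4dfd10f) (nat_lit 10599) (nat_lit 0)
  .nil))))) (nat_lit 0x905a4dffc34) (nat_lit 2) (nat_lit 22) (.node (.node (.node (.node (.node .nil (nat_lit
  0x905a4dffd5b) (nat_lit 290) (nat_lit 0xc5c5e4) .nil) (nat_lit 0x905a4e000a7) (nat_lit 322) (nat_lit
  0x18b8bdc4) (.node .nil (nat_lit 0x905a4e001d2) (nat_lit 10530) (nat_lit 0x18b8bda4) .nil)) (nat_lit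
  0x905a4e00329) (nat_lit 0x932905) (nat_lit 0x11725e3) (.node (.node .nil (nat_lit 0x905a4e0044d) (nat_lit
  336069) (nat_lit 0) .nil) (nat_lit 0x905a4e0062a) (nat_lit 301224) (nat_lit 0) (.node .nil (nat_lit
  0x905a4e008c9) (nat_lit 0x641483) (nat_lit 0) .nil))) (nat_lit 0x905a4e00a26) (nat_lit 0xa61d21) (nat_lit 0)
  (.node (.node (.node .nil (nat_lit 0x905a4e00a43) (nat_lit 0xa61d41) (nat_lit 0) .nil) (nat_lit
  0x905a4e00b57) (nat_lit 340193) (nat_lit 0) (.node .nil (nat_lit 0x905a4e00e75) (nat_lit 300420) (nat_lit 0)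
  .nil)) (nat_lit 0x905a4e09c70) (nat_lit 337125) (nat_lit 0x68bda9) (.node (.node .nil (nat_lit
  0x905a4e09ff9) (nat_lit 5353) (nat_lit 0) .nil) (nat_lit 0x905a4e0a0b7) (nat_lit 5354) (nat_lit 0) (.node
  .nil (nat_lit 0x905a4e0a21a) (nat_lit 167) (nat_lit 0) .nil)))) (nat_lit 0x905a4e0ae56) (nat_lit 274793)
  (nat_lit 0) (.node (.node (.node (.node .nil (nat_lit 0x905a4e0aee4) (nat_lit 8587) (nat_lit 0) .nil)
  (nat_lit 0x905a4e0af0f) (nat_lit 274794) (nat_lit 0) (.node .nil (nat_lit 0x905a4e0af8a) (nat_lit 0x862d49)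
  (nat_lit 0) .nil)) (nat_lit 0x905a4e0b11a) (nat_lit 234796) (nat_lit 0) (.node (.node .nil (nat_lit
  0x905a4e0b283) (nat_lit 340097) (nat_lit 0) .nil) (nat_lit 0x905a4e0b541) (nat_lit 0xa62881) (nat_lit 0)
  (.node .nil (nat_lit 0x905a4e0b663) (nat_lit 0xa62481) (nat_lit 0) .nil))) (nat_lit 0x905a4e0c337) (nat_lit
  0xb33083) (nat_lit 0x97ad4e) (.node (.node (.node .nil (nat_lit 0x905a4e0c33a) (nat_lit 0xa62d27) (nat_lit
  0) .nil) (nat_lit 0x905a4e0c3c6) (nat_lit 0xc3a565) (nat_lit 0) (.node .nil (nat_lit 0x905a4e0c3c9) (nat_lit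
  0xc5a8c2) (nat_lit 0) .nil)) (nat_lit 0x905a4e0ca2e) (nat_lit 0x662c83) (nat_lit 310606) (.node (.node .nil
  (nat_lit 0x905a4e0ca2f) (nat_lit 0xc5a8c9) (nat_lit 0) .nil) (nat_lit 0x905a4e0cad3) (nat_lit 0xb4a183)
  (nat_lit 0) (.node .nil (nat_lit 0x905a4e0cad4) (nat_lit 404806) (nat_lit 0) .nil)))))) (nat_lit
  0x905a4e0d13c) (nat_lit 0xa62ce9) (nat_lit 0) (.node (.node (.node (.node (.node (.node .nil (nat_lit
  0x905a4e0d141) (nat_lit 366980) (nat_lit 0) .nil) (nat_lit 0x905a4e0d15e) (nat_lit 0xb4b101) (nat_lit 0)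
  (.node .nil (nat_lit 0x905a4e0d15f) (nat_lit 340327) (nat_lit 0) .nil)) (nat_lit 0x905a4e0d80e) (nat_lit
  0x95a984) (nat_lit 0) (.node (.node .nil (nat_lit 0x905a4e0d811) (nat_lit 209252) (nat_lit 0) .nil) (nat_lit
  0x905a4e0d83d) (nat_lit 369932) (nat_lit 0) (.node .nil (nat_lit 0x905a4e0d840) (nat_lit 335243) (nat_lit 0)
  .nil))) (nat_lit 0x905a4e0dc15) (nat_lit 0xa59d89) (nat_lit 0) (.node (.node (.node .nil (nat_lit
  0x905a4e0dc16) (nat_lit 339180) (nat_lit 0) .nil) (nat_lit 0x905a4e0dc19) (nat_lit 399716) (nat_lit 0)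
  (.node .nil (nat_lit 0x905a4e0dc1a) (nat_lit 404774) (nat_lit 0) .nil)) (nat_lit 0x905a4e0e450) (nat_lit
  340203) (nat_lit 0) (.node (.node .nil (nat_lit 0x905a4e0e541) (nat_lit 0xa61d69) (nat_lit 0) .nil) (nat_lit
  0x905a4e0e5d1) (nat_lit 370056) (nat_lit 0) (.node .nil (nat_lit 0x905a4e0e620) (nat_lit 404676) (nat_lit 0)
  .nil)))) (nat_lit 0x905a4e0eb30) (nat_lit 0xc5a4c3) (nat_lit 0) (.node (.node (.node (.node .nil (nat_lit
  0x905a4e0eb31) (nat_lit 0xc5a8c1) (nat_lit 0) .nil) (nat_lit 0x905a4e0ecfa) (nat_lit 0xc32c83) (nat_lit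
  0x97a9c3) (.node .nil (nat_lit 0x905a4e0ed01) (nat_lit 0x18b51921) (nat_lit 0) .nil)) (nat_lit
  0x905a4e0f103) (nat_lit 0xb4b103) (nat_lit 0) (.node (.node .nil (nat_lit 0x905a4e0f1a2) (nat_lit 0xa61d63)
  (nat_lit 0) .nil) (nat_lit 0x905a4e0f3dc) (nat_lit 0xc59883) (nat_lit 0x97a9c4) (.node .nil (nat_lit
  0x905a4e0f3dd) (nat_lit 0xb4b148) (nat_lit 0) .nil))) (nat_lit 0x905a4e0fa14) (nat_lit 12490) (nat_lit 0)
  (.node (.node (.node .nil (nat_lit 0x905a4e0fa9a) (nat_lit 12489) (nat_lit 0) .nil) (nat_lit 0x905a4e0fbaa)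
  (nat_lit 390) (nat_lit 0) (.node .nil (nat_lit 0x905a4e0fc39) (nat_lit 399689) (nat_lit 0) .nil)) (nat_lit
  0x905a4e10110) (nat_lit 400680) (nat_lit 0) (.node (.node .nil (nat_lit 0x905a4e101a1) (nat_lit 403719)
  (nat_lit 0) .nil) (nat_lit 0x905a4e1029f) (nat_lit 0xa61526) (nat_lit 0) (.node .nil (nat_lit 0x905a4e10336)
  (nat_lit 401636) (nat_lit 0) .nil))))) (nat_lit 0x905a4e1083c) (nat_lit 0xc32d23) (nat_lit 0) (.node (.node
  (.node (.node (.node .nil (nat_lit 0x905a4e1098c) (nat_lit 399715) (nat_lit 0) .nil) (nat_lit 0x905a4e1098d)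
  (nat_lit 0x12b53061) (nat_lit 0) (.node .nil (nat_lit 0x905a4e10a07) (nat_lit 0x753162) (nat_lit 0) .nil))
  (nat_lit 0x905a4e10ef0) (nat_lit 307430) (nat_lit 0) (.node (.node .nil (nat_lit 0x905a4e10f2c) (nat_lit
  0x861c83) (nat_lit 0) .nil) (nat_lit 0x905a4e10f61) (nat_lit 274759) (nat_lit 0) (.node .nil (nat_lit
  0x905a4e1112d) (nat_lit 0x553126) (nat_lit 0) .nil))) (nat_lit 0x905a4e115e7) (nat_lit 403652) (nat_lit 0)
  (.node (.node (.node .nil (nat_lit 0x905a4e1161f) (nat_lit 0xc524c2) (nat_lit 0) .nil) (nat_lit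
  0x905a4e11652) (nat_lit 110793) (nat_lit 0) (.node .nil (nat_lit 0x905a4e1181a) (nat_lit 3462) (nat_lit 0)
  .nil)) (nat_lit 0x905a4e11a9f) (nat_lit 0x92b163) (nat_lit 0) (.node (.node .nil (nat_lit 0x905a4e11afd)
  (nat_lit 530832) (nat_lit 0) .nil) (nat_lit 0x905a4e11d5f) (nat_lit 0x762965) (nat_lit 0) (.node .nil
  (nat_lit 0x905a4e11f17) (nat_lit 0xa5a583) (nat_lit 0) .nil)))) (nat_lit 0x905a4e12196) (nat_lit 0xc5a907)
  (nat_lit 0) (.node (.node (.node (.node .nil (nat_lit 0x905a4e12450) (nat_lit 0x961563) (nat_lit 0) .nil)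
  (nat_lit 0x905a4e125dc) (nat_lit 0x14b4b061) (nat_lit 0) (.node .nil (nat_lit 0x905a4e12608) (nat_lit
  536784) (nat_lit 0) .nil)) (nat_lit 0x905a4e12938) (nat_lit 0x8628e1) (nat_lit 0) (.node (.node .nil
  (nat_lit 0x905a4e12acc) (nat_lit 301292) (nat_lit 0) .nil) (nat_lit 0x905a4e12ce1) (nat_lit 0x4620e3)
  (nat_lit 0) (.node .nil (nat_lit 0x905a4e12d01) (nat_lit 0x931d8a) (nat_lit 0) .nil))) (nat_lit
  0x905a4e12f39) (nat_lit 200073) (nat_lit 0) (.node (.node (.node .nil (nat_lit 0x905a4e131c3) (nat_lit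
  200074) (nat_lit 0) .nil) (nat_lit 0x905a4e133de) (nat_lit 0x923148) (nat_lit 0) (.node .nil (nat_lit
  0x905a4e133f6) (nat_lit 6252) (nat_lit 0) .nil)) (nat_lit 0x905a4e14d4a) (nat_lit 202060) (nat_lit 0) (.node
  (.node .nil (nat_lit 0x905a4e14d75) (nat_lit 238796) (nat_lit 0) .nil) (nat_lit 0x905a4e14fbe) (nat_lit
  0x62a989) (nat_lit 0) (.node .nil (nat_lit 0x905a4e14fc7) (nat_lit 143623) (nat_lit 0) .nil)))))))
def tT_6 : T := (.node (.node (.node (.node (.node (.node (.node .nil (nat_lit 0x905a4e15468) (nat_lit 399682)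
  (nat_lit 0) .nil) (nat_lit 0x905a4e156b5) (nat_lit 12482) (nat_lit 0) (.node .nil (nat_lit 0x905a4e156b8)
  (nat_lit 0xc32922) (nat_lit 0) .nil)) (nat_lit 0x905a4e1599d) (nat_lit 0xc59923) (nat_lit 0) (.node (.node
  .nil (nat_lit 0x905a4e15d90) (nat_lit 240011) (nat_lit 0) .nil) (nat_lit 0x905a4e15dac) (nat_lit 0x753169)
  (nat_lit 0) (.node .nil (nat_lit 0x905a4e15db5) (nat_lit 404675) (nat_lit 0) .nil))) (nat_lit 0x905a4e15f3e)
  (nat_lit 370050) (nat_lit 0) (.node (.node (.node .nil (nat_lit 0x905a4e16091) (nat_lit 0xb4b142) (nat_lit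
  0) .nil) (nat_lit 0x905a4e1627a) (nat_lit 404742) (nat_lit 0) (.node .nil (nat_lit 0x905a4e16463) (nat_lit
  0xb530e5) (nat_lit 0) .nil)) (nat_lit 0x905a4e16635) (nat_lit 0xb43146) (nat_lit 0) (.node (.node .nil
  (nat_lit 0x905a4e16779) (nat_lit 0xb49183) (nat_lit 0) .nil) (nat_lit 0x905a4e16971) (nat_lit 0x12b53101)
  (nat_lit 0) (.node .nil (nat_lit 0x905a4e16ae6) (nat_lit 0x205640c2) (nat_lit 501929) .nil)))) (nat_lit
  0x905a4e16e15) (nat_lit 9478) (nat_lit 247311) (.node (.node (.node (.node .nil (nat_lit 0x905a4e1718d)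
  (nat_lit 200) (nat_lit 0) .nil) (nat_lit 0x905a4e171bb) (nat_lit 205129) (nat_lit 0) (.node .nil (nat_lit
  0x905a4e172e3) (nat_lit 6410) (nat_lit 0) .nil)) (nat_lit 0x905a4e1750a) (nat_lit 10401) (nat_lit 0) (.node
  (.node .nil (nat_lit 0x905a4e17791) (nat_lit 333089) (nat_lit 0) .nil) (nat_lit 0x905a4e178a7) (nat_lit 163)
  (nat_lit 310723) (.node .nil (nat_lit 0x905a4e179d8) (nat_lit 5411) (nat_lit 0) .nil))) (nat_lit
  0x905a4e17b92) (nat_lit 369864) (nat_lit 0) (.node (.node (.node .nil (nat_lit 0x905a4e17e2b) (nat_lit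
  11526) (nat_lit 0) .nil) (nat_lit 0x905a4e17e7a) (nat_lit 0xa4ace2) (nat_lit 0) (.node .nil (nat_lit
  0x905a4e180e7) (nat_lit 368842) (nat_lit 0) .nil)) (nat_lit 0x905a4e18287) (nat_lit 339143) (nat_lit 0)
  (.node (.node .nil (nat_lit 0x905a4e18520) (nat_lit 306504) (nat_lit 0) .nil) (nat_lit 0x905a4e18576)
  (nat_lit 0x95a123) (nat_lit 301) (.node .nil (nat_lit 0x905a4e187de) (nat_lit 306435) (nat_lit 0) .nil)))))
  (nat_lit 0x905a4e19dfe) (nat_lit 3137) (nat_lit 12854) (.node (.node (.node (.node (.node .nil (nat_lit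
  0x905a4e1a250) (nat_lit 298049) (nat_lit 0xc8a5e9) .nil) (nat_lit 0x905a4e1a271) (nat_lit 330817) (nat_lit
  0x19153dc9) (.node .nil (nat_lit 0x905a4e1a39e) (nat_lit 0xa48c41) (nat_lit 0x191725e9) .nil)) (nat_lit
  0x905a4e1a4f1) (nat_lit 0xa424c5) (nat_lit 214509) (.node (.node .nil (nat_lit 0x905a4e1a7ce) (nat_lit
  400716) (nat_lit 0) .nil) (nat_lit 0x905a4e1a965) (nat_lit 172326) (nat_lit 0) (.node .nil (nat_lit
  0x905a4e1aa98) (nat_lit 201988) (nat_lit 0) .nil))) (nat_lit 0x905a4e1abb6) (nat_lit 0xec59483) (nat_lit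
  15661) (.node (.node (.node .nil (nat_lit 0x905a4e1ac19) (nat_lit 0xa61d2b) (nat_lit 0) .nil) (nat_lit
  0x905a4e1b081) (nat_lit 0xa61965) (nat_lit 0) (.node .nil (nat_lit 0x905a4e1b094) (nat_lit 0x943163)
  (nat_lit 0) .nil)) (nat_lit 0x905a4e1b2ba) (nat_lit 402660) (nat_lit 0) (.node (.node .nil (nat_lit
  0x905a4e1b522) (nat_lit 400515) (nat_lit 0) .nil) (nat_lit 0x905a4e1b779) (nat_lit 403689) (nat_lit 0)
  (.node .nil (nat_lit 0x905a4e1b7ed) (nat_lit 12615) (nat_lit 0) .nil)))) (nat_lit 0x905a4e1ba25) (nat_lit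
  0x848d62) (nat_lit 0) (.node (.node (.node (.node .nil (nat_lit 0x905a4e1bad1) (nat_lit 0x750d66) (nat_lit
  0) .nil) (nat_lit 0x905a4e1bcf1) (nat_lit 300363) (nat_lit 0) (.node .nil (nat_lit 0x905a4e1bd22) (nat_lit
  0x91ad28) (nat_lit 0) .nil)) (nat_lit 0x905a4e1c120) (nat_lit 370888) (nat_lit 0) (.node (.node .nil
  (nat_lit 0x905a4e1c1c3) (nat_lit 0x65a501) (nat_lit 0) .nil) (nat_lit 0x905a4e1c3e4) (nat_lit 273604)
  (nat_lit 0) (.node .nil (nat_lit 0x905a4e1c41b) (nat_lit 0x752561) (nat_lit 0) .nil))) (nat_lit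
  0x905a4e1c7a0) (nat_lit 0xc48d84) (nat_lit 214543) (.node (.node (.node .nil (nat_lit 0x905a4e1c7eb)
  (nat_lit 272578) (nat_lit 0) .nil) (nat_lit 0x905a4e1c9dc) (nat_lit 303430) (nat_lit 0) (.node .nil (nat_lit
  0x905a4e1cb88) (nat_lit 334152) (nat_lit 0) .nil)) (nat_lit 0x905a4e1d25e) (nat_lit 0x629041) (nat_lit
  337380) (.node (.node .nil (nat_lit 0x905a4e1d315) (nat_lit 0x6524a1) (nat_lit 0) .nil) (nat_lit
  0x905a4e1d3a9) (nat_lit 173249) (nat_lit 0) (.node .nil (nat_lit 0x905a4e1d442) (nat_lit 333985) (nat_lit 0)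
  .nil)))))) (nat_lit 0x905a4e1d8ae) (nat_lit 260) (nat_lit 533998) (.node (.node (.node (.node (.node (.node
  .nil (nat_lit 0x905a4e1d991) (nat_lit 9482) (nat_lit 0) .nil) (nat_lit 0x905a4e1daa3) (nat_lit 8516)
  (nat_lit 0) (.node .nil (nat_lit 0x905a4e1db37) (nat_lit 296) (nat_lit 0) .nil)) (nat_lit 0x905a4e1e09f)
  (nat_lit 298379) (nat_lit 0) (.node (.node .nil (nat_lit 0x905a4e1e12c) (nat_lit 0xa5a585) (nat_lit 0) .nil)
  (nat_lit 0x905a4e1e1d1) (nat_lit 0x91b169) (nat_lit 0) (.node .nil (nat_lit 0x905a4e1e1f7) (nat_lit 371078)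
  (nat_lit 0) .nil))) (nat_lit 0x905a4e1e373) (nat_lit 0xc520c1) (nat_lit 0) (.node (.node (.node .nil
  (nat_lit 0x905a4e1e4cc) (nat_lit 9604) (nat_lit 0) .nil) (nat_lit 0x905a4e1e4e3) (nat_lit 399620) (nat_lit
  0) (.node .nil (nat_lit 0x905a4e1e5db) (nat_lit 307524) (nat_lit 0) .nil)) (nat_lit 0x905a4e1e9de) (nat_lit
  0xc4acca) (nat_lit 0) (.node (.node .nil (nat_lit 0x905a4e1eace) (nat_lit 0xc3aca4) (nat_lit 0) .nil)
  (nat_lit 0x905a4e1ef24) (nat_lit 402790) (nat_lit 0) (.node .nil (nat_lit 0x905a4e1ef3d) (nat_lit 0xc5a8e5)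
  (nat_lit 0) .nil)))) (nat_lit 0x905a4e1f163) (nat_lit 239783) (nat_lit 0) (.node (.node (.node (.node .nil
  (nat_lit 0x905a4e1f1b0) (nat_lit 9379) (nat_lit 0) .nil) (nat_lit 0x905a4e1f3a3) (nat_lit 168001) (nat_lit
  15811) (.node .nil (nat_lit 0x905a4e1f3cb) (nat_lit 337057) (nat_lit 0) .nil)) (nat_lit 0x905a4e1fbde)
  (nat_lit 0x762969) (nat_lit 0) (.node (.node .nil (nat_lit 0x905a4e1fc76) (nat_lit 241995) (nat_lit 0) .nil)
  (nat_lit 0x905a4e1fd07) (nat_lit 0xc52d47) (nat_lit 0) (.node .nil (nat_lit 0x905a4e1fdc6) (nat_lit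
  0x923163) (nat_lit 0) .nil))) (nat_lit 0x905a4e2005e) (nat_lit 0xb51985) (nat_lit 0) (.node (.node (.node
  .nil (nat_lit 0x905a4e20358) (nat_lit 369031) (nat_lit 0xa7a8a9) .nil) (nat_lit 0x905a4e20375) (nat_lit
  0xc4994b) (nat_lit 0) (.node .nil (nat_lit 0x905a4e203f1) (nat_lit 0x54b162) (nat_lit 0) .nil)) (nat_lit
  0x905a4e208a8) (nat_lit 0xc2a967) (nat_lit 0) (.node (.node .nil (nat_lit 0x905a4e20a6c) (nat_lit 0x54b16a)
  (nat_lit 0) .nil) (nat_lit 0x905a4e20a71) (nat_lit 401767) (nat_lit 343369) (.node .nil (nat_lit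
  0x905a4e20af8) (nat_lit 173451) (nat_lit 0) .nil))))) (nat_lit 0x905a4e20f92) (nat_lit 0x959584) (nat_lit 0)
  (.node (.node (.node (.node (.node .nil (nat_lit 0x905a4e21183) (nat_lit 0xb430e3) (nat_lit 0) .nil)
  (nat_lit 0x905a4e2118d) (nat_lit 0xc5192b) (nat_lit 0) (.node .nil (nat_lit 0x905a4e211f9) (nat_lit
  0x55a986) (nat_lit 0) .nil)) (nat_lit 0x905a4e2155e) (nat_lit 0x54b163) (nat_lit 0) (.node (.node .nil
  (nat_lit 0x905a4e2187a) (nat_lit 0xc42ce3) (nat_lit 0) .nil) (nat_lit 0x905a4e21882) (nat_lit 0xa5a584)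
  (nat_lit 0) (.node .nil (nat_lit 0x905a4e218db) (nat_lit 0xc52ce5) (nat_lit 0) .nil))) (nat_lit
  0x905a4e21c37) (nat_lit 0x862ce9) (nat_lit 0) (.node (.node (.node .nil (nat_lit 0x905a4e21f31) (nat_lit
  0x94314b) (nat_lit 0) .nil) (nat_lit 0x905a4e21f50) (nat_lit 274791) (nat_lit 0xa7a924) (.node .nil (nat_lit
  0x905a4e21fc6) (nat_lit 0xb530c5) (nat_lit 0) .nil)) (nat_lit 0x905a4e22483) (nat_lit 0x54b161) (nat_lit 0)
  (.node (.node .nil (nat_lit 0x905a4e22640) (nat_lit 0xa962d41) (nat_lit 0) .nil) (nat_lit 0x905a4e22645)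
  (nat_lit 404743) (nat_lit 535018) (.node .nil (nat_lit 0x905a4e226d3) (nat_lit 0x562967) (nat_lit 0)
  .nil)))) (nat_lit 0x905a4e22b6b) (nat_lit 0x762d48) (nat_lit 0) (.node (.node (.node (.node .nil (nat_lit
  0x905a4e22d5a) (nat_lit 0x18a32561) (nat_lit 0) .nil) (nat_lit 0x905a4e22d5e) (nat_lit 0x862ce3) (nat_lit 0)
  (.node .nil (nat_lit 0x905a4e22dd2) (nat_lit 0x962ca4) (nat_lit 0) .nil)) (nat_lit 0x905a4e23135) (nat_lit
  0xc51d65) (nat_lit 0) (.node (.node .nil (nat_lit 0x905a4e23453) (nat_lit 0xc5a0e3) (nat_lit 0) .nil)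
  (nat_lit 0x905a4e23459) (nat_lit 0x96290b) (nat_lit 0) (.node .nil (nat_lit 0x905a4e234b0) (nat_lit
  0x961564) (nat_lit 0) .nil))) (nat_lit 0x905a4e23745) (nat_lit 0x961ca1) (nat_lit 0) (.node (.node (.node
  .nil (nat_lit 0x905a4e23753) (nat_lit 340033) (nat_lit 0) .nil) (nat_lit 0x905a4e238cb) (nat_lit 0xa62441)
  (nat_lit 0) (.node .nil (nat_lit 0x905a4e23a95) (nat_lit 0xa62841) (nat_lit 0x14f5e216) .nil)) (nat_lit
  0x905a4e23ee2) (nat_lit 0xa5a4c1) (nat_lit 0) (.node (.node .nil (nat_lit 0x905a4e241cc) (nat_lit 0x74a162)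
  (nat_lit 0) .nil) (nat_lit 0x905a4e24258) (nat_lit 207203) (nat_lit 0) (.node .nil (nat_lit 0x905a4e243b4)
  (nat_lit 0xa5a8c3) (nat_lit 0) .nil)))))))
def tT_7 : T := (.node (.node (.node (.node (.node (.node (.node .nil (nat_lit 0x905a4e245d8) (nat_lit 8523)
  (nat_lit 0) .nil) (nat_lit 0x905a4e248dc) (nat_lit 142499) (nat_lit 425) (.node .nil (nat_lit 0x905a4e2494d)
  (nat_lit 272745) (nat_lit 0) .nil)) (nat_lit 0x905a4e24f8f) (nat_lit 4488) (nat_lit 0) (.node (.node .nil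
  (nat_lit 0x905a4e25002) (nat_lit 143626) (nat_lit 0) .nil) (nat_lit 0x905a4e25084) (nat_lit 0x961942)
  (nat_lit 0) (.node .nil (nat_lit 0x905a4e25158) (nat_lit 307394) (nat_lit 0) .nil))) (nat_lit 0x905a4e2531c)
  (nat_lit 0xc51481) (nat_lit 0) (.node (.node (.node .nil (nat_lit 0x905a4e25336) (nat_lit 0xc49441) (nat_lit
  0) .nil) (nat_lit 0x905a4e25413) (nat_lit 398467) (nat_lit 0x97b544) (.node .nil (nat_lit 0x905a4e2566c)
  (nat_lit 335148) (nat_lit 0) .nil)) (nat_lit 0x905a4e25aba) (nat_lit 0x92ad28) (nat_lit 0) (.node (.node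
  .nil (nat_lit 0x905a4e25dbd) (nat_lit 0x832d47) (nat_lit 0) .nil) (nat_lit 0x905a4e25e31) (nat_lit 0x84aca1)
  (nat_lit 0) (.node .nil (nat_lit 0x905a4e25f8b) (nat_lit 337003) (nat_lit 0) .nil)))) (nat_lit
  0x905a4e2613c) (nat_lit 7530) (nat_lit 0) (.node (.node (.node (.node .nil (nat_lit 0x905a4e261b0) (nat_lit
  7529) (nat_lit 0) .nil) (nat_lit 0x905a4e2649d) (nat_lit 240969) (nat_lit 0) (.node .nil (nat_lit
  0x905a4e26528) (nat_lit 235) (nat_lit 0) .nil)) (nat_lit 0x905a4e26b6e) (nat_lit 0xc51d26) (nat_lit 0)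
  (.node (.node .nil (nat_lit 0x905a4e26bd3) (nat_lit 241958) (nat_lit 0) .nil) (nat_lit 0x905a4e26c5d)
  (nat_lit 204164) (nat_lit 0) (.node .nil (nat_lit 0x905a4e26d39) (nat_lit 336261) (nat_lit 0) .nil)))
  (nat_lit 0x905a4e28307) (nat_lit 303460) (nat_lit 0) (.node (.node (.node .nil (nat_lit 0x905a4e284ac)
  (nat_lit 0x752cc1) (nat_lit 0) .nil) (nat_lit 0x905a4e286c7) (nat_lit 0x95a501) (nat_lit 0) (.node .nil
  (nat_lit 0x905a4e2871b) (nat_lit 337067) (nat_lit 0) .nil)) (nat_lit 0x905a4e28a81) (nat_lit 202059)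
  (nat_lit 0) (.node (.node .nil (nat_lit 0x905a4e28ba6) (nat_lit 0x61ad28) (nat_lit 0) .nil) (nat_lit
  0x905a4e28dbc) (nat_lit 302411) (nat_lit 0) (.node .nil (nat_lit 0x905a4e28e18) (nat_lit 0x859883) (nat_lit
  0) .nil))))) (nat_lit 0x905a4e291ba) (nat_lit 367939) (nat_lit 0) (.node (.node (.node (.node (.node .nil
  (nat_lit 0x905a4e29269) (nat_lit 11559) (nat_lit 0) .nil) (nat_lit 0x905a4e293e6) (nat_lit 369898) (nat_lit
  0) (.node .nil (nat_lit 0x905a4e29560) (nat_lit 11491) (nat_lit 0) .nil)) (nat_lit 0x905a4e2c38a) (nat_lit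
  370988) (nat_lit 0) (.node (.node .nil (nat_lit 0x905a4e2c578) (nat_lit 0x862967) (nat_lit 0) .nil) (nat_lit
  0x905a4e2c584) (nat_lit 399659) (nat_lit 0) (.node .nil (nat_lit 0x905a4e2c766) (nat_lit 242021) (nat_lit 0)
  .nil))) (nat_lit 0x905a4e2ca7f) (nat_lit 0x96154b) (nat_lit 0) (.node (.node (.node .nil (nat_lit
  0x905a4e2cc6f) (nat_lit 0x562d27) (nat_lit 0) .nil) (nat_lit 0x905a4e2cc79) (nat_lit 0xc59d45) (nat_lit 0)
  (.node .nil (nat_lit 0x905a4e2ce74) (nat_lit 0xc3aca3) (nat_lit 0) .nil)) (nat_lit 0x905a4e2cfaa) (nat_lit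
  0xc52d46) (nat_lit 0) (.node (.node .nil (nat_lit 0x905a4e2d06c) (nat_lit 0xc32969) (nat_lit 0) .nil)
  (nat_lit 0x905a4e2d3d3) (nat_lit 0xb49582) (nat_lit 0) (.node .nil (nat_lit 0x905a4e2d3fe) (nat_lit 399691)
  (nat_lit 0) .nil)))) (nat_lit 0x905a4e2dabe) (nat_lit 258) (nat_lit 506148) (.node (.node (.node (.node .nil
  (nat_lit 0x905a4e2db4d) (nat_lit 8514) (nat_lit 0) .nil) (nat_lit 0x905a4e2db81) (nat_lit 272674) (nat_lit
  0) (.node .nil (nat_lit 0x905a4e2dc7e) (nat_lit 8482) (nat_lit 0) .nil)) (nat_lit 0x905a4e2dfc3) (nat_lit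
  0xa42441) (nat_lit 0) (.node (.node .nil (nat_lit 0x905a4e2e1af) (nat_lit 265281) (nat_lit 0xa7b8a9) .nil)
  (nat_lit 0x905a4e2e23c) (nat_lit 335937) (nat_lit 0) (.node .nil (nat_lit 0x905a4e2e376) (nat_lit 173224)
  (nat_lit 0) .nil))) (nat_lit 0x905a4e2e5ee) (nat_lit 6307) (nat_lit 484) (.node (.node (.node .nil (nat_lit
  0x905a4e2e8a0) (nat_lit 0xa324a1) (nat_lit 0) .nil) (nat_lit 0x905a4e2e933) (nat_lit 301217) (nat_lit 0)
  (.node .nil (nat_lit 0x905a4e2ea6b) (nat_lit 207009) (nat_lit 0) .nil)) (nat_lit 0x905a4e2ef76) (nat_lit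
  6305) (nat_lit 9700) (.node (.node .nil (nat_lit 0x905a4e2efa5) (nat_lit 0x9328a1) (nat_lit 0) .nil)
  (nat_lit 0x905a4e2f02e) (nat_lit 202017) (nat_lit 0) (.node .nil (nat_lit 0x905a4e2f163) (nat_lit 202049)
  (nat_lit 0) .nil)))))) (nat_lit 0x905a4e2f71e) (nat_lit 271589) (nat_lit 17743) (.node (.node (.node (.node
  (.node (.node .nil (nat_lit 0x905a4e2f76e) (nat_lit 172260) (nat_lit 0) .nil) (nat_lit 0x905a4e2f77d)
  (nat_lit 0xa41527) (nat_lit 0) (.node .nil (nat_lit 0x905a4e2f7ce) (nat_lit 272551) (nat_lit 0) .nil))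
  (nat_lit 0x905a4e346bf) (nat_lit 110759) (nat_lit 0) (.node (.node .nil (nat_lit 0x905a4e347d4) (nat_lit
  337004) (nat_lit 0) .nil) (nat_lit 0x905a4e34a10) (nat_lit 0x5624e2) (nat_lit 0) (.node .nil (nat_lit
  0x905a4e34bb0) (nat_lit 400709) (nat_lit 0) .nil))) (nat_lit 0x905a4e34d92) (nat_lit 0x8518e5) (nat_lit
  0x116a9e9) (.node (.node (.node .nil (nat_lit 0x905a4e34deb) (nat_lit 0x83a4c5) (nat_lit 0) .nil) (nat_lit
  0x905a4e351da) (nat_lit 0x962983) (nat_lit 0) (.node .nil (nat_lit 0x905a4e35206) (nat_lit 0x641ca3)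
  (nat_lit 0) .nil)) (nat_lit 0x905a4e35ee6) (nat_lit 0xa4ace6) (nat_lit 0) (.node (.node .nil (nat_lit
  0x905a4e35f5c) (nat_lit 273506) (nat_lit 420) .nil) (nat_lit 0x905a4e360aa) (nat_lit 0x85a462) (nat_lit 0)
  (.node .nil (nat_lit 0x905a4e3610f) (nat_lit 0xb52041) (nat_lit 0) .nil)))) (nat_lit 0x905a4e365bf) (nat_lit
  0xb424e2) (nat_lit 0) (.node (.node (.node (.node .nil (nat_lit 0x905a4e36647) (nat_lit 335019) (nat_lit 0)
  .nil) (nat_lit 0x905a4e36729) (nat_lit 0xb41c62) (nat_lit 0) (.node .nil (nat_lit 0x905a4e3673e) (nat_lit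
  0xa32561) (nat_lit 0) .nil)) (nat_lit 0x905a4e36ab0) (nat_lit 0xb41d42) (nat_lit 0) (.node (.node .nil
  (nat_lit 0x905a4e36c76) (nat_lit 0xb41d22) (nat_lit 0) .nil) (nat_lit 0x905a4e36e33) (nat_lit 0x932961)
  (nat_lit 0) (.node .nil (nat_lit 0x905a4e36ec8) (nat_lit 368866) (nat_lit 451) .nil))) (nat_lit
  0x905a4e37173) (nat_lit 334123) (nat_lit 0) (.node (.node (.node .nil (nat_lit 0x905a4e37332) (nat_lit
  339111) (nat_lit 0) .nil) (nat_lit 0x905a4e373ad) (nat_lit 0x85a4e2) (nat_lit 0) (.node .nil (nat_lit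
  0x905a4e375c3) (nat_lit 0x859c62) (nat_lit 0) .nil)) (nat_lit 0x905a4e37868) (nat_lit 301387) (nat_lit 0)
  (.node (.node .nil (nat_lit 0x905a4e37a6a) (nat_lit 0x859d22) (nat_lit 0) .nil) (nat_lit 0x905a4e37b99)
  (nat_lit 0x552ce2) (nat_lit 0) (.node .nil (nat_lit 0x905a4e37cb7) (nat_lit 273634) (nat_lit 14) .nil)))))
  (nat_lit 0x905a4e3813c) (nat_lit 273641) (nat_lit 0) (.node (.node (.node (.node (.node .nil (nat_lit
  0x905a4e38290) (nat_lit 174439) (nat_lit 0) .nil) (nat_lit 0x905a4e38319) (nat_lit 0x932962) (nat_lit 0)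
  (.node .nil (nat_lit 0x905a4e383ae) (nat_lit 8551) (nat_lit 14467) .nil)) (nat_lit 0x905a4e38849) (nat_lit
  273703) (nat_lit 0) (.node (.node .nil (nat_lit 0x905a4e38912) (nat_lit 339173) (nat_lit 0) .nil) (nat_lit
  0x905a4e38a10) (nat_lit 0xa32562) (nat_lit 0) (.node .nil (nat_lit 0x905a4e38aa2) (nat_lit 273635) (nat_lit
  0) .nil))) (nat_lit 0x905a4e38d18) (nat_lit 368935) (nat_lit 0) (.node (.node (.node .nil (nat_lit
  0x905a4e3900c) (nat_lit 335205) (nat_lit 0) .nil) (nat_lit 0x905a4e39107) (nat_lit 0xa4acc4) (nat_lit 0)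
  (.node .nil (nat_lit 0x905a4e39197) (nat_lit 368867) (nat_lit 0) .nil)) (nat_lit 0x905a4e393ad) (nat_lit
  368873) (nat_lit 0) (.node (.node .nil (nat_lit 0x905a4e39768) (nat_lit 368874) (nat_lit 0) .nil) (nat_lit
  0x905a4e397fe) (nat_lit 0xb4a147) (nat_lit 0) (.node .nil (nat_lit 0x905a4e39856) (nat_lit 11527) (nat_lit
  452) .nil)))) (nat_lit 0x905a4e39b49) (nat_lit 0x1049a0a) (nat_lit 0) (.node (.node (.node (.node .nil
  (nat_lit 0x905a4e39d84) (nat_lit 0x838c41) (nat_lit 16877) .nil) (nat_lit 0x905a4e39dc1) (nat_lit 0x752041)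
  (nat_lit 0) (.node .nil (nat_lit 0x905a4e39e99) (nat_lit 533712) (nat_lit 0) .nil)) (nat_lit 0x905a4e3a254)
  (nat_lit 269634) (nat_lit 0) (.node (.node .nil (nat_lit 0x905a4e3a575) (nat_lit 269602) (nat_lit 0) .nil)
  (nat_lit 0x905a4e3a57e) (nat_lit 8418) (nat_lit 468457) (.node .nil (nat_lit 0x905a4e3a60b) (nat_lit
  0x9428e2) (nat_lit 0) .nil))) (nat_lit 0x905a4e3ab65) (nat_lit 8426) (nat_lit 0) (.node (.node (.node .nil
  (nat_lit 0x905a4e3ac6d) (nat_lit 8425) (nat_lit 0) .nil) (nat_lit 0x905a4e3ac73) (nat_lit 263) (nat_lit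
  0xe4bca9) (.node .nil (nat_lit 0x905a4e3ad02) (nat_lit 303431) (nat_lit 0) .nil)) (nat_lit 0x905a4e3b04d)
  (nat_lit 269409) (nat_lit 505124) (.node (.node .nil (nat_lit 0x905a4e3b2a0) (nat_lit 239873) (nat_lit 0)
  .nil) (nat_lit 0x905a4e3b37c) (nat_lit 271585) (nat_lit 0) (.node .nil (nat_lit 0x905a4e3b3de) (nat_lit
  0xa4a0e1) (nat_lit 0) .nil)))))))
def tT_8 : T := (.node (.node (.node (.node (.node (.node (.node .nil (nat_lit 0x905a4e3ba75) (nat_lit 271586)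
  (nat_lit 0) .nil) (nat_lit 0x905a4e3bac7) (nat_lit 0xa4a0e2) (nat_lit 0) (.node .nil (nat_lit 0x905a4e3bb3f)
  (nat_lit 269410) (nat_lit 15785) .nil)) (nat_lit 0x905a4e3bffa) (nat_lit 534736) (nat_lit 0) (.node (.node
  .nil (nat_lit 0x905a4e3c145) (nat_lit 0x83a441) (nat_lit 0) .nil) (nat_lit 0x905a4e3c1e6) (nat_lit
  0x1051a09) (nat_lit 0) (.node .nil (nat_lit 0x905a4e3c237) (nat_lit 269377) (nat_lit 538927) .nil)))
  (nat_lit 0x905a4e3c4da) (nat_lit 269601) (nat_lit 0) (.node (.node (.node .nil (nat_lit 0x905a4e3c740)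
  (nat_lit 269633) (nat_lit 0) .nil) (nat_lit 0x905a4e3c8db) (nat_lit 0x9428e1) (nat_lit 0) (.node .nil
  (nat_lit 0x905a4e3c8ff) (nat_lit 8417) (nat_lit 0xe4bd24) .nil)) (nat_lit 0x905a4e3cba4) (nat_lit 7496)
  (nat_lit 0) (.node (.node .nil (nat_lit 0x905a4e3cc22) (nat_lit 8487) (nat_lit 0) .nil) (nat_lit
  0x905a4e3cfb5) (nat_lit 337159) (nat_lit 0) (.node .nil (nat_lit 0x905a4e3d015) (nat_lit 8419) (nat_lit
  505001) .nil)))) (nat_lit 0x905a4e3d522) (nat_lit 0x922d47) (nat_lit 0) (.node (.node (.node (.node .nil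
  (nat_lit 0x905a4e3d5ef) (nat_lit 0x74ac41) (nat_lit 0) .nil) (nat_lit 0x905a4e3d618) (nat_lit 366753)
  (nat_lit 292) (.node .nil (nat_lit 0x905a4e3d735) (nat_lit 0x852cc1) (nat_lit 0) .nil)) (nat_lit
  0x905a4e3d8ac) (nat_lit 173292) (nat_lit 0) (.node (.node .nil (nat_lit 0x905a4e3d9e2) (nat_lit 0xa62883)
  (nat_lit 0) .nil) (nat_lit 0x905a4e3da01) (nat_lit 340099) (nat_lit 0) (.node .nil (nat_lit 0x905a4e3ddfc)
  (nat_lit 0xa62483) (nat_lit 0) .nil))) (nat_lit 0x905a4e3e11a) (nat_lit 0x45a4e1) (nat_lit 0) (.node (.node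
  (.node .nil (nat_lit 0x905a4e3e398) (nat_lit 233827) (nat_lit 0) .nil) (nat_lit 0x905a4e3e39c) (nat_lit
  0xb51d22) (nat_lit 0) (.node .nil (nat_lit 0x905a4e3e52a) (nat_lit 370914) (nat_lit 0) .nil)) (nat_lit
  0x905a4e3e61a) (nat_lit 0xc5a8e2) (nat_lit 0) (.node (.node .nil (nat_lit 0x905a4e3e6a8) (nat_lit 0xb23127)
  (nat_lit 0) .nil) (nat_lit 0x905a4e3ea6f) (nat_lit 0x762c83) (nat_lit 0) (.node .nil (nat_lit 0x905a4e3eaa2)
  (nat_lit 0x12362961) (nat_lit 0) .nil))))) (nat_lit 0x905a4e3edda) (nat_lit 10532) (nat_lit 0x18b8a9ed)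
  (.node (.node (.node (.node (.node .nil (nat_lit 0x905a4e3ee83) (nat_lit 4) (nat_lit 25110) .nil) (nat_lit
  0x905a4e3f125) (nat_lit 324) (nat_lit 0x18b8a5ee) (.node .nil (nat_lit 0x905a4e3f140) (nat_lit 292) (nat_lit
  0xc81a2f) .nil)) (nat_lit 0x905a4e3f4ff) (nat_lit 0xa49061) (nat_lit 0x1878bda9) (.node (.node .nil (nat_lit
  0x905a4e3f573) (nat_lit 4193) (nat_lit 0x105e216) .nil) (nat_lit 0x905a4e3f828) (nat_lit 331873) (nat_lit
  0x1ac445e9) (.node .nil (nat_lit 0x905a4e3f8ec) (nat_lit 299105) (nat_lit 0xc445e9) .nil))) (nat_lit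
  0x905a4e3fbf0) (nat_lit 5382) (nat_lit 0) (.node (.node (.node .nil (nat_lit 0x905a4e3fc68) (nat_lit
  0xa49905) (nat_lit 566765) .nil) (nat_lit 0x905a4e3fe86) (nat_lit 371046) (nat_lit 0) (.node .nil (nat_lit
  0x905a4e3ff1b) (nat_lit 173256) (nat_lit 0) .nil)) (nat_lit 0x905a4e402ba) (nat_lit 268451) (nat_lit 0)
  (.node (.node .nil (nat_lit 0x905a4e40366) (nat_lit 0x652505) (nat_lit 0x78bda3) .nil) (nat_lit
  0x905a4e4060a) (nat_lit 205992) (nat_lit 0) (.node .nil (nat_lit 0x905a4e40623) (nat_lit 0x8328a1) (nat_lit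
  0) .nil)))) (nat_lit 0x905a4e409d8) (nat_lit 0x45a923) (nat_lit 0) (.node (.node (.node (.node .nil (nat_lit
  0x905a4e409e6) (nat_lit 4451) (nat_lit 0) .nil) (nat_lit 0x905a4e40c70) (nat_lit 142659) (nat_lit 0) (.node
  .nil (nat_lit 0x905a4e40ca1) (nat_lit 142627) (nat_lit 0) .nil)) (nat_lit 0x905a4e410d2) (nat_lit 0x9428e6)
  (nat_lit 0x1858bda3) (.node (.node .nil (nat_lit 0x905a4e41157) (nat_lit 205027) (nat_lit 0) .nil) (nat_lit
  0x905a4e413b1) (nat_lit 303303) (nat_lit 0) (.node .nil (nat_lit 0x905a4e414e7) (nat_lit 335048) (nat_lit 0)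
  .nil))) (nat_lit 0x905a4e4174f) (nat_lit 143593) (nat_lit 0) (.node (.node (.node .nil (nat_lit
  0x905a4e41992) (nat_lit 4487) (nat_lit 0) .nil) (nat_lit 0x905a4e41c0e) (nat_lit 0xa4b0a2) (nat_lit 0)
  (.node .nil (nat_lit 0x905a4e41c91) (nat_lit 143594) (nat_lit 0) .nil)) (nat_lit 0x905a4e41e46) (nat_lit
  274758) (nat_lit 0) (.node (.node .nil (nat_lit 0x905a4e41f97) (nat_lit 299395) (nat_lit 0) .nil) (nat_lit
  0x905a4e42089) (nat_lit 0x923143) (nat_lit 0) (.node .nil (nat_lit 0x905a4e42307) (nat_lit 0xc41883)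
  (nat_lit 0) .nil)))))) (nat_lit 0x905a4e42600) (nat_lit 0x92ad46) (nat_lit 0) (.node (.node (.node (.node
  (.node (.node .nil (nat_lit 0x905a4e42994) (nat_lit 4455) (nat_lit 0) .nil) (nat_lit 0x905a4e429a9) (nat_lit
  142569) (nat_lit 0) (.node .nil (nat_lit 0x905a4e42ad7) (nat_lit 142570) (nat_lit 0) .nil)) (nat_lit
  0x905a4e42c8b) (nat_lit 0x86246b) (nat_lit 0) (.node (.node .nil (nat_lit 0x905a4e42d7f) (nat_lit 0xb53083)
  (nat_lit 0) .nil) (nat_lit 0x905a4e42d8b) (nat_lit 0x16a62883) (nat_lit 15694) (.node .nil (nat_lit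
  0x905a4e42f2e) (nat_lit 0x962d46) (nat_lit 0) .nil))) (nat_lit 0x905a4e4336b) (nat_lit 403746) (nat_lit 0)
  (.node (.node (.node .nil (nat_lit 0x905a4e4345f) (nat_lit 12610) (nat_lit 0) .nil) (nat_lit 0x905a4e4347d)
  (nat_lit 386) (nat_lit 0xf66216) (.node .nil (nat_lit 0x905a4e437d2) (nat_lit 12578) (nat_lit 0) .nil))
  (nat_lit 0x905a4e43a43) (nat_lit 331137) (nat_lit 0) (.node (.node .nil (nat_lit 0x905a4e43a53) (nat_lit
  238981) (nat_lit 0) .nil) (nat_lit 0x905a4e43c7f) (nat_lit 0xa1b141) (nat_lit 0) (.node .nil (nat_lit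
  0x905a4e43e5d) (nat_lit 0xa1b121) (nat_lit 0) .nil)))) (nat_lit 0x905a4e44477) (nat_lit 7494) (nat_lit
  566766) (.node (.node (.node (.node .nil (nat_lit 0x905a4e444da) (nat_lit 239817) (nat_lit 0) .nil) (nat_lit
  0x905a4e4458f) (nat_lit 203907) (nat_lit 0) (.node .nil (nat_lit 0x905a4e44597) (nat_lit 302273) (nat_lit 0)
  .nil)) (nat_lit 0x905a4e4494f) (nat_lit 205985) (nat_lit 0) (.node (.node .nil (nat_lit 0x905a4e44b60)
  (nat_lit 0x103c081) (nat_lit 10724) .nil) (nat_lit 0x905a4e44ca0) (nat_lit 0xa498a1) (nat_lit 0) (.node .nil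
  (nat_lit 0x905a4e44dcf) (nat_lit 174273) (nat_lit 0) .nil))) (nat_lit 0x905a4e450c7) (nat_lit 336001)
  (nat_lit 0) (.node (.node (.node .nil (nat_lit 0x905a4e45374) (nat_lit 337153) (nat_lit 0) .nil) (nat_lit
  0x905a4e45381) (nat_lit 266337) (nat_lit 436713) (.node .nil (nat_lit 0x905a4e454c6) (nat_lit 303201)
  (nat_lit 0) .nil)) (nat_lit 0x905a4e45753) (nat_lit 398662) (nat_lit 0) (.node (.node .nil (nat_lit
  0x905a4e459a7) (nat_lit 0x6230a3) (nat_lit 0) .nil) (nat_lit 0x905a4e45a42) (nat_lit 399653) (nat_lit 0)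
  (.node .nil (nat_lit 0x905a4e45a97) (nat_lit 0xc524c5) (nat_lit 0) .nil))))) (nat_lit 0x905a4e479ed)
  (nat_lit 0xa1b169) (nat_lit 0) (.node (.node (.node (.node (.node .nil (nat_lit 0x905a4e47c5a) (nat_lit
  404710) (nat_lit 0) .nil) (nat_lit 0x905a4e47d08) (nat_lit 331147) (nat_lit 0) (.node .nil (nat_lit
  0x905a4e47e2b) (nat_lit 0x562562) (nat_lit 0) .nil)) (nat_lit 0x905a4e47f3e) (nat_lit 0xb2a989) (nat_lit 0)
  (.node (.node .nil (nat_lit 0x905a4e47ffb) (nat_lit 0xb2a98a) (nat_lit 0) .nil) (nat_lit 0x905a4e4847e)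
  (nat_lit 365900) (nat_lit 0) (.node .nil (nat_lit 0x905a4e484d6) (nat_lit 0x75a48c) (nat_lit 0) .nil)))
  (nat_lit 0x905a4e487b1) (nat_lit 238982) (nat_lit 0) (.node (.node (.node .nil (nat_lit 0x905a4e4880e)
  (nat_lit 274660) (nat_lit 0) .nil) (nat_lit 0x905a4e48a8a) (nat_lit 0x62a981) (nat_lit 0) (.node .nil
  (nat_lit 0x905a4e48bec) (nat_lit 0x852585) (nat_lit 0) .nil)) (nat_lit 0x905a4e490f1) (nat_lit 0xc3a501)
  (nat_lit 0) (.node (.node .nil (nat_lit 0x905a4e49118) (nat_lit 266631) (nat_lit 0) .nil) (nat_lit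
  0x905a4e49181) (nat_lit 0xc520e1) (nat_lit 0) (.node .nil (nat_lit 0x905a4e492df) (nat_lit 0xa2b126)
  (nat_lit 0) .nil)))) (nat_lit 0x905a4e4a3ea) (nat_lit 204) (nat_lit 0) (.node (.node (.node (.node .nil
  (nat_lit 0x905a4e4a5d0) (nat_lit 6538) (nat_lit 0) .nil) (nat_lit 0x905a4e4a5fb) (nat_lit 209225) (nat_lit
  0) (.node .nil (nat_lit 0x905a4e4a656) (nat_lit 6537) (nat_lit 0) .nil)) (nat_lit 0x905a4e4aa80) (nat_lit
  209218) (nat_lit 0) (.node (.node .nil (nat_lit 0x905a4e4aadd) (nat_lit 0x662922) (nat_lit 0) .nil) (nat_lit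
  0x905a4e4acfb) (nat_lit 6530) (nat_lit 0) (.node .nil (nat_lit 0x905a4e4ad4f) (nat_lit 209186) (nat_lit 0)
  .nil))) (nat_lit 0x905a4e4baee) (nat_lit 0x662d23) (nat_lit 0) (.node (.node (.node .nil (nat_lit
  0x905a4e4bcbe) (nat_lit 0x662d43) (nat_lit 0) .nil) (nat_lit 0x905a4e4bcd7) (nat_lit 0x95a983) (nat_lit 0)
  (.node .nil (nat_lit 0x905a4e4bcda) (nat_lit 209251) (nat_lit 0) .nil)) (nat_lit 0x905a4e4c18b) (nat_lit
  0xb33123) (nat_lit 0) (.node (.node .nil (nat_lit 0x905a4e4c3b3) (nat_lit 0x753161) (nat_lit 0) .nil)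
  (nat_lit 0x905a4e4c3ce) (nat_lit 0xc5a926) (nat_lit 0) (.node .nil (nat_lit 0x905a4e4c3cf) (nat_lit 366979)
  (nat_lit 0) .nil)))))))
def tT_9 : T := (.node (.node (.node (.node (.node (.node (.node .nil (nat_lit 0x905a4e63073) (nat_lit
  0xc53121) (nat_lit 0) .nil) (nat_lit 0x905a4e63188) (nat_lit 0xc53141) (nat_lit 0) (.node .nil (nat_lit
  0x905a4e634e7) (nat_lit 369931) (nat_lit 0) .nil)) (nat_lit 0x905a4e6362d) (nat_lit 167306) (nat_lit 0)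
  (.node (.node .nil (nat_lit 0x905a4e63a54) (nat_lit 302412) (nat_lit 0) .nil) (nat_lit 0x905a4e63acf)
  (nat_lit 5228) (nat_lit 0) (.node .nil (nat_lit 0x905a4e63b85) (nat_lit 167305) (nat_lit 0) .nil))) (nat_lit
  0x905a4e63d57) (nat_lit 0x641c83) (nat_lit 0) (.node (.node (.node .nil (nat_lit 0x905a4e64063) (nat_lit
  271559) (nat_lit 0) .nil) (nat_lit 0x905a4e640da) (nat_lit 403845) (nat_lit 0) (.node .nil (nat_lit
  0x905a4e64303) (nat_lit 0xb52563) (nat_lit 411117) .nil)) (nat_lit 0x905a4e64431) (nat_lit 400548) (nat_lit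
  0) (.node (.node .nil (nat_lit 0x905a4e64454) (nat_lit 337036) (nat_lit 0) .nil) (nat_lit 0x905a4e64568)
  (nat_lit 0xc494e1) (nat_lit 0) (.node .nil (nat_lit 0x905a4e64886) (nat_lit 0xc51ca1) (nat_lit 0) .nil))))
  (nat_lit 0x905a4e65a46) (nat_lit 10411) (nat_lit 0) (.node (.node (.node (.node .nil (nat_lit 0x905a4e65c90)
  (nat_lit 8548) (nat_lit 0) .nil) (nat_lit 0x905a4e65c9d) (nat_lit 333161) (nat_lit 0) (.node .nil (nat_lit
  0x905a4e65ea4) (nat_lit 369921) (nat_lit 0) .nil)) (nat_lit 0x905a4e66163) (nat_lit 369028) (nat_lit 0)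
  (.node (.node .nil (nat_lit 0x905a4e66423) (nat_lit 403813) (nat_lit 0) .nil) (nat_lit 0x905a4e664b3)
  (nat_lit 0xc52ca9) (nat_lit 0) (.node .nil (nat_lit 0x905a4e664da) (nat_lit 0xb49982) (nat_lit 0) .nil)))
  (nat_lit 0x905a4e6c7f5) (nat_lit 0xb4b145) (nat_lit 0) (.node (.node (.node .nil (nat_lit 0x905a4e6c8b9)
  (nat_lit 0x10614f0) (nat_lit 0x41497e216) .nil) (nat_lit 0x905a4e6cc22) (nat_lit 0x75a982) (nat_lit 0)
  (.node .nil (nat_lit 0x905a4e6cc48) (nat_lit 0xb49583) (nat_lit 0) .nil)) (nat_lit 0x905a4e6cfaa) (nat_lit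
  0x9628a1) (nat_lit 0) (.node (.node .nil (nat_lit 0x905a4e6d2f9) (nat_lit 240002) (nat_lit 0) .nil) (nat_lit
  0x905a4e6d3f7) (nat_lit 307363) (nat_lit 0) (.node .nil (nat_lit 0x905a4e6d4a6) (nat_lit 340295) (nat_lit 0)
  .nil))))) (nat_lit 0x905a4e6d7ba) (nat_lit 0x752d21) (nat_lit 0) (.node (.node (.node (.node (.node .nil
  (nat_lit 0x905a4e6d9d2) (nat_lit 239969) (nat_lit 0) .nil) (nat_lit 0x905a4e6d9e9) (nat_lit 0x752d41)
  (nat_lit 0) (.node .nil (nat_lit 0x905a4e6dc14) (nat_lit 0x849963) (nat_lit 0) .nil)) (nat_lit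
  0x905a4e6e0ac) (nat_lit 207143) (nat_lit 0) (.node (.node .nil (nat_lit 0x905a4e6e17f) (nat_lit 239811)
  (nat_lit 0xd345e3) .nil) (nat_lit 0x905a4e6e1ed) (nat_lit 6372) (nat_lit 0) (.node .nil (nat_lit
  0x905a4e6e2ab) (nat_lit 238785) (nat_lit 0) .nil))) (nat_lit 0x905a4e6e485) (nat_lit 175396) (nat_lit 0)
  (.node (.node (.node .nil (nat_lit 0x905a4e6e533) (nat_lit 10507) (nat_lit 0) .nil) (nat_lit 0x905a4e6e829)
  (nat_lit 370981) (nat_lit 0) (.node .nil (nat_lit 0x905a4e6e82d) (nat_lit 5476) (nat_lit 0) .nil)) (nat_lit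
  0x905a4e6eb5d) (nat_lit 233) (nat_lit 0) (.node (.node .nil (nat_lit 0x905a4e6ebbc) (nat_lit 234) (nat_lit
  0) .nil) (nat_lit 0x905a4e6eeb6) (nat_lit 7) (nat_lit 527) (.node .nil (nat_lit 0x905a4e6efd0) (nat_lit
  7497) (nat_lit 0) .nil)))) (nat_lit 0x905a4e8a4f8) (nat_lit 307371) (nat_lit 0) (.node (.node (.node (.node
  .nil (nat_lit 0x905a4e8a55a) (nat_lit 0xa5a186) (nat_lit 0) .nil) (nat_lit 0x905a4e8a664) (nat_lit
  0x1061a03) (nat_lit 0) (.node .nil (nat_lit 0x905a4e8a702) (nat_lit 0xa5a581) (nat_lit 0) .nil)) (nat_lit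
  0x905a4e8b9d9) (nat_lit 0xb32985) (nat_lit 0) (.node (.node .nil (nat_lit 0x905a4e8ba42) (nat_lit 300427)
  (nat_lit 0) .nil) (nat_lit 0x905a4e8bb31) (nat_lit 339244) (nat_lit 0) (.node .nil (nat_lit 0x905a4e8bb84)
  (nat_lit 0x1033203) (nat_lit 0) .nil))) (nat_lit 0x905a4e8be44) (nat_lit 0x65a985) (nat_lit 0) (.node (.node
  (.node .nil (nat_lit 0x905a4e8c137) (nat_lit 306348) (nat_lit 0) .nil) (nat_lit 0x905a4e8c228) (nat_lit
  0xa5a582) (nat_lit 0) (.node .nil (nat_lit 0x905a4e8c309) (nat_lit 0x1061607) (nat_lit 0) .nil)) (nat_lit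
  0x905a4e8c53b) (nat_lit 307557) (nat_lit 0) (.node (.node .nil (nat_lit 0x905a4e8c827) (nat_lit 0xa62166)
  (nat_lit 0) .nil) (nat_lit 0x905a4e8c933) (nat_lit 0x102b207) (nat_lit 0) (.node .nil (nat_lit
  0x905a4e8c9fe) (nat_lit 0x962caa) (nat_lit 0) .nil)))))) (nat_lit 0x905a4e8cbae) (nat_lit 271554) (nat_lit
  530991) (.node (.node (.node (.node (.node (.node .nil (nat_lit 0x905a4e8cc08) (nat_lit 334081) (nat_lit 0)
  .nil) (nat_lit 0x905a4e8cdab) (nat_lit 0xa4a0c1) (nat_lit 0) (.node .nil (nat_lit 0x905a4e8d007) (nat_lit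
  8388) (nat_lit 0) .nil)) (nat_lit 0x905a4e8d2a1) (nat_lit 234823) (nat_lit 0) (.node (.node .nil (nat_lit
  0x905a4e8d2ff) (nat_lit 9377) (nat_lit 0) .nil) (nat_lit 0x905a4e8d4a0) (nat_lit 300321) (nat_lit 343491)
  (.node .nil (nat_lit 0x905a4e8d5dd) (nat_lit 300353) (nat_lit 0) .nil))) (nat_lit 0x905a4e92289) (nat_lit
  0xb4b164) (nat_lit 0) (.node (.node (.node .nil (nat_lit 0x905a4e922e7) (nat_lit 0x653121) (nat_lit 0) .nil)
  (nat_lit 0x905a4e9233d) (nat_lit 207233) (nat_lit 0) (.node .nil (nat_lit 0x905a4e923e4) (nat_lit 0xa628c1)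
  (nat_lit 15683) .nil)) (nat_lit 0x905a4e9297e) (nat_lit 0xc518a1) (nat_lit 0) (.node (.node .nil (nat_lit
  0x905a4e929e6) (nat_lit 201093) (nat_lit 0) .nil) (nat_lit 0x905a4e92a2e) (nat_lit 176422) (nat_lit 0)
  (.node .nil (nat_lit 0x905a4e92ad5) (nat_lit 0x662925) (nat_lit 0) .nil)))) (nat_lit 0x905a4e92daf) (nat_lit
  0x8594e3) (nat_lit 324) (.node (.node (.node (.node .nil (nat_lit 0x905a4e930f1) (nat_lit 0x752d24) (nat_lit
  0) .nil) (nat_lit 0x905a4e931f4) (nat_lit 0x942cc3) (nat_lit 0) (.node .nil (nat_lit 0x905a4e93294) (nat_lit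
  239972) (nat_lit 0) .nil)) (nat_lit 0x905a4e94285) (nat_lit 0xb52502) (nat_lit 0) (.node (.node .nil
  (nat_lit 0x905a4e945b1) (nat_lit 266595) (nat_lit 0) .nil) (nat_lit 0x905a4e946d7) (nat_lit 331109) (nat_lit
  0) (.node .nil (nat_lit 0x905a4e94777) (nat_lit 0xb4a062) (nat_lit 0) .nil))) (nat_lit 0x905a4e94c1e)
  (nat_lit 7558) (nat_lit 0) (.node (.node (.node .nil (nat_lit 0x905a4e94d16) (nat_lit 403686) (nat_lit 0)
  .nil) (nat_lit 0x905a4e94df4) (nat_lit 0x962147) (nat_lit 0) (.node .nil (nat_lit 0x905a4e94e32) (nat_lit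
  241865) (nat_lit 0) .nil)) (nat_lit 0x905a4e95315) (nat_lit 401737) (nat_lit 0) (.node (.node .nil (nat_lit
  0x905a4e95411) (nat_lit 12553) (nat_lit 0) .nil) (nat_lit 0x905a4e954f7) (nat_lit 392) (nat_lit 0) (.node
  .nil (nat_lit 0x905a4e9552f) (nat_lit 12554) (nat_lit 0) .nil))))) (nat_lit 0x905a4e9f366) (nat_lit
  0x753101) (nat_lit 0) (.node (.node (.node (.node (.node .nil (nat_lit 0x905a4e9f39c) (nat_lit 0x661483)
  (nat_lit 0) .nil) (nat_lit 0x905a4e9f435) (nat_lit 0xc324a2) (nat_lit 0) (.node .nil (nat_lit 0x905a4e9f49f)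
  (nat_lit 0xa4b0e6) (nat_lit 0) .nil)) (nat_lit 0x905a4ea0845) (nat_lit 0xc41d25) (nat_lit 0) (.node (.node
  .nil (nat_lit 0x905a4ea0877) (nat_lit 337288) (nat_lit 0) .nil) (nat_lit 0x905a4ea0916) (nat_lit 340164)
  (nat_lit 0) (.node .nil (nat_lit 0x905a4ea0982) (nat_lit 0xa61944) (nat_lit 0) .nil))) (nat_lit
  0x905a4ea0e16) (nat_lit 0x762cc4) (nat_lit 0) (.node (.node (.node .nil (nat_lit 0x905a4ea0f51) (nat_lit
  0x10c52561) (nat_lit 0) .nil) (nat_lit 0x905a4ea1008) (nat_lit 0xc49563) (nat_lit 0) (.node .nil (nat_lit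
  0x905a4ea10fa) (nat_lit 0xa62c83) (nat_lit 0) .nil)) (nat_lit 0x905a4ea22f9) (nat_lit 0xa62d23) (nat_lit 0)
  (.node (.node .nil (nat_lit 0x905a4ea2439) (nat_lit 242022) (nat_lit 0) .nil) (nat_lit 0x905a4ea24f1)
  (nat_lit 340323) (nat_lit 0) (.node .nil (nat_lit 0x905a4ea257c) (nat_lit 176427) (nat_lit 0) .nil))))
  (nat_lit 0x905a4ea28bc) (nat_lit 0xa4a041) (nat_lit 0) (.node (.node (.node (.node .nil (nat_lit
  0x905a4ea2c22) (nat_lit 528904) (nat_lit 0xd53ca9) .nil) (nat_lit 0x905a4ea2c8f) (nat_lit 268614) (nat_lit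
  0) (.node .nil (nat_lit 0x905a4ea2d22) (nat_lit 267557) (nat_lit 0) .nil)) (nat_lit 0x905a4ea2fae) (nat_lit
  201859) (nat_lit 10723) (.node (.node .nil (nat_lit 0x905a4ea3325) (nat_lit 0xa5a567) (nat_lit 0) .nil)
  (nat_lit 0x905a4ea3388) (nat_lit 0x649441) (nat_lit 0) (.node .nil (nat_lit 0x905a4ea3419) (nat_lit
  0x551841) (nat_lit 0) .nil))) (nat_lit 0x905a4ea7b5d) (nat_lit 0x45a8e1) (nat_lit 0) (.node (.node (.node
  .nil (nat_lit 0x905a4ea7c07) (nat_lit 367714) (nat_lit 131) .nil) (nat_lit 0x905a4ea7c0a) (nat_lit 369890)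
  (nat_lit 0) (.node .nil (nat_lit 0x905a4ea7c33) (nat_lit 0xb49d42) (nat_lit 0) .nil)) (nat_lit
  0x905a4ea8252) (nat_lit 365860) (nat_lit 0) (.node (.node .nil (nat_lit 0x905a4ea8300) (nat_lit 336226)
  (nat_lit 0) .nil) (nat_lit 0x905a4ea832d) (nat_lit 11428) (nat_lit 0) (.node .nil (nat_lit 0x905a4ea83cf)
  (nat_lit 0xb524a2) (nat_lit 0) .nil)))))))
def tT_10 : T := (.node (.node (.node (.node (.node (.node (.node .nil (nat_lit 0x905a4ea8989) (nat_lit 7490)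
  (nat_lit 0) .nil) (nat_lit 0x905a4ea8c37) (nat_lit 226) (nat_lit 15652) (.node .nil (nat_lit 0x905a4ea8d9f)
  (nat_lit 239906) (nat_lit 0) .nil)) (nat_lit 0x905a4ea9e0f) (nat_lit 0xc50d84) (nat_lit 0x114bdc9) (.node
  (.node .nil (nat_lit 0x905a4ea9e6a) (nat_lit 0x85a563) (nat_lit 0) .nil) (nat_lit 0x905a4eaa257) (nat_lit
  0x12c50d81) (nat_lit 0) (.node .nil (nat_lit 0x905a4eaa283) (nat_lit 0x831ca3) (nat_lit 0) .nil))) (nat_lit
  0x905a4eaa51f) (nat_lit 368966) (nat_lit 0) (.node (.node (.node .nil (nat_lit 0x905a4eaa603) (nat_lit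
  0x85a4c3) (nat_lit 0) .nil) (nat_lit 0x905a4eaa7b0) (nat_lit 0x93a962) (nat_lit 0) (.node .nil (nat_lit
  0x905a4eaa873) (nat_lit 0x832c83) (nat_lit 0) .nil)) (nat_lit 0x905a4eaac18) (nat_lit 271713) (nat_lit 0)
  (.node (.node .nil (nat_lit 0x905a4eaacf5) (nat_lit 207207) (nat_lit 0) .nil) (nat_lit 0x905a4eaaea5)
  (nat_lit 0x84ad21) (nat_lit 0) (.node .nil (nat_lit 0x905a4eaaf62) (nat_lit 337253) (nat_lit 0) .nil))))
  (nat_lit 0x905a4eaf8de) (nat_lit 271467) (nat_lit 0) (.node (.node (.node (.node .nil (nat_lit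
  0x905a4eaf988) (nat_lit 0x652ce3) (nat_lit 0) .nil) (nat_lit 0x905a4eafb3f) (nat_lit 0x92a962) (nat_lit 0)
  (.node .nil (nat_lit 0x905a4eafb7b) (nat_lit 0x848d69) (nat_lit 0) .nil)) (nat_lit 0x905a4eb0329) (nat_lit
  201857) (nat_lit 337379) (.node (.node .nil (nat_lit 0x905a4eb03df) (nat_lit 0xa3ad2b) (nat_lit 0) .nil)
  (nat_lit 0x905a4eb0476) (nat_lit 0x549841) (nat_lit 0) (.node .nil (nat_lit 0x905a4eb04fa) (nat_lit
  0xa31441) (nat_lit 0) .nil))) (nat_lit 0x905a4eb0955) (nat_lit 303426) (nat_lit 0) (.node (.node (.node .nil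
  (nat_lit 0x905a4eb09a9) (nat_lit 8322) (nat_lit 0x97b924) .nil) (nat_lit 0x905a4eb0b70) (nat_lit 272514)
  (nat_lit 0) (.node .nil (nat_lit 0x905a4eb0bf1) (nat_lit 9474) (nat_lit 0) .nil)) (nat_lit 0x905a4eb0dc3)
  (nat_lit 207205) (nat_lit 0) (.node (.node .nil (nat_lit 0x905a4eb0e66) (nat_lit 273702) (nat_lit 0) .nil)
  (nat_lit 0x905a4eb1020) (nat_lit 268644) (nat_lit 0) (.node .nil (nat_lit 0x905a4eb105c) (nat_lit 0xa49d64)
  (nat_lit 0) .nil))))) (nat_lit 0x905a4eb14bc) (nat_lit 369826) (nat_lit 0) (.node (.node (.node (.node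
  (.node .nil (nat_lit 0x905a4eb1531) (nat_lit 272738) (nat_lit 0) .nil) (nat_lit 0x905a4eb1833) (nat_lit
  168291) (nat_lit 13481) (.node .nil (nat_lit 0x905a4eb18a6) (nat_lit 0x852d22) (nat_lit 0) .nil)) (nat_lit
  0x905a4eb1ee8) (nat_lit 12548) (nat_lit 0) (.node (.node .nil (nat_lit 0x905a4eb1f59) (nat_lit 401732)
  (nat_lit 0) .nil) (nat_lit 0x905a4eb1ff2) (nat_lit 307402) (nat_lit 0) (.node .nil (nat_lit 0x905a4eb2010)
  (nat_lit 9606) (nat_lit 0) .nil))) (nat_lit 0x905a4eb264e) (nat_lit 307555) (nat_lit 0) (.node (.node (.node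
  .nil (nat_lit 0x905a4eb26f1) (nat_lit 0x962d43) (nat_lit 0) .nil) (nat_lit 0x905a4eb2704) (nat_lit 0xb530c2)
  (nat_lit 0) (.node .nil (nat_lit 0x905a4eb2780) (nat_lit 0x962d23) (nat_lit 0) .nil)) (nat_lit
  0x905a4eb2884) (nat_lit 0x849861) (nat_lit 567785) (.node (.node .nil (nat_lit 0x905a4eb2973) (nat_lit 8518)
  (nat_lit 0) .nil) (nat_lit 0x905a4eb2a4d) (nat_lit 272586) (nat_lit 0) (.node .nil (nat_lit 0x905a4eb2a94)
  (nat_lit 272585) (nat_lit 0) .nil)))) (nat_lit 0x905a4edd3f7) (nat_lit 0xa62566) (nat_lit 0) (.node (.node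
  (.node (.node .nil (nat_lit 0x905a4edd799) (nat_lit 0xc59945) (nat_lit 0) .nil) (nat_lit 0x905a4edd7fb)
  (nat_lit 0x1061e01) (nat_lit 0) (.node .nil (nat_lit 0x905a4edd88c) (nat_lit 0xc49d62) (nat_lit 0) .nil))
  (nat_lit 0x905a4eddaec) (nat_lit 0x481d90) (nat_lit 0) (.node (.node .nil (nat_lit 0x905a4edde8e) (nat_lit
  0xc49d64) (nat_lit 0) .nil) (nat_lit 0x905a4eddeee) (nat_lit 0xa3312b) (nat_lit 0) (.node .nil (nat_lit
  0x905a4eddf22) (nat_lit 0xa59d85) (nat_lit 0) .nil))) (nat_lit 0x905a4ee0788) (nat_lit 0xa62d24) (nat_lit 0)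
  (.node (.node (.node .nil (nat_lit 0x905a4ee0837) (nat_lit 402603) (nat_lit 0) .nil) (nat_lit 0x905a4ee08ad)
  (nat_lit 0xa62d44) (nat_lit 0) (.node .nil (nat_lit 0x905a4ee0958) (nat_lit 340324) (nat_lit 0) .nil))
  (nat_lit 0x905a4ee0c65) (nat_lit 0x562563) (nat_lit 0) (.node (.node .nil (nat_lit 0x905a4ee0e7f) (nat_lit
  340330) (nat_lit 0x29f15e216) .nil) (nat_lit 0x905a4ee0f24) (nat_lit 10635) (nat_lit 0) (.node .nil (nat_lit
  0x905a4ee0fa0) (nat_lit 340329) (nat_lit 0) .nil)))))) (nat_lit 0x905a4eee2fc) (nat_lit 0x762d24) (nat_lit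
  0) (.node (.node (.node (.node (.node (.node .nil (nat_lit 0x905a4eee312) (nat_lit 334219) (nat_lit 0) .nil)
  (nat_lit 0x905a4eee67e) (nat_lit 242020) (nat_lit 0) (.node .nil (nat_lit 0x905a4eee7f4) (nat_lit 0xa33169)
  (nat_lit 0) .nil)) (nat_lit 0x905a4eee9ef) (nat_lit 0x653161) (nat_lit 0) (.node (.node .nil (nat_lit
  0x905a4eeea05) (nat_lit 0xb3b123) (nat_lit 0) .nil) (nat_lit 0x905a4eeed71) (nat_lit 0xb5152c) (nat_lit 0)
  (.node .nil (nat_lit 0x905a4eeeedf) (nat_lit 368003) (nat_lit 502243) .nil))) (nat_lit 0x905a4eef0b5)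
  (nat_lit 401707) (nat_lit 0) (.node (.node (.node .nil (nat_lit 0x905a4eef209) (nat_lit 370828) (nat_lit 0)
  .nil) (nat_lit 0x905a4eef3d7) (nat_lit 0xa4b167) (nat_lit 0) (.node .nil (nat_lit 0x905a4eef584) (nat_lit
  0xc42569) (nat_lit 0) .nil)) (nat_lit 0x905a4eef7ac) (nat_lit 371075) (nat_lit 0) (.node (.node .nil
  (nat_lit 0x905a4eeface) (nat_lit 0xb53143) (nat_lit 0) .nil) (nat_lit 0x905a4eefc7d) (nat_lit 0xb53123)
  (nat_lit 0) (.node .nil (nat_lit 0x905a4eefcdc) (nat_lit 0xc4ad03) (nat_lit 0) .nil)))) (nat_lit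
  0x905a4ef001a) (nat_lit 0xc50d81) (nat_lit 572873) (.node (.node (.node (.node .nil (nat_lit 0x905a4ef024f)
  (nat_lit 531664) (nat_lit 0) .nil) (nat_lit 0x905a4ef031f) (nat_lit 0x18a1b121) (nat_lit 0) (.node .nil
  (nat_lit 0x905a4ef0466) (nat_lit 0x641d25) (nat_lit 0) .nil)) (nat_lit 0x905a4ef0713) (nat_lit 173223)
  (nat_lit 0) (.node (.node .nil (nat_lit 0x905a4ef08f5) (nat_lit 233537) (nat_lit 0xa4bca9) .nil) (nat_lit
  0x905a4ef093c) (nat_lit 0xa49c41) (nat_lit 0) (.node .nil (nat_lit 0x905a4ef0b60) (nat_lit 174309) (nat_lit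
  0) .nil))) (nat_lit 0x905a4ef0ca9) (nat_lit 404714) (nat_lit 0) (.node (.node (.node .nil (nat_lit
  0x905a4ef0cd2) (nat_lit 404713) (nat_lit 0) .nil) (nat_lit 0x905a4ef0dda) (nat_lit 12647) (nat_lit 0) (.node
  .nil (nat_lit 0x905a4ef1064) (nat_lit 0xc59d49) (nat_lit 0) .nil)) (nat_lit 0x905a4ef139c) (nat_lit
  0xc32565) (nat_lit 0) (.node (.node .nil (nat_lit 0x905a4ef13c7) (nat_lit 0xc5a8e1) (nat_lit 0) .nil)
  (nat_lit 0x905a4ef1550) (nat_lit 0x962963) (nat_lit 0) (.node .nil (nat_lit 0x905a4ef1764) (nat_lit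
  0xc3ac83) (nat_lit 0) .nil))))) (nat_lit 0x905a4ef1bb0) (nat_lit 238948) (nat_lit 0) (.node (.node (.node
  (.node (.node .nil (nat_lit 0x905a4ef1d8e) (nat_lit 306503) (nat_lit 0) .nil) (nat_lit 0x905a4ef1e77)
  (nat_lit 208036) (nat_lit 0) (.node .nil (nat_lit 0x905a4ef201e) (nat_lit 370885) (nat_lit 0) .nil))
  (nat_lit 0x905a4ef22a7) (nat_lit 240842) (nat_lit 0) (.node (.node .nil (nat_lit 0x905a4ef2487) (nat_lit
  7526) (nat_lit 13706) .nil) (nat_lit 0x905a4ef2564) (nat_lit 0x54ad42) (nat_lit 0) (.node .nil (nat_lit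
  0x905a4ef2715) (nat_lit 173410) (nat_lit 0) .nil))) (nat_lit 0x905a4ef29cc) (nat_lit 307395) (nat_lit 0)
  (.node (.node (.node .nil (nat_lit 0x905a4ef2c3b) (nat_lit 401539) (nat_lit 0) .nil) (nat_lit 0x905a4ef2c9d)
  (nat_lit 403716) (nat_lit 0) (.node .nil (nat_lit 0x905a4ef2d39) (nat_lit 403752) (nat_lit 0) .nil))
  (nat_lit 0x905a4ef2f82) (nat_lit 143529) (nat_lit 0) (.node (.node .nil (nat_lit 0x905a4ef2f9d) (nat_lit
  143530) (nat_lit 0) .nil) (nat_lit 0x905a4ef3321) (nat_lit 403749) (nat_lit 0) (.node .nil (nat_lit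
  0x905a4ef33b3) (nat_lit 4485) (nat_lit 0) .nil)))) (nat_lit 0x905a4ef3788) (nat_lit 0x759943) (nat_lit 0)
  (.node (.node (.node (.node .nil (nat_lit 0x905a4ef397a) (nat_lit 240835) (nat_lit 0) .nil) (nat_lit
  0x905a4ef3aba) (nat_lit 0xa4ad02) (nat_lit 0) (.node .nil (nat_lit 0x905a4ef3bfd) (nat_lit 208167) (nat_lit
  0) .nil)) (nat_lit 0x905a4ef3e7f) (nat_lit 306404) (nat_lit 0) (.node (.node .nil (nat_lit 0x905a4ef4073)
  (nat_lit 0x95a8e3) (nat_lit 0) .nil) (nat_lit 0x905a4ef41aa) (nat_lit 0x659483) (nat_lit 0) (.node .nil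
  (nat_lit 0x905a4ef42f0) (nat_lit 0xb2a8c1) (nat_lit 0) .nil))) (nat_lit 0x905a4ef4783) (nat_lit 334218)
  (nat_lit 0) (.node (.node (.node .nil (nat_lit 0x905a4ef4860) (nat_lit 0xc41527) (nat_lit 0) .nil) (nat_lit
  0x905a4ef4916) (nat_lit 10444) (nat_lit 0) (.node .nil (nat_lit 0x905a4ef4966) (nat_lit 334217) (nat_lit 0)
  .nil)) (nat_lit 0x905a4ef4c2d) (nat_lit 268649) (nat_lit 0) (.node (.node .nil (nat_lit 0x905a4ef4e45)
  (nat_lit 337131) (nat_lit 0) .nil) (nat_lit 0x905a4ef4e73) (nat_lit 8395) (nat_lit 0) (.node .nil (nat_lit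
  0x905a4ef5110) (nat_lit 268650) (nat_lit 0) .nil)))))))
def tT_11 : T := (.node (.node (.node (.node (.node (.node (.node .nil (nat_lit 0x905a4efa9da) (nat_lit
  0xc2ad26) (nat_lit 0) .nil) (nat_lit 0x905a4efaa55) (nat_lit 0x95a8ac) (nat_lit 0) (.node .nil (nat_lit
  0x905a4efab2b) (nat_lit 0x662968) (nat_lit 0) .nil)) (nat_lit 0x905a4efadaf) (nat_lit 0xc3a56a) (nat_lit 0)
  (.node (.node .nil (nat_lit 0x905a4efb0d1) (nat_lit 0xb53107) (nat_lit 0) .nil) (nat_lit 0x905a4efb148)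
  (nat_lit 399717) (nat_lit 343341) (.node .nil (nat_lit 0x905a4efb228) (nat_lit 400683) (nat_lit 0) .nil)))
  (nat_lit 0x905a4efb56d) (nat_lit 12547) (nat_lit 0xa4bd44) (.node (.node (.node .nil (nat_lit 0x905a4efb6be)
  (nat_lit 403721) (nat_lit 0) .nil) (nat_lit 0x905a4efb706) (nat_lit 401699) (nat_lit 0) (.node .nil (nat_lit
  0x905a4efb90d) (nat_lit 12616) (nat_lit 0) .nil)) (nat_lit 0x905a4efbdf3) (nat_lit 0x962986) (nat_lit 0)
  (.node (.node .nil (nat_lit 0x905a4efbf04) (nat_lit 269475) (nat_lit 0) .nil) (nat_lit 0x905a4efbfad)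
  (nat_lit 0x82a4e2) (nat_lit 566755) (.node .nil (nat_lit 0x905a4efc02f) (nat_lit 0x83a8a1) (nat_lit 0)
  .nil)))) (nat_lit 0x905a4efc1eb) (nat_lit 0x662965) (nat_lit 0) (.node (.node (.node (.node .nil (nat_lit
  0x905a4efc2d8) (nat_lit 370052) (nat_lit 0) .nil) (nat_lit 0x905a4efc4d8) (nat_lit 0xb4b144) (nat_lit 0)
  (.node .nil (nat_lit 0x905a4efc65b) (nat_lit 0x862cc4) (nat_lit 0) .nil)) (nat_lit 0x905a4efc9ad) (nat_lit
  536816) (nat_lit 0) (.node (.node .nil (nat_lit 0x905a4efcc19) (nat_lit 0xa4b168) (nat_lit 0) .nil) (nat_lit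
  0x905a4efcccc) (nat_lit 0xb33145) (nat_lit 0) (.node .nil (nat_lit 0x905a4efcd09) (nat_lit 0xc4ace2)
  (nat_lit 0) .nil))) (nat_lit 0x905a4efd0a4) (nat_lit 0xa6192b) (nat_lit 0) (.node (.node (.node .nil
  (nat_lit 0x905a4efd309) (nat_lit 0x103b204) (nat_lit 0) .nil) (nat_lit 0x905a4efd3c9) (nat_lit 0xc4ace4)
  (nat_lit 0) (.node .nil (nat_lit 0x905a4efd414) (nat_lit 0xa3b165) (nat_lit 0) .nil)) (nat_lit
  0x905a4efd6c0) (nat_lit 370051) (nat_lit 0) (.node (.node .nil (nat_lit 0x905a4efd9b9) (nat_lit 0x862cc3)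
  (nat_lit 0) .nil) (nat_lit 0x905a4efdb3a) (nat_lit 0xb4b143) (nat_lit 0) (.node .nil (nat_lit 0x905a4efdbad)
  (nat_lit 0xc51965) (nat_lit 0) .nil))))) (nat_lit 0x905a4efde59) (nat_lit 303299) (nat_lit 566761) (.node
  (.node (.node (.node (.node .nil (nat_lit 0x905a4efe11e) (nat_lit 6403) (nat_lit 0) .nil) (nat_lit
  0x905a4efe1d7) (nat_lit 207113) (nat_lit 0) (.node .nil (nat_lit 0x905a4efe2ff) (nat_lit 6472) (nat_lit 0)
  .nil)) (nat_lit 0x905a4efe55c) (nat_lit 0x93ad44) (nat_lit 0) (.node (.node .nil (nat_lit 0x905a4efe8b7)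
  (nat_lit 0x4598a3) (nat_lit 0) .nil) (nat_lit 0x905a4efe946) (nat_lit 302436) (nat_lit 0) (.node .nil
  (nat_lit 0x905a4efea0a) (nat_lit 365894) (nat_lit 0) .nil))) (nat_lit 0x905a4efec51) (nat_lit 367811)
  (nat_lit 0) (.node (.node (.node .nil (nat_lit 0x905a4efefac) (nat_lit 0xa4a162) (nat_lit 0) .nil) (nat_lit
  0x905a4eff03b) (nat_lit 0xc53162) (nat_lit 0) (.node .nil (nat_lit 0x905a4eff101) (nat_lit 306340) (nat_lit
  0) .nil)) (nat_lit 0x905a4eff33c) (nat_lit 170) (nat_lit 0) (.node (.node .nil (nat_lit 0x905a4eff546)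
  (nat_lit 5) (nat_lit 13647) .nil) (nat_lit 0x905a4eff601) (nat_lit 5449) (nat_lit 0) (.node .nil (nat_lit
  0x905a4eff7e0) (nat_lit 169) (nat_lit 0) .nil)))) (nat_lit 0x905a4eff952) (nat_lit 176490) (nat_lit 0)
  (.node (.node (.node (.node .nil (nat_lit 0x905a4eff974) (nat_lit 176489) (nat_lit 0) .nil) (nat_lit
  0x905a4effce8) (nat_lit 5515) (nat_lit 0) (.node .nil (nat_lit 0x905a4effe5d) (nat_lit 0xc52d28) (nat_lit 0)
  .nil)) (nat_lit 0x905a4f0004b) (nat_lit 0x1064125) (nat_lit 0) (.node (.node .nil (nat_lit 0x905a4f0006b)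
  (nat_lit 274763) (nat_lit 0) .nil) (nat_lit 0x905a4f003e7) (nat_lit 0x862969) (nat_lit 0) (.node .nil
  (nat_lit 0x905a4f00556) (nat_lit 0xc59483) (nat_lit 0x1497a924) .nil))) (nat_lit 0x905a4f00837) (nat_lit
  0xa2316a) (nat_lit 0) (.node (.node (.node .nil (nat_lit 0x905a4f00aee) (nat_lit 0xa23169) (nat_lit 0) .nil)
  (nat_lit 0x905a4f00b4f) (nat_lit 0xc49561) (nat_lit 0) (.node .nil (nat_lit 0x905a4f00ca5) (nat_lit 332171)
  (nat_lit 0) .nil)) (nat_lit 0x905a4f00f2c) (nat_lit 0xa62d21) (nat_lit 0) (.node (.node .nil (nat_lit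
  0x905a4f0111f) (nat_lit 0xa62d41) (nat_lit 0x414f5e216) .nil) (nat_lit 0x905a4f01244) (nat_lit 340321)
  (nat_lit 0) (.node .nil (nat_lit 0x905a4f01396) (nat_lit 0xc2a563) (nat_lit 0) .nil)))))) (nat_lit
  0x905a4f0168d) (nat_lit 325) (nat_lit 0) (.node (.node (.node (.node (.node (.node .nil (nat_lit
  0x905a4f0188c) (nat_lit 10409) (nat_lit 0) .nil) (nat_lit 0x905a4f019a7) (nat_lit 5217) (nat_lit 9710)
  (.node .nil (nat_lit 0x905a4f01adf) (nat_lit 173153) (nat_lit 0) .nil)) (nat_lit 0x905a4f01cac) (nat_lit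
  11494) (nat_lit 13636) (.node (.node .nil (nat_lit 0x905a4f02000) (nat_lit 0x852564) (nat_lit 0) .nil)
  (nat_lit 0x905a4f020f6) (nat_lit 370887) (nat_lit 0) (.node .nil (nat_lit 0x905a4f021a0) (nat_lit 367817)
  (nat_lit 0) .nil))) (nat_lit 0x905a4f023a1) (nat_lit 0x95a8e1) (nat_lit 0) (.node (.node (.node .nil
  (nat_lit 0x905a4f026f7) (nat_lit 142533) (nat_lit 0) .nil) (nat_lit 0x905a4f027eb) (nat_lit 0x74ac81)
  (nat_lit 0) (.node .nil (nat_lit 0x905a4f02897) (nat_lit 0xb518a1) (nat_lit 0) .nil)) (nat_lit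
  0x905a4f02b6c) (nat_lit 303297) (nat_lit 247273) (.node (.node .nil (nat_lit 0x905a4f02e60) (nat_lit 6401)
  (nat_lit 0) .nil) (nat_lit 0x905a4f02e8b) (nat_lit 0x642921) (nat_lit 0) (.node .nil (nat_lit 0x905a4f02fc2)
  (nat_lit 205121) (nat_lit 0) .nil)))) (nat_lit 0x905a4f030f1) (nat_lit 0xc49c81) (nat_lit 0) (.node (.node
  (.node (.node .nil (nat_lit 0x905a4f034b0) (nat_lit 233859) (nat_lit 0) .nil) (nat_lit 0x905a4f03541)
  (nat_lit 0xc51d21) (nat_lit 0) (.node .nil (nat_lit 0x905a4f03634) (nat_lit 403681) (nat_lit 0) .nil))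
  (nat_lit 0x905a4f03b29) (nat_lit 340170) (nat_lit 0) (.node (.node .nil (nat_lit 0x905a4f03b3e) (nat_lit
  0xc3a505) (nat_lit 0) .nil) (nat_lit 0x905a4f03d0c) (nat_lit 340169) (nat_lit 0) (.node .nil (nat_lit
  0x905a4f03d5b) (nat_lit 10630) (nat_lit 0) .nil))) (nat_lit 0x905a4f040eb) (nat_lit 0xc52501) (nat_lit 0)
  (.node (.node (.node .nil (nat_lit 0x905a4f041cf) (nat_lit 266627) (nat_lit 0) .nil) (nat_lit 0x905a4f0422e)
  (nat_lit 0xc52081) (nat_lit 0) (.node .nil (nat_lit 0x905a4f043b6) (nat_lit 301443) (nat_lit 0) .nil))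
  (nat_lit 0x905a4f04601) (nat_lit 307429) (nat_lit 0) (.node (.node .nil (nat_lit 0x905a4f04625) (nat_lit
  10626) (nat_lit 0) .nil) (nat_lit 0x905a4f0473a) (nat_lit 340290) (nat_lit 0x14f66216) (.node .nil (nat_lit
  0x905a4f04a91) (nat_lit 340258) (nat_lit 0) .nil))))) (nat_lit 0x905a4f04cc2) (nat_lit 0xb4b041) (nat_lit 0)
  (.node (.node (.node (.node (.node .nil (nat_lit 0x905a4f05004) (nat_lit 401766) (nat_lit 0) .nil) (nat_lit
  0x905a4f0517a) (nat_lit 0xa4b165) (nat_lit 0) (.node .nil (nat_lit 0x905a4f051ef) (nat_lit 0xc42cca)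
  (nat_lit 0) .nil)) (nat_lit 0x905a4f054c9) (nat_lit 0x95a985) (nat_lit 0) (.node (.node .nil (nat_lit
  0x905a4f0573d) (nat_lit 0xc32968) (nat_lit 0) .nil) (nat_lit 0x905a4f0577f) (nat_lit 0xb330a4) (nat_lit 0)
  (.node .nil (nat_lit 0x905a4f057dc) (nat_lit 0x762564) (nat_lit 0) .nil))) (nat_lit 0x905a4f05bbe) (nat_lit
  209253) (nat_lit 0xa7a5a3) (.node (.node (.node .nil (nat_lit 0x905a4f05e70) (nat_lit 0x65312b) (nat_lit 0)
  .nil) (nat_lit 0x905a4f05edb) (nat_lit 0x862966) (nat_lit 0) (.node .nil (nat_lit 0x905a4f05ffd) (nat_lit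
  0xc3a561) (nat_lit 0) .nil)) (nat_lit 0x905a4f061a3) (nat_lit 0x862d46) (nat_lit 0) (.node (.node .nil
  (nat_lit 0x905a4f062f1) (nat_lit 0xb48d84) (nat_lit 0) .nil) (nat_lit 0x905a4f064e7) (nat_lit 0x95a988)
  (nat_lit 0) (.node .nil (nat_lit 0x905a4f0665f) (nat_lit 0x20c2c0c2) (nat_lit 502052) .nil)))) (nat_lit
  0x905a4f06897) (nat_lit 0x549d81) (nat_lit 0) (.node (.node (.node (.node .nil (nat_lit 0x905a4f069f1)
  (nat_lit 331884) (nat_lit 0) .nil) (nat_lit 0x905a4f06d5b) (nat_lit 0x961d25) (nat_lit 0) (.node .nil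
  (nat_lit 0x905a4f06ded) (nat_lit 0x92b147) (nat_lit 0) .nil)) (nat_lit 0x905a4f07096) (nat_lit 0xc52121)
  (nat_lit 0) (.node (.node .nil (nat_lit 0x905a4f07307) (nat_lit 403713) (nat_lit 0) .nil) (nat_lit
  0x905a4f073bc) (nat_lit 206211) (nat_lit 0) (.node .nil (nat_lit 0x905a4f07440) (nat_lit 401505) (nat_lit
  0xa4bd8a) .nil))) (nat_lit 0x905a4f07a2b) (nat_lit 0x849547) (nat_lit 0) (.node (.node (.node .nil (nat_lit
  0x905a4f07aef) (nat_lit 234755) (nat_lit 0) .nil) (nat_lit 0x905a4f07ba2) (nat_lit 0x74a0a2) (nat_lit 17711)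
  (.node .nil (nat_lit 0x905a4f07c28) (nat_lit 269637) (nat_lit 0) .nil)) (nat_lit 0x905a4f07e72) (nat_lit
  142631) (nat_lit 0) (.node (.node .nil (nat_lit 0x905a4f07e95) (nat_lit 0x932968) (nat_lit 0) .nil) (nat_lit
  0x905a4f0815f) (nat_lit 142563) (nat_lit 0) (.node .nil (nat_lit 0x905a4f08348) (nat_lit 0xb51c41) (nat_lit
  0) .nil)))))))
def tT_12 : T := (.node (.node (.node (.node (.node (.node (.node .nil (nat_lit 0x905a4f085c3) (nat_lit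
  0xb49181) (nat_lit 0) .nil) (nat_lit 0x905a4f0876e) (nat_lit 0x55258b) (nat_lit 0) (.node .nil (nat_lit
  0x905a4f08946) (nat_lit 0xc42cc4) (nat_lit 0) .nil)) (nat_lit 0x905a4f08d7b) (nat_lit 0xc5a982) (nat_lit 0)
  (.node (.node .nil (nat_lit 0x905a4f08daa) (nat_lit 0x95a142) (nat_lit 0) .nil) (nat_lit 0x905a4f08e7e)
  (nat_lit 0x95a122) (nat_lit 0) (.node .nil (nat_lit 0x905a4f0913a) (nat_lit 306434) (nat_lit 0) .nil)))
  (nat_lit 0x905a4f09470) (nat_lit 0xb4a0c3) (nat_lit 0) (.node (.node (.node .nil (nat_lit 0x905a4f094a3)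
  (nat_lit 366851) (nat_lit 329) .nil) (nat_lit 0x905a4f09573) (nat_lit 335147) (nat_lit 0) (.node .nil
  (nat_lit 0x905a4f0982f) (nat_lit 334181) (nat_lit 0) .nil)) (nat_lit 0x905a4f099ab) (nat_lit 369772)
  (nat_lit 0) (.node (.node .nil (nat_lit 0x905a4f09c51) (nat_lit 0xc42cc3) (nat_lit 0) .nil) (nat_lit
  0x905a4f09e1f) (nat_lit 0xb48d8a) (nat_lit 0) (.node .nil (nat_lit 0x905a4f09e9a) (nat_lit 0xb2a987)
  (nat_lit 0) .nil)))) (nat_lit 0x905a4f0a2a2) (nat_lit 0x92ad4c) (nat_lit 0) (.node (.node (.node (.node .nil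
  (nat_lit 0x905a4f0a3de) (nat_lit 0x1061e04) (nat_lit 0) .nil) (nat_lit 0x905a4f0a49c) (nat_lit 0x662d25)
  (nat_lit 0) (.node .nil (nat_lit 0x905a4f0a4e9) (nat_lit 0xa62ce5) (nat_lit 0) .nil)) (nat_lit
  0x905a4f0a793) (nat_lit 109868) (nat_lit 0) (.node (.node .nil (nat_lit 0x905a4f0aa61) (nat_lit 0xc5a0c3)
  (nat_lit 0) .nil) (nat_lit 0x905a4f0ac0f) (nat_lit 0x35a58a) (nat_lit 0) (.node .nil (nat_lit 0x905a4f0ac88)
  (nat_lit 0xc52cc5) (nat_lit 0) .nil))) (nat_lit 0x905a4f0b167) (nat_lit 0x4830f0) (nat_lit 0) (.node (.node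
  (.node .nil (nat_lit 0x905a4f0b287) (nat_lit 0xc32d25) (nat_lit 0) .nil) (nat_lit 0x905a4f0b2f6) (nat_lit
  0x1255a981) (nat_lit 0) (.node .nil (nat_lit 0x905a4f0b3a1) (nat_lit 0xa61d65) (nat_lit 0) .nil)) (nat_lit
  0x905a4f0b85e) (nat_lit 0xc49d6a) (nat_lit 0) (.node (.node .nil (nat_lit 0x905a4f0b976) (nat_lit 0xc32d45)
  (nat_lit 0) .nil) (nat_lit 0x905a4f0b9eb) (nat_lit 0x103b201) (nat_lit 0) (.node .nil (nat_lit
  0x905a4f0ba96) (nat_lit 402667) (nat_lit 0) .nil))))) (nat_lit 0x905a4f0bc84) (nat_lit 0x6628ab) (nat_lit 0)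
  (.node (.node (.node (.node (.node .nil (nat_lit 0x905a4f0bd76) (nat_lit 369804) (nat_lit 0) .nil) (nat_lit
  0x905a4f0bf44) (nat_lit 0xb4918a) (nat_lit 0) (.node .nil (nat_lit 0x905a4f0c0f2) (nat_lit 0xc5a0c4)
  (nat_lit 0) .nil)) (nat_lit 0x905a4f0c571) (nat_lit 531856) (nat_lit 0) (.node (.node .nil (nat_lit
  0x905a4f0c6b2) (nat_lit 0xc4acea) (nat_lit 0) .nil) (nat_lit 0x905a4f0c763) (nat_lit 0x662d45) (nat_lit 0)
  (.node .nil (nat_lit 0x905a4f0c7a2) (nat_lit 402791) (nat_lit 0) .nil))) (nat_lit 0x905a4f0cc75) (nat_lit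
  0xa6116a) (nat_lit 0) (.node (.node (.node .nil (nat_lit 0x905a4f0cdd5) (nat_lit 0xa61169) (nat_lit 0) .nil)
  (nat_lit 0x905a4f0ce38) (nat_lit 0xc4aca1) (nat_lit 0) (.node .nil (nat_lit 0x905a4f0cf8e) (nat_lit 340107)
  (nat_lit 0) .nil)) (nat_lit 0x905a4f0d0fd) (nat_lit 401739) (nat_lit 0) (.node (.node .nil (nat_lit
  0x905a4f0d119) (nat_lit 404773) (nat_lit 0) .nil) (nat_lit 0x905a4f0d4b8) (nat_lit 0xc42969) (nat_lit 0)
  (.node .nil (nat_lit 0x905a4f0d62d) (nat_lit 0x562c83) (nat_lit 0xa4bd49) .nil)))) (nat_lit 0x905a4f0d902)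
  (nat_lit 0x962966) (nat_lit 0) (.node (.node (.node (.node .nil (nat_lit 0x905a4f0dc04) (nat_lit 402789)
  (nat_lit 0) .nil) (nat_lit 0x905a4f0dcae) (nat_lit 0xc4aca9) (nat_lit 0) (.node .nil (nat_lit 0x905a4f0dd49)
  (nat_lit 339084) (nat_lit 0) .nil)) (nat_lit 0x905a4f0df0a) (nat_lit 0xc5a4a1) (nat_lit 0) (.node (.node
  .nil (nat_lit 0x905a4f0df34) (nat_lit 0xc42961) (nat_lit 0) .nil) (nat_lit 0x905a4f0e115) (nat_lit
  0x18852d21) (nat_lit 0) (.node .nil (nat_lit 0x905a4f0e415) (nat_lit 0xc2ac83) (nat_lit 0x10525ea) .nil)))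
  (nat_lit 0x905a4f0e5ff) (nat_lit 365962) (nat_lit 0) (.node (.node (.node .nil (nat_lit 0x905a4f0e629)
  (nat_lit 365961) (nat_lit 0) .nil) (nat_lit 0x905a4f0e808) (nat_lit 11436) (nat_lit 0) (.node .nil (nat_lit
  0x905a4f0eb0a) (nat_lit 0xa62561) (nat_lit 0) .nil)) (nat_lit 0x905a4f0ede3) (nat_lit 0xa62d42) (nat_lit
  0x41457e216) (.node (.node .nil (nat_lit 0x905a4f0f061) (nat_lit 0xc4aca4) (nat_lit 0) .nil) (nat_lit
  0x905a4f0f0e7) (nat_lit 340322) (nat_lit 0) (.node .nil (nat_lit 0x905a4f0f193) (nat_lit 0xa62d22) (nat_lit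
  0) .nil)))))) (nat_lit 0x905a4f0f35b) (nat_lit 404649) (nat_lit 0) (.node (.node (.node (.node (.node (.node
  .nil (nat_lit 0x905a4f0f3e8) (nat_lit 404650) (nat_lit 0) .nil) (nat_lit 0x905a4f0f783) (nat_lit 12645)
  (nat_lit 0) (.node .nil (nat_lit 0x905a4f0f8f2) (nat_lit 340267) (nat_lit 0) .nil)) (nat_lit 0x905a4f0fd2c)
  (nat_lit 0x1053209) (nat_lit 0) (.node (.node .nil (nat_lit 0x905a4f0fe8a) (nat_lit 0xc3acc3) (nat_lit
  0x20a7e216) .nil) (nat_lit 0x905a4f0feef) (nat_lit 534928) (nat_lit 0) (.node .nil (nat_lit 0x905a4f10041)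
  (nat_lit 0x462565) (nat_lit 0) .nil))) (nat_lit 0x905a4f10328) (nat_lit 337163) (nat_lit 0) (.node (.node
  (.node .nil (nat_lit 0x905a4f10533) (nat_lit 109767) (nat_lit 0) .nil) (nat_lit 0x905a4f106b2) (nat_lit
  403851) (nat_lit 0) (.node .nil (nat_lit 0x905a4f10757) (nat_lit 300388) (nat_lit 0) .nil)) (nat_lit
  0x905a4f10c23) (nat_lit 0x55a8c9) (nat_lit 0) (.node (.node .nil (nat_lit 0x905a4f10d14) (nat_lit 0x622ca3)
  (nat_lit 0) .nil) (nat_lit 0x905a4f10da7) (nat_lit 208165) (nat_lit 0) (.node .nil (nat_lit 0x905a4f10e4c)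
  (nat_lit 175430) (nat_lit 0) .nil)))) (nat_lit 0x905a4f11032) (nat_lit 402540) (nat_lit 17935) (.node (.node
  (.node (.node .nil (nat_lit 0x905a4f11362) (nat_lit 268385) (nat_lit 0) .nil) (nat_lit 0x905a4f11424)
  (nat_lit 272678) (nat_lit 0) (.node .nil (nat_lit 0x905a4f1156b) (nat_lit 0x652041) (nat_lit 0) .nil))
  (nat_lit 0x905a4f11727) (nat_lit 174145) (nat_lit 0) (.node (.node .nil (nat_lit 0x905a4f119f4) (nat_lit
  5185) (nat_lit 436708) .nil) (nat_lit 0x905a4f11a59) (nat_lit 0x552441) (nat_lit 0) (.node .nil (nat_lit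
  0x905a4f11c5e) (nat_lit 173121) (nat_lit 0) .nil))) (nat_lit 0x905a4f12108) (nat_lit 366819) (nat_lit 0)
  (.node (.node (.node .nil (nat_lit 0x905a4f121fd) (nat_lit 337256) (nat_lit 0) .nil) (nat_lit 0x905a4f12287)
  (nat_lit 0xc53161) (nat_lit 0) (.node .nil (nat_lit 0x905a4f1233a) (nat_lit 173411) (nat_lit 0) .nil))
  (nat_lit 0x905a4f127fd) (nat_lit 0xa32d28) (nat_lit 0) (.node (.node .nil (nat_lit 0x905a4f128ed) (nat_lit
  0xb31483) (nat_lit 0) .nil) (nat_lit 0x905a4f1297e) (nat_lit 302219) (nat_lit 0) (.node .nil (nat_lit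
  0x905a4f12a31) (nat_lit 0x55a8c1) (nat_lit 0) .nil))))) (nat_lit 0x905a4f12c05) (nat_lit 301315) (nat_lit
  17897) (.node (.node (.node (.node (.node .nil (nat_lit 0x905a4f12f3d) (nat_lit 8387) (nat_lit 0) .nil)
  (nat_lit 0x905a4f13002) (nat_lit 301384) (nat_lit 0) (.node .nil (nat_lit 0x905a4f13122) (nat_lit 207106)
  (nat_lit 0) .nil)) (nat_lit 0x905a4f132fc) (nat_lit 5442) (nat_lit 0) (.node (.node .nil (nat_lit
  0x905a4f135ca) (nat_lit 162) (nat_lit 437583) .nil) (nat_lit 0x905a4f13632) (nat_lit 174370) (nat_lit 0)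
  (.node .nil (nat_lit 0x905a4f13819) (nat_lit 5410) (nat_lit 0) .nil))) (nat_lit 0x905a4f13aea) (nat_lit
  10402) (nat_lit 0) (.node (.node (.node .nil (nat_lit 0x905a4f13c9b) (nat_lit 333090) (nat_lit 0) .nil)
  (nat_lit 0x905a4f13e02) (nat_lit 166977) (nat_lit 302574) (.node .nil (nat_lit 0x905a4f13f36) (nat_lit 9380)
  (nat_lit 0) .nil)) (nat_lit 0x905a4f1435a) (nat_lit 173418) (nat_lit 0) (.node (.node .nil (nat_lit
  0x905a4f14399) (nat_lit 11463) (nat_lit 426) .nil) (nat_lit 0x905a4f14556) (nat_lit 370918) (nat_lit 0)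
  (.node .nil (nat_lit 0x905a4f1460c) (nat_lit 5419) (nat_lit 0) .nil)))) (nat_lit 0x905a4f1485b) (nat_lit
  332865) (nat_lit 0) (.node (.node (.node (.node .nil (nat_lit 0x905a4f14a6c) (nat_lit 0xa2a441) (nat_lit 0)
  .nil) (nat_lit 0x905a4f14bea) (nat_lit 5218) (nat_lit 310724) (.node .nil (nat_lit 0x905a4f14d2a) (nat_lit
  300161) (nat_lit 0) .nil)) (nat_lit 0x905a4f15183) (nat_lit 366817) (nat_lit 13635) (.node (.node .nil
  (nat_lit 0x905a4f15247) (nat_lit 0x54ad41) (nat_lit 0) .nil) (nat_lit 0x905a4f15343) (nat_lit 0xb51cc1)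
  (nat_lit 0) (.node .nil (nat_lit 0x905a4f15402) (nat_lit 173409) (nat_lit 0) .nil))) (nat_lit 0x905a4f15876)
  (nat_lit 0x652d09) (nat_lit 0) (.node (.node (.node .nil (nat_lit 0x905a4f15940) (nat_lit 201061) (nat_lit
  0) .nil) (nat_lit 0x905a4f15a3a) (nat_lit 238731) (nat_lit 0) (.node .nil (nat_lit 0x905a4f15af9) (nat_lit
  207208) (nat_lit 0) .nil)) (nat_lit 0x905a4f15d3c) (nat_lit 9416) (nat_lit 378340) (.node (.node .nil
  (nat_lit 0x905a4f160aa) (nat_lit 262) (nat_lit 0) .nil) (nat_lit 0x905a4f160d8) (nat_lit 268617) (nat_lit 0)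
  (.node .nil (nat_lit 0x905a4f1620b) (nat_lit 8394) (nat_lit 0) .nil)))))))
def tT_13 : T := (.node (.node (.node (.node (.node (.node (.node .nil (nat_lit 0x905a4f1679d) (nat_lit 8385)
  (nat_lit 0) .nil) (nat_lit 0x905a4f167ca) (nat_lit 336166) (nat_lit 0) (.node .nil (nat_lit 0x905a4f168f6)
  (nat_lit 268609) (nat_lit 0) .nil)) (nat_lit 0x905a4f16d1f) (nat_lit 366756) (nat_lit 0) (.node (.node .nil
  (nat_lit 0x905a4f16d60) (nat_lit 0x95a8e2) (nat_lit 0) .nil) (nat_lit 0x905a4f16f19) (nat_lit 175398)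
  (nat_lit 0) (.node .nil (nat_lit 0x905a4f16fd3) (nat_lit 207115) (nat_lit 0) .nil))) (nat_lit 0x905a4f171cd)
  (nat_lit 0xa33142) (nat_lit 0) (.node (.node (.node .nil (nat_lit 0x905a4f1753f) (nat_lit 0x74b0c5) (nat_lit
  0) .nil) (nat_lit 0x905a4f17645) (nat_lit 0xa33122) (nat_lit 0) (.node .nil (nat_lit 0x905a4f17696) (nat_lit
  334210) (nat_lit 0) .nil)) (nat_lit 0x905a4f1781c) (nat_lit 0x4624e1) (nat_lit 0) (.node (.node .nil
  (nat_lit 0x905a4f17bd9) (nat_lit 241795) (nat_lit 0) .nil) (nat_lit 0x905a4f17c98) (nat_lit 300364) (nat_lit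
  0) (.node .nil (nat_lit 0x905a4f17d57) (nat_lit 0xc51c41) (nat_lit 0) .nil)))) (nat_lit 0x905a4f17fdb)
  (nat_lit 0xb4b163) (nat_lit 0) (.node (.node (.node (.node .nil (nat_lit 0x905a4f18225) (nat_lit 0xa61942)
  (nat_lit 0) .nil) (nat_lit 0x905a4f18435) (nat_lit 0xa61922) (nat_lit 0) (.node .nil (nat_lit 0x905a4f18486)
  (nat_lit 340162) (nat_lit 0) .nil)) (nat_lit 0x905a4f1855f) (nat_lit 143655) (nat_lit 0) (.node (.node .nil
  (nat_lit 0x905a4f18714) (nat_lit 143587) (nat_lit 0) .nil) (nat_lit 0x905a4f18a42) (nat_lit 0x92a981)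
  (nat_lit 0) (.node .nil (nat_lit 0x905a4f18b32) (nat_lit 403682) (nat_lit 0) .nil))) (nat_lit 0x905a4f18cf5)
  (nat_lit 0x18b39483) (nat_lit 500013) (.node (.node (.node .nil (nat_lit 0x905a4f18d4a) (nat_lit 0x962d48)
  (nat_lit 0) .nil) (nat_lit 0x905a4f19179) (nat_lit 0xa62cc5) (nat_lit 0) (.node .nil (nat_lit 0x905a4f191c5)
  (nat_lit 0x962d03) (nat_lit 0) .nil)) (nat_lit 0x905a4f1940f) (nat_lit 97) (nat_lit 17942) (.node (.node
  .nil (nat_lit 0x905a4f19869) (nat_lit 9313) (nat_lit 411113) .nil) (nat_lit 0x905a4f19884) (nat_lit 10337)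
  (nat_lit 0xc8bdc9) (.node .nil (nat_lit 0x905a4f199ba) (nat_lit 336993) (nat_lit 0xc8bda9) .nil)))))
  (nat_lit 0x905a4f19b04) (nat_lit 0xc8524a1) (nat_lit 572836) (.node (.node (.node (.node (.node .nil
  (nat_lit 0x905a4f19e3f) (nat_lit 0x551901) (nat_lit 0) .nil) (nat_lit 0x905a4f19f76) (nat_lit 0x5424c2)
  (nat_lit 0) (.node .nil (nat_lit 0x905a4f1a0af) (nat_lit 172228) (nat_lit 0) .nil)) (nat_lit 0x905a4f1a2c7)
  (nat_lit 0xa4ace5) (nat_lit 0) (.node (.node .nil (nat_lit 0x905a4f1a5b3) (nat_lit 238859) (nat_lit 0) .nil)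
  (nat_lit 0x905a4f1a63b) (nat_lit 333963) (nat_lit 0) (.node .nil (nat_lit 0x905a4f1a797) (nat_lit 0xb418a4)
  (nat_lit 0) .nil))) (nat_lit 0x905a4f1a832) (nat_lit 302469) (nat_lit 0) (.node (.node (.node .nil (nat_lit
  0x905a4f1a924) (nat_lit 10625) (nat_lit 0) .nil) (nat_lit 0x905a4f1ac66) (nat_lit 340289) (nat_lit
  0x1457e216) (.node .nil (nat_lit 0x905a4f1ad7c) (nat_lit 340257) (nat_lit 0) .nil)) (nat_lit 0x905a4f1b0d1)
  (nat_lit 0x462901) (nat_lit 0) (.node (.node .nil (nat_lit 0x905a4f1b394) (nat_lit 274563) (nat_lit 0) .nil)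
  (nat_lit 0x905a4f1b3a9) (nat_lit 0x9628c4) (nat_lit 0) (.node .nil (nat_lit 0x905a4f1b531) (nat_lit 298374)
  (nat_lit 0) .nil)))) (nat_lit 0x905a4f1b706) (nat_lit 307367) (nat_lit 0) (.node (.node (.node (.node .nil
  (nat_lit 0x905a4f1b714) (nat_lit 332) (nat_lit 0) .nil) (nat_lit 0x905a4f1b901) (nat_lit 10634) (nat_lit
  0xa7e216) (.node .nil (nat_lit 0x905a4f1bac8) (nat_lit 10633) (nat_lit 0) .nil)) (nat_lit 0x905a4f1c131)
  (nat_lit 301164) (nat_lit 0) (.node (.node .nil (nat_lit 0x905a4f1c182) (nat_lit 143619) (nat_lit 0) .nil)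
  (nat_lit 0x905a4f1c1c9) (nat_lit 143688) (nat_lit 0) (.node .nil (nat_lit 0x905a4f1c282) (nat_lit 0xc52502)
  (nat_lit 0) .nil))) (nat_lit 0x905a4f1c495) (nat_lit 0x652125) (nat_lit 17901) (.node (.node (.node .nil
  (nat_lit 0x905a4f1c70f) (nat_lit 334085) (nat_lit 0) .nil) (nat_lit 0x905a4f1c7f8) (nat_lit 300294) (nat_lit
  0) (.node .nil (nat_lit 0x905a4f1ca42) (nat_lit 0x831483) (nat_lit 0) .nil)) (nat_lit 0x905a4f1cb02)
  (nat_lit 402658) (nat_lit 0) (.node (.node .nil (nat_lit 0x905a4f1cbc2) (nat_lit 143687) (nat_lit 0) .nil)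
  (nat_lit 0x905a4f1ccd5) (nat_lit 241761) (nat_lit 0xa7b543) (.node .nil (nat_lit 0x905a4f1cf23) (nat_lit
  0xa2a581) (nat_lit 0) .nil)))))) (nat_lit 0x905a4f1d1f7) (nat_lit 12521) (nat_lit 0) (.node (.node (.node
  (.node (.node (.node .nil (nat_lit 0x905a4f1d2f2) (nat_lit 12522) (nat_lit 0) .nil) (nat_lit 0x905a4f1d3cc)
  (nat_lit 391) (nat_lit 0) (.node .nil (nat_lit 0x905a4f1d725) (nat_lit 400713) (nat_lit 0) .nil)) (nat_lit
  0x905a4f1d8ec) (nat_lit 399688) (nat_lit 0) (.node (.node .nil (nat_lit 0x905a4f1d9dd) (nat_lit 9603)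
  (nat_lit 0) .nil) (nat_lit 0x905a4f1dac3) (nat_lit 307523) (nat_lit 0) (.node .nil (nat_lit 0x905a4f1dec0)
  (nat_lit 399619) (nat_lit 0) .nil))) (nat_lit 0x905a4f1dfe1) (nat_lit 340197) (nat_lit 0) (.node (.node
  (.node .nil (nat_lit 0x905a4f1e0a5) (nat_lit 9602) (nat_lit 0) .nil) (nat_lit 0x905a4f1e1ba) (nat_lit
  307522) (nat_lit 0) (.node .nil (nat_lit 0x905a4f1e5d3) (nat_lit 12550) (nat_lit 0x12f66216) .nil)) (nat_lit
  0x905a4f1e6d4) (nat_lit 0) (nat_lit 0) (.node (.node .nil (nat_lit 0x905a4f1eb5e) (nat_lit 9) (nat_lit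
  0xc3c60f) .nil) (nat_lit 0x905a4f1ebf4) (nat_lit 10) (nat_lit 0x1858bdc9) (.node .nil (nat_lit
  0x905a4f1ed11) (nat_lit 329) (nat_lit 0x1868bda9) .nil)))) (nat_lit 0x905a4f1ee71) (nat_lit 335241) (nat_lit
  0) (.node (.node (.node (.node .nil (nat_lit 0x905a4f1ee90) (nat_lit 335242) (nat_lit 0) .nil) (nat_lit
  0x905a4f1f2ee) (nat_lit 173443) (nat_lit 0) (.node .nil (nat_lit 0x905a4f1f314) (nat_lit 10476) (nat_lit 0)
  .nil)) (nat_lit 0x905a4f1f658) (nat_lit 302210) (nat_lit 0) (.node (.node .nil (nat_lit 0x905a4f1f7c9)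
  (nat_lit 233570) (nat_lit 343332) .nil) (nat_lit 0x905a4f1f903) (nat_lit 335138) (nat_lit 0) (.node .nil
  (nat_lit 0x905a4f1fb01) (nat_lit 10466) (nat_lit 0) .nil))) (nat_lit 0x905a4f1fd4d) (nat_lit 0xc53041)
  (nat_lit 0x117b924) (.node (.node (.node .nil (nat_lit 0x905a4f1fdc6) (nat_lit 0xa62981) (nat_lit 0) .nil)
  (nat_lit 0x905a4f20040) (nat_lit 0xa5a50b) (nat_lit 0) (.node .nil (nat_lit 0x905a4f201f6) (nat_lit
  0xb4a162) (nat_lit 0) .nil)) (nat_lit 0x905a4f20352) (nat_lit 398564) (nat_lit 0) (.node (.node .nil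
  (nat_lit 0x905a4f20373) (nat_lit 337284) (nat_lit 0) .nil) (nat_lit 0x905a4f20764) (nat_lit 0xc514e1)
  (nat_lit 0) (.node .nil (nat_lit 0x905a4f207f5) (nat_lit 0xc49ca1) (nat_lit 0) .nil))))) (nat_lit
  0x905a4f20a64) (nat_lit 0x831c83) (nat_lit 0) (.node (.node (.node (.node (.node .nil (nat_lit
  0x905a4f20c62) (nat_lit 269638) (nat_lit 0) .nil) (nat_lit 0x905a4f20dbc) (nat_lit 0x849cc1) (nat_lit 0)
  (.node .nil (nat_lit 0x905a4f2100a) (nat_lit 0x932907) (nat_lit 0x191725e3) .nil)) (nat_lit 0x905a4f2115b)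
  (nat_lit 337063) (nat_lit 0xb8bda4) (.node (.node .nil (nat_lit 0x905a4f21359) (nat_lit 7337) (nat_lit 0)
  .nil) (nat_lit 0x905a4f215a4) (nat_lit 7338) (nat_lit 0) (.node .nil (nat_lit 0x905a4f216fc) (nat_lit 229)
  (nat_lit 0) .nil))) (nat_lit 0x905a4f21832) (nat_lit 171308) (nat_lit 0) (.node (.node (.node .nil (nat_lit
  0x905a4f21986) (nat_lit 332161) (nat_lit 0) .nil) (nat_lit 0x905a4f21ce3) (nat_lit 0xa23141) (nat_lit 0)
  (.node .nil (nat_lit 0x905a4f21d64) (nat_lit 0xa23121) (nat_lit 0) .nil)) (nat_lit 0x905a4f21f27) (nat_lit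
  403617) (nat_lit 0) (.node (.node .nil (nat_lit 0x905a4f223b6) (nat_lit 12451) (nat_lit 0) .nil) (nat_lit
  0x905a4f223da) (nat_lit 0xc51521) (nat_lit 0) (.node .nil (nat_lit 0x905a4f22468) (nat_lit 398627) (nat_lit
  0) .nil)))) (nat_lit 0x905a4f225a7) (nat_lit 403723) (nat_lit 0) (.node (.node (.node (.node .nil (nat_lit
  0x905a4f22647) (nat_lit 0xc2ad24) (nat_lit 0) .nil) (nat_lit 0x905a4f227d4) (nat_lit 0xc5a925) (nat_lit 0)
  (.node .nil (nat_lit 0x905a4f227e6) (nat_lit 398692) (nat_lit 0) .nil)) (nat_lit 0x905a4f22c77) (nat_lit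
  0xb2b123) (nat_lit 0) (.node (.node .nil (nat_lit 0x905a4f22d43) (nat_lit 404805) (nat_lit 0) .nil) (nat_lit
  0x905a4f22dd9) (nat_lit 365955) (nat_lit 0) (.node .nil (nat_lit 0x905a4f22e5c) (nat_lit 0xc5a8a9) (nat_lit
  0) .nil))) (nat_lit 0x905a4f2366a) (nat_lit 366981) (nat_lit 0xa7a5a4) (.node (.node (.node .nil (nat_lit
  0x905a4f23709) (nat_lit 0x76256a) (nat_lit 0) .nil) (nat_lit 0x905a4f23810) (nat_lit 0x753165) (nat_lit 0)
  (.node .nil (nat_lit 0x905a4f23954) (nat_lit 241963) (nat_lit 0) .nil)) (nat_lit 0x905a4f23b08) (nat_lit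
  0xb3a985) (nat_lit 0) (.node (.node .nil (nat_lit 0x905a4f23c4e) (nat_lit 0xb4b083) (nat_lit 0) .nil)
  (nat_lit 0x905a4f23dfd) (nat_lit 0xa2a58b) (nat_lit 0) (.node .nil (nat_lit 0x905a4f23fa3) (nat_lit
  0x102b206) (nat_lit 15689) .nil)))))))
def tT_14 : T := (.node (.node (.node (.node (.node (.node (.node .nil (nat_lit 0x905a4f2461c) (nat_lit
  0xc42966) (nat_lit 0) .nil) (nat_lit 0x905a4f246a9) (nat_lit 404677) (nat_lit 0xa7a12d) (.node .nil (nat_lit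
  0x905a4f24771) (nat_lit 0x762561) (nat_lit 0) .nil)) (nat_lit 0x905a4f248d8) (nat_lit 0x75a985) (nat_lit 0)
  (.node (.node .nil (nat_lit 0x905a4f24a3b) (nat_lit 0x45a583) (nat_lit 0) .nil) (nat_lit 0x905a4f24c01)
  (nat_lit 0x1454b161) (nat_lit 0) (.node .nil (nat_lit 0x905a4f24d6b) (nat_lit 0x1061606) (nat_lit 16874)
  .nil))) (nat_lit 0x905a4f24f50) (nat_lit 370049) (nat_lit 0) (.node (.node (.node .nil (nat_lit
  0x905a4f252f8) (nat_lit 369030) (nat_lit 0) .nil) (nat_lit 0x905a4f253f5) (nat_lit 0xb4b141) (nat_lit 0)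
  (.node .nil (nat_lit 0x905a4f2550e) (nat_lit 0xb51d85) (nat_lit 0) .nil)) (nat_lit 0x905a4f25a52) (nat_lit
  0xc32ca4) (nat_lit 0) (.node (.node .nil (nat_lit 0x905a4f25afb) (nat_lit 0xc3a564) (nat_lit 0) .nil)
  (nat_lit 0x905a4f25b88) (nat_lit 0xc4ad47) (nat_lit 0) (.node .nil (nat_lit 0x905a4f25c4e) (nat_lit
  0xc5a8c5) (nat_lit 0) .nil)))) (nat_lit 0x905a4f25f2f) (nat_lit 0x5530eb) (nat_lit 0) (.node (.node (.node
  (.node .nil (nat_lit 0x905a4f26031) (nat_lit 0x1895a8e1) (nat_lit 0) .nil) (nat_lit 0x905a4f26192) (nat_lit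
  0x662ca4) (nat_lit 0) (.node .nil (nat_lit 0x905a4f261d5) (nat_lit 0xb2b126) (nat_lit 0) .nil)) (nat_lit
  0x905a4f264c9) (nat_lit 11564) (nat_lit 0) (.node (.node .nil (nat_lit 0x905a4f267c0) (nat_lit 274790)
  (nat_lit 0) .nil) (nat_lit 0x905a4f26966) (nat_lit 370058) (nat_lit 0) (.node .nil (nat_lit 0x905a4f269ee)
  (nat_lit 0xc2a966) (nat_lit 0) .nil))) (nat_lit 0x905a4f26c38) (nat_lit 333093) (nat_lit 0x1858bda9) (.node
  (.node (.node .nil (nat_lit 0x905a4f26cb6) (nat_lit 16528) (nat_lit 549398) .nil) (nat_lit 0x905a4f26f5f)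
  (nat_lit 6470) (nat_lit 0x1ac345e9) (.node .nil (nat_lit 0x905a4f27023) (nat_lit 5413) (nat_lit 0xc345e9)
  .nil)) (nat_lit 0x905a4f27327) (nat_lit 6312) (nat_lit 0) (.node (.node .nil (nat_lit 0x905a4f273ad)
  (nat_lit 0xa4a0c5) (nat_lit 280045) .nil) (nat_lit 0x905a4f27627) (nat_lit 207109) (nat_lit 0) (.node .nil
  (nat_lit 0x905a4f27654) (nat_lit 173318) (nat_lit 0) .nil))))) (nat_lit 0x905a4f2792b) (nat_lit 0xc52561)
  (nat_lit 0) (.node (.node (.node (.node (.node .nil (nat_lit 0x905a4f279ec) (nat_lit 0xb53145) (nat_lit 0)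
  .nil) (nat_lit 0x905a4f27db2) (nat_lit 175436) (nat_lit 0) (.node .nil (nat_lit 0x905a4f27ec1) (nat_lit
  0x75a584) (nat_lit 0) .nil)) (nat_lit 0x905a4f2809d) (nat_lit 0x54b0e1) (nat_lit 0) (.node (.node .nil
  (nat_lit 0x905a4f281f2) (nat_lit 332163) (nat_lit 0) .nil) (nat_lit 0x905a4f28541) (nat_lit 0xa23143)
  (nat_lit 0) (.node .nil (nat_lit 0x905a4f285ed) (nat_lit 0xa23123) (nat_lit 0) .nil))) (nat_lit
  0x905a4f288f1) (nat_lit 274755) (nat_lit 0) (.node (.node (.node .nil (nat_lit 0x905a4f28ada) (nat_lit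
  307526) (nat_lit 0) .nil) (nat_lit 0x905a4f28bb9) (nat_lit 274723) (nat_lit 0) (.node .nil (nat_lit
  0x905a4f28c55) (nat_lit 8579) (nat_lit 337386) .nil)) (nat_lit 0x905a4f2903a) (nat_lit 205932) (nat_lit 0)
  (.node (.node .nil (nat_lit 0x905a4f290d8) (nat_lit 274529) (nat_lit 0xa4bd43) .nil) (nat_lit 0x905a4f291ce)
  (nat_lit 0x9628c1) (nat_lit 0) (.node .nil (nat_lit 0x905a4f293f4) (nat_lit 403714) (nat_lit 0) .nil))))
  (nat_lit 0x905a4f294d8) (nat_lit 173447) (nat_lit 0) (.node (.node (.node (.node .nil (nat_lit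
  0x905a4f296d0) (nat_lit 331140) (nat_lit 0) .nil) (nat_lit 0x905a4f29987) (nat_lit 0xa1b144) (nat_lit 0)
  (.node .nil (nat_lit 0x905a4f29ace) (nat_lit 0xa1b124) (nat_lit 0) .nil)) (nat_lit 0x905a4f29be8) (nat_lit
  204963) (nat_lit 0) (.node (.node .nil (nat_lit 0x905a4f29cf7) (nat_lit 0xc51d89) (nat_lit 0x58bda3) .nil)
  (nat_lit 0x905a4f29e97) (nat_lit 403692) (nat_lit 0) (.node .nil (nat_lit 0x905a4f2a00f) (nat_lit 0x649502)
  (nat_lit 0) .nil))) (nat_lit 0x905a4f2a45f) (nat_lit 335206) (nat_lit 0) (.node (.node (.node .nil (nat_lit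
  0x905a4f2a68f) (nat_lit 0xa3acca) (nat_lit 8493) .nil) (nat_lit 0x905a4f2a6a0) (nat_lit 0x95a902) (nat_lit
  0) (.node .nil (nat_lit 0x905a4f2a8f5) (nat_lit 0x95a062) (nat_lit 0) .nil)) (nat_lit 0x905a4f2ab56)
  (nat_lit 369926) (nat_lit 0) (.node (.node .nil (nat_lit 0x905a4f2ad86) (nat_lit 337255) (nat_lit 0) .nil)
  (nat_lit 0x905a4f2ad9d) (nat_lit 11464) (nat_lit 0) (.node .nil (nat_lit 0x905a4f2afec) (nat_lit 174438)
  (nat_lit 0) .nil)))))) (nat_lit 0x905a4f2b0e0) (nat_lit 337026) (nat_lit 0x1cc2c5e9) (.node (.node (.node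
  (.node (.node (.node .nil (nat_lit 0x905a4f2b1da) (nat_lit 130) (nat_lit 418326) .nil) (nat_lit
  0x905a4f2b378) (nat_lit 9346) (nat_lit 0xc2c5e9) (.node .nil (nat_lit 0x905a4f2b4f0) (nat_lit 10370)
  (nat_lit 0x1868bdc9) .nil)) (nat_lit 0x905a4f2b8c3) (nat_lit 0xa3a4c8) (nat_lit 0x1878bda3) (.node (.node
  .nil (nat_lit 0x905a4f2b93c) (nat_lit 268515) (nat_lit 0) .nil) (nat_lit 0x905a4f2bb6e) (nat_lit 301319)
  (nat_lit 0) (.node .nil (nat_lit 0x905a4f2bcd8) (nat_lit 336102) (nat_lit 0) .nil))) (nat_lit 0x905a4f2bec7)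
  (nat_lit 404807) (nat_lit 0) (.node (.node (.node .nil (nat_lit 0x905a4f2bf55) (nat_lit 0xc5a4e4) (nat_lit
  0) .nil) (nat_lit 0x905a4f2c31a) (nat_lit 0xc59c83) (nat_lit 0) (.node .nil (nat_lit 0x905a4f2c406) (nat_lit
  0xc5a8e9) (nat_lit 0) .nil)) (nat_lit 0x905a4f2c59c) (nat_lit 0x74b0a2) (nat_lit 0) (.node (.node .nil
  (nat_lit 0x905a4f2c65e) (nat_lit 10627) (nat_lit 0) .nil) (nat_lit 0x905a4f2c747) (nat_lit 340291) (nat_lit
  0) (.node .nil (nat_lit 0x905a4f2c7a1) (nat_lit 340259) (nat_lit 0) .nil)))) (nat_lit 0x905a4f2cc8e)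
  (nat_lit 12617) (nat_lit 0) (.node (.node (.node (.node .nil (nat_lit 0x905a4f2ce86) (nat_lit 12) (nat_lit
  516630) .nil) (nat_lit 0x905a4f2cef7) (nat_lit 393) (nat_lit 0) (.node .nil (nat_lit 0x905a4f2d1cc) (nat_lit
  394) (nat_lit 0) .nil)) (nat_lit 0x905a4f2d497) (nat_lit 0x35a924) (nat_lit 0) (.node (.node .nil (nat_lit
  0x905a4f2d51a) (nat_lit 3428) (nat_lit 0) .nil) (nat_lit 0x905a4f2d73f) (nat_lit 109860) (nat_lit 0) (.node
  .nil (nat_lit 0x905a4f2d793) (nat_lit 109892) (nat_lit 0) .nil))) (nat_lit 0x905a4f2dc95) (nat_lit 369892)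
  (nat_lit 0) (.node (.node (.node .nil (nat_lit 0x905a4f2df11) (nat_lit 367747) (nat_lit 0) .nil) (nat_lit
  0x905a4f2df15) (nat_lit 370921) (nat_lit 0) (.node .nil (nat_lit 0x905a4f2e0a7) (nat_lit 11591) (nat_lit 0)
  .nil)) (nat_lit 0x905a4f2e5b2) (nat_lit 0x552507) (nat_lit 0) (.node (.node .nil (nat_lit 0x905a4f2e676)
  (nat_lit 172259) (nat_lit 0) .nil) (nat_lit 0x905a4f2e727) (nat_lit 238853) (nat_lit 17891) (.node .nil
  (nat_lit 0x905a4f2e7bb) (nat_lit 403846) (nat_lit 0) .nil))))) (nat_lit 0x905a4f2ea04) (nat_lit 206181)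
  (nat_lit 0) (.node (.node (.node (.node (.node .nil (nat_lit 0x905a4f2eabd) (nat_lit 240771) (nat_lit 0)
  .nil) (nat_lit 0x905a4f2ece9) (nat_lit 0xb51d21) (nat_lit 0) (.node .nil (nat_lit 0x905a4f2eecd) (nat_lit
  370913) (nat_lit 0) .nil)) (nat_lit 0x905a4f2f0ab) (nat_lit 0xa424e5) (nat_lit 0) (.node (.node .nil
  (nat_lit 0x905a4f2f467) (nat_lit 267491) (nat_lit 0) .nil) (nat_lit 0x905a4f2f512) (nat_lit 267559) (nat_lit
  559) (.node .nil (nat_lit 0x905a4f2f5a5) (nat_lit 403660) (nat_lit 0) .nil))) (nat_lit 0x905a4f2fa20)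
  (nat_lit 400742) (nat_lit 0) (.node (.node (.node .nil (nat_lit 0x905a4f2fb41) (nat_lit 339052) (nat_lit 0)
  .nil) (nat_lit 0x905a4f2fb8d) (nat_lit 0xc2a562) (nat_lit 0) (.node .nil (nat_lit 0x905a4f2fb99) (nat_lit
  0xa58d89) (nat_lit 0) .nil)) (nat_lit 0x905a4f2fe8b) (nat_lit 368006) (nat_lit 0) (.node (.node .nil
  (nat_lit 0x905a4f30236) (nat_lit 340075) (nat_lit 0) .nil) (nat_lit 0x905a4f30282) (nat_lit 398635) (nat_lit
  0) (.node .nil (nat_lit 0x905a4f302a3) (nat_lit 0xa60d69) (nat_lit 0) .nil)))) (nat_lit 0x905a4f3050b)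
  (nat_lit 0xc2ad43) (nat_lit 0) (.node (.node (.node (.node .nil (nat_lit 0x905a4f30522) (nat_lit 0xc2ad23)
  (nat_lit 0) .nil) (nat_lit 0x905a4f308b4) (nat_lit 398691) (nat_lit 0) (.node .nil (nat_lit 0x905a4f308eb)
  (nat_lit 0xa1b12b) (nat_lit 0) .nil)) (nat_lit 0x905a4f30c02) (nat_lit 0xc5a8a1) (nat_lit 0) (.node (.node
  .nil (nat_lit 0x905a4f30c1b) (nat_lit 0xc59523) (nat_lit 0) .nil) (nat_lit 0x905a4f30fa9) (nat_lit 404643)
  (nat_lit 0) (.node .nil (nat_lit 0x905a4f31099) (nat_lit 0xa62563) (nat_lit 0) .nil))) (nat_lit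
  0x905a4f312f5) (nat_lit 0xc5a4a3) (nat_lit 0) (.node (.node (.node .nil (nat_lit 0x905a4f31310) (nat_lit
  403816) (nat_lit 0) .nil) (nat_lit 0x905a4f316a3) (nat_lit 0xc52d09) (nat_lit 0) (.node .nil (nat_lit
  0x905a4f3178e) (nat_lit 176484) (nat_lit 0) .nil)) (nat_lit 0x905a4f319ec) (nat_lit 0xb2b124) (nat_lit 0)
  (.node (.node .nil (nat_lit 0x905a4f31a01) (nat_lit 0xc52d02) (nat_lit 0) .nil) (nat_lit 0x905a4f31d98)
  (nat_lit 0xa2312b) (nat_lit 0) (.node .nil (nat_lit 0x905a4f31dcc) (nat_lit 365956) (nat_lit 0) .nil)))))))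
def tT_15 : T := (.node (.node (.node (.node (.node (.node (.node .nil (nat_lit 0x905a4f32446) (nat_lit
  0x95a987) (nat_lit 0) .nil) (nat_lit 0x905a4f324fb) (nat_lit 0xc4aca3) (nat_lit 0) (.node .nil (nat_lit
  0x905a4f3261c) (nat_lit 0xa59183) (nat_lit 0) .nil)) (nat_lit 0x905a4f32ad9) (nat_lit 0xc4ad45) (nat_lit 0)
  (.node (.node .nil (nat_lit 0x905a4f32bf4) (nat_lit 0xc48d65) (nat_lit 0) .nil) (nat_lit 0x905a4f32c32)
  (nat_lit 0xa61163) (nat_lit 0) (.node .nil (nat_lit 0x905a4f32c50) (nat_lit 0xc3acc4) (nat_lit 0) .nil)))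
  (nat_lit 0x905a4f32f44) (nat_lit 0x86292b) (nat_lit 0) (.node (.node (.node .nil (nat_lit 0x905a4f332e9)
  (nat_lit 0xc2a564) (nat_lit 0) .nil) (nat_lit 0x905a4f33327) (nat_lit 0xa23163) (nat_lit 0) (.node .nil
  (nat_lit 0x905a4f3335e) (nat_lit 0xb3b0c4) (nat_lit 0) .nil)) (nat_lit 0x905a4f337a5) (nat_lit 0xc5a981)
  (nat_lit 0) (.node (.node .nil (nat_lit 0x905a4f338ca) (nat_lit 303465) (nat_lit 0) .nil) (nat_lit
  0x905a4f33925) (nat_lit 303466) (nat_lit 0) (.node .nil (nat_lit 0x905a4f33b65) (nat_lit 9483) (nat_lit 0)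
  .nil)))) (nat_lit 0x905a4f33e9c) (nat_lit 0xa59cc3) (nat_lit 0) (.node (.node (.node (.node .nil (nat_lit
  0x905a4f33f58) (nat_lit 0x942d22) (nat_lit 0) .nil) (nat_lit 0x905a4f3401c) (nat_lit 0x942d42) (nat_lit 0)
  (.node .nil (nat_lit 0x905a4f34251) (nat_lit 303458) (nat_lit 0) .nil)) (nat_lit 0x905a4f34802) (nat_lit
  337154) (nat_lit 0) (.node (.node .nil (nat_lit 0x905a4f3480d) (nat_lit 266338) (nat_lit 0xd53d24) .nil)
  (nat_lit 0x905a4f3487a) (nat_lit 336002) (nat_lit 0) (.node .nil (nat_lit 0x905a4f34915) (nat_lit 303202)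
  (nat_lit 0) .nil))) (nat_lit 0x905a4f34bdd) (nat_lit 8323) (nat_lit 537935) (.node (.node (.node .nil
  (nat_lit 0x905a4f34ef4) (nat_lit 10536) (nat_lit 0) .nil) (nat_lit 0x905a4f34f66) (nat_lit 10500) (nat_lit
  0) (.node .nil (nat_lit 0x905a4f35054) (nat_lit 9475) (nat_lit 0) .nil)) (nat_lit 0x905a4f352d4) (nat_lit
  337093) (nat_lit 0) (.node (.node .nil (nat_lit 0x905a4f354c8) (nat_lit 531972) (nat_lit 11599) .nil)
  (nat_lit 0x905a4f3565b) (nat_lit 6437) (nat_lit 0) (.node .nil (nat_lit 0x905a4f35749) (nat_lit 5446)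
  (nat_lit 0) .nil))))) (nat_lit 0x905a4f35b89) (nat_lit 0x629061) (nat_lit 335) (.node (.node (.node (.node
  (.node .nil (nat_lit 0x905a4f35cff) (nat_lit 0xa498a2) (nat_lit 0) .nil) (nat_lit 0x905a4f35d5d) (nat_lit
  205986) (nat_lit 0) (.node .nil (nat_lit 0x905a4f35df6) (nat_lit 174274) (nat_lit 0) .nil)) (nat_lit
  0x905a4f36166) (nat_lit 0x859923) (nat_lit 0) (.node (.node .nil (nat_lit 0x905a4f3628f) (nat_lit 0x93a964)
  (nat_lit 0) .nil) (nat_lit 0x905a4f362e2) (nat_lit 273603) (nat_lit 10532) (.node .nil (nat_lit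
  0x905a4f3652a) (nat_lit 0xa598a1) (nat_lit 0) .nil))) (nat_lit 0x905a4f36861) (nat_lit 0x832d23) (nat_lit 0)
  (.node (.node (.node .nil (nat_lit 0x905a4f3691b) (nat_lit 0xa3a561) (nat_lit 0) .nil) (nat_lit
  0x905a4f369d9) (nat_lit 268643) (nat_lit 522) (.node .nil (nat_lit 0x905a4f36c13) (nat_lit 0xa32ca1)
  (nat_lit 0) .nil)) (nat_lit 0x905a4f36d90) (nat_lit 209224) (nat_lit 0) (.node (.node .nil (nat_lit
  0x905a4f36d9d) (nat_lit 307297) (nat_lit 0) .nil) (nat_lit 0x905a4f371f9) (nat_lit 0x962861) (nat_lit 0)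
  (.node .nil (nat_lit 0x905a4f37279) (nat_lit 274627) (nat_lit 0) .nil)))) (nat_lit 0x905a4f3746f) (nat_lit
  174471) (nat_lit 0) (.node (.node (.node (.node .nil (nat_lit 0x905a4f37494) (nat_lit 9324) (nat_lit 0)
  .nil) (nat_lit 0x905a4f3784d) (nat_lit 298378) (nat_lit 0) (.node .nil (nat_lit 0x905a4f37970) (nat_lit
  110792) (nat_lit 0) .nil)) (nat_lit 0x905a4f37d9b) (nat_lit 0x753109) (nat_lit 0) (.node (.node .nil
  (nat_lit 0x905a4f37e96) (nat_lit 0xc31483) (nat_lit 0) .nil) (nat_lit 0x905a4f37f70) (nat_lit 0x6624a2)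
  (nat_lit 0) (.node .nil (nat_lit 0x905a4f3808d) (nat_lit 240008) (nat_lit 0) .nil))) (nat_lit 0x905a4f38338)
  (nat_lit 0xa49d86) (nat_lit 0) (.node (.node (.node .nil (nat_lit 0x905a4f383da) (nat_lit 0x4618a3) (nat_lit
  0) .nil) (nat_lit 0x905a4f3866d) (nat_lit 209189) (nat_lit 0) (.node .nil (nat_lit 0x905a4f38782) (nat_lit
  176454) (nat_lit 0) .nil)) (nat_lit 0x905a4f389db) (nat_lit 337164) (nat_lit 0) (.node (.node .nil (nat_lit
  0x905a4f38a34) (nat_lit 0xa628c3) (nat_lit 0) .nil) (nat_lit 0x905a4f38d62) (nat_lit 207235) (nat_lit 0)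
  (.node .nil (nat_lit 0x905a4f38e7f) (nat_lit 0x861d25) (nat_lit 0) .nil)))))) (nat_lit 0x905a4f39377)
  (nat_lit 0xa4b101) (nat_lit 0) (.node (.node (.node (.node (.node (.node .nil (nat_lit 0x905a4f393fa)
  (nat_lit 0xa33144) (nat_lit 0) .nil) (nat_lit 0x905a4f39457) (nat_lit 334212) (nat_lit 0) (.node .nil
  (nat_lit 0x905a4f39576) (nat_lit 0x63a585) (nat_lit 0) .nil)) (nat_lit 0x905a4f39740) (nat_lit 7561)
  (nat_lit 0) (.node (.node .nil (nat_lit 0x905a4f39763) (nat_lit 7562) (nat_lit 0) .nil) (nat_lit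
  0x905a4f39b1c) (nat_lit 236) (nat_lit 0) (.node .nil (nat_lit 0x905a4f39b9a) (nat_lit 241993) (nat_lit 0)
  .nil))) (nat_lit 0x905a4f39e47) (nat_lit 400673) (nat_lit 0) (.node (.node (.node .nil (nat_lit
  0x905a4f39e5a) (nat_lit 400705) (nat_lit 0) .nil) (nat_lit 0x905a4f3a28d) (nat_lit 174380) (nat_lit 0)
  (.node .nil (nat_lit 0x905a4f3a2b4) (nat_lit 12513) (nat_lit 0) .nil)) (nat_lit 0x905a4f3a658) (nat_lit
  0x732585) (nat_lit 0) (.node (.node .nil (nat_lit 0x905a4f3a8a4) (nat_lit 340262) (nat_lit 0) .nil) (nat_lit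
  0x905a4f3a941) (nat_lit 332166) (nat_lit 0) (.node .nil (nat_lit 0x905a4f3a998) (nat_lit 0xa230ca) (nat_lit
  0) .nil)))) (nat_lit 0x905a4f3ad4d) (nat_lit 0xc424e5) (nat_lit 0) (.node (.node (.node (.node .nil (nat_lit
  0x905a4f3afbc) (nat_lit 303436) (nat_lit 0) .nil) (nat_lit 0x905a4f3b016) (nat_lit 0x653041) (nat_lit 0)
  (.node .nil (nat_lit 0x905a4f3b0bd) (nat_lit 0x861ca4) (nat_lit 15684) .nil)) (nat_lit 0x905a4f3b30b)
  (nat_lit 241987) (nat_lit 0) (.node (.node .nil (nat_lit 0x905a4f3b31c) (nat_lit 241955) (nat_lit 0) .nil)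
  (nat_lit 0x905a4f3b669) (nat_lit 333100) (nat_lit 0) (.node .nil (nat_lit 0x905a4f3b79e) (nat_lit 7555)
  (nat_lit 343466) .nil))) (nat_lit 0x905a4f3b9d2) (nat_lit 402657) (nat_lit 0) (.node (.node (.node .nil
  (nat_lit 0x905a4f3ba02) (nat_lit 0xc3a861) (nat_lit 0) .nil) (nat_lit 0x905a4f3bce9) (nat_lit 0xc49d41)
  (nat_lit 0) (.node .nil (nat_lit 0x905a4f3bde2) (nat_lit 400481) (nat_lit 0xa7b58a) .nil)) (nat_lit
  0x905a4f3c282) (nat_lit 6476) (nat_lit 0) (.node (.node .nil (nat_lit 0x905a4f3c3c5) (nat_lit 207241)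
  (nat_lit 0) .nil) (nat_lit 0x905a4f3c4b1) (nat_lit 340294) (nat_lit 490) (.node .nil (nat_lit 0x905a4f3c63b)
  (nat_lit 0x8624e5) (nat_lit 0) .nil))))) (nat_lit 0x905a4f3c9d7) (nat_lit 0xa628c2) (nat_lit 15754) (.node
  (.node (.node (.node (.node .nil (nat_lit 0x905a4f3cb2a) (nat_lit 207234) (nat_lit 0) .nil) (nat_lit
  0x905a4f3cb92) (nat_lit 0x942981) (nat_lit 0) (.node .nil (nat_lit 0x905a4f3cd32) (nat_lit 0x64b0e5)
  (nat_lit 0) .nil)) (nat_lit 0x905a4f3d0cc) (nat_lit 0x83a989) (nat_lit 0) (.node (.node .nil (nat_lit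
  0x905a4f3d221) (nat_lit 0x54b101) (nat_lit 0) .nil) (nat_lit 0x905a4f3d299) (nat_lit 399524) (nat_lit 0)
  (.node .nil (nat_lit 0x905a4f3d42d) (nat_lit 269644) (nat_lit 0) .nil))) (nat_lit 0x905a4f3d695) (nat_lit
  398630) (nat_lit 0) (.node (.node (.node .nil (nat_lit 0x905a4f3d8a6) (nat_lit 143557) (nat_lit 0) .nil)
  (nat_lit 0x905a4f3d994) (nat_lit 0xc32925) (nat_lit 0) (.node .nil (nat_lit 0x905a4f3db24) (nat_lit 403653)
  (nat_lit 0) .nil)) (nat_lit 0x905a4f3dc0c) (nat_lit 335237) (nat_lit 0) (.node (.node .nil (nat_lit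
  0x905a4f3dccd) (nat_lit 9601) (nat_lit 0) .nil) (nat_lit 0x905a4f3e0b1) (nat_lit 307521) (nat_lit 0) (.node
  .nil (nat_lit 0x905a4f3e1f7) (nat_lit 8582) (nat_lit 0x1257e216) .nil)))) (nat_lit 0x905a4f3e3c4) (nat_lit
  307265) (nat_lit 0) (.node (.node (.node (.node .nil (nat_lit 0x905a4f3e3d3) (nat_lit 0xa61ca1) (nat_lit 0)
  .nil) (nat_lit 0x905a4f3e85b) (nat_lit 0x962841) (nat_lit 0) (.node .nil (nat_lit 0x905a4f3e8ee) (nat_lit
  401601) (nat_lit 0x12f5e216) .nil)) (nat_lit 0x905a4f3ebf2) (nat_lit 0x83a981) (nat_lit 0) (.node (.node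
  .nil (nat_lit 0x905a4f3ee6f) (nat_lit 209060) (nat_lit 0) .nil) (nat_lit 0x905a4f3eeb5) (nat_lit 173448)
  (nat_lit 0) (.node .nil (nat_lit 0x905a4f3ef5c) (nat_lit 0xa3a586) (nat_lit 0) .nil))) (nat_lit
  0x905a4f3f2be) (nat_lit 0x941963) (nat_lit 0) (.node (.node (.node .nil (nat_lit 0x905a4f3f47b) (nat_lit
  0xa5a4e1) (nat_lit 0) .nil) (nat_lit 0x905a4f3f4c6) (nat_lit 0x859ca3) (nat_lit 323) (.node .nil (nat_lit
  0x905a4f3f730) (nat_lit 335203) (nat_lit 0) .nil)) (nat_lit 0x905a4f3f978) (nat_lit 234789) (nat_lit 0)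
  (.node (.node .nil (nat_lit 0x905a4f3fc1b) (nat_lit 0xa3a441) (nat_lit 0) .nil) (nat_lit 0x905a4f3fc47)
  (nat_lit 528903) (nat_lit 343209) (.node .nil (nat_lit 0x905a4f3fe3a) (nat_lit 334913) (nat_lit 0)
  .nil)))))))
def tT_16 : T := (.node (.node (.node (.node (.node (.node (.node .nil (nat_lit 0x905a4f40312) (nat_lit
  335137) (nat_lit 0) .nil) (nat_lit 0x905a4f4033e) (nat_lit 233569) (nat_lit 10729) (.node .nil (nat_lit
  0x905a4f4052f) (nat_lit 10465) (nat_lit 0) .nil)) (nat_lit 0x905a4f40984) (nat_lit 0xb414e3) (nat_lit 394)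
  (.node (.node .nil (nat_lit 0x905a4f40a57) (nat_lit 0xa5a4e2) (nat_lit 0) .nil) (nat_lit 0x905a4f40b5d)
  (nat_lit 0x95a0c3) (nat_lit 0) (.node .nil (nat_lit 0x905a4f40c0f) (nat_lit 0x752c81) (nat_lit 0) .nil)))
  (nat_lit 0x905a4f4109c) (nat_lit 0xb41ca3) (nat_lit 10) (.node (.node (.node .nil (nat_lit 0x905a4f4114e)
  (nat_lit 339239) (nat_lit 0) .nil) (nat_lit 0x905a4f411b3) (nat_lit 0x959903) (nat_lit 0) (.node .nil
  (nat_lit 0x905a4f4130e) (nat_lit 339171) (nat_lit 0) .nil)) (nat_lit 0x905a4f41791) (nat_lit 174441)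
  (nat_lit 0) (.node (.node .nil (nat_lit 0x905a4f41828) (nat_lit 273539) (nat_lit 0) .nil) (nat_lit
  0x905a4f418a8) (nat_lit 5451) (nat_lit 0) (.node .nil (nat_lit 0x905a4f41a05) (nat_lit 109864) (nat_lit 0)
  .nil)))) (nat_lit 0x905a4f41e67) (nat_lit 0x552d22) (nat_lit 0) (.node (.node (.node (.node .nil (nat_lit
  0x905a4f41f1d) (nat_lit 142595) (nat_lit 0) .nil) (nat_lit 0x905a4f42042) (nat_lit 174434) (nat_lit 0)
  (.node .nil (nat_lit 0x905a4f420f0) (nat_lit 0x35a502) (nat_lit 0) .nil)) (nat_lit 0x905a4f422c8) (nat_lit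
  12620) (nat_lit 0x58bdc9) (.node (.node .nil (nat_lit 0x905a4f425dd) (nat_lit 403850) (nat_lit 0) .nil)
  (nat_lit 0x905a4f42645) (nat_lit 403849) (nat_lit 0) (.node .nil (nat_lit 0x905a4f427fc) (nat_lit 370024)
  (nat_lit 0) .nil))) (nat_lit 0x905a4f42a31) (nat_lit 403842) (nat_lit 0xb8bdc4) (.node (.node (.node .nil
  (nat_lit 0x905a4f42cd4) (nat_lit 340300) (nat_lit 0) .nil) (nat_lit 0x905a4f42d3c) (nat_lit 0xc53122)
  (nat_lit 0) (.node .nil (nat_lit 0x905a4f42ef7) (nat_lit 0xb4ad02) (nat_lit 0) .nil)) (nat_lit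
  0x905a4f431f6) (nat_lit 174433) (nat_lit 0) (.node (.node .nil (nat_lit 0x905a4f43320) (nat_lit 368771)
  (nat_lit 0) .nil) (nat_lit 0x905a4f43367) (nat_lit 370984) (nat_lit 0) (.node .nil (nat_lit 0x905a4f435d5)
  (nat_lit 369923) (nat_lit 0) .nil))))) (nat_lit 0x905a4f43a3a) (nat_lit 6380) (nat_lit 0) (.node (.node
  (.node (.node (.node .nil (nat_lit 0x905a4f43b69) (nat_lit 204170) (nat_lit 0) .nil) (nat_lit 0x905a4f43c3f)
  (nat_lit 0x853125) (nat_lit 0) (.node .nil (nat_lit 0x905a4f43c7f) (nat_lit 204169) (nat_lit 0) .nil))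
  (nat_lit 0x905a4f44133) (nat_lit 0x862921) (nat_lit 0) (.node (.node .nil (nat_lit 0x905a4f4425e) (nat_lit
  274721) (nat_lit 0) .nil) (nat_lit 0x905a4f44344) (nat_lit 8577) (nat_lit 0) (.node .nil (nat_lit
  0x905a4f4437c) (nat_lit 274753) (nat_lit 0) .nil))) (nat_lit 0x905a4f445bd) (nat_lit 274761) (nat_lit 0)
  (.node (.node (.node .nil (nat_lit 0x905a4f4488b) (nat_lit 8586) (nat_lit 0) .nil) (nat_lit 0x905a4f4495b)
  (nat_lit 8585) (nat_lit 0) (.node .nil (nat_lit 0x905a4f44a36) (nat_lit 268) (nat_lit 0) .nil)) (nat_lit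
  0x905a4f44cb4) (nat_lit 12518) (nat_lit 0) (.node (.node .nil (nat_lit 0x905a4f44f84) (nat_lit 400585)
  (nat_lit 0) .nil) (nat_lit 0x905a4f45054) (nat_lit 403655) (nat_lit 0) (.node .nil (nat_lit 0x905a4f45125)
  (nat_lit 0x943147) (nat_lit 0) .nil)))) (nat_lit 0x905a4f4545b) (nat_lit 209129) (nat_lit 0) (.node (.node
  (.node (.node .nil (nat_lit 0x905a4f4563e) (nat_lit 6535) (nat_lit 0) .nil) (nat_lit 0x905a4f45749) (nat_lit
  209130) (nat_lit 0) (.node .nil (nat_lit 0x905a4f4581c) (nat_lit 0x932985) (nat_lit 0) .nil)) (nat_lit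
  0x905a4f45b54) (nat_lit 401729) (nat_lit 0) (.node (.node .nil (nat_lit 0x905a4f45d35) (nat_lit 206218)
  (nat_lit 0) .nil) (nat_lit 0x905a4f45e3e) (nat_lit 6444) (nat_lit 0) (.node .nil (nat_lit 0x905a4f45f17)
  (nat_lit 12545) (nat_lit 0) .nil))) (nat_lit 0x905a4f460fa) (nat_lit 0x72a581) (nat_lit 0) (.node (.node
  (.node .nil (nat_lit 0x905a4f4623f) (nat_lit 10628) (nat_lit 0) .nil) (nat_lit 0x905a4f46588) (nat_lit
  340292) (nat_lit 0) (.node .nil (nat_lit 0x905a4f4661e) (nat_lit 340260) (nat_lit 0) .nil)) (nat_lit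
  0x905a4f467ed) (nat_lit 403618) (nat_lit 0) (.node (.node .nil (nat_lit 0x905a4f46c6f) (nat_lit 3461)
  (nat_lit 0) .nil) (nat_lit 0x905a4f46c7d) (nat_lit 0x93a981) (nat_lit 0) (.node .nil (nat_lit 0x905a4f46d25)
  (nat_lit 402596) (nat_lit 0) .nil)))))) (nat_lit 0x905a4f46ee4) (nat_lit 12613) (nat_lit 0) (.node (.node
  (.node (.node (.node (.node .nil (nat_lit 0x905a4f4700c) (nat_lit 403625) (nat_lit 0) .nil) (nat_lit
  0x905a4f47368) (nat_lit 5507) (nat_lit 0) (.node .nil (nat_lit 0x905a4f47414) (nat_lit 176419) (nat_lit 0)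
  .nil)) (nat_lit 0x905a4f475db) (nat_lit 0x53a581) (nat_lit 0) (.node (.node .nil (nat_lit 0x905a4f47703)
  (nat_lit 332170) (nat_lit 0) .nil) (nat_lit 0x905a4f47724) (nat_lit 10380) (nat_lit 0) (.node .nil (nat_lit
  0x905a4f47aff) (nat_lit 332169) (nat_lit 0) .nil))) (nat_lit 0x905a4f47d43) (nat_lit 273609) (nat_lit 0)
  (.node (.node (.node .nil (nat_lit 0x905a4f47f93) (nat_lit 8550) (nat_lit 0) .nil) (nat_lit 0x905a4f4802e)
  (nat_lit 0xa49d62) (nat_lit 0) (.node .nil (nat_lit 0x905a4f4824d) (nat_lit 273610) (nat_lit 0) .nil))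
  (nat_lit 0x905a4f48737) (nat_lit 6308) (nat_lit 10543) (.node (.node .nil (nat_lit 0x905a4f4882b) (nat_lit
  0x6524a2) (nat_lit 0) .nil) (nat_lit 0x905a4f488cb) (nat_lit 173250) (nat_lit 0) (.node .nil (nat_lit
  0x905a4f48957) (nat_lit 333986) (nat_lit 0) .nil)))) (nat_lit 0x905a4f48bc0) (nat_lit 207141) (nat_lit 0)
  (.node (.node (.node (.node .nil (nat_lit 0x905a4f48c16) (nat_lit 201858) (nat_lit 403759) .nil) (nat_lit
  0x905a4f48fc2) (nat_lit 5414) (nat_lit 0) (.node .nil (nat_lit 0x905a4f49056) (nat_lit 10437) (nat_lit 0)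
  .nil)) (nat_lit 0x905a4f492af) (nat_lit 8321) (nat_lit 310729) (.node (.node .nil (nat_lit 0x905a4f495a3)
  (nat_lit 303425) (nat_lit 0) .nil) (nat_lit 0x905a4f496bc) (nat_lit 272513) (nat_lit 0) (.node .nil (nat_lit
  0x905a4f4974f) (nat_lit 9473) (nat_lit 0) .nil))) (nat_lit 0x905a4f49beb) (nat_lit 266305) (nat_lit
  0x97b8a9) (.node (.node (.node .nil (nat_lit 0x905a4f49c9a) (nat_lit 0x942841) (nat_lit 0) .nil) (nat_lit
  0x905a4f49db1) (nat_lit 371045) (nat_lit 0) (.node .nil (nat_lit 0x905a4f49e38) (nat_lit 303169) (nat_lit 0)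
  .nil)) (nat_lit 0x905a4f4a012) (nat_lit 0xa598e1) (nat_lit 0) (.node (.node .nil (nat_lit 0x905a4f4a260)
  (nat_lit 0x95a901) (nat_lit 0) .nil) (nat_lit 0x905a4f4a2ff) (nat_lit 0x942d23) (nat_lit 9635) (.node .nil
  (nat_lit 0x905a4f4a51c) (nat_lit 303459) (nat_lit 0) .nil))))) (nat_lit 0x905a4f4a77c) (nat_lit 339174)
  (nat_lit 0) (.node (.node (.node (.node (.node .nil (nat_lit 0x905a4f4a992) (nat_lit 0x752d46) (nat_lit
  9636) .nil) (nat_lit 0x905a4f4a9be) (nat_lit 0xa59cc9) (nat_lit 0) (.node .nil (nat_lit 0x905a4f4ac5d)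
  (nat_lit 0x942c62) (nat_lit 0) .nil)) (nat_lit 0x905a4f4ad9f) (nat_lit 340065) (nat_lit 0) (.node (.node
  .nil (nat_lit 0x905a4f4adba) (nat_lit 0x749582) (nat_lit 0) .nil) (nat_lit 0x905a4f4b13c) (nat_lit 0xa62861)
  (nat_lit 0) (.node .nil (nat_lit 0x905a4f4b1d2) (nat_lit 0xa62461) (nat_lit 0) .nil))) (nat_lit
  0x905a4f4b3d1) (nat_lit 238764) (nat_lit 0) (.node (.node (.node .nil (nat_lit 0x905a4f4b496) (nat_lit
  10348) (nat_lit 0) .nil) (nat_lit 0x905a4f4b831) (nat_lit 331146) (nat_lit 0) (.node .nil (nat_lit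
  0x905a4f4b886) (nat_lit 331145) (nat_lit 0) .nil)) (nat_lit 0x905a4f4bc23) (nat_lit 8332) (nat_lit 0) (.node
  (.node .nil (nat_lit 0x905a4f4bc35) (nat_lit 266634) (nat_lit 0) .nil) (nat_lit 0x905a4f4bf4c) (nat_lit
  301450) (nat_lit 0) (.node .nil (nat_lit 0x905a4f4c0df) (nat_lit 9420) (nat_lit 0) .nil)))) (nat_lit
  0x905a4f4c372) (nat_lit 0x933142) (nat_lit 0) (.node (.node (.node (.node .nil (nat_lit 0x905a4f4c5b8)
  (nat_lit 274756) (nat_lit 0) .nil) (nat_lit 0x905a4f4c5bf) (nat_lit 8580) (nat_lit 0) (.node .nil (nat_lit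
  0x905a4f4c7d6) (nat_lit 301442) (nat_lit 0) .nil)) (nat_lit 0x905a4f4ca7f) (nat_lit 0xb51989) (nat_lit 0)
  (.node (.node .nil (nat_lit 0x905a4f4cd73) (nat_lit 306284) (nat_lit 0) .nil) (nat_lit 0x905a4f4cea8)
  (nat_lit 0x958d89) (nat_lit 0) (.node .nil (nat_lit 0x905a4f4cec3) (nat_lit 370892) (nat_lit 0) .nil)))
  (nat_lit 0x905a4f4d298) (nat_lit 0xc52d27) (nat_lit 0) (.node (.node (.node .nil (nat_lit 0x905a4f4d44f)
  (nat_lit 307307) (nat_lit 0) .nil) (nat_lit 0x905a4f4d59d) (nat_lit 0x960d69) (nat_lit 0) (.node .nil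
  (nat_lit 0x905a4f4d5ba) (nat_lit 0xb51982) (nat_lit 0) .nil)) (nat_lit 0x905a4f4d755) (nat_lit 0xc22d27)
  (nat_lit 0) (.node (.node .nil (nat_lit 0x905a4f4d776) (nat_lit 0xa61963) (nat_lit 0) .nil) (nat_lit
  0x905a4f4d8f6) (nat_lit 0xb3b083) (nat_lit 0) (.node .nil (nat_lit 0x905a4f4dbef) (nat_lit 0x91b14b)
  (nat_lit 0) .nil)))))))
def tT_17 : T := (.node (.node (.node (.node (.node (.node (.node .nil (nat_lit 0x905a4f4e052) (nat_lit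
  337121) (nat_lit 0) .nil) (nat_lit 0x905a4f4e130) (nat_lit 7297) (nat_lit 337385) (.node .nil (nat_lit
  0x905a4f4e3ff) (nat_lit 334945) (nat_lit 0) .nil)) (nat_lit 0x905a4f4e559) (nat_lit 0xc59d24) (nat_lit 0)
  (.node (.node .nil (nat_lit 0x905a4f4e573) (nat_lit 339148) (nat_lit 0) .nil) (nat_lit 0x905a4f4e8db)
  (nat_lit 404708) (nat_lit 0) (.node .nil (nat_lit 0x905a4f4ea51) (nat_lit 0x962961) (nat_lit 0) .nil)))
  (nat_lit 0x905a4f4ed1f) (nat_lit 7460) (nat_lit 0) (.node (.node (.node .nil (nat_lit 0x905a4f4ef44)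
  (nat_lit 228) (nat_lit 534831) .nil) (nat_lit 0x905a4f4efc5) (nat_lit 10535) (nat_lit 0) (.node .nil
  (nat_lit 0x905a4f4f1e0) (nat_lit 10467) (nat_lit 0) .nil)) (nat_lit 0x905a4f4f27b) (nat_lit 340326) (nat_lit
  0) (.node (.node .nil (nat_lit 0x905a4f4f348) (nat_lit 0xc3ad24) (nat_lit 0) .nil) (nat_lit 0x905a4f4f6cb)
  (nat_lit 400740) (nat_lit 0) (.node .nil (nat_lit 0x905a4f4f839) (nat_lit 307531) (nat_lit 0) .nil))))
  (nat_lit 0x905a4f4fa3d) (nat_lit 0xb3b124) (nat_lit 0) (.node (.node (.node (.node .nil (nat_lit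
  0x905a4f4fa40) (nat_lit 340171) (nat_lit 0) .nil) (nat_lit 0x905a4f4fc2f) (nat_lit 368004) (nat_lit 0)
  (.node .nil (nat_lit 0x905a4f4ff30) (nat_lit 0x962962) (nat_lit 0) .nil)) (nat_lit 0x905a4f501f4) (nat_lit
  238722) (nat_lit 0) (.node (.node .nil (nat_lit 0x905a4f5045b) (nat_lit 7298) (nat_lit 0xa4bd24) .nil)
  (nat_lit 0x905a4f504a8) (nat_lit 337122) (nat_lit 0) (.node .nil (nat_lit 0x905a4f506d0) (nat_lit 334946)
  (nat_lit 0) .nil))) (nat_lit 0x905a4f50b83) (nat_lit 368807) (nat_lit 0) (.node (.node (.node .nil (nat_lit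
  0x905a4f50bf8) (nat_lit 0xa59d22) (nat_lit 0) .nil) (nat_lit 0x905a4f50ced) (nat_lit 306438) (nat_lit 0)
  (.node .nil (nat_lit 0x905a4f50d9f) (nat_lit 339170) (nat_lit 0) .nil)) (nat_lit 0x905a4f5100f) (nat_lit
  533904) (nat_lit 0) (.node (.node .nil (nat_lit 0x905a4f512d5) (nat_lit 0x104b20a) (nat_lit 0) .nil)
  (nat_lit 0x905a4f513c7) (nat_lit 0xc52ce2) (nat_lit 0) (.node .nil (nat_lit 0x905a4f51426) (nat_lit
  0x862ce5) (nat_lit 0x2097e216) .nil))))) (nat_lit 0x905a4f51a18) (nat_lit 9611) (nat_lit 0) (.node (.node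
  (.node (.node (.node .nil (nat_lit 0x905a4f51a23) (nat_lit 307562) (nat_lit 0) .nil) (nat_lit 0x905a4f51b16)
  (nat_lit 307561) (nat_lit 0x25f15e216) (.node .nil (nat_lit 0x905a4f51b42) (nat_lit 403691) (nat_lit 0)
  .nil)) (nat_lit 0x905a4f51d80) (nat_lit 273637) (nat_lit 0) (.node (.node .nil (nat_lit 0x905a4f51fd2)
  (nat_lit 335209) (nat_lit 0) .nil) (nat_lit 0x905a4f5212c) (nat_lit 303307) (nat_lit 0) (.node .nil (nat_lit
  0x905a4f5227e) (nat_lit 10475) (nat_lit 0) .nil))) (nat_lit 0x905a4f5273b) (nat_lit 273575) (nat_lit 0)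
  (.node (.node (.node .nil (nat_lit 0x905a4f527cc) (nat_lit 0xa3ad22) (nat_lit 0) .nil) (nat_lit
  0x905a4f528c6) (nat_lit 303462) (nat_lit 0) (.node .nil (nat_lit 0x905a4f5297f) (nat_lit 335202) (nat_lit 0)
  .nil)) (nat_lit 0x905a4f52ed6) (nat_lit 307554) (nat_lit 0) (.node (.node .nil (nat_lit 0x905a4f52f1c)
  (nat_lit 0x962d42) (nat_lit 0) .nil) (nat_lit 0x905a4f52ff7) (nat_lit 0x962d22) (nat_lit 0x41257e216) (.node
  .nil (nat_lit 0x905a4f53023) (nat_lit 0xc51d62) (nat_lit 0) .nil)))) (nat_lit 0x905a4f53526) (nat_lit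
  0xa59521) (nat_lit 0) (.node (.node (.node (.node .nil (nat_lit 0x905a4f53589) (nat_lit 8331) (nat_lit 0)
  .nil) (nat_lit 0x905a4f536af) (nat_lit 339105) (nat_lit 0) (.node .nil (nat_lit 0x905a4f5376a) (nat_lit
  369922) (nat_lit 0) .nil)) (nat_lit 0x905a4f53966) (nat_lit 369930) (nat_lit 0) (.node (.node .nil (nat_lit
  0x905a4f53bab) (nat_lit 11524) (nat_lit 0) .nil) (nat_lit 0x905a4f53d05) (nat_lit 333153) (nat_lit 0) (.node
  .nil (nat_lit 0x905a4f53e57) (nat_lit 11560) (nat_lit 0) .nil))) (nat_lit 0x905a4f5409b) (nat_lit 403564)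
  (nat_lit 573934) (.node (.node (.node .nil (nat_lit 0x905a4f5434f) (nat_lit 0x1039a01) (nat_lit 0) .nil)
  (nat_lit 0x905a4f5441f) (nat_lit 0xc50d89) (nat_lit 0) (.node .nil (nat_lit 0x905a4f54575) (nat_lit
  0x749905) (nat_lit 0) .nil)) (nat_lit 0x905a4f5479c) (nat_lit 0xc53061) (nat_lit 0x11829ee) (.node (.node
  .nil (nat_lit 0x905a4f54a46) (nat_lit 0x1031e01) (nat_lit 0) .nil) (nat_lit 0x905a4f54b18) (nat_lit
  0x18a62461) (nat_lit 0) (.node .nil (nat_lit 0x905a4f54c5f) (nat_lit 0xb4a163) (nat_lit 0) .nil))))))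
  (nat_lit 0x905a4f54ef2) (nat_lit 4456) (nat_lit 0) (.node (.node (.node (.node (.node (.node .nil (nat_lit
  0x905a4f55120) (nat_lit 339113) (nat_lit 0) .nil) (nat_lit 0x905a4f55288) (nat_lit 10597) (nat_lit 0) (.node
  .nil (nat_lit 0x905a4f5533c) (nat_lit 142601) (nat_lit 0) .nil)) (nat_lit 0x905a4f555ff) (nat_lit 403843)
  (nat_lit 0x1153dc9) (.node (.node .nil (nat_lit 0x905a4f556a9) (nat_lit 530672) (nat_lit 0) .nil) (nat_lit
  0x905a4f558fe) (nat_lit 0xc53123) (nat_lit 0) (.node .nil (nat_lit 0x905a4f55a56) (nat_lit 0xb4ad03)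
  (nat_lit 0) .nil))) (nat_lit 0x905a4f55ca5) (nat_lit 0xb32981) (nat_lit 0) (.node (.node (.node .nil
  (nat_lit 0x905a4f55de6) (nat_lit 0x962d24) (nat_lit 0) .nil) (nat_lit 0x905a4f56004) (nat_lit 0x962d44)
  (nat_lit 0) (.node .nil (nat_lit 0x905a4f56058) (nat_lit 307556) (nat_lit 0) .nil)) (nat_lit 0x905a4f565fa)
  (nat_lit 401764) (nat_lit 0) (.node (.node .nil (nat_lit 0x905a4f56694) (nat_lit 403627) (nat_lit 0) .nil)
  (nat_lit 0x905a4f56738) (nat_lit 0xc51569) (nat_lit 0) (.node .nil (nat_lit 0x905a4f567eb) (nat_lit 369868)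
  (nat_lit 0) .nil)))) (nat_lit 0x905a4f56d87) (nat_lit 404745) (nat_lit 0) (.node (.node (.node (.node .nil
  (nat_lit 0x905a4f56e2d) (nat_lit 12648) (nat_lit 0) .nil) (nat_lit 0x905a4f56ebb) (nat_lit 0xc5a149)
  (nat_lit 0) (.node .nil (nat_lit 0x905a4f56ed8) (nat_lit 404746) (nat_lit 0) .nil)) (nat_lit 0x905a4f57082)
  (nat_lit 332929) (nat_lit 0) (.node (.node .nil (nat_lit 0x905a4f570e0) (nat_lit 300097) (nat_lit 0) .nil)
  (nat_lit 0x905a4f5735e) (nat_lit 0x92a841) (nat_lit 0) (.node .nil (nat_lit 0x905a4f57404) (nat_lit 5251)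
  (nat_lit 343492) .nil))) (nat_lit 0x905a4f57779) (nat_lit 8486) (nat_lit 181737) (.node (.node (.node .nil
  (nat_lit 0x905a4f577d3) (nat_lit 336065) (nat_lit 0) .nil) (nat_lit 0x905a4f57b03) (nat_lit 271562) (nat_lit
  0) (.node .nil (nat_lit 0x905a4f57bcc) (nat_lit 6404) (nat_lit 0) .nil)) (nat_lit 0x905a4f57fab) (nat_lit
  0x16a4b101) (nat_lit 0) (.node (.node .nil (nat_lit 0x905a4f58269) (nat_lit 0xc3a961) (nat_lit 0) .nil)
  (nat_lit 0x905a4f58310) (nat_lit 0x14b530e1) (nat_lit 0) (.node .nil (nat_lit 0x905a4f58323) (nat_lit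
  0x961163) (nat_lit 0) .nil))))) (nat_lit 0x905a4f58531) (nat_lit 174209) (nat_lit 0) (.node (.node (.node
  (.node (.node .nil (nat_lit 0x905a4f58593) (nat_lit 173185) (nat_lit 0) .nil) (nat_lit 0x905a4f58667)
  (nat_lit 0xa49441) (nat_lit 0) (.node .nil (nat_lit 0x905a4f588e5) (nat_lit 5249) (nat_lit 15812) .nil))
  (nat_lit 0x905a4f58cb1) (nat_lit 240962) (nat_lit 0) (.node (.node .nil (nat_lit 0x905a4f58d27) (nat_lit
  240930) (nat_lit 0) .nil) (nat_lit 0x905a4f59010) (nat_lit 0x75a922) (nat_lit 0) (.node .nil (nat_lit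
  0x905a4f5909d) (nat_lit 7522) (nat_lit 0) .nil))) (nat_lit 0x905a4f596e3) (nat_lit 0xc32927) (nat_lit 0)
  (.node (.node (.node .nil (nat_lit 0x905a4f59748) (nat_lit 238984) (nat_lit 0) .nil) (nat_lit 0x905a4f597e7)
  (nat_lit 241860) (nat_lit 0) (.node .nil (nat_lit 0x905a4f59879) (nat_lit 340136) (nat_lit 0) .nil))
  (nat_lit 0x905a4f59a35) (nat_lit 173450) (nat_lit 0) (.node (.node .nil (nat_lit 0x905a4f59a83) (nat_lit
  399621) (nat_lit 15786) .nil) (nat_lit 0x905a4f59b5e) (nat_lit 335235) (nat_lit 0) (.node .nil (nat_lit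
  0x905a4f59b61) (nat_lit 5420) (nat_lit 0) .nil)))) (nat_lit 0x905a4f5a12c) (nat_lit 0xa624e1) (nat_lit 0)
  (.node (.node (.node (.node .nil (nat_lit 0x905a4f5a17a) (nat_lit 401605) (nat_lit 505226) .nil) (nat_lit
  0x905a4f5a5bb) (nat_lit 0xa61c61) (nat_lit 0) (.node .nil (nat_lit 0x905a4f5a5c7) (nat_lit 173442) (nat_lit
  0) .nil)) (nat_lit 0x905a4f5a823) (nat_lit 0xc39483) (nat_lit 0) (.node (.node .nil (nat_lit 0x905a4f5a865)
  (nat_lit 0xa49183) (nat_lit 0) .nil) (nat_lit 0x905a4f5acb2) (nat_lit 241957) (nat_lit 0) (.node .nil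
  (nat_lit 0x905a4f5acbe) (nat_lit 0x653101) (nat_lit 0) .nil))) (nat_lit 0x905a4f5af1a) (nat_lit 0xc29c83)
  (nat_lit 0) (.node (.node (.node .nil (nat_lit 0x905a4f5af5c) (nat_lit 0xa4b083) (nat_lit 0) .nil) (nat_lit
  0x905a4f5b041) (nat_lit 0xc3a4a1) (nat_lit 0) (.node .nil (nat_lit 0x905a4f5b0d3) (nat_lit 398663) (nat_lit
  0) .nil)) (nat_lit 0x905a4f5b589) (nat_lit 404775) (nat_lit 0) (.node (.node .nil (nat_lit 0x905a4f5b62a)
  (nat_lit 0x653162) (nat_lit 0) .nil) (nat_lit 0x905a4f5b9aa) (nat_lit 0xc5a4ea) (nat_lit 0) (.node .nil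
  (nat_lit 0x905a4f5bb20) (nat_lit 404707) (nat_lit 503119) .nil)))))))
def tT_18 : T := (.node (.node (.node (.node (.node (.node (.node .nil (nat_lit 0x905a4f5bd29) (nat_lit
  0xc5a4e2) (nat_lit 0) .nil) (nat_lit 0x905a4f5bf14) (nat_lit 0x653169) (nat_lit 0) (.node .nil (nat_lit
  0x905a4f5c215) (nat_lit 242019) (nat_lit 15695) .nil)) (nat_lit 0x905a4f5c823) (nat_lit 208204) (nat_lit 0)
  (.node (.node .nil (nat_lit 0x905a4f5c82c) (nat_lit 0x961169) (nat_lit 0) .nil) (nat_lit 0x905a4f5c876)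
  (nat_lit 0x65a989) (nat_lit 0) (.node .nil (nat_lit 0x905a4f5c949) (nat_lit 307339) (nat_lit 0) .nil)))
  (nat_lit 0x905a4f5cc47) (nat_lit 0xb32989) (nat_lit 0) (.node (.node (.node .nil (nat_lit 0x905a4f5cef3)
  (nat_lit 366924) (nat_lit 0) .nil) (nat_lit 0x905a4f5cf37) (nat_lit 0x1061a05) (nat_lit 0) (.node .nil
  (nat_lit 0x905a4f5d040) (nat_lit 299403) (nat_lit 0) .nil)) (nat_lit 0x905a4f5d204) (nat_lit 0xc3ad43)
  (nat_lit 0) (.node (.node .nil (nat_lit 0x905a4f5d21e) (nat_lit 0xc5a4e1) (nat_lit 0) .nil) (nat_lit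
  0x905a4f5d586) (nat_lit 0x18b49d41) (nat_lit 0) (.node .nil (nat_lit 0x905a4f5d6f4) (nat_lit 400739)
  (nat_lit 502244) .nil)))) (nat_lit 0x905a4f5d8ba) (nat_lit 0x862561) (nat_lit 0) (.node (.node (.node (.node
  .nil (nat_lit 0x905a4f5da17) (nat_lit 371076) (nat_lit 0) .nil) (nat_lit 0x905a4f5dc17) (nat_lit 0xb53124)
  (nat_lit 0) (.node .nil (nat_lit 0x905a4f5dd99) (nat_lit 0xb53144) (nat_lit 0) .nil)) (nat_lit
  0x905a4f5e212) (nat_lit 12555) (nat_lit 0) (.node (.node .nil (nat_lit 0x905a4f5e3c8) (nat_lit 401769)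
  (nat_lit 0) .nil) (nat_lit 0x905a4f5e518) (nat_lit 0xc42d49) (nat_lit 0) (.node .nil (nat_lit 0x905a4f5e532)
  (nat_lit 401770) (nat_lit 0) .nil))) (nat_lit 0x905a4f5e7e5) (nat_lit 11532) (nat_lit 0) (.node (.node
  (.node .nil (nat_lit 0x905a4f5ead2) (nat_lit 369033) (nat_lit 0) .nil) (nat_lit 0x905a4f5ec0d) (nat_lit
  0xb43149) (nat_lit 0) (.node .nil (nat_lit 0x905a4f5ec27) (nat_lit 369034) (nat_lit 0) .nil)) (nat_lit
  0x905a4f5edb7) (nat_lit 206219) (nat_lit 0) (.node (.node .nil (nat_lit 0x905a4f5eefe) (nat_lit 0xb51181)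
  (nat_lit 0) .nil) (nat_lit 0x905a4f5f0a9) (nat_lit 0xc52565) (nat_lit 0) (.node .nil (nat_lit 0x905a4f5f276)
  (nat_lit 0xa62964) (nat_lit 0) .nil))))) (nat_lit 0x905a4f5f4ae) (nat_lit 274731) (nat_lit 0) (.node (.node
  (.node (.node (.node .nil (nat_lit 0x905a4f5f5f1) (nat_lit 142668) (nat_lit 0) .nil) (nat_lit 0x905a4f5f7ed)
  (nat_lit 0x45a989) (nat_lit 0) (.node .nil (nat_lit 0x905a4f5f96d) (nat_lit 0x962d26) (nat_lit 0) .nil))
  (nat_lit 0x905a4f5fba1) (nat_lit 370796) (nat_lit 0) (.node (.node .nil (nat_lit 0x905a4f5fee9) (nat_lit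
  0xa62963) (nat_lit 0) .nil) (nat_lit 0x905a4f6006c) (nat_lit 0xb50d89) (nat_lit 0) (.node .nil (nat_lit
  0x905a4f600c7) (nat_lit 0x962cc3) (nat_lit 0) .nil))) (nat_lit 0x905a4f60298) (nat_lit 0xb53061) (nat_lit 0)
  (.node (.node (.node .nil (nat_lit 0x905a4f6058a) (nat_lit 0xa1b14b) (nat_lit 0) .nil) (nat_lit
  0x905a4f60763) (nat_lit 0x16a62461) (nat_lit 0) (.node .nil (nat_lit 0x905a4f607bc) (nat_lit 0x961963)
  (nat_lit 0) .nil)) (nat_lit 0x905a4f60b52) (nat_lit 0x18a59521) (nat_lit 0) (.node (.node .nil (nat_lit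
  0x905a4f60cb3) (nat_lit 274788) (nat_lit 0) .nil) (nat_lit 0x905a4f60da7) (nat_lit 0xc52ca1) (nat_lit 0)
  (.node .nil (nat_lit 0x905a4f60ef8) (nat_lit 0xb4b0c2) (nat_lit 0) .nil)))) (nat_lit 0x905a4f612cd) (nat_lit
  0xb4b0ca) (nat_lit 0) (.node (.node (.node (.node .nil (nat_lit 0x905a4f61402) (nat_lit 404740) (nat_lit 0)
  .nil) (nat_lit 0x905a4f61483) (nat_lit 0xc51561) (nat_lit 0) (.node .nil (nat_lit 0x905a4f615ed) (nat_lit
  370054) (nat_lit 0) .nil)) (nat_lit 0x905a4f616e2) (nat_lit 109900) (nat_lit 0) (.node (.node .nil (nat_lit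
  0x905a4f61abe) (nat_lit 0x35a98a) (nat_lit 0) .nil) (nat_lit 0x905a4f61c40) (nat_lit 0x35a989) (nat_lit 0)
  (.node .nil (nat_lit 0x905a4f61c9d) (nat_lit 0x959983) (nat_lit 0) .nil))) (nat_lit 0x905a4f61e80) (nat_lit
  242026) (nat_lit 0) (.node (.node (.node .nil (nat_lit 0x905a4f61ea1) (nat_lit 242025) (nat_lit 0) .nil)
  (nat_lit 0x905a4f61f2f) (nat_lit 0x762d49) (nat_lit 0) (.node .nil (nat_lit 0x905a4f62318) (nat_lit 7563)
  (nat_lit 0) .nil)) (nat_lit 0x905a4f627af) (nat_lit 0xa5a987) (nat_lit 0) (.node (.node .nil (nat_lit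
  0x905a4f6288b) (nat_lit 0xb52588) (nat_lit 0) .nil) (nat_lit 0x905a4f62964) (nat_lit 400715) (nat_lit 0)
  (.node .nil (nat_lit 0x905a4f62acd) (nat_lit 0x959183) (nat_lit 0) .nil)))))) (nat_lit 0x905a4f62e20)
  (nat_lit 0x18a5a8e1) (nat_lit 0) (.node (.node (.node (.node (.node (.node .nil (nat_lit 0x905a4f62fda)
  (nat_lit 0xb53126) (nat_lit 0) .nil) (nat_lit 0x905a4f6306e) (nat_lit 0x762961) (nat_lit 0) (.node .nil
  (nat_lit 0x905a4f631c4) (nat_lit 0x962c83) (nat_lit 0) .nil)) (nat_lit 0x905a4f63341) (nat_lit 400745)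
  (nat_lit 0) (.node (.node .nil (nat_lit 0x905a4f63364) (nat_lit 400746) (nat_lit 0) .nil) (nat_lit
  0x905a4f63722) (nat_lit 0x962964) (nat_lit 0) (.node .nil (nat_lit 0x905a4f63811) (nat_lit 12523) (nat_lit
  0) .nil))) (nat_lit 0x905a4f639c5) (nat_lit 368009) (nat_lit 0) (.node (.node (.node .nil (nat_lit
  0x905a4f63a53) (nat_lit 368010) (nat_lit 0) .nil) (nat_lit 0x905a4f63e17) (nat_lit 0xa62d26) (nat_lit 0)
  (.node .nil (nat_lit 0x905a4f63e4f) (nat_lit 11500) (nat_lit 0) .nil)) (nat_lit 0x905a4f64160) (nat_lit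
  176420) (nat_lit 0) (.node (.node .nil (nat_lit 0x905a4f64170) (nat_lit 176452) (nat_lit 0) .nil) (nat_lit
  0x905a4f6439a) (nat_lit 0xa4b0e1) (nat_lit 0) (.node .nil (nat_lit 0x905a4f64576) (nat_lit 5508) (nat_lit 0)
  .nil)))) (nat_lit 0x905a4f64826) (nat_lit 168330) (nat_lit 0) (.node (.node (.node (.node .nil (nat_lit
  0x905a4f64855) (nat_lit 402595) (nat_lit 0) .nil) (nat_lit 0x905a4f6493e) (nat_lit 337132) (nat_lit 0)
  (.node .nil (nat_lit 0x905a4f64ce7) (nat_lit 5260) (nat_lit 0) .nil)) (nat_lit 0x905a4f65032) (nat_lit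
  400580) (nat_lit 0) (.node (.node .nil (nat_lit 0x905a4f65283) (nat_lit 238860) (nat_lit 0) .nil) (nat_lit
  0x905a4f65286) (nat_lit 0x93b148) (nat_lit 0) (.node .nil (nat_lit 0x905a4f6549d) (nat_lit 336044) (nat_lit
  0) .nil))) (nat_lit 0x905a4f656e6) (nat_lit 400678) (nat_lit 0) (.node (.node (.node .nil (nat_lit
  0x905a4f657ca) (nat_lit 0x652585) (nat_lit 0) .nil) (nat_lit 0x905a4f65881) (nat_lit 209124) (nat_lit 0)
  (.node .nil (nat_lit 0x905a4f65b94) (nat_lit 340229) (nat_lit 0) .nil)) (nat_lit 0x905a4f65c72) (nat_lit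
  398660) (nat_lit 0) (.node (.node .nil (nat_lit 0x905a4f65d31) (nat_lit 398628) (nat_lit 0) .nil) (nat_lit
  0x905a4f660d2) (nat_lit 337287) (nat_lit 0) (.node .nil (nat_lit 0x905a4f66190) (nat_lit 12452) (nat_lit 0)
  .nil))))) (nat_lit 0x905a4f664eb) (nat_lit 173416) (nat_lit 0) (.node (.node (.node (.node (.node .nil
  (nat_lit 0x905a4f664ef) (nat_lit 0x859cc4) (nat_lit 0xa4be36) .nil) (nat_lit 0x905a4f6651b) (nat_lit 337257)
  (nat_lit 0) (.node .nil (nat_lit 0x905a4f669cd) (nat_lit 10539) (nat_lit 0) .nil)) (nat_lit 0x905a4f66be5)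
  (nat_lit 0x652d21) (nat_lit 0) (.node (.node .nil (nat_lit 0x905a4f66c0d) (nat_lit 0x95a0e2) (nat_lit 0)
  .nil) (nat_lit 0x905a4f66cb3) (nat_lit 207201) (nat_lit 0) (.node .nil (nat_lit 0x905a4f670c4) (nat_lit
  0xa5a8c1) (nat_lit 14659) .nil))) (nat_lit 0x905a4f6730d) (nat_lit 3426) (nat_lit 0) (.node (.node (.node
  .nil (nat_lit 0x905a4f674ff) (nat_lit 109890) (nat_lit 0) .nil) (nat_lit 0x905a4f6750c) (nat_lit 109858)
  (nat_lit 0) (.node .nil (nat_lit 0x905a4f6777d) (nat_lit 0x35a922) (nat_lit 0) .nil)) (nat_lit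
  0x905a4f679ff) (nat_lit 0x64ad41) (nat_lit 0) (.node (.node .nil (nat_lit 0x905a4f67bf4) (nat_lit 206177)
  (nat_lit 0) .nil) (nat_lit 0x905a4f67c03) (nat_lit 234858) (nat_lit 0) (.node .nil (nat_lit 0x905a4f67e74)
  (nat_lit 7339) (nat_lit 0) .nil)))) (nat_lit 0x905a4f680ac) (nat_lit 8513) (nat_lit 0) (.node (.node (.node
  (.node .nil (nat_lit 0x905a4f68339) (nat_lit 257) (nat_lit 15817) .nil) (nat_lit 0x905a4f68449) (nat_lit
  272673) (nat_lit 0) (.node .nil (nat_lit 0x905a4f68533) (nat_lit 8481) (nat_lit 0) .nil)) (nat_lit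
  0x905a4f6882e) (nat_lit 6306) (nat_lit 303) (.node (.node .nil (nat_lit 0x905a4f68887) (nat_lit 202018)
  (nat_lit 0) .nil) (nat_lit 0x905a4f68a32) (nat_lit 0x9328a2) (nat_lit 0) (.node .nil (nat_lit 0x905a4f68b57)
  (nat_lit 202050) (nat_lit 0) .nil))) (nat_lit 0x905a4f68ee8) (nat_lit 0xa3a4c1) (nat_lit 0) (.node (.node
  (.node .nil (nat_lit 0x905a4f6914a) (nat_lit 238786) (nat_lit 0) .nil) (nat_lit 0x905a4f691b4) (nat_lit
  334052) (nat_lit 434735) (.node .nil (nat_lit 0x905a4f69260) (nat_lit 7364) (nat_lit 0) .nil)) (nat_lit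
  0x905a4f695e2) (nat_lit 269476) (nat_lit 0) (.node (.node .nil (nat_lit 0x905a4f698a7) (nat_lit 0x8494e1)
  (nat_lit 214500) .nil) (nat_lit 0x905a4f69941) (nat_lit 0x9428a7) (nat_lit 0) (.node .nil (nat_lit
  0x905a4f699fb) (nat_lit 399692) (nat_lit 0) .nil)))))))
def tT_19 : T := (.node (.node (.node (.node (.node (.node (.node .nil (nat_lit 0x905a4f69f1e) (nat_lit
  0xa5a8e1) (nat_lit 0) .nil) (nat_lit 0x905a4f6a13a) (nat_lit 239970) (nat_lit 0) (.node .nil (nat_lit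
  0x905a4f6a169) (nat_lit 0x848d66) (nat_lit 0) .nil)) (nat_lit 0x905a4f6a5a2) (nat_lit 11523) (nat_lit 13)
  (.node (.node .nil (nat_lit 0x905a4f6a615) (nat_lit 339237) (nat_lit 0) .nil) (nat_lit 0x905a4f6a831)
  (nat_lit 368931) (nat_lit 0) (.node .nil (nat_lit 0x905a4f6a860) (nat_lit 11592) (nat_lit 0) .nil)))
  (nat_lit 0x905a4f6aa65) (nat_lit 0x74ad02) (nat_lit 0) (.node (.node (.node .nil (nat_lit 0x905a4f6aa8f)
  (nat_lit 339238) (nat_lit 0) .nil) (nat_lit 0x905a4f6adf9) (nat_lit 334180) (nat_lit 0) (.node .nil (nat_lit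
  0x905a4f6af3d) (nat_lit 0x832ca4) (nat_lit 0) .nil)) (nat_lit 0x905a4f6b1ff) (nat_lit 207010) (nat_lit 0)
  (.node (.node .nil (nat_lit 0x905a4f6b3f5) (nat_lit 0xa324a2) (nat_lit 0) .nil) (nat_lit 0x905a4f6b455)
  (nat_lit 16624) (nat_lit 15) (.node .nil (nat_lit 0x905a4f6b482) (nat_lit 301218) (nat_lit 0) .nil))))
  (nat_lit 0x905a4f6baea) (nat_lit 259) (nat_lit 535022) (.node (.node (.node (.node .nil (nat_lit
  0x905a4f6bb4a) (nat_lit 10505) (nat_lit 0) .nil) (nat_lit 0x905a4f6bb75) (nat_lit 328) (nat_lit 0) (.node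
  .nil (nat_lit 0x905a4f6bcc8) (nat_lit 8483) (nat_lit 0) .nil)) (nat_lit 0x905a4f6bf48) (nat_lit 0xa4ad23)
  (nat_lit 0) (.node (.node .nil (nat_lit 0x905a4f6bf71) (nat_lit 0x84aca9) (nat_lit 0) .nil) (nat_lit
  0x905a4f6c2d6) (nat_lit 271717) (nat_lit 0) (.node .nil (nat_lit 0x905a4f6c41e) (nat_lit 337251) (nat_lit 0)
  .nil))) (nat_lit 0x905a4f6c57f) (nat_lit 0x962d0a) (nat_lit 0) (.node (.node (.node .nil (nat_lit
  0x905a4f6c5d4) (nat_lit 0xc59ca4) (nat_lit 0) .nil) (nat_lit 0x905a4f6c6d3) (nat_lit 307560) (nat_lit 0)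
  (.node .nil (nat_lit 0x905a4f6ca4b) (nat_lit 0x553166) (nat_lit 0) .nil)) (nat_lit 0x905a4f6cd6f) (nat_lit
  238954) (nat_lit 0) (.node (.node .nil (nat_lit 0x905a4f6cdd6) (nat_lit 6501) (nat_lit 9) .nil) (nat_lit
  0x905a4f6d082) (nat_lit 7467) (nat_lit 0) (.node .nil (nat_lit 0x905a4f6d1b8) (nat_lit 208042) (nat_lit 0)
  .nil))))) (nat_lit 0x905a4f6d478) (nat_lit 235651) (nat_lit 0) (.node (.node (.node (.node (.node .nil
  (nat_lit 0x905a4f6d6e5) (nat_lit 0xa49cc1) (nat_lit 0) .nil) (nat_lit 0x905a4f6d795) (nat_lit 0x751841)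
  (nat_lit 570703) (.node .nil (nat_lit 0x905a4f6d8cb) (nat_lit 301281) (nat_lit 0) .nil)) (nat_lit
  0x905a4f6da78) (nat_lit 0x832925) (nat_lit 466479) (.node (.node .nil (nat_lit 0x905a4f6dd7e) (nat_lit
  272581) (nat_lit 0) .nil) (nat_lit 0x905a4f6dee9) (nat_lit 267558) (nat_lit 0) (.node .nil (nat_lit
  0x905a4f6e028) (nat_lit 204964) (nat_lit 0) .nil))) (nat_lit 0x905a4f6e15d) (nat_lit 65) (nat_lit 534)
  (.node (.node (.node .nil (nat_lit 0x905a4f6e553) (nat_lit 9281) (nat_lit 0xc8bd24) .nil) (nat_lit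
  0x905a4f6e5c9) (nat_lit 10305) (nat_lit 0x1917b924) (.node .nil (nat_lit 0x905a4f6e70f) (nat_lit 336961)
  (nat_lit 0x1917b524) .nil)) (nat_lit 0x905a4f6e852) (nat_lit 1) (nat_lit 0) (.node (.node .nil (nat_lit
  0x905a4f6ec4a) (nat_lit 289) (nat_lit 0xc3c5e9) .nil) (nat_lit 0x905a4f6ecbe) (nat_lit 321) (nat_lit
  0x1888bdc9) (.node .nil (nat_lit 0x905a4f6ee00) (nat_lit 10529) (nat_lit 0x1cc3c5e9) .nil)))) (nat_lit
  0x905a4f6f026) (nat_lit 0xb418e4) (nat_lit 0x1492be36) (.node (.node (.node (.node .nil (nat_lit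
  0x905a4f6f31e) (nat_lit 0x54ad02) (nat_lit 0) .nil) (nat_lit 0x905a4f6f321) (nat_lit 0xa4ad22) (nat_lit 0)
  (.node .nil (nat_lit 0x905a4f6f506) (nat_lit 337250) (nat_lit 0) .nil)) (nat_lit 0x905a4f6f722) (nat_lit
  0xb41cc4) (nat_lit 0x1497c616) (.node (.node .nil (nat_lit 0x905a4f6fa26) (nat_lit 173323) (nat_lit 0) .nil)
  (nat_lit 0x905a4f6fa30) (nat_lit 0xa4ad21) (nat_lit 0) (.node .nil (nat_lit 0x905a4f6fbc1) (nat_lit 337249)
  (nat_lit 0) .nil))) (nat_lit 0x905a4f6fe19) (nat_lit 0x8598e4) (nat_lit 0x1497b236) (.node (.node (.node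
  .nil (nat_lit 0x905a4f7011b) (nat_lit 0x54a162) (nat_lit 0) .nil) (nat_lit 0x905a4f70125) (nat_lit 0xa59cc5)
  (nat_lit 0) (.node .nil (nat_lit 0x905a4f702b4) (nat_lit 0xa4ac41) (nat_lit 0) .nil)) (nat_lit
  0x905a4f7050f) (nat_lit 0x652d22) (nat_lit 0) (.node (.node .nil (nat_lit 0x905a4f707ea) (nat_lit 303463)
  (nat_lit 0) .nil) (nat_lit 0x905a4f70818) (nat_lit 207202) (nat_lit 0) (.node .nil (nat_lit 0x905a4f709ad)
  (nat_lit 0xa5a8c2) (nat_lit 14730) .nil)))))) (nat_lit 0x905a4f70c04) (nat_lit 207209) (nat_lit 0) (.node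
  (.node (.node (.node (.node (.node .nil (nat_lit 0x905a4f70edf) (nat_lit 0x942ce2) (nat_lit 0) .nil)
  (nat_lit 0x905a4f70f0d) (nat_lit 6475) (nat_lit 0) (.node .nil (nat_lit 0x905a4f710a0) (nat_lit 339270)
  (nat_lit 458) .nil)) (nat_lit 0x905a4f71218) (nat_lit 0x8524c5) (nat_lit 571695) (.node (.node .nil (nat_lit
  0x905a4f7152d) (nat_lit 301317) (nat_lit 0) .nil) (nat_lit 0x905a4f715d4) (nat_lit 333062) (nat_lit 0)
  (.node .nil (nat_lit 0x905a4f717c6) (nat_lit 0x62a083) (nat_lit 0) .nil))) (nat_lit 0x905a4f7190b) (nat_lit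
  0xa2a506) (nat_lit 572835) (.node (.node (.node .nil (nat_lit 0x905a4f71c52) (nat_lit 303301) (nat_lit 0)
  .nil) (nat_lit 0x905a4f71cc9) (nat_lit 333992) (nat_lit 0) (.node .nil (nat_lit 0x905a4f71ebb) (nat_lit
  0x541883) (nat_lit 0) .nil)) (nat_lit 0x905a4f720e0) (nat_lit 0x74ad48) (nat_lit 0) (.node (.node .nil
  (nat_lit 0x905a4f7225e) (nat_lit 306439) (nat_lit 0) .nil) (nat_lit 0x905a4f723d7) (nat_lit 0x652c41)
  (nat_lit 0) (.node .nil (nat_lit 0x905a4f725bf) (nat_lit 0x95a0e9) (nat_lit 14660) .nil)))) (nat_lit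
  0x905a4f72804) (nat_lit 0x959944) (nat_lit 0) (.node (.node (.node (.node .nil (nat_lit 0x905a4f72a2b)
  (nat_lit 272743) (nat_lit 0) .nil) (nat_lit 0x905a4f72a5d) (nat_lit 306372) (nat_lit 0) (.node .nil (nat_lit
  0x905a4f72cc5) (nat_lit 7525) (nat_lit 0) .nil)) (nat_lit 0x905a4f72dfe) (nat_lit 0xa494e1) (nat_lit
  0x117b524) (.node (.node .nil (nat_lit 0x905a4f7318a) (nat_lit 234785) (nat_lit 0) .nil) (nat_lit
  0x905a4f7324d) (nat_lit 234817) (nat_lit 0) (.node .nil (nat_lit 0x905a4f733af) (nat_lit 7329) (nat_lit 0)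
  .nil))) (nat_lit 0x905a4f734f3) (nat_lit 0xa49ca1) (nat_lit 0xe3c5e9) (.node (.node (.node .nil (nat_lit
  0x905a4f7387f) (nat_lit 171297) (nat_lit 0) .nil) (nat_lit 0x905a4f73944) (nat_lit 171329) (nat_lit 0)
  (.node .nil (nat_lit 0x905a4f73a99) (nat_lit 5345) (nat_lit 0) .nil)) (nat_lit 0x905a4f73ceb) (nat_lit
  206186) (nat_lit 0) (.node (.node .nil (nat_lit 0x905a4f73ea1) (nat_lit 365802) (nat_lit 0) .nil) (nat_lit
  0x905a4f73ef5) (nat_lit 6443) (nat_lit 0) (.node .nil (nat_lit 0x905a4f741a8) (nat_lit 11431) (nat_lit 0)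
  .nil))))) (nat_lit 0x905a4f743e0) (nat_lit 0x64ad42) (nat_lit 0) (.node (.node (.node (.node (.node .nil
  (nat_lit 0x905a4f74601) (nat_lit 367786) (nat_lit 0) .nil) (nat_lit 0x905a4f74636) (nat_lit 206178) (nat_lit
  0) (.node .nil (nat_lit 0x905a4f74851) (nat_lit 11493) (nat_lit 0) .nil)) (nat_lit 0x905a4f74ad2) (nat_lit
  355) (nat_lit 0) (.node (.node .nil (nat_lit 0x905a4f74cf4) (nat_lit 11555) (nat_lit 0) .nil) (nat_lit
  0x905a4f74d26) (nat_lit 11587) (nat_lit 0) (.node .nil (nat_lit 0x905a4f74f48) (nat_lit 370979) (nat_lit 0)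
  .nil))) (nat_lit 0x905a4f751c9) (nat_lit 11362) (nat_lit 0) (.node (.node (.node .nil (nat_lit
  0x905a4f75382) (nat_lit 369762) (nat_lit 0) .nil) (nat_lit 0x905a4f753d8) (nat_lit 370786) (nat_lit 0)
  (.node .nil (nat_lit 0x905a4f75689) (nat_lit 0xb52462) (nat_lit 0) .nil)) (nat_lit 0x905a4f757c4) (nat_lit
  0x839883) (nat_lit 0) (.node (.node .nil (nat_lit 0x905a4f75ab6) (nat_lit 0x8498e1) (nat_lit 0) .nil)
  (nat_lit 0x905a4f75b4c) (nat_lit 403628) (nat_lit 0) (.node .nil (nat_lit 0x905a4f75d66) (nat_lit 0xc51589)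
  (nat_lit 0xc8bda3) .nil)))) (nat_lit 0x905a4f75eb9) (nat_lit 0x732083) (nat_lit 0) (.node (.node (.node
  (.node .nil (nat_lit 0x905a4f76215) (nat_lit 271590) (nat_lit 0) .nil) (nat_lit 0x905a4f76241) (nat_lit
  0x83a8c1) (nat_lit 0) (.node .nil (nat_lit 0x905a4f7646a) (nat_lit 0x8524c7) (nat_lit 0xc8b92f) .nil))
  (nat_lit 0x905a4f766ae) (nat_lit 107) (nat_lit 0) (.node (.node .nil (nat_lit 0x905a4f768ca) (nat_lit 3433)
  (nat_lit 0) .nil) (nat_lit 0x905a4f76900) (nat_lit 3434) (nat_lit 0) (.node .nil (nat_lit 0x905a4f76b6c)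
  (nat_lit 109897) (nat_lit 0) .nil))) (nat_lit 0x905a4f76c89) (nat_lit 340263) (nat_lit 0) (.node (.node
  (.node .nil (nat_lit 0x905a4f76ce2) (nat_lit 398598) (nat_lit 505156) .nil) (nat_lit 0x905a4f77095) (nat_lit
  0x54b041) (nat_lit 0) (.node .nil (nat_lit 0x905a4f7709a) (nat_lit 340195) (nat_lit 0) .nil)) (nat_lit
  0x905a4f77380) (nat_lit 0x7230a3) (nat_lit 0) (.node (.node .nil (nat_lit 0x905a4f773d5) (nat_lit 0xa48d84)
  (nat_lit 0) .nil) (nat_lit 0x905a4f7778a) (nat_lit 207240) (nat_lit 0) (.node .nil (nat_lit 0x905a4f7778f)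
  (nat_lit 0x7624a1) (nat_lit 0) .nil)))))))
def tT_20 : T := (.node (.node (.node (.node (.node (.node (.node .nil (nat_lit 0x905a4f77acc) (nat_lit
  0xc51527) (nat_lit 0) .nil) (nat_lit 0x905a4f77f27) (nat_lit 400677) (nat_lit 0) (.node .nil (nat_lit
  0x905a4f77f37) (nat_lit 176455) (nat_lit 0) .nil)) (nat_lit 0x905a4f78155) (nat_lit 0x54b141) (nat_lit 0)
  (.node (.node .nil (nat_lit 0x905a4f781c3) (nat_lit 274629) (nat_lit 505155) .nil) (nat_lit 0x905a4f7861e)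
  (nat_lit 240004) (nat_lit 0) (.node .nil (nat_lit 0x905a4f7862a) (nat_lit 173441) (nat_lit 0) .nil)))
  (nat_lit 0x905a4f787bd) (nat_lit 340201) (nat_lit 0) (.node (.node (.node .nil (nat_lit 0x905a4f7888a)
  (nat_lit 340202) (nat_lit 0) .nil) (nat_lit 0x905a4f78d1b) (nat_lit 307364) (nat_lit 0) (.node .nil (nat_lit
  0x905a4f78d1c) (nat_lit 10631) (nat_lit 0) .nil)) (nat_lit 0x905a4f78eb2) (nat_lit 233861) (nat_lit 0)
  (.node (.node .nil (nat_lit 0x905a4f78f7d) (nat_lit 0xa49181) (nat_lit 0) .nil) (nat_lit 0x905a4f790c1)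
  (nat_lit 403685) (nat_lit 0) (.node .nil (nat_lit 0x905a4f79415) (nat_lit 402599) (nat_lit 0) .nil))))
  (nat_lit 0x905a4f79647) (nat_lit 241828) (nat_lit 0) (.node (.node (.node (.node .nil (nat_lit
  0x905a4f79674) (nat_lit 0xa4b081) (nat_lit 0) .nil) (nat_lit 0x905a4f79a57) (nat_lit 402661) (nat_lit 0)
  (.node .nil (nat_lit 0x905a4f79a8d) (nat_lit 403623) (nat_lit 0) .nil)) (nat_lit 0x905a4f79d3e) (nat_lit
  0xa3b121) (nat_lit 0) (.node (.node .nil (nat_lit 0x905a4f79d6b) (nat_lit 0xa3b141) (nat_lit 0) .nil)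
  (nat_lit 0x905a4f7a14c) (nat_lit 335233) (nat_lit 0) (.node .nil (nat_lit 0x905a4f7a182) (nat_lit 299397)
  (nat_lit 0) .nil))) (nat_lit 0x905a4f7a526) (nat_lit 0xa5a4c2) (nat_lit 0) (.node (.node (.node .nil
  (nat_lit 0x905a4f7a80d) (nat_lit 238952) (nat_lit 0) .nil) (nat_lit 0x905a4f7a892) (nat_lit 339140) (nat_lit
  0) (.node .nil (nat_lit 0x905a4f7a9d4) (nat_lit 0x8598a4) (nat_lit 0) .nil)) (nat_lit 0x905a4f7ab4b)
  (nat_lit 0x642925) (nat_lit 565741) (.node (.node .nil (nat_lit 0x905a4f7ae87) (nat_lit 174280) (nat_lit 0)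
  .nil) (nat_lit 0x905a4f7afbc) (nat_lit 0x82a4c2) (nat_lit 0) (.node .nil (nat_lit 0x905a4f7b0ee) (nat_lit
  268452) (nat_lit 0) .nil))))) (nat_lit 0x905a4f7b311) (nat_lit 0x959528) (nat_lit 0) (.node (.node (.node
  (.node (.node .nil (nat_lit 0x905a4f7b614) (nat_lit 0x552ce6) (nat_lit 0) .nil) (nat_lit 0x905a4f7b688)
  (nat_lit 0x849561) (nat_lit 0) (.node .nil (nat_lit 0x905a4f7b7e2) (nat_lit 0xa48d62) (nat_lit 0) .nil))
  (nat_lit 0x905a4f7b935) (nat_lit 98) (nat_lit 411158) (.node (.node .nil (nat_lit 0x905a4f7bd94) (nat_lit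
  9314) (nat_lit 0xc8c12f) .nil) (nat_lit 0x905a4f7bdb3) (nat_lit 10338) (nat_lit 0x191829ee) (.node .nil
  (nat_lit 0x905a4f7bee7) (nat_lit 336994) (nat_lit 0x1918392f) .nil))) (nat_lit 0x905a4f7c02c) (nat_lit 3)
  (nat_lit 566) (.node (.node (.node .nil (nat_lit 0x905a4f7c487) (nat_lit 291) (nat_lit 411151) .nil)
  (nat_lit 0x905a4f7c4aa) (nat_lit 323) (nat_lit 0xc8c1ee) (.node .nil (nat_lit 0x905a4f7c5d1) (nat_lit 10531)
  (nat_lit 0xc8c1ed) .nil)) (nat_lit 0x905a4f7c7f4) (nat_lit 0x849569) (nat_lit 0) (.node (.node .nil (nat_lit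
  0x905a4f7cae6) (nat_lit 0xb41d46) (nat_lit 0) .nil) (nat_lit 0x905a4f7cb61) (nat_lit 271531) (nat_lit 0)
  (.node .nil (nat_lit 0x905a4f7cca3) (nat_lit 0xa4ac62) (nat_lit 0) .nil)))) (nat_lit 0x905a4f7ce04) (nat_lit
  0xb52584) (nat_lit 0) (.node (.node (.node (.node .nil (nat_lit 0x905a4f7ce57) (nat_lit 0x762ca4) (nat_lit
  0) .nil) (nat_lit 0x905a4f7d2a0) (nat_lit 303499) (nat_lit 0) (.node .nil (nat_lit 0x905a4f7d2ce) (nat_lit
  0xc3a968) (nat_lit 0) .nil)) (nat_lit 0x905a4f7d4fb) (nat_lit 0x18759483) (nat_lit 501156) (.node (.node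
  .nil (nat_lit 0x905a4f7d548) (nat_lit 0xa3b12b) (nat_lit 0) .nil) (nat_lit 0x905a4f7d997) (nat_lit 0xa59985)
  (nat_lit 0) (.node .nil (nat_lit 0x905a4f7d9bb) (nat_lit 0xc4acc3) (nat_lit 0) .nil))) (nat_lit
  0x905a4f7dbf2) (nat_lit 0x16761483) (nat_lit 501155) (.node (.node (.node .nil (nat_lit 0x905a4f7dc3d)
  (nat_lit 0x14c3a561) (nat_lit 0) .nil) (nat_lit 0x905a4f7e0a2) (nat_lit 0xa33165) (nat_lit 0) (.node .nil
  (nat_lit 0x905a4f7e0b0) (nat_lit 0xc49963) (nat_lit 0) .nil)) (nat_lit 0x905a4f7e2dc) (nat_lit 0xc4996a)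
  (nat_lit 0) (.node (.node .nil (nat_lit 0x905a4f7e33d) (nat_lit 0xb3b0a4) (nat_lit 0) .nil) (nat_lit
  0x905a4f7e6f3) (nat_lit 402635) (nat_lit 0) (.node .nil (nat_lit 0x905a4f7e7ac) (nat_lit 0xc5a8a7) (nat_lit
  0) .nil)))))) (nat_lit 0x905a4f7e9d4) (nat_lit 0xa3a4a1) (nat_lit 0x118392f) (.node (.node (.node (.node
  (.node (.node .nil (nat_lit 0x905a4f7eb42) (nat_lit 173281) (nat_lit 0) .nil) (nat_lit 0x905a4f7ed8d)
  (nat_lit 239778) (nat_lit 0) (.node .nil (nat_lit 0x905a4f7ef6f) (nat_lit 171105) (nat_lit 0) .nil))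
  (nat_lit 0x905a4f7f13e) (nat_lit 11498) (nat_lit 0) (.node (.node .nil (nat_lit 0x905a4f7f1b9) (nat_lit
  11497) (nat_lit 0) .nil) (nat_lit 0x905a4f7f49f) (nat_lit 367945) (nat_lit 0) (.node .nil (nat_lit
  0x905a4f7f525) (nat_lit 359) (nat_lit 0) .nil))) (nat_lit 0x905a4f7f890) (nat_lit 0x83a4a2) (nat_lit 6703)
  (.node (.node (.node .nil (nat_lit 0x905a4f7fabd) (nat_lit 0x72a083) (nat_lit 0) .nil) (nat_lit
  0x905a4f7fae2) (nat_lit 0xc53126) (nat_lit 0) (.node .nil (nat_lit 0x905a4f7fd18) (nat_lit 336101) (nat_lit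
  0) .nil)) (nat_lit 0x905a4f8006b) (nat_lit 239810) (nat_lit 214510) (.node (.node .nil (nat_lit
  0x905a4f8027d) (nat_lit 337126) (nat_lit 0) .nil) (nat_lit 0x905a4f80335) (nat_lit 301289) (nat_lit 0)
  (.node .nil (nat_lit 0x905a4f8033c) (nat_lit 9415) (nat_lit 0) .nil)))) (nat_lit 0x905a4f8061f) (nat_lit
  369825) (nat_lit 0) (.node (.node (.node (.node .nil (nat_lit 0x905a4f8069b) (nat_lit 272737) (nat_lit 0)
  .nil) (nat_lit 0x905a4f8098c) (nat_lit 175235) (nat_lit 525) (.node .nil (nat_lit 0x905a4f80a06) (nat_lit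
  0x852d21) (nat_lit 0) .nil)) (nat_lit 0x905a4f80ca1) (nat_lit 269508) (nat_lit 0) (.node (.node .nil
  (nat_lit 0x905a4f81043) (nat_lit 0x6520e1) (nat_lit 0) .nil) (nat_lit 0x905a4f8105a) (nat_lit 0x63a501)
  (nat_lit 0) (.node .nil (nat_lit 0x905a4f8123c) (nat_lit 0xb52561) (nat_lit 0xe61e2f) .nil))) (nat_lit
  0x905a4f81385) (nat_lit 235780) (nat_lit 0) (.node (.node (.node .nil (nat_lit 0x905a4f815d7) (nat_lit
  398668) (nat_lit 0) .nil) (nat_lit 0x905a4f81753) (nat_lit 269606) (nat_lit 0) (.node .nil (nat_lit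
  0x905a4f81937) (nat_lit 0xa424c7) (nat_lit 0xc8a1ed) .nil)) (nat_lit 0x905a4f819ec) (nat_lit 300359)
  (nat_lit 573933) (.node (.node .nil (nat_lit 0x905a4f81cca) (nat_lit 0x549c41) (nat_lit 0) .nil) (nat_lit
  0x905a4f81e48) (nat_lit 7493) (nat_lit 0) (.node .nil (nat_lit 0x905a4f8202c) (nat_lit 234593) (nat_lit 0)
  .nil))))) (nat_lit 0x905a4f8229f) (nat_lit 0x95a8c2) (nat_lit 0) (.node (.node (.node (.node (.node .nil
  (nat_lit 0x905a4f824b6) (nat_lit 175399) (nat_lit 0) .nil) (nat_lit 0x905a4f8250d) (nat_lit 240965) (nat_lit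
  0) (.node .nil (nat_lit 0x905a4f82754) (nat_lit 367779) (nat_lit 11598) .nil)) (nat_lit 0x905a4f82999)
  (nat_lit 11) (nat_lit 15926) (.node (.node .nil (nat_lit 0x905a4f82bb1) (nat_lit 362) (nat_lit 0) .nil)
  (nat_lit 0x905a4f82c0a) (nat_lit 361) (nat_lit 0) (.node .nil (nat_lit 0x905a4f82e49) (nat_lit 11593)
  (nat_lit 0) .nil))) (nat_lit 0x905a4f8308e) (nat_lit 354) (nat_lit 179766) (.node (.node (.node .nil
  (nat_lit 0x905a4f83283) (nat_lit 11586) (nat_lit 0) .nil) (nat_lit 0x905a4f832ff) (nat_lit 11554) (nat_lit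
  0) (.node .nil (nat_lit 0x905a4f83535) (nat_lit 370978) (nat_lit 0) .nil)) (nat_lit 0x905a4f83780) (nat_lit
  11329) (nat_lit 504374) (.node (.node .nil (nat_lit 0x905a4f83931) (nat_lit 370753) (nat_lit 0) .nil)
  (nat_lit 0x905a4f839f4) (nat_lit 369729) (nat_lit 0) (.node .nil (nat_lit 0x905a4f83c36) (nat_lit 0xb52441)
  (nat_lit 0) .nil)))) (nat_lit 0x905a4f83e77) (nat_lit 353) (nat_lit 509462) (.node (.node (.node (.node .nil
  (nat_lit 0x905a4f83f9c) (nat_lit 11553) (nat_lit 0) .nil) (nat_lit 0x905a4f84091) (nat_lit 11585) (nat_lit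
  0) (.node .nil (nat_lit 0x905a4f8431f) (nat_lit 370977) (nat_lit 0) .nil)) (nat_lit 0x905a4f8445d) (nat_lit
  268516) (nat_lit 0) (.node (.node .nil (nat_lit 0x905a4f84677) (nat_lit 0x83a4c1) (nat_lit 0) .nil) (nat_lit
  0x905a4f847f0) (nat_lit 239878) (nat_lit 0) (.node .nil (nat_lit 0x905a4f84a0e) (nat_lit 0xb52562) (nat_lit
  0xc8bda4) .nil))) (nat_lit 0x905a4f84b56) (nat_lit 205028) (nat_lit 0) (.node (.node (.node .nil (nat_lit
  0x905a4f84ee5) (nat_lit 207111) (nat_lit 0) .nil) (nat_lit 0x905a4f84eff) (nat_lit 204072) (nat_lit 0)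
  (.node .nil (nat_lit 0x905a4f85103) (nat_lit 370987) (nat_lit 0xc345ed) .nil)) (nat_lit 0x905a4f8524b)
  (nat_lit 335141) (nat_lit 0x11725e9) (.node (.node .nil (nat_lit 0x905a4f855da) (nat_lit 5415) (nat_lit 0)
  .nil) (nat_lit 0x905a4f855f4) (nat_lit 171331) (nat_lit 0) (.node .nil (nat_lit 0x905a4f857f8) (nat_lit
  5347) (nat_lit 0) .nil)))))))
def tT_21 : T := (.node (.node (.node (.node (.node (.node (.node .nil (nat_lit 0x905a4f85b58) (nat_lit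
  239777) (nat_lit 0) .nil) (nat_lit 0x905a4f85ccf) (nat_lit 173282) (nat_lit 0) (.node .nil (nat_lit
  0x905a4f85ef3) (nat_lit 7331) (nat_lit 0) .nil)) (nat_lit 0x905a4f86144) (nat_lit 306502) (nat_lit 0) (.node
  (.node .nil (nat_lit 0x905a4f8633e) (nat_lit 206179) (nat_lit 0) .nil) (nat_lit 0x905a4f863b2) (nat_lit
  0x75a8a2) (nat_lit 0) (.node .nil (nat_lit 0x905a4f865ed) (nat_lit 365795) (nat_lit 334) .nil))) (nat_lit
  0x905a4f8683e) (nat_lit 0x95a8c1) (nat_lit 0) (.node (.node (.node .nil (nat_lit 0x905a4f86893) (nat_lit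
  0xb3a8a2) (nat_lit 0) .nil) (nat_lit 0x905a4f869ec) (nat_lit 205931) (nat_lit 0) (.node .nil (nat_lit
  0x905a4f86cef) (nat_lit 234851) (nat_lit 10691) .nil)) (nat_lit 0x905a4f86f35) (nat_lit 0x852d27) (nat_lit
  0) (.node (.node .nil (nat_lit 0x905a4f87059) (nat_lit 367941) (nat_lit 0) .nil) (nat_lit 0x905a4f8714a)
  (nat_lit 0x55a4e1) (nat_lit 0) (.node .nil (nat_lit 0x905a4f873db) (nat_lit 240803) (nat_lit 10692) .nil))))
  (nat_lit 0x905a4f87471) (nat_lit 0xb53147) (nat_lit 0x829257e216) (.node (.node (.node (.node .nil (nat_lit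
  0x905a4f87545) (nat_lit 0xa4b162) (nat_lit 0) .nil) (nat_lit 0x905a4f8772f) (nat_lit 0xb3a982) (nat_lit 0)
  (.node .nil (nat_lit 0x905a4f878e0) (nat_lit 0xb4b0a3) (nat_lit 0) .nil)) (nat_lit 0x905a4f87b8d) (nat_lit
  0xa4b163) (nat_lit 0) (.node (.node .nil (nat_lit 0x905a4f87c3a) (nat_lit 0x66296a) (nat_lit 0) .nil)
  (nat_lit 0x905a4f87e22) (nat_lit 0xb4b0a2) (nat_lit 0) (.node .nil (nat_lit 0x905a4f87fe0) (nat_lit 209227)
  (nat_lit 0) .nil))) (nat_lit 0x905a4f8841e) (nat_lit 401763) (nat_lit 0x97a5a4) (.node (.node (.node .nil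
  (nat_lit 0x905a4f8872e) (nat_lit 0xc42d23) (nat_lit 0) .nil) (nat_lit 0x905a4f887d0) (nat_lit 0xc5a901)
  (nat_lit 0) (.node .nil (nat_lit 0x905a4f88830) (nat_lit 0xa5a587) (nat_lit 0) .nil)) (nat_lit
  0x905a4f88d41) (nat_lit 0xa4a0e5) (nat_lit 0) (.node (.node .nil (nat_lit 0x905a4f88def) (nat_lit 0x829c83)
  (nat_lit 0) .nil) (nat_lit 0x905a4f88e21) (nat_lit 0x83a4a1) (nat_lit 280035) (.node .nil (nat_lit
  0x905a4f88ec9) (nat_lit 333063) (nat_lit 0) .nil))))) (nat_lit 0x905a4f89157) (nat_lit 367938) (nat_lit 0)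
  (.node (.node (.node (.node (.node .nil (nat_lit 0x905a4f891a9) (nat_lit 0xb3a922) (nat_lit 0) .nil)
  (nat_lit 0x905a4f891d2) (nat_lit 367906) (nat_lit 0) (.node .nil (nat_lit 0x905a4f89538) (nat_lit 11490)
  (nat_lit 0) .nil)) (nat_lit 0x905a4f8984e) (nat_lit 306406) (nat_lit 0) (.node (.node .nil (nat_lit
  0x905a4f898a0) (nat_lit 365699) (nat_lit 13604) .nil) (nat_lit 0x905a4f898c8) (nat_lit 0x852c41) (nat_lit 0)
  (.node .nil (nat_lit 0x905a4f89c33) (nat_lit 0x95a8c7) (nat_lit 0) .nil))) (nat_lit 0x905a4f8a03a) (nat_lit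
  337095) (nat_lit 0) (.node (.node (.node .nil (nat_lit 0x905a4f8a302) (nat_lit 239809) (nat_lit 247278)
  .nil) (nat_lit 0x905a4f8a345) (nat_lit 302281) (nat_lit 0) (.node .nil (nat_lit 0x905a4f8a409) (nat_lit
  9446) (nat_lit 0) .nil)) (nat_lit 0x905a4f8a6e8) (nat_lit 0xc5a928) (nat_lit 0) (.node (.node .nil (nat_lit
  0x905a4f8a91d) (nat_lit 176459) (nat_lit 0) .nil) (nat_lit 0x905a4f8aa4a) (nat_lit 0x102b202) (nat_lit 0)
  (.node .nil (nat_lit 0x905a4f8aa9f) (nat_lit 0xb4b0c3) (nat_lit 0) .nil)))) (nat_lit 0x905a4f8addd) (nat_lit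
  0x562962) (nat_lit 0) (.node (.node (.node (.node .nil (nat_lit 0x905a4f8af22) (nat_lit 0xea5a581) (nat_lit
  0) .nil) (nat_lit 0x905a4f8b145) (nat_lit 529808) (nat_lit 0) (.node .nil (nat_lit 0x905a4f8b218) (nat_lit
  0x35a586) (nat_lit 0) .nil)) (nat_lit 0x905a4f8b4d7) (nat_lit 0xb43123) (nat_lit 0) (.node (.node .nil
  (nat_lit 0x905a4f8b799) (nat_lit 369027) (nat_lit 0x97a5a3) .nil) (nat_lit 0x905a4f8b8e9) (nat_lit 0xb4b146)
  (nat_lit 0) (.node .nil (nat_lit 0x905a4f8b915) (nat_lit 0xb43143) (nat_lit 0) .nil))) (nat_lit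
  0x905a4f8bb04) (nat_lit 0xc42563) (nat_lit 0) (.node (.node (.node .nil (nat_lit 0x905a4f8bbf6) (nat_lit
  0xb51183) (nat_lit 0) .nil) (nat_lit 0x905a4f8bdec) (nat_lit 0xa3a58b) (nat_lit 0) (.node .nil (nat_lit
  0x905a4f8bf4c) (nat_lit 0x1884ad23) (nat_lit 503118) .nil)) (nat_lit 0x905a4f8c1f3) (nat_lit 11596) (nat_lit
  0) (.node (.node .nil (nat_lit 0x905a4f8c4e3) (nat_lit 371082) (nat_lit 0) .nil) (nat_lit 0x905a4f8c643)
  (nat_lit 371081) (nat_lit 0) (.node .nil (nat_lit 0x905a4f8c6e3) (nat_lit 402792) (nat_lit 0) .nil))))))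
  (nat_lit 0x905a4f8c8ea) (nat_lit 371074) (nat_lit 0) (.node (.node (.node (.node (.node (.node .nil (nat_lit
  0x905a4f8cb93) (nat_lit 0xa62961) (nat_lit 0) .nil) (nat_lit 0x905a4f8cd4e) (nat_lit 0xb53122) (nat_lit 0)
  (.node .nil (nat_lit 0x905a4f8cdd8) (nat_lit 306380) (nat_lit 0) .nil)) (nat_lit 0x905a4f8cfdc) (nat_lit
  0xb53041) (nat_lit 0) (.node (.node .nil (nat_lit 0x905a4f8d2a1) (nat_lit 340299) (nat_lit 0) .nil) (nat_lit
  0x905a4f8d443) (nat_lit 0x962cca) (nat_lit 0) (.node .nil (nat_lit 0x905a4f8d4d0) (nat_lit 307558) (nat_lit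
  0) .nil))) (nat_lit 0x905a4f8d6d1) (nat_lit 371073) (nat_lit 0) (.node (.node (.node .nil (nat_lit
  0x905a4f8d9c1) (nat_lit 0xb53141) (nat_lit 0) .nil) (nat_lit 0x905a4f8db01) (nat_lit 0xb53121) (nat_lit 0)
  (.node .nil (nat_lit 0x905a4f8dbbf) (nat_lit 307403) (nat_lit 0) .nil)) (nat_lit 0x905a4f8e186) (nat_lit
  0xc2a962) (nat_lit 0) (.node (.node .nil (nat_lit 0x905a4f8e1cd) (nat_lit 0x752d2c) (nat_lit 0) .nil)
  (nat_lit 0x905a4f8e202) (nat_lit 536752) (nat_lit 0) (.node .nil (nat_lit 0x905a4f8e2d4) (nat_lit 0xb48d86)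
  (nat_lit 0) .nil)))) (nat_lit 0x905a4f8e5d3) (nat_lit 0x1061602) (nat_lit 0) (.node (.node (.node (.node
  .nil (nat_lit 0x905a4f8e8a0) (nat_lit 398667) (nat_lit 0) .nil) (nat_lit 0x905a4f8e8ae) (nat_lit 0xc2a969)
  (nat_lit 0) (.node .nil (nat_lit 0x905a4f8e9c9) (nat_lit 0xb49983) (nat_lit 0) .nil)) (nat_lit
  0x905a4f8ef9b) (nat_lit 0xc5a123) (nat_lit 0) (.node (.node .nil (nat_lit 0x905a4f8efa1) (nat_lit 404739)
  (nat_lit 0x97a12d) .nil) (nat_lit 0x905a4f8f093) (nat_lit 0xc52d25) (nat_lit 0) (.node .nil (nat_lit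
  0x905a4f8f0c2) (nat_lit 404808) (nat_lit 0) .nil))) (nat_lit 0x905a4f8f66b) (nat_lit 0x862d23) (nat_lit 0)
  (.node (.node (.node .nil (nat_lit 0x905a4f8f6ae) (nat_lit 274787) (nat_lit 310573) .nil) (nat_lit
  0x905a4f8f78a) (nat_lit 0xa5a4ec) (nat_lit 0) (.node .nil (nat_lit 0x905a4f8f7b7) (nat_lit 0xc5a902)
  (nat_lit 0) .nil)) (nat_lit 0x905a4f8f9ad) (nat_lit 0x862563) (nat_lit 0) (.node (.node .nil (nat_lit
  0x905a4f8faa0) (nat_lit 0x45a983) (nat_lit 0) .nil) (nat_lit 0x905a4f8fc66) (nat_lit 0xc4954b) (nat_lit 0)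
  (.node .nil (nat_lit 0x905a4f8fe04) (nat_lit 0x12c5a4c3) (nat_lit 502211) .nil))))) (nat_lit 0x905a4f900a4)
  (nat_lit 0x64b163) (nat_lit 0) (.node (.node (.node (.node (.node .nil (nat_lit 0x905a4f90190) (nat_lit
  0xb50d84) (nat_lit 0) .nil) (nat_lit 0x905a4f90384) (nat_lit 0x1474b161) (nat_lit 0) (.node .nil (nat_lit
  0x905a4f90459) (nat_lit 0x14c52c83) (nat_lit 502212) .nil)) (nat_lit 0x905a4f90697) (nat_lit 12458) (nat_lit
  0) (.node (.node .nil (nat_lit 0x905a4f90ac1) (nat_lit 389) (nat_lit 0) .nil) (nat_lit 0x905a4f90b44)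
  (nat_lit 398665) (nat_lit 0) (.node .nil (nat_lit 0x905a4f90c69) (nat_lit 12457) (nat_lit 0) .nil)))
  (nat_lit 0x905a4f90e2c) (nat_lit 398658) (nat_lit 0) (.node (.node (.node .nil (nat_lit 0x905a4f91141)
  (nat_lit 12450) (nat_lit 0) .nil) (nat_lit 0x905a4f912ec) (nat_lit 0xc2a922) (nat_lit 0) (.node .nil
  (nat_lit 0x905a4f91360) (nat_lit 398626) (nat_lit 0) .nil)) (nat_lit 0x905a4f91629) (nat_lit 209123)
  (nat_lit 0) (.node (.node .nil (nat_lit 0x905a4f9189a) (nat_lit 209191) (nat_lit 0) .nil) (nat_lit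
  0x905a4f91949) (nat_lit 371083) (nat_lit 0) (.node .nil (nat_lit 0x905a4f919d5) (nat_lit 0xa43125) (nat_lit
  0) .nil)))) (nat_lit 0x905a4f91d7c) (nat_lit 0x849d81) (nat_lit 0) (.node (.node (.node (.node .nil (nat_lit
  0x905a4f91f69) (nat_lit 400579) (nat_lit 0) .nil) (nat_lit 0x905a4f92040) (nat_lit 0xb53162) (nat_lit 0)
  (.node .nil (nat_lit 0x905a4f920e0) (nat_lit 0xa32585) (nat_lit 0) .nil)) (nat_lit 0x905a4f923f7) (nat_lit
  0x63b143) (nat_lit 0) (.node (.node .nil (nat_lit 0x905a4f92567) (nat_lit 0xa62125) (nat_lit 0) .nil)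
  (nat_lit 0x905a4f92660) (nat_lit 204163) (nat_lit 0) (.node .nil (nat_lit 0x905a4f92885) (nat_lit 271596)
  (nat_lit 0) .nil))) (nat_lit 0x905a4f92b50) (nat_lit 0x962907) (nat_lit 0) (.node (.node (.node .nil
  (nat_lit 0x905a4f92d29) (nat_lit 241859) (nat_lit 0) .nil) (nat_lit 0x905a4f92d6f) (nat_lit 0xb53161)
  (nat_lit 0) (.node .nil (nat_lit 0x905a4f92f7c) (nat_lit 399655) (nat_lit 0) .nil)) (nat_lit 0x905a4f93103)
  (nat_lit 176450) (nat_lit 0) (.node (.node .nil (nat_lit 0x905a4f93235) (nat_lit 0x562922) (nat_lit 0) .nil)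
  (nat_lit 0x905a4f9342a) (nat_lit 5506) (nat_lit 0) (.node .nil (nat_lit 0x905a4f9363f) (nat_lit 176418)
  (nat_lit 0) .nil)))))))
def tT_22 : T := (.node (.node (.node (.node (.node (.node (.node .nil (nat_lit 0x905a4f93b79) (nat_lit 172)
  (nat_lit 0) .nil) (nat_lit 0x905a4f93c9c) (nat_lit 176457) (nat_lit 0) (.node .nil (nat_lit 0x905a4f93d3c)
  (nat_lit 5513) (nat_lit 0) .nil)) (nat_lit 0x905a4f94373) (nat_lit 366985) (nat_lit 0) (.node (.node .nil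
  (nat_lit 0x905a4f943c2) (nat_lit 0x95a982) (nat_lit 0) .nil) (nat_lit 0x905a4f943c3) (nat_lit 11468)
  (nat_lit 0) (.node .nil (nat_lit 0x905a4f94421) (nat_lit 366986) (nat_lit 0) .nil))) (nat_lit 0x905a4f94a6c)
  (nat_lit 404681) (nat_lit 0) (.node (.node (.node .nil (nat_lit 0x905a4f94b12) (nat_lit 404682) (nat_lit 0)
  .nil) (nat_lit 0x905a4f94b3d) (nat_lit 12646) (nat_lit 0) (.node .nil (nat_lit 0x905a4f94b40) (nat_lit
  0xc59949) (nat_lit 0) .nil)) (nat_lit 0x905a4f94e3d) (nat_lit 399721) (nat_lit 0) (.node (.node .nil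
  (nat_lit 0x905a4f95207) (nat_lit 399722) (nat_lit 0) .nil) (nat_lit 0x905a4f95234) (nat_lit 12491) (nat_lit
  0) (.node .nil (nat_lit 0x905a4f95235) (nat_lit 0x95a981) (nat_lit 0) .nil)))) (nat_lit 0x905a4f95850)
  (nat_lit 209257) (nat_lit 0) (.node (.node (.node (.node .nil (nat_lit 0x905a4f95904) (nat_lit 209258)
  (nat_lit 0) .nil) (nat_lit 0x905a4f95928) (nat_lit 6539) (nat_lit 0) (.node .nil (nat_lit 0x905a4f9592f)
  (nat_lit 306508) (nat_lit 0) .nil)) (nat_lit 0x905a4f95e04) (nat_lit 0x562926) (nat_lit 0) (.node (.node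
  .nil (nat_lit 0x905a4f95edb) (nat_lit 209221) (nat_lit 0) .nil) (nat_lit 0x905a4f95fe1) (nat_lit 399523)
  (nat_lit 0) (.node .nil (nat_lit 0x905a4f9600b) (nat_lit 303493) (nat_lit 0) .nil))) (nat_lit 0x905a4f96594)
  (nat_lit 0x74b148) (nat_lit 0) (.node (.node (.node .nil (nat_lit 0x905a4f965f0) (nat_lit 307463) (nat_lit
  0) .nil) (nat_lit 0x905a4f96682) (nat_lit 0x761883) (nat_lit 15818) (.node .nil (nat_lit 0x905a4f966f3)
  (nat_lit 400710) (nat_lit 0) .nil)) (nat_lit 0x905a4f9680a) (nat_lit 0xc51901) (nat_lit 0) (.node (.node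
  .nil (nat_lit 0x905a4f969bf) (nat_lit 299402) (nat_lit 0) .nil) (nat_lit 0x905a4f96a03) (nat_lit 9356)
  (nat_lit 0) (.node .nil (nat_lit 0x905a4f96cef) (nat_lit 401604) (nat_lit 0) .nil))))) (nat_lit
  0x905a4f96f07) (nat_lit 0x4628a1) (nat_lit 0) (.node (.node (.node (.node (.node .nil (nat_lit
  0x905a4f97001) (nat_lit 402593) (nat_lit 0) .nil) (nat_lit 0x905a4f97337) (nat_lit 0xc49541) (nat_lit 0)
  (.node .nil (nat_lit 0x905a4f9744f) (nat_lit 143523) (nat_lit 0x97b543) .nil)) (nat_lit 0x905a4f977a4)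
  (nat_lit 303495) (nat_lit 0) (.node (.node .nil (nat_lit 0x905a4f97a79) (nat_lit 0xa49985) (nat_lit 0) .nil)
  (nat_lit 0x905a4f97a7e) (nat_lit 0xc39883) (nat_lit 506180) (.node .nil (nat_lit 0x905a4f97c04) (nat_lit
  241990) (nat_lit 0) .nil))) (nat_lit 0x905a4f97e5e) (nat_lit 0x8530e1) (nat_lit 0) (.node (.node (.node .nil
  (nat_lit 0x905a4f980a6) (nat_lit 0xa32587) (nat_lit 0) .nil) (nat_lit 0x905a4f982ac) (nat_lit 110789)
  (nat_lit 0) (.node .nil (nat_lit 0x905a4f9830b) (nat_lit 307461) (nat_lit 0) .nil)) (nat_lit 0x905a4f987cc)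
  (nat_lit 0xc51925) (nat_lit 0) (.node (.node .nil (nat_lit 0x905a4f987e7) (nat_lit 399685) (nat_lit 0) .nil)
  (nat_lit 0x905a4f989a1) (nat_lit 209059) (nat_lit 0) (.node .nil (nat_lit 0x905a4f98a02) (nat_lit 402629)
  (nat_lit 0) .nil)))) (nat_lit 0x905a4f98d8e) (nat_lit 0x661c83) (nat_lit 506179) (.node (.node (.node (.node
  .nil (nat_lit 0x905a4f98e72) (nat_lit 0xc524c7) (nat_lit 0) .nil) (nat_lit 0x905a4f98ed1) (nat_lit 402662)
  (nat_lit 0) (.node .nil (nat_lit 0x905a4f99059) (nat_lit 272773) (nat_lit 0) .nil)) (nat_lit 0x905a4f9964f)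
  (nat_lit 0xa4b0c5) (nat_lit 0) (.node (.node .nil (nat_lit 0x905a4f996a9) (nat_lit 402631) (nat_lit 0) .nil)
  (nat_lit 0x905a4f9973d) (nat_lit 0x63b083) (nat_lit 506250) (.node .nil (nat_lit 0x905a4f997b0) (nat_lit
  0x7628c1) (nat_lit 0) .nil))) (nat_lit 0x905a4f999af) (nat_lit 143685) (nat_lit 0) (.node (.node (.node .nil
  (nat_lit 0x905a4f999c1) (nat_lit 12581) (nat_lit 0) .nil) (nat_lit 0x905a4f99bac) (nat_lit 402602) (nat_lit
  0) (.node .nil (nat_lit 0x905a4f99d75) (nat_lit 168323) (nat_lit 310698) .nil)) (nat_lit 0x905a4f9a061)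
  (nat_lit 403656) (nat_lit 0) (.node (.node .nil (nat_lit 0x905a4f9a1b7) (nat_lit 299393) (nat_lit 0) .nil)
  (nat_lit 0x905a4f9a420) (nat_lit 0x923141) (nat_lit 0) (.node .nil (nat_lit 0x905a4f9a474) (nat_lit 266630)
  (nat_lit 0) .nil)))))) (nat_lit 0x905a4f9a802) (nat_lit 0x962905) (nat_lit 0) (.node (.node (.node (.node
  (.node (.node .nil (nat_lit 0x905a4f9ab6c) (nat_lit 272775) (nat_lit 0) .nil) (nat_lit 0x905a4f9ac74)
  (nat_lit 200069) (nat_lit 0) (.node .nil (nat_lit 0x905a4f9acd3) (nat_lit 307368) (nat_lit 0) .nil))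
  (nat_lit 0x905a4f9ae4e) (nat_lit 403718) (nat_lit 0) (.node (.node .nil (nat_lit 0x905a4f9afa2) (nat_lit
  307329) (nat_lit 0) .nil) (nat_lit 0x905a4f9b20b) (nat_lit 0x962881) (nat_lit 0) (.node .nil (nat_lit
  0x905a4f9b2a2) (nat_lit 274628) (nat_lit 0) .nil))) (nat_lit 0x905a4f9b576) (nat_lit 403620) (nat_lit 0)
  (.node (.node (.node .nil (nat_lit 0x905a4f9b59a) (nat_lit 402594) (nat_lit 0) .nil) (nat_lit 0x905a4f9b6ad)
  (nat_lit 0xa3a581) (nat_lit 0) (.node .nil (nat_lit 0x905a4f9ba00) (nat_lit 176259) (nat_lit 0x97b58a)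
  .nil)) (nat_lit 0x905a4f9bd38) (nat_lit 240836) (nat_lit 0) (.node (.node .nil (nat_lit 0x905a4f9c072)
  (nat_lit 0x65a8e3) (nat_lit 0) .nil) (nat_lit 0x905a4f9c094) (nat_lit 306501) (nat_lit 0) (.node .nil
  (nat_lit 0x905a4f9c10d) (nat_lit 298341) (nat_lit 0) .nil)))) (nat_lit 0x905a4f9c439) (nat_lit 0xa4a0a7)
  (nat_lit 0) (.node (.node (.node (.node .nil (nat_lit 0x905a4f9c72e) (nat_lit 0x839483) (nat_lit 0) .nil)
  (nat_lit 0x905a4f9c75c) (nat_lit 0x10749441) (nat_lit 214499) (.node .nil (nat_lit 0x905a4f9c890) (nat_lit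
  335016) (nat_lit 0) .nil)) (nat_lit 0x905a4f9ca32) (nat_lit 241956) (nat_lit 0) (.node (.node .nil (nat_lit
  0x905a4f9cb5d) (nat_lit 0xa49582) (nat_lit 0) .nil) (nat_lit 0x905a4f9cdb5) (nat_lit 7556) (nat_lit 0)
  (.node .nil (nat_lit 0x905a4f9cf69) (nat_lit 241988) (nat_lit 0) .nil))) (nat_lit 0x905a4f9d507) (nat_lit
  0xb524e2) (nat_lit 0) (.node (.node (.node .nil (nat_lit 0x905a4f9d579) (nat_lit 7307) (nat_lit 0) .nil)
  (nat_lit 0x905a4f9d588) (nat_lit 233833) (nat_lit 0) (.node .nil (nat_lit 0x905a4f9d6d6) (nat_lit 233834)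
  (nat_lit 0) .nil)) (nat_lit 0x905a4f9d84e) (nat_lit 403747) (nat_lit 0) (.node (.node .nil (nat_lit
  0x905a4f9d948) (nat_lit 12611) (nat_lit 0) .nil) (nat_lit 0x905a4f9d966) (nat_lit 387) (nat_lit 0) (.node
  .nil (nat_lit 0x905a4f9dc24) (nat_lit 12579) (nat_lit 0) .nil))))) (nat_lit 0x905a4f9de65) (nat_lit
  0x362921) (nat_lit 0) (.node (.node (.node (.node (.node .nil (nat_lit 0x905a4f9e05d) (nat_lit 3457)
  (nat_lit 0) .nil) (nat_lit 0x905a4f9e35c) (nat_lit 110881) (nat_lit 0) (.node .nil (nat_lit 0x905a4f9e3ab)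
  (nat_lit 110913) (nat_lit 0) .nil)) (nat_lit 0x905a4f9e638) (nat_lit 0x759483) (nat_lit 0) (.node (.node
  .nil (nat_lit 0x905a4f9e80b) (nat_lit 0x959943) (nat_lit 0) .nil) (nat_lit 0x905a4f9e92f) (nat_lit 306371)
  (nat_lit 0) (.node .nil (nat_lit 0x905a4f9e988) (nat_lit 0x55a8e1) (nat_lit 0) .nil))) (nat_lit
  0x905a4f9ec65) (nat_lit 0x72ac83) (nat_lit 0) (.node (.node (.node .nil (nat_lit 0x905a4f9eefc) (nat_lit
  0x932d43) (nat_lit 0) .nil) (nat_lit 0x905a4f9ef30) (nat_lit 0xb2a8e1) (nat_lit 0) (.node .nil (nat_lit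
  0x905a4f9efbb) (nat_lit 301411) (nat_lit 0) .nil)) (nat_lit 0x905a4f9f7d6) (nat_lit 370983) (nat_lit 0)
  (.node (.node .nil (nat_lit 0x905a4f9f848) (nat_lit 11492) (nat_lit 0) .nil) (nat_lit 0x905a4f9f857)
  (nat_lit 367908) (nat_lit 0) (.node .nil (nat_lit 0x905a4f9f9a3) (nat_lit 370915) (nat_lit 0) .nil))))
  (nat_lit 0x905a4f9faeb) (nat_lit 233865) (nat_lit 0) (.node (.node (.node (.node .nil (nat_lit
  0x905a4f9fe70) (nat_lit 7308) (nat_lit 0) .nil) (nat_lit 0x905a4f9ff87) (nat_lit 337068) (nat_lit 0) (.node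
  .nil (nat_lit 0x905a4fa001c) (nat_lit 233866) (nat_lit 0) .nil)) (nat_lit 0x905a4fa01bd) (nat_lit 400676)
  (nat_lit 0) (.node (.node .nil (nat_lit 0x905a4fa033f) (nat_lit 12516) (nat_lit 0) .nil) (nat_lit
  0x905a4fa05df) (nat_lit 337285) (nat_lit 0) (.node .nil (nat_lit 0x905a4fa0714) (nat_lit 403683) (nat_lit 0)
  .nil))) (nat_lit 0x905a4fa0ca8) (nat_lit 0xb524e1) (nat_lit 0) (.node (.node (.node .nil (nat_lit
  0x905a4fa0d21) (nat_lit 7524) (nat_lit 0) .nil) (nat_lit 0x905a4fa0d3a) (nat_lit 240932) (nat_lit 0) (.node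
  .nil (nat_lit 0x905a4fa0e64) (nat_lit 240964) (nat_lit 0) .nil)) (nat_lit 0x905a4fa106e) (nat_lit 0x54a147)
  (nat_lit 0) (.node (.node .nil (nat_lit 0x905a4fa137c) (nat_lit 5383) (nat_lit 0) .nil) (nat_lit
  0x905a4fa14b5) (nat_lit 303333) (nat_lit 17892) (.node .nil (nat_lit 0x905a4fa1586) (nat_lit 172266)
  (nat_lit 0) .nil)))))))
def tT_23 : T := (.node (.node (.node (.node (.node (.node (.node .nil (nat_lit 0x905a4fa1906) (nat_lit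
  0x852582) (nat_lit 0) .nil) (nat_lit 0x905a4fa19d2) (nat_lit 274661) (nat_lit 0) (.node .nil (nat_lit
  0x905a4fa1b92) (nat_lit 340163) (nat_lit 0) .nil)) (nat_lit 0x905a4fa1f77) (nat_lit 272684) (nat_lit 0)
  (.node (.node .nil (nat_lit 0x905a4fa20f2) (nat_lit 274599) (nat_lit 0) .nil) (nat_lit 0x905a4fa2100)
  (nat_lit 370059) (nat_lit 0) (.node .nil (nat_lit 0x905a4fa2315) (nat_lit 333932) (nat_lit 0) .nil)))
  (nat_lit 0x905a4fa2669) (nat_lit 303271) (nat_lit 247267) (.node (.node (.node .nil (nat_lit 0x905a4fa27fe)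
  (nat_lit 0x7520a9) (nat_lit 0) .nil) (nat_lit 0x905a4fa285d) (nat_lit 7336) (nat_lit 0) (.node .nil (nat_lit
  0x905a4fa2a2a) (nat_lit 239877) (nat_lit 0) .nil)) (nat_lit 0x905a4fa2eff) (nat_lit 8359) (nat_lit 0) (.node
  (.node .nil (nat_lit 0x905a4fa2f35) (nat_lit 0x8524e5) (nat_lit 0) .nil) (nat_lit 0x905a4fa308e) (nat_lit
  302248) (nat_lit 572547) (.node .nil (nat_lit 0x905a4fa3172) (nat_lit 267498) (nat_lit 0) .nil)))) (nat_lit
  0x905a4fa3390) (nat_lit 401575) (nat_lit 0) (.node (.node (.node (.node .nil (nat_lit 0x905a4fa33f0)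
  (nat_lit 334211) (nat_lit 0) .nil) (nat_lit 0x905a4fa36a3) (nat_lit 0x9330e5) (nat_lit 0) (.node .nil
  (nat_lit 0x905a4fa3751) (nat_lit 0xa33123) (nat_lit 0) .nil)) (nat_lit 0x905a4fa3ccc) (nat_lit 401637)
  (nat_lit 0) (.node (.node .nil (nat_lit 0x905a4fa3d01) (nat_lit 207236) (nat_lit 0) .nil) (nat_lit
  0x905a4fa3db7) (nat_lit 0xb4b161) (nat_lit 0) (.node .nil (nat_lit 0x905a4fa3e30) (nat_lit 0x852581)
  (nat_lit 0) .nil))) (nat_lit 0x905a4fa422b) (nat_lit 8421) (nat_lit 0) (.node (.node (.node .nil (nat_lit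
  0x905a4fa4418) (nat_lit 0x8524a7) (nat_lit 0) .nil) (nat_lit 0x905a4fa4566) (nat_lit 300295) (nat_lit 7727)
  (.node .nil (nat_lit 0x905a4fa460b) (nat_lit 371047) (nat_lit 0) .nil)) (nat_lit 0x905a4fa4abb) (nat_lit
  0x962145) (nat_lit 0) (.node (.node .nil (nat_lit 0x905a4fa4ba6) (nat_lit 340231) (nat_lit 0) .nil) (nat_lit
  0x905a4fa4c1d) (nat_lit 399522) (nat_lit 502249) (.node .nil (nat_lit 0x905a4fa4cac) (nat_lit 0xc31522)
  (nat_lit 0) .nil))))) (nat_lit 0x905a4fa4f67) (nat_lit 0xc49945) (nat_lit 0) (.node (.node (.node (.node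
  (.node .nil (nat_lit 0x905a4fa529b) (nat_lit 399530) (nat_lit 0) .nil) (nat_lit 0x905a4fa5328) (nat_lit
  12485) (nat_lit 0xf53ca9) (.node .nil (nat_lit 0x905a4fa539f) (nat_lit 399529) (nat_lit 0) .nil)) (nat_lit
  0x905a4fa556c) (nat_lit 401734) (nat_lit 0) (.node (.node .nil (nat_lit 0x905a4fa56b4) (nat_lit 299116)
  (nat_lit 0) .nil) (nat_lit 0x905a4fa58ef) (nat_lit 0xa61d25) (nat_lit 0) (.node .nil (nat_lit 0x905a4fa5a06)
  (nat_lit 0x861883) (nat_lit 0) .nil))) (nat_lit 0x905a4fa5c61) (nat_lit 0x8628c1) (nat_lit 0) (.node (.node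
  (.node .nil (nat_lit 0x905a4fa5da7) (nat_lit 298372) (nat_lit 0) .nil) (nat_lit 0x905a4fa5e1b) (nat_lit
  0x8230c3) (nat_lit 0) (.node .nil (nat_lit 0x905a4fa5fe6) (nat_lit 0x91b144) (nat_lit 0) .nil)) (nat_lit
  0x905a4fa648e) (nat_lit 209058) (nat_lit 539983) (.node (.node .nil (nat_lit 0x905a4fa6694) (nat_lit
  0x93a986) (nat_lit 0) .nil) (nat_lit 0x905a4fa669b) (nat_lit 0xa620e1) (nat_lit 0) (.node .nil (nat_lit
  0x905a4fa68b0) (nat_lit 0x661522) (nat_lit 0) .nil)))) (nat_lit 0x905a4fa6b46) (nat_lit 336263) (nat_lit 0)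
  (.node (.node (.node (.node .nil (nat_lit 0x905a4fa6c91) (nat_lit 6533) (nat_lit 0xf53d24) .nil) (nat_lit
  0x905a4fa6d5d) (nat_lit 0x943145) (nat_lit 0) (.node .nil (nat_lit 0x905a4fa6f19) (nat_lit 209065) (nat_lit
  0) .nil)) (nat_lit 0x905a4fa711c) (nat_lit 240005) (nat_lit 0) (.node (.node .nil (nat_lit 0x905a4fa7288)
  (nat_lit 307331) (nat_lit 0) .nil) (nat_lit 0x905a4fa729e) (nat_lit 0x962883) (nat_lit 0) (.node .nil
  (nat_lit 0x905a4fa753e) (nat_lit 0xc32083) (nat_lit 0) .nil))) (nat_lit 0x905a4fa7863) (nat_lit 0xb52481)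
  (nat_lit 0) (.node (.node (.node .nil (nat_lit 0x905a4fa799b) (nat_lit 369793) (nat_lit 0) .nil) (nat_lit
  0x905a4fa7a38) (nat_lit 11393) (nat_lit 0) (.node .nil (nat_lit 0x905a4fa7b5c) (nat_lit 370817) (nat_lit 0)
  .nil)) (nat_lit 0x905a4fa7f17) (nat_lit 142665) (nat_lit 0) (.node (.node .nil (nat_lit 0x905a4fa812d)
  (nat_lit 139) (nat_lit 0) .nil) (nat_lit 0x905a4fa8161) (nat_lit 4457) (nat_lit 0) (.node .nil (nat_lit
  0x905a4fa81ea) (nat_lit 4458) (nat_lit 0) .nil)))))) (nat_lit 0x905a4fa8689) (nat_lit 0x84ac62) (nat_lit 0)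
  (.node (.node (.node (.node (.node (.node .nil (nat_lit 0x905a4fa872d) (nat_lit 0x752cc3) (nat_lit 0) .nil)
  (nat_lit 0x905a4fa8953) (nat_lit 0x92a961) (nat_lit 0) (.node .nil (nat_lit 0x905a4fa8980) (nat_lit
  0x95a503) (nat_lit 0) .nil)) (nat_lit 0x905a4fa9073) (nat_lit 336161) (nat_lit 0) (.node (.node .nil
  (nat_lit 0x905a4fa90aa) (nat_lit 8289) (nat_lit 343497) .nil) (nat_lit 0x905a4fa9139) (nat_lit 10497)
  (nat_lit 0) (.node .nil (nat_lit 0x905a4fa91e6) (nat_lit 271457) (nat_lit 0) .nil))) (nat_lit 0x905a4fa9768)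
  (nat_lit 531969) (nat_lit 483) (.node (.node (.node .nil (nat_lit 0x905a4fa9799) (nat_lit 0xb4acea) (nat_lit
  0) .nil) (nat_lit 0x905a4fa982e) (nat_lit 370023) (nat_lit 0) (.node .nil (nat_lit 0x905a4fa9959) (nat_lit
  0x651441) (nat_lit 0) .nil)) (nat_lit 0x905a4fa9b68) (nat_lit 0xb51901) (nat_lit 0) (.node (.node .nil
  (nat_lit 0x905a4fa9c13) (nat_lit 208168) (nat_lit 0) .nil) (nat_lit 0x905a4fa9e2e) (nat_lit 368836) (nat_lit
  0) (.node .nil (nat_lit 0x905a4fa9e68) (nat_lit 239915) (nat_lit 0) .nil)))) (nat_lit 0x905a4faa162)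
  (nat_lit 300129) (nat_lit 0) (.node (.node (.node (.node .nil (nat_lit 0x905a4faa1fa) (nat_lit 174210)
  (nat_lit 0) .nil) (nat_lit 0x905a4faa58a) (nat_lit 5250) (nat_lit 494) (.node .nil (nat_lit 0x905a4faa5b5)
  (nat_lit 10533) (nat_lit 0) .nil)) (nat_lit 0x905a4faa86e) (nat_lit 0x851841) (nat_lit 0) (.node (.node .nil
  (nat_lit 0x905a4faa8ef) (nat_lit 0x849862) (nat_lit 214505) .nil) (nat_lit 0x905a4faac7d) (nat_lit 0x9428c1)
  (nat_lit 0) (.node .nil (nat_lit 0x905a4faace6) (nat_lit 268419) (nat_lit 0) .nil))) (nat_lit 0x905a4fab0ed)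
  (nat_lit 238945) (nat_lit 0) (.node (.node (.node .nil (nat_lit 0x905a4fab2fe) (nat_lit 0x74ad41) (nat_lit
  0) .nil) (nat_lit 0x905a4fab43d) (nat_lit 208033) (nat_lit 16) (.node .nil (nat_lit 0x905a4fab55c) (nat_lit
  0x659541) (nat_lit 0) .nil)) (nat_lit 0x905a4fab7da) (nat_lit 0xb518e4) (nat_lit 0) (.node (.node .nil
  (nat_lit 0x905a4fab9f7) (nat_lit 367812) (nat_lit 0) .nil) (nat_lit 0x905a4fabb2d) (nat_lit 272683) (nat_lit
  0) (.node .nil (nat_lit 0x905a4fabc53) (nat_lit 306339) (nat_lit 0) .nil))))) (nat_lit 0x905a4fabe02)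
  (nat_lit 0x62a961) (nat_lit 0) (.node (.node (.node (.node (.node .nil (nat_lit 0x905a4fabede) (nat_lit
  0x65a503) (nat_lit 0) .nil) (nat_lit 0x905a4fac004) (nat_lit 0xb41883) (nat_lit 0) (.node .nil (nat_lit
  0x905a4fac0f6) (nat_lit 0x93a961) (nat_lit 0) .nil)) (nat_lit 0x905a4fac7e4) (nat_lit 201793) (nat_lit 9699)
  (.node (.node .nil (nat_lit 0x905a4fac864) (nat_lit 0x75a56a) (nat_lit 0) .nil) (nat_lit 0x905a4fac8eb)
  (nat_lit 240939) (nat_lit 0) (.node .nil (nat_lit 0x905a4fac9f3) (nat_lit 0x62a841) (nat_lit 0) .nil)))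
  (nat_lit 0x905a4facf53) (nat_lit 8) (nat_lit 16878) (.node (.node (.node .nil (nat_lit 0x905a4facfe0)
  (nat_lit 266) (nat_lit 0) .nil) (nat_lit 0x905a4fad018) (nat_lit 8521) (nat_lit 0) (.node .nil (nat_lit
  0x905a4fad08b) (nat_lit 265) (nat_lit 0) .nil)) (nat_lit 0x905a4fad2e1) (nat_lit 271714) (nat_lit 0) (.node
  (.node .nil (nat_lit 0x905a4fad3c4) (nat_lit 239974) (nat_lit 0) .nil) (nat_lit 0x905a4fad4e9) (nat_lit
  0xa49561) (nat_lit 0) (.node .nil (nat_lit 0x905a4fad5dd) (nat_lit 306472) (nat_lit 0) .nil)))) (nat_lit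
  0x905a4fad92a) (nat_lit 240963) (nat_lit 0) (.node (.node (.node (.node .nil (nat_lit 0x905a4fada8c)
  (nat_lit 369889) (nat_lit 0) .nil) (nat_lit 0x905a4fadd68) (nat_lit 0xb49d41) (nat_lit 0) (.node .nil
  (nat_lit 0x905a4fadd8f) (nat_lit 7523) (nat_lit 3) .nil)) (nat_lit 0x905a4fae1f7) (nat_lit 0x851ca9)
  (nat_lit 0) (.node (.node .nil (nat_lit 0x905a4fae4c1) (nat_lit 271527) (nat_lit 181551) .nil) (nat_lit
  0x905a4fae512) (nat_lit 234756) (nat_lit 0) (.node .nil (nat_lit 0x905a4fae5f8) (nat_lit 272613) (nat_lit 0)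
  .nil))) (nat_lit 0x905a4fae8ee) (nat_lit 235649) (nat_lit 0) (.node (.node (.node .nil (nat_lit
  0x905a4faeaad) (nat_lit 335142) (nat_lit 0) .nil) (nat_lit 0x905a4faebb6) (nat_lit 0xa31c81) (nat_lit
  0xd445e3) (.node .nil (nat_lit 0x905a4faeced) (nat_lit 301283) (nat_lit 0) .nil)) (nat_lit 0x905a4faee76)
  (nat_lit 369827) (nat_lit 0) (.node (.node .nil (nat_lit 0x905a4faef6e) (nat_lit 10600) (nat_lit 0) .nil)
  (nat_lit 0x905a4faf278) (nat_lit 339209) (nat_lit 0) (.node .nil (nat_lit 0x905a4faf27b) (nat_lit 4453)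
  (nat_lit 0) .nil)))))))
def tT_24 : T := (.node (.node (.node (.node (.node (.node (.node .nil (nat_lit 0x905a4faf5ee) (nat_lit 7489)
  (nat_lit 0) .nil) (nat_lit 0x905a4faf8ed) (nat_lit 225) (nat_lit 489) (.node .nil (nat_lit 0x905a4fafa02)
  (nat_lit 239905) (nat_lit 0) .nil)) (nat_lit 0x905a4fafc85) (nat_lit 0xc53083) (nat_lit 0xd445e9) (.node
  (.node .nil (nat_lit 0x905a4fafce9) (nat_lit 0x549907) (nat_lit 0) .nil) (nat_lit 0x905a4fb00d5) (nat_lit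
  0x12c53061) (nat_lit 0) (.node .nil (nat_lit 0x905a4fb0104) (nat_lit 0x8398a3) (nat_lit 0) .nil))) (nat_lit
  0x905a4fb06eb) (nat_lit 0xa5a4a1) (nat_lit 0) (.node (.node (.node .nil (nat_lit 0x905a4fb075f) (nat_lit
  8547) (nat_lit 419) .nil) (nat_lit 0x905a4fb08ab) (nat_lit 273699) (nat_lit 0) (.node .nil (nat_lit
  0x905a4fb0912) (nat_lit 370945) (nat_lit 0) .nil)) (nat_lit 0x905a4fb0bca) (nat_lit 0x752c41) (nat_lit 0)
  (.node (.node .nil (nat_lit 0x905a4fb0dd6) (nat_lit 0xa5a4e4) (nat_lit 0) .nil) (nat_lit 0x905a4fb0de2)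
  (nat_lit 339271) (nat_lit 0) (.node .nil (nat_lit 0x905a4fb100f) (nat_lit 0x84acc3) (nat_lit 0) .nil))))
  (nat_lit 0x905a4fb11bd) (nat_lit 0x652ca1) (nat_lit 0) (.node (.node (.node (.node .nil (nat_lit
  0x905a4fb1268) (nat_lit 368934) (nat_lit 0) .nil) (nat_lit 0x905a4fb1468) (nat_lit 366852) (nat_lit 0)
  (.node .nil (nat_lit 0x905a4fb1473) (nat_lit 0x752562) (nat_lit 0) .nil)) (nat_lit 0x905a4fb18f5) (nat_lit
  334117) (nat_lit 0) (.node (.node .nil (nat_lit 0x905a4fb1bc4) (nat_lit 6469) (nat_lit 0) .nil) (nat_lit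
  0x905a4fb1bfe) (nat_lit 201825) (nat_lit 15491) (.node .nil (nat_lit 0x905a4fb1c2d) (nat_lit 9413) (nat_lit
  0) .nil))) (nat_lit 0x905a4fb1fe8) (nat_lit 8290) (nat_lit 0xa7b924) (.node (.node (.node .nil (nat_lit
  0x905a4fb22f5) (nat_lit 336162) (nat_lit 0) .nil) (nat_lit 0x905a4fb2322) (nat_lit 10498) (nat_lit 0) (.node
  .nil (nat_lit 0x905a4fb2475) (nat_lit 271458) (nat_lit 0) .nil)) (nat_lit 0x905a4fb26a4) (nat_lit 271715)
  (nat_lit 0) (.node (.node .nil (nat_lit 0x905a4fb2746) (nat_lit 0x751963) (nat_lit 0) .nil) (nat_lit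
  0x905a4fb294b) (nat_lit 0x84ad43) (nat_lit 0) (.node .nil (nat_lit 0x905a4fb2956) (nat_lit 0x84ad23)
  (nat_lit 0) .nil))))) (nat_lit 0x905a4fb3097) (nat_lit 0x74ad42) (nat_lit 0) (.node (.node (.node (.node
  (.node .nil (nat_lit 0x905a4fb315e) (nat_lit 238946) (nat_lit 0) .nil) (nat_lit 0x905a4fb3180) (nat_lit
  11461) (nat_lit 169) (.node .nil (nat_lit 0x905a4fb32a4) (nat_lit 272742) (nat_lit 0) .nil)) (nat_lit
  0x905a4fb3426) (nat_lit 271555) (nat_lit 280041) (.node (.node .nil (nat_lit 0x905a4fb346a) (nat_lit 272577)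
  (nat_lit 0) .nil) (nat_lit 0x905a4fb37b6) (nat_lit 207144) (nat_lit 0) (.node .nil (nat_lit 0x905a4fb381d)
  (nat_lit 204931) (nat_lit 0) .nil))) (nat_lit 0x905a4fb3b1b) (nat_lit 5444) (nat_lit 0) (.node (.node (.node
  .nil (nat_lit 0x905a4fb3b5e) (nat_lit 5412) (nat_lit 0) .nil) (nat_lit 0x905a4fb3ead) (nat_lit 164) (nat_lit
  7662) (.node .nil (nat_lit 0x905a4fb3eda) (nat_lit 337058) (nat_lit 0) .nil)) (nat_lit 0x905a4fb4573)
  (nat_lit 366820) (nat_lit 0) (.node (.node .nil (nat_lit 0x905a4fb4641) (nat_lit 0xb3a8c3) (nat_lit 0) .nil)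
  (nat_lit 0x905a4fb4663) (nat_lit 0x95a8a2) (nat_lit 0) (.node .nil (nat_lit 0x905a4fb4787) (nat_lit 173412)
  (nat_lit 0) .nil)))) (nat_lit 0x905a4fb4c50) (nat_lit 0x75a8c3) (nat_lit 0) (.node (.node (.node (.node .nil
  (nat_lit 0x905a4fb4c6b) (nat_lit 233830) (nat_lit 0) .nil) (nat_lit 0x905a4fb4d5c) (nat_lit 0x852562)
  (nat_lit 0) (.node .nil (nat_lit 0x905a4fb4e7e) (nat_lit 300387) (nat_lit 0) .nil)) (nat_lit 0x905a4fb5343)
  (nat_lit 0x851527) (nat_lit 0) (.node (.node .nil (nat_lit 0x905a4fb5354) (nat_lit 269605) (nat_lit 8751)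
  .nil) (nat_lit 0x905a4fb53f7) (nat_lit 0x541c83) (nat_lit 0) (.node .nil (nat_lit 0x905a4fb5549) (nat_lit
  336039) (nat_lit 0) .nil))) (nat_lit 0x905a4fb5799) (nat_lit 8257) (nat_lit 506025) (.node (.node (.node
  .nil (nat_lit 0x905a4fb5a4a) (nat_lit 272449) (nat_lit 0) .nil) (nat_lit 0x905a4fb5b56) (nat_lit 0x852441)
  (nat_lit 0) (.node .nil (nat_lit 0x905a4fb5c40) (nat_lit 271425) (nat_lit 0) .nil)) (nat_lit 0x905a4fb5dd7)
  (nat_lit 8491) (nat_lit 0) (.node (.node .nil (nat_lit 0x905a4fb5efd) (nat_lit 239819) (nat_lit 0) .nil)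
  (nat_lit 0x905a4fb5f51) (nat_lit 271722) (nat_lit 0) (.node .nil (nat_lit 0x905a4fb60f1) (nat_lit 271721)
  (nat_lit 0) .nil)))))) (nat_lit 0x905a4fb6449) (nat_lit 273734) (nat_lit 0) (.node (.node (.node (.node
  (.node (.node .nil (nat_lit 0x905a4fb65ef) (nat_lit 0xb424c3) (nat_lit 0) .nil) (nat_lit 0x905a4fb67e8)
  (nat_lit 0xa3a564) (nat_lit 0) (.node .nil (nat_lit 0x905a4fb6862) (nat_lit 0xb32083) (nat_lit 0) .nil))
  (nat_lit 0x905a4fb6c7c) (nat_lit 301381) (nat_lit 0) (.node (.node .nil (nat_lit 0x905a4fb6f2f) (nat_lit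
  6313) (nat_lit 0) .nil) (nat_lit 0x905a4fb6f41) (nat_lit 197) (nat_lit 310403) (.node .nil (nat_lit
  0x905a4fb7050) (nat_lit 6314) (nat_lit 0) .nil))) (nat_lit 0x905a4fb76aa) (nat_lit 0x849ca1) (nat_lit 5679)
  (.node (.node (.node .nil (nat_lit 0x905a4fb7736) (nat_lit 267492) (nat_lit 0) .nil) (nat_lit 0x905a4fb774a)
  (nat_lit 0x9428e5) (nat_lit 0) (.node .nil (nat_lit 0x905a4fb77fc) (nat_lit 0x8514e1) (nat_lit 0) .nil))
  (nat_lit 0x905a4fb79ae) (nat_lit 142663) (nat_lit 0) (.node (.node .nil (nat_lit 0x905a4fb7aa7) (nat_lit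
  0xb49c41) (nat_lit 0) .nil) (nat_lit 0x905a4fb7d81) (nat_lit 0x45a8e9) (nat_lit 0) (.node .nil (nat_lit
  0x905a4fb7daa) (nat_lit 240738) (nat_lit 4) .nil)))) (nat_lit 0x905a4fb803a) (nat_lit 168297) (nat_lit 0)
  (.node (.node (.node (.node .nil (nat_lit 0x905a4fb819d) (nat_lit 339202) (nat_lit 0) .nil) (nat_lit
  0x905a4fb84a5) (nat_lit 0xa5a122) (nat_lit 0) (.node .nil (nat_lit 0x905a4fb84aa) (nat_lit 5259) (nat_lit 0)
  .nil)) (nat_lit 0x905a4fb890b) (nat_lit 7462) (nat_lit 0) (.node (.node .nil (nat_lit 0x905a4fb8afa)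
  (nat_lit 238794) (nat_lit 0) .nil) (nat_lit 0x905a4fb8b8d) (nat_lit 0x751861) (nat_lit 432687) (.node .nil
  (nat_lit 0x905a4fb8c39) (nat_lit 203905) (nat_lit 0) .nil))) (nat_lit 0x905a4fb8eb4) (nat_lit 0xc51183)
  (nat_lit 0xd345e9) (.node (.node (.node .nil (nat_lit 0x905a4fb8f18) (nat_lit 0xb42563) (nat_lit 0) .nil)
  (nat_lit 0x905a4fb9304) (nat_lit 0x96286c) (nat_lit 0) (.node .nil (nat_lit 0x905a4fb9331) (nat_lit
  0x7320a3) (nat_lit 0) .nil)) (nat_lit 0x905a4fb95ab) (nat_lit 238657) (nat_lit 0) (.node (.node .nil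
  (nat_lit 0x905a4fb9607) (nat_lit 239681) (nat_lit 0) .nil) (nat_lit 0x905a4fb989e) (nat_lit 7233) (nat_lit
  15529) (.node .nil (nat_lit 0x905a4fb9a1d) (nat_lit 0x752441) (nat_lit 0) .nil))))) (nat_lit 0x905a4fb9d38)
  (nat_lit 239978) (nat_lit 0) (.node (.node (.node (.node (.node .nil (nat_lit 0x905a4fba051) (nat_lit
  239977) (nat_lit 0) .nil) (nat_lit 0x905a4fba20d) (nat_lit 7499) (nat_lit 0) (.node .nil (nat_lit
  0x905a4fba238) (nat_lit 0x64ad03) (nat_lit 0) .nil)) (nat_lit 0x905a4fba420) (nat_lit 0xa5a4a2) (nat_lit 0)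
  (.node (.node .nil (nat_lit 0x905a4fba776) (nat_lit 368738) (nat_lit 13443) .nil) (nat_lit 0x905a4fba902)
  (nat_lit 0xb42462) (nat_lit 0) (.node .nil (nat_lit 0x905a4fba931) (nat_lit 370946) (nat_lit 0) .nil)))
  (nat_lit 0x905a4fbada3) (nat_lit 0x93ad42) (nat_lit 0) (.node (.node (.node .nil (nat_lit 0x905a4fbadc4)
  (nat_lit 302434) (nat_lit 0) .nil) (nat_lit 0x905a4fbae62) (nat_lit 109765) (nat_lit 0) (.node .nil (nat_lit
  0x905a4fbaff5) (nat_lit 366917) (nat_lit 0) .nil)) (nat_lit 0x905a4fbb272) (nat_lit 9451) (nat_lit 0) (.node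
  (.node .nil (nat_lit 0x905a4fbb45a) (nat_lit 200037) (nat_lit 0) .nil) (nat_lit 0x905a4fbb47b) (nat_lit
  302442) (nat_lit 0) (.node .nil (nat_lit 0x905a4fbb6e8) (nat_lit 208197) (nat_lit 0) .nil)))) (nat_lit
  0x905a4fbb877) (nat_lit 0x849841) (nat_lit 0x10345e3) (.node (.node (.node (.node .nil (nat_lit
  0x905a4fbb8dc) (nat_lit 10440) (nat_lit 0) .nil) (nat_lit 0x905a4fbbc04) (nat_lit 337158) (nat_lit 0) (.node
  .nil (nat_lit 0x905a4fbbcd3) (nat_lit 268417) (nat_lit 0) .nil)) (nat_lit 0x905a4fbbf6e) (nat_lit 271553)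
  (nat_lit 378191) (.node (.node .nil (nat_lit 0x905a4fbbfd1) (nat_lit 10502) (nat_lit 0) .nil) (nat_lit
  0x905a4fbc2f9) (nat_lit 337096) (nat_lit 0) (.node .nil (nat_lit 0x905a4fbc3cc) (nat_lit 204929) (nat_lit 0)
  .nil))) (nat_lit 0x905a4fbc979) (nat_lit 0x959d42) (nat_lit 0) (.node (.node (.node .nil (nat_lit
  0x905a4fbca3e) (nat_lit 366755) (nat_lit 0) .nil) (nat_lit 0x905a4fbca83) (nat_lit 306402) (nat_lit 0)
  (.node .nil (nat_lit 0x905a4fbcb1f) (nat_lit 339206) (nat_lit 0) .nil)) (nat_lit 0x905a4fbcde0) (nat_lit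
  306410) (nat_lit 0) (.node (.node .nil (nat_lit 0x905a4fbd133) (nat_lit 208035) (nat_lit 0) .nil) (nat_lit
  0x905a4fbd17a) (nat_lit 9575) (nat_lit 0) (.node .nil (nat_lit 0x905a4fbd2bf) (nat_lit 339144) (nat_lit 0)
  .nil)))))))
def tT_25 : T := (.node (.node (.node (.node (.node (.node (.node .nil (nat_lit 0x905a4fbd82c) (nat_lit
  336171) (nat_lit 0) .nil) (nat_lit 0x905a4fbd848) (nat_lit 208199) (nat_lit 0) (.node .nil (nat_lit
  0x905a4fbd9b4) (nat_lit 306337) (nat_lit 0) .nil)) (nat_lit 0x905a4fbde58) (nat_lit 0x92ad21) (nat_lit 0)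
  (.node (.node .nil (nat_lit 0x905a4fbdf21) (nat_lit 0x92ad41) (nat_lit 0) .nil) (nat_lit 0x905a4fbdf64)
  (nat_lit 367942) (nat_lit 0) (.node .nil (nat_lit 0x905a4fbe074) (nat_lit 300385) (nat_lit 0) .nil)))
  (nat_lit 0x905a4fbe23d) (nat_lit 10404) (nat_lit 0) (.node (.node (.node .nil (nat_lit 0x905a4fbe29a)
  (nat_lit 9378) (nat_lit 0) .nil) (nat_lit 0x905a4fbe544) (nat_lit 300354) (nat_lit 0) (.node .nil (nat_lit
  0x905a4fbe5c6) (nat_lit 168033) (nat_lit 335342) .nil)) (nat_lit 0x905a4fbe934) (nat_lit 332930) (nat_lit 0)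
  (.node (.node .nil (nat_lit 0x905a4fbe98f) (nat_lit 293) (nat_lit 0) .nil) (nat_lit 0x905a4fbec6f) (nat_lit
  9386) (nat_lit 0) (.node .nil (nat_lit 0x905a4fbecbb) (nat_lit 9385) (nat_lit 10734) .nil)))) (nat_lit
  0x905a4fbf121) (nat_lit 0x65a8e1) (nat_lit 0) (.node (.node (.node (.node .nil (nat_lit 0x905a4fbf301)
  (nat_lit 306346) (nat_lit 0) .nil) (nat_lit 0x905a4fbf31e) (nat_lit 306345) (nat_lit 0) (.node .nil (nat_lit
  0x905a4fbf58f) (nat_lit 9573) (nat_lit 0) .nil)) (nat_lit 0x905a4fbfa38) (nat_lit 300393) (nat_lit 0) (.node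
  (.node .nil (nat_lit 0x905a4fbfafd) (nat_lit 300394) (nat_lit 0) .nil) (nat_lit 0x905a4fbfb3f) (nat_lit
  240966) (nat_lit 0) (.node .nil (nat_lit 0x905a4fbfc86) (nat_lit 9387) (nat_lit 0) .nil))) (nat_lit
  0x905a4fbfd86) (nat_lit 337252) (nat_lit 0) (.node (.node (.node .nil (nat_lit 0x905a4fbff75) (nat_lit
  273638) (nat_lit 0) .nil) (nat_lit 0x905a4fc01c3) (nat_lit 0xa4ad24) (nat_lit 0) (.node .nil (nat_lit
  0x905a4fc01f2) (nat_lit 0x542562) (nat_lit 0) .nil)) (nat_lit 0x905a4fc04e6) (nat_lit 0x832ca3) (nat_lit 0)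
  (.node (.node .nil (nat_lit 0x905a4fc066b) (nat_lit 0xa32d23) (nat_lit 0) .nil) (nat_lit 0x905a4fc08e1)
  (nat_lit 334179) (nat_lit 0) (.node .nil (nat_lit 0x905a4fc08ec) (nat_lit 271719) (nat_lit 0) .nil)))))
  (nat_lit 0x905a4fc0b5a) (nat_lit 0xc53125) (nat_lit 0xc8a9ed) (.node (.node (.node (.node (.node .nil
  (nat_lit 0x905a4fc0cde) (nat_lit 7368) (nat_lit 0) .nil) (nat_lit 0x905a4fc0f36) (nat_lit 235786) (nat_lit
  0) (.node .nil (nat_lit 0x905a4fc0fae) (nat_lit 238854) (nat_lit 0) .nil)) (nat_lit 0x905a4fc142a) (nat_lit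
  12641) (nat_lit 0x20f5e216) (.node (.node .nil (nat_lit 0x905a4fc1794) (nat_lit 404769) (nat_lit 0) .nil)
  (nat_lit 0x905a4fc17a3) (nat_lit 404801) (nat_lit 0) (.node .nil (nat_lit 0x905a4fc181f) (nat_lit 0xc5a921)
  (nat_lit 0) .nil))) (nat_lit 0x905a4fc1a47) (nat_lit 268645) (nat_lit 0) (.node (.node (.node .nil (nat_lit
  0x905a4fc1dbf) (nat_lit 269611) (nat_lit 0) .nil) (nat_lit 0x905a4fc1e34) (nat_lit 10443) (nat_lit 0) (.node
  .nil (nat_lit 0x905a4fc1e41) (nat_lit 334185) (nat_lit 0) .nil)) (nat_lit 0x905a4fc213e) (nat_lit 0xa4ac83)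
  (nat_lit 0) (.node (.node .nil (nat_lit 0x905a4fc249c) (nat_lit 0x752cc5) (nat_lit 0) .nil) (nat_lit
  0x905a4fc2527) (nat_lit 300299) (nat_lit 0) (.node .nil (nat_lit 0x905a4fc2537) (nat_lit 0x859cc3) (nat_lit
  0) .nil)))) (nat_lit 0x905a4fc2731) (nat_lit 370980) (nat_lit 0) (.node (.node (.node (.node .nil (nat_lit
  0x905a4fc29cd) (nat_lit 356) (nat_lit 0) .nil) (nat_lit 0x905a4fc2aee) (nat_lit 11588) (nat_lit 0) (.node
  .nil (nat_lit 0x905a4fc2b44) (nat_lit 11556) (nat_lit 0) .nil)) (nat_lit 0x905a4fc2eac) (nat_lit 340293)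
  (nat_lit 0) (.node (.node .nil (nat_lit 0x905a4fc32f2) (nat_lit 174466) (nat_lit 0) .nil) (nat_lit
  0x905a4fc336e) (nat_lit 0x74b081) (nat_lit 0) (.node .nil (nat_lit 0x905a4fc33e1) (nat_lit 0x9628e1)
  (nat_lit 0) .nil))) (nat_lit 0x905a4fc35de) (nat_lit 0xa2b142) (nat_lit 0) (.node (.node (.node .nil
  (nat_lit 0x905a4fc39b5) (nat_lit 333186) (nat_lit 0) .nil) (nat_lit 0x905a4fc3a5c) (nat_lit 302468) (nat_lit
  0) (.node .nil (nat_lit 0x905a4fc3aeb) (nat_lit 0xa2b122) (nat_lit 0) .nil)) (nat_lit 0x905a4fc3d19)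
  (nat_lit 171137) (nat_lit 0) (.node (.node .nil (nat_lit 0x905a4fc3e13) (nat_lit 333033) (nat_lit 0xb8a5ed)
  .nil) (nat_lit 0x905a4fc4119) (nat_lit 10407) (nat_lit 0) (.node .nil (nat_lit 0x905a4fc4133) (nat_lit 9445)
  (nat_lit 0) .nil)))))) (nat_lit 0x905a4fc4412) (nat_lit 0x851927) (nat_lit 0xc2c5ed) (.node (.node (.node
  (.node (.node (.node .nil (nat_lit 0x905a4fc450e) (nat_lit 269507) (nat_lit 0) .nil) (nat_lit 0x905a4fc46ef)
  (nat_lit 302280) (nat_lit 0) (.node .nil (nat_lit 0x905a4fc4827) (nat_lit 336071) (nat_lit 0) .nil))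
  (nat_lit 0x905a4fc9f61) (nat_lit 0xb52581) (nat_lit 0) (.node (.node .nil (nat_lit 0x905a4fca156) (nat_lit
  0x653165) (nat_lit 0) .nil) (nat_lit 0x905a4fca161) (nat_lit 209195) (nat_lit 0) (.node .nil (nat_lit
  0x905a4fca33e) (nat_lit 368005) (nat_lit 0) .nil))) (nat_lit 0x905a4fca658) (nat_lit 0x92b14b) (nat_lit 0)
  (.node (.node (.node .nil (nat_lit 0x905a4fca84d) (nat_lit 0xc2ad27) (nat_lit 0) .nil) (nat_lit
  0x905a4fca851) (nat_lit 0xc3ad45) (nat_lit 0) (.node .nil (nat_lit 0x905a4fcaa4c) (nat_lit 0xc59ca3)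
  (nat_lit 0) .nil)) (nat_lit 0x905a4fcac31) (nat_lit 400547) (nat_lit 0) (.node (.node .nil (nat_lit
  0x905a4fcad54) (nat_lit 0xa48d81) (nat_lit 0) .nil) (nat_lit 0x905a4fcae43) (nat_lit 0xc2a4e2) (nat_lit 0)
  (.node .nil (nat_lit 0x905a4fcb131) (nat_lit 272774) (nat_lit 0) .nil)))) (nat_lit 0x905a4fcb32a) (nat_lit
  307525) (nat_lit 0) (.node (.node (.node (.node .nil (nat_lit 0x905a4fcb538) (nat_lit 0x753041) (nat_lit 0)
  .nil) (nat_lit 0x905a4fcb781) (nat_lit 300419) (nat_lit 0) (.node .nil (nat_lit 0x905a4fcb836) (nat_lit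
  0xa628e1) (nat_lit 0) .nil)) (nat_lit 0x905a4fcbb36) (nat_lit 0xb52582) (nat_lit 0) (.node (.node .nil
  (nat_lit 0x905a4fcbd02) (nat_lit 0xb53106) (nat_lit 0) .nil) (nat_lit 0x905a4fcbd0a) (nat_lit 0xc32562)
  (nat_lit 0) (.node .nil (nat_lit 0x905a4fcbf15) (nat_lit 404709) (nat_lit 0) .nil))) (nat_lit 0x905a4fcc22b)
  (nat_lit 0x16a4b061) (nat_lit 0) (.node (.node (.node .nil (nat_lit 0x905a4fcc3f7) (nat_lit 0x662563)
  (nat_lit 0) .nil) (nat_lit 0x905a4fcc3ff) (nat_lit 0x762d45) (nat_lit 0) (.node .nil (nat_lit 0x905a4fcc61f)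
  (nat_lit 0xb3b0a3) (nat_lit 0) .nil)) (nat_lit 0x905a4fcc923) (nat_lit 0xb52583) (nat_lit 0) (.node (.node
  .nil (nat_lit 0x905a4fccad1) (nat_lit 0xb3b145) (nat_lit 0) .nil) (nat_lit 0x905a4fccad5) (nat_lit 0xc32563)
  (nat_lit 0) (.node .nil (nat_lit 0x905a4fccd1b) (nat_lit 0x762ca3) (nat_lit 0) .nil))))) (nat_lit
  0x905a4fcd01a) (nat_lit 0x9628ab) (nat_lit 0) (.node (.node (.node (.node (.node .nil (nat_lit
  0x905a4fcd1c6) (nat_lit 0x662562) (nat_lit 0) .nil) (nat_lit 0x905a4fcd1ca) (nat_lit 0xc42967) (nat_lit 0)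
  (.node .nil (nat_lit 0x905a4fcd3f9) (nat_lit 400741) (nat_lit 0) .nil)) (nat_lit 0x905a4fcd5f7) (nat_lit
  0xb4b0aa) (nat_lit 0) (.node (.node .nil (nat_lit 0x905a4fcd603) (nat_lit 0xa5a986) (nat_lit 0) .nil)
  (nat_lit 0x905a4fcd77a) (nat_lit 0x662962) (nat_lit 0) (.node .nil (nat_lit 0x905a4fcd96e) (nat_lit 370053)
  (nat_lit 0) .nil))) (nat_lit 0x905a4fcdc3f) (nat_lit 0xb49589) (nat_lit 0) (.node (.node (.node .nil
  (nat_lit 0x905a4fcdcfb) (nat_lit 0xb4958a) (nat_lit 0) .nil) (nat_lit 0x905a4fce068) (nat_lit 369836)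
  (nat_lit 0) (.node .nil (nat_lit 0x905a4fce093) (nat_lit 0xc32962) (nat_lit 0) .nil)) (nat_lit
  0x905a4fce3a5) (nat_lit 0xa4b161) (nat_lit 0) (.node (.node .nil (nat_lit 0x905a4fce3f4) (nat_lit 0xa62967)
  (nat_lit 0x8292f5e216) .nil) (nat_lit 0x905a4fce75f) (nat_lit 240972) (nat_lit 0) (.node .nil (nat_lit
  0x905a4fce785) (nat_lit 0xb2a584) (nat_lit 0) .nil)))) (nat_lit 0x905a4fcead8) (nat_lit 0xb3a98a) (nat_lit
  0x525f15e216) (.node (.node (.node (.node .nil (nat_lit 0x905a4fceae6) (nat_lit 337291) (nat_lit 0) .nil)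
  (nat_lit 0x905a4fceb6b) (nat_lit 0x35a585) (nat_lit 0) (.node .nil (nat_lit 0x905a4fcee59) (nat_lit 367948)
  (nat_lit 0) .nil)) (nat_lit 0x905a4fcf0fd) (nat_lit 240009) (nat_lit 0) (.node (.node .nil (nat_lit
  0x905a4fcf52e) (nat_lit 7500) (nat_lit 0) .nil) (nat_lit 0x905a4fcf62e) (nat_lit 300140) (nat_lit 0) (.node
  .nil (nat_lit 0x905a4fcf6e1) (nat_lit 240010) (nat_lit 0) .nil))) (nat_lit 0x905a4fcf8d7) (nat_lit 0x753121)
  (nat_lit 0) (.node (.node (.node .nil (nat_lit 0x905a4fcf9fd) (nat_lit 240001) (nat_lit 0) .nil) (nat_lit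
  0x905a4fcfd20) (nat_lit 173444) (nat_lit 0) (.node .nil (nat_lit 0x905a4fcfdd3) (nat_lit 0x753141) (nat_lit
  0) .nil)) (nat_lit 0x905a4fcffd0) (nat_lit 398563) (nat_lit 0) (.node (.node .nil (nat_lit 0x905a4fd00d9)
  (nat_lit 337283) (nat_lit 0) .nil) (nat_lit 0x905a4fd00f2) (nat_lit 398631) (nat_lit 0) (.node .nil (nat_lit
  0x905a4fd04ba) (nat_lit 241989) (nat_lit 0) .nil)))))))
def tT_26 : T := (.node (.node (.node (.node (.node (.node (.node .nil (nat_lit 0x905a4fd07d3) (nat_lit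
  0xa4b061) (nat_lit 0) .nil) (nat_lit 0x905a4fd0a11) (nat_lit 176423) (nat_lit 0) (.node .nil (nat_lit
  0x905a4fd0bb1) (nat_lit 0x7628a1) (nat_lit 0) .nil)) (nat_lit 0x905a4fdb4c2) (nat_lit 7557) (nat_lit
  0x29257e216) (.node (.node .nil (nat_lit 0x905a4fdb5db) (nat_lit 337281) (nat_lit 0) .nil) (nat_lit
  0x905a4fdb843) (nat_lit 241833) (nat_lit 0) (.node .nil (nat_lit 0x905a4fdb9d5) (nat_lit 336262) (nat_lit 0)
  .nil))) (nat_lit 0x905a4fdbad9) (nat_lit 400545) (nat_lit 0x292f5e216) (.node (.node (.node .nil (nat_lit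
  0x905a4fdbcd0) (nat_lit 0xa4b041) (nat_lit 0) .nil) (nat_lit 0x905a4fdbf3a) (nat_lit 0xc39521) (nat_lit 0)
  (.node .nil (nat_lit 0x905a4fdc0cc) (nat_lit 0xa620c1) (nat_lit 0) .nil)) (nat_lit 0x905a4fdc2a5) (nat_lit
  12517) (nat_lit 0x292f66216) (.node (.node .nil (nat_lit 0x905a4fdc37f) (nat_lit 400553) (nat_lit 0) .nil)
  (nat_lit 0x905a4fdc3c2) (nat_lit 337282) (nat_lit 0) (.node .nil (nat_lit 0x905a4fdc7bf) (nat_lit 340230)
  (nat_lit 0) .nil)))) (nat_lit 0x905a4fdc8ca) (nat_lit 12455) (nat_lit 0x1497e216) (.node (.node (.node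
  (.node .nil (nat_lit 0x905a4fdcab9) (nat_lit 10540) (nat_lit 0) .nil) (nat_lit 0x905a4fdcbc7) (nat_lit
  398569) (nat_lit 0) (.node .nil (nat_lit 0x905a4fdceb6) (nat_lit 340168) (nat_lit 0) .nil)) (nat_lit
  0x905a4fdd099) (nat_lit 0x961542) (nat_lit 0) (.node (.node .nil (nat_lit 0x905a4fdd3df) (nat_lit 307362)
  (nat_lit 0) .nil) (nat_lit 0x905a4fdd41e) (nat_lit 240003) (nat_lit 0) (.node .nil (nat_lit 0x905a4fdd59b)
  (nat_lit 0x961522) (nat_lit 0) .nil))) (nat_lit 0x905a4fdd6b4) (nat_lit 307370) (nat_lit 0) (.node (.node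
  (.node .nil (nat_lit 0x905a4fdda7c) (nat_lit 9605) (nat_lit 0) .nil) (nat_lit 0x905a4fddb13) (nat_lit
  340196) (nat_lit 0) (.node .nil (nat_lit 0x905a4fddc98) (nat_lit 307369) (nat_lit 0) .nil)) (nat_lit
  0x905a4fdde80) (nat_lit 300426) (nat_lit 0) (.node (.node .nil (nat_lit 0x905a4fddf58) (nat_lit 239724)
  (nat_lit 0) .nil) (nat_lit 0x905a4fde157) (nat_lit 9388) (nat_lit 0) (.node .nil (nat_lit 0x905a4fde375)
  (nat_lit 300425) (nat_lit 0) .nil))))) (nat_lit 0x905a4fde536) (nat_lit 0x92b142) (nat_lit 0) (.node (.node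
  (.node (.node (.node .nil (nat_lit 0x905a4fde7a0) (nat_lit 335236) (nat_lit 0) .nil) (nat_lit 0x905a4fde8c3)
  (nat_lit 300418) (nat_lit 0) (.node .nil (nat_lit 0x905a4fdea6c) (nat_lit 0x92b122) (nat_lit 0) .nil))
  (nat_lit 0x905a4fdec32) (nat_lit 403844) (nat_lit 0x68bdc9) (.node (.node .nil (nat_lit 0x905a4fdec7f)
  (nat_lit 0xb42562) (nat_lit 0) .nil) (nat_lit 0x905a4fdefec) (nat_lit 0x962981) (nat_lit 0) (.node .nil
  (nat_lit 0x905a4fdf0b0) (nat_lit 269509) (nat_lit 0) .nil))) (nat_lit 0x905a4fdf286) (nat_lit 403596)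
  (nat_lit 0xb8a5ee) (.node (.node (.node .nil (nat_lit 0x905a4fdf373) (nat_lit 368939) (nat_lit 0) .nil)
  (nat_lit 0x905a4fdf6e1) (nat_lit 0xc51189) (nat_lit 0) (.node .nil (nat_lit 0x905a4fdf79b) (nat_lit 235781)
  (nat_lit 0) .nil)) (nat_lit 0x905a4fdfd5a) (nat_lit 0x85a922) (nat_lit 0) (.node (.node .nil (nat_lit
  0x905a4fdfe0b) (nat_lit 8546) (nat_lit 0) .nil) (nat_lit 0x905a4fdffa4) (nat_lit 273698) (nat_lit 0) (.node
  .nil (nat_lit 0x905a4fdffd2) (nat_lit 273730) (nat_lit 0) .nil)))) (nat_lit 0x905a4fe042e) (nat_lit 273737)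
  (nat_lit 0) (.node (.node (.node (.node .nil (nat_lit 0x905a4fe0502) (nat_lit 267) (nat_lit 0) .nil)
  (nat_lit 0x905a4fe069d) (nat_lit 8553) (nat_lit 0) (.node .nil (nat_lit 0x905a4fe06c9) (nat_lit 8554)
  (nat_lit 0) .nil)) (nat_lit 0x905a4fe0817) (nat_lit 0xc53081) (nat_lit 0x68c1ee) (.node (.node .nil (nat_lit
  0x905a4fe085a) (nat_lit 0x85a562) (nat_lit 0) .nil) (nat_lit 0x905a4fe0a2e) (nat_lit 307532) (nat_lit 0)
  (.node .nil (nat_lit 0x905a4fe0c82) (nat_lit 205029) (nat_lit 0) .nil))) (nat_lit 0x905a4fe0e8c) (nat_lit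
  273707) (nat_lit 0) (.node (.node (.node .nil (nat_lit 0x905a4fe0f0c) (nat_lit 0xc51181) (nat_lit 0x78bdc9)
  .nil) (nat_lit 0x905a4fe12b6) (nat_lit 0x962982) (nat_lit 0) (.node .nil (nat_lit 0x905a4fe1379) (nat_lit
  268517) (nat_lit 0) .nil)) (nat_lit 0x905a4fe176a) (nat_lit 368930) (nat_lit 0) (.node (.node .nil (nat_lit
  0x905a4fe1934) (nat_lit 0xb42922) (nat_lit 0) .nil) (nat_lit 0x905a4fe19e7) (nat_lit 11522) (nat_lit 0)
  (.node .nil (nat_lit 0x905a4fe1bae) (nat_lit 368962) (nat_lit 0) .nil)))))) (nat_lit 0x905a4fe1d9b) (nat_lit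
  368969) (nat_lit 0) (.node (.node (.node (.node (.node (.node .nil (nat_lit 0x905a4fe1fdf) (nat_lit 360)
  (nat_lit 0) .nil) (nat_lit 0x905a4fe2062) (nat_lit 11529) (nat_lit 0) (.node .nil (nat_lit 0x905a4fe22a5)
  (nat_lit 11530) (nat_lit 0) .nil)) (nat_lit 0x905a4fe2485) (nat_lit 0x859ca4) (nat_lit 0) (.node (.node .nil
  (nat_lit 0x905a4fe26d4) (nat_lit 0xa3ad24) (nat_lit 0) .nil) (nat_lit 0x905a4fe2930) (nat_lit 335204)
  (nat_lit 0) (.node .nil (nat_lit 0x905a4fe2994) (nat_lit 0x84acc1) (nat_lit 0) .nil))) (nat_lit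
  0x905a4fe2e11) (nat_lit 0x752d43) (nat_lit 0) (.node (.node (.node .nil (nat_lit 0x905a4fe2ea7) (nat_lit
  0x752d23) (nat_lit 0) .nil) (nat_lit 0x905a4fe3023) (nat_lit 239971) (nat_lit 0) (.node .nil (nat_lit
  0x905a4fe308b) (nat_lit 206184) (nat_lit 0) .nil)) (nat_lit 0x905a4fe3144) (nat_lit 239714) (nat_lit 0)
  (.node (.node .nil (nat_lit 0x905a4fe31d9) (nat_lit 9442) (nat_lit 0) .nil) (nat_lit 0x905a4fe34f1) (nat_lit
  302402) (nat_lit 0) (.node .nil (nat_lit 0x905a4fe3585) (nat_lit 7266) (nat_lit 310564) .nil)))) (nat_lit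
  0x905a4fe38d2) (nat_lit 295) (nat_lit 0) (.node (.node (.node (.node .nil (nat_lit 0x905a4fe3912) (nat_lit
  7491) (nat_lit 0) .nil) (nat_lit 0x905a4fe3ae9) (nat_lit 227) (nat_lit 16687) (.node .nil (nat_lit
  0x905a4fe3c16) (nat_lit 9450) (nat_lit 0) .nil)) (nat_lit 0x905a4fe42d5) (nat_lit 0xa5a8e3) (nat_lit 0)
  (.node (.node .nil (nat_lit 0x905a4fe438c) (nat_lit 0xa59d24) (nat_lit 0) .nil) (nat_lit 0x905a4fe4542)
  (nat_lit 339172) (nat_lit 0) (.node .nil (nat_lit 0x905a4fe4570) (nat_lit 271718) (nat_lit 0) .nil)))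
  (nat_lit 0x905a4fe49eb) (nat_lit 0xb414e4) (nat_lit 0) (.node (.node (.node .nil (nat_lit 0x905a4fe4a81)
  (nat_lit 0x750d69) (nat_lit 0) .nil) (nat_lit 0x905a4fe4c37) (nat_lit 239723) (nat_lit 0) (.node .nil
  (nat_lit 0x905a4fe4c67) (nat_lit 271563) (nat_lit 0) .nil)) (nat_lit 0x905a4fe4d93) (nat_lit 302145)
  (nat_lit 0) (.node (.node .nil (nat_lit 0x905a4fe4df2) (nat_lit 171333) (nat_lit 0) .nil) (nat_lit
  0x905a4fe50a6) (nat_lit 0x93a841) (nat_lit 0) (.node .nil (nat_lit 0x905a4fe515e) (nat_lit 232513) (nat_lit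
  310441) .nil))))) (nat_lit 0x905a4fe549b) (nat_lit 9441) (nat_lit 0) (.node (.node (.node (.node (.node .nil
  (nat_lit 0x905a4fe54eb) (nat_lit 239713) (nat_lit 0) .nil) (nat_lit 0x905a4fe57ec) (nat_lit 302401) (nat_lit
  0) (.node .nil (nat_lit 0x905a4fe5857) (nat_lit 7265) (nat_lit 9705) .nil)) (nat_lit 0x905a4fe5f05) (nat_lit
  10379) (nat_lit 0) (.node (.node .nil (nat_lit 0x905a4fe5f8a) (nat_lit 0xb4a0a2) (nat_lit 0) .nil) (nat_lit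
  0x905a4fe607d) (nat_lit 273571) (nat_lit 0) (.node .nil (nat_lit 0x905a4fe60dc) (nat_lit 332137) (nat_lit 0)
  .nil))) (nat_lit 0x905a4fe65ae) (nat_lit 10596) (nat_lit 0) (.node (.node (.node .nil (nat_lit
  0x905a4fe6683) (nat_lit 369832) (nat_lit 0) .nil) (nat_lit 0x905a4fe6777) (nat_lit 172387) (nat_lit 0)
  (.node .nil (nat_lit 0x905a4fe680b) (nat_lit 339236) (nat_lit 0) .nil)) (nat_lit 0x905a4fe6ab2) (nat_lit
  368803) (nat_lit 0) (.node (.node .nil (nat_lit 0x905a4fe6c73) (nat_lit 0xb49502) (nat_lit 0) .nil) (nat_lit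
  0x905a4fe6cee) (nat_lit 332129) (nat_lit 0) (.node .nil (nat_lit 0x905a4fe6f02) (nat_lit 0xa22d21) (nat_lit
  0) .nil)))) (nat_lit 0x905a4fe7175) (nat_lit 339073) (nat_lit 0) (.node (.node (.node (.node .nil (nat_lit
  0x905a4fe746b) (nat_lit 369925) (nat_lit 0) .nil) (nat_lit 0x905a4fe7566) (nat_lit 175363) (nat_lit 0)
  (.node .nil (nat_lit 0x905a4fe75f4) (nat_lit 0xa5a481) (nat_lit 0) .nil)) (nat_lit 0x905a4fe7abb) (nat_lit
  207015) (nat_lit 0) (.node (.node .nil (nat_lit 0x905a4fe7bd7) (nat_lit 206053) (nat_lit 0xc345e4) .nil)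
  (nat_lit 0x905a4fe7c81) (nat_lit 235684) (nat_lit 0) (.node .nil (nat_lit 0x905a4fe7cc2) (nat_lit 0x6514e9)
  (nat_lit 0) .nil))) (nat_lit 0x905a4fe8182) (nat_lit 239813) (nat_lit 0) (.node (.node (.node .nil (nat_lit
  0x905a4fe82ce) (nat_lit 234790) (nat_lit 398895) .nil) (nat_lit 0x905a4fe8378) (nat_lit 171204) (nat_lit 0)
  (.node .nil (nat_lit 0x905a4fe83b7) (nat_lit 0xa31d25) (nat_lit 0) .nil)) (nat_lit 0x905a4fe861b) (nat_lit
  3429) (nat_lit 0) (.node (.node .nil (nat_lit 0x905a4fe89b1) (nat_lit 370857) (nat_lit 0) .nil) (nat_lit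
  0x905a4fe89c5) (nat_lit 11589) (nat_lit 0) (.node .nil (nat_lit 0x905a4fe8af2) (nat_lit 109737) (nat_lit 0)
  .nil)))))))
def tT_27 : T := (.node (.node (.node (.node (.node (.node (.node .nil (nat_lit 0x905a4fe90a0) (nat_lit
  0xb51522) (nat_lit 0) .nil) (nat_lit 0x905a4fe90be) (nat_lit 370850) (nat_lit 0) (.node .nil (nat_lit
  0x905a4fe91e9) (nat_lit 369828) (nat_lit 0) .nil)) (nat_lit 0x905a4fe93f5) (nat_lit 199) (nat_lit 0) (.node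
  (.node .nil (nat_lit 0x905a4fe9701) (nat_lit 335049) (nat_lit 0) .nil) (nat_lit 0x905a4fe983c) (nat_lit
  10470) (nat_lit 0x1153dc3) (.node .nil (nat_lit 0x905a4fe9909) (nat_lit 6377) (nat_lit 0) .nil))) (nat_lit
  0x905a4fe9b7f) (nat_lit 334049) (nat_lit 17902) (.node (.node (.node .nil (nat_lit 0x905a4fe9d97) (nat_lit
  7361) (nat_lit 0) .nil) (nat_lit 0x905a4fe9df4) (nat_lit 302406) (nat_lit 0) (.node .nil (nat_lit
  0x905a4fe9fc3) (nat_lit 235809) (nat_lit 0) .nil)) (nat_lit 0x905a4fea216) (nat_lit 334057) (nat_lit 0)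
  (.node (.node .nil (nat_lit 0x905a4fea4c7) (nat_lit 230) (nat_lit 0) .nil) (nat_lit 0x905a4fea61b) (nat_lit
  10439) (nat_lit 572867) (.node .nil (nat_lit 0x905a4fea6c0) (nat_lit 7369) (nat_lit 0) .nil)))) (nat_lit
  0x905a4feab8c) (nat_lit 0xa39921) (nat_lit 0) (.node (.node (.node (.node .nil (nat_lit 0x905a4feabbe)
  (nat_lit 6369) (nat_lit 0) .nil) (nat_lit 0x905a4fead1d) (nat_lit 335041) (nat_lit 567790) (.node .nil
  (nat_lit 0x905a4feadff) (nat_lit 204065) (nat_lit 0) .nil)) (nat_lit 0x905a4feb2f3) (nat_lit 5475) (nat_lit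
  0) (.node (.node .nil (nat_lit 0x905a4feb37d) (nat_lit 0x55a923) (nat_lit 0) .nil) (nat_lit 0x905a4feb38b)
  (nat_lit 175427) (nat_lit 0) (.node .nil (nat_lit 0x905a4feb4d8) (nat_lit 175395) (nat_lit 0) .nil)))
  (nat_lit 0x905a4feb9e6) (nat_lit 11427) (nat_lit 0) (.node (.node (.node .nil (nat_lit 0x905a4feba74)
  (nat_lit 0xb51521) (nat_lit 0) .nil) (nat_lit 0x905a4feba80) (nat_lit 370849) (nat_lit 0) (.node .nil
  (nat_lit 0x905a4febbcd) (nat_lit 365859) (nat_lit 0) .nil)) (nat_lit 0x905a4febc6c) (nat_lit 0xc52461)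
  (nat_lit 0) (.node (.node .nil (nat_lit 0x905a4febe5a) (nat_lit 12385) (nat_lit 0) .nil) (nat_lit
  0x905a4fec147) (nat_lit 402529) (nat_lit 0) (.node .nil (nat_lit 0x905a4fec1c5) (nat_lit 403553) (nat_lit 0)
  .nil))))) (nat_lit 0x905a4fec3f5) (nat_lit 0xb39483) (nat_lit 0) (.node (.node (.node (.node (.node .nil
  (nat_lit 0x905a4fec60c) (nat_lit 0xa3ad28) (nat_lit 0) .nil) (nat_lit 0x905a4fec733) (nat_lit 298342)
  (nat_lit 0) (.node .nil (nat_lit 0x905a4fec78b) (nat_lit 175431) (nat_lit 0) .nil)) (nat_lit 0x905a4fecb71)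
  (nat_lit 5348) (nat_lit 0) (.node (.node .nil (nat_lit 0x905a4fecbf0) (nat_lit 239909) (nat_lit 0xe2c5e9)
  .nil) (nat_lit 0x905a4fecf69) (nat_lit 333025) (nat_lit 0) (.node .nil (nat_lit 0x905a4fecf8b) (nat_lit
  302241) (nat_lit 0) .nil))) (nat_lit 0x905a4fed22c) (nat_lit 0xa61542) (nat_lit 0) (.node (.node (.node .nil
  (nat_lit 0x905a4fed320) (nat_lit 299399) (nat_lit 0) .nil) (nat_lit 0x905a4fed693) (nat_lit 340130) (nat_lit
  0) (.node .nil (nat_lit 0x905a4fed72f) (nat_lit 0xa61522) (nat_lit 0) .nil)) (nat_lit 0x905a4fed841)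
  (nat_lit 340138) (nat_lit 0) (.node (.node .nil (nat_lit 0x905a4feda19) (nat_lit 10629) (nat_lit 0) .nil)
  (nat_lit 0x905a4fedd7d) (nat_lit 307428) (nat_lit 0) (.node .nil (nat_lit 0x905a4fede1e) (nat_lit 340137)
  (nat_lit 0) .nil)))) (nat_lit 0x905a4fee054) (nat_lit 7332) (nat_lit 0) (.node (.node (.node (.node .nil
  (nat_lit 0x905a4fee0c7) (nat_lit 0xa39521) (nat_lit 0xb8a9ed) .nil) (nat_lit 0x905a4fee44e) (nat_lit 335009)
  (nat_lit 0) (.node .nil (nat_lit 0x905a4fee46e) (nat_lit 300257) (nat_lit 0) .nil)) (nat_lit 0x905a4fee9fb)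
  (nat_lit 332131) (nat_lit 0) (.node (.node .nil (nat_lit 0x905a4feeb28) (nat_lit 273577) (nat_lit 0) .nil)
  (nat_lit 0x905a4feebb6) (nat_lit 8549) (nat_lit 0) (.node .nil (nat_lit 0x905a4feec4b) (nat_lit 0xa22d23)
  (nat_lit 0) .nil))) (nat_lit 0x905a4feef25) (nat_lit 0x72a8c1) (nat_lit 0) (.node (.node (.node .nil
  (nat_lit 0x905a4feef73) (nat_lit 0x7324a1) (nat_lit 399919) .nil) (nat_lit 0x905a4fef29c) (nat_lit 0xa324e5)
  (nat_lit 0) (.node .nil (nat_lit 0x905a4fef2b8) (nat_lit 0x539883) (nat_lit 0) .nil)) (nat_lit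
  0x905a4fef5c3) (nat_lit 401740) (nat_lit 0) (.node (.node .nil (nat_lit 0x905a4fef91d) (nat_lit 370020)
  (nat_lit 410959) .nil) (nat_lit 0x905a4fef991) (nat_lit 0xb4ad44) (nat_lit 0) (.node .nil (nat_lit
  0x905a4fef9cf) (nat_lit 203940) (nat_lit 0) .nil)))))) (nat_lit 0x905a4feff69) (nat_lit 235813) (nat_lit
  0xc345e3) (.node (.node (.node (.node (.node (.node .nil (nat_lit 0x905a4ff002f) (nat_lit 234822) (nat_lit
  0) .nil) (nat_lit 0x905a4ff00a3) (nat_lit 0x639483) (nat_lit 0) (.node .nil (nat_lit 0x905a4ff00e8) (nat_lit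
  0x7524c5) (nat_lit 0) .nil)) (nat_lit 0x905a4ff046b) (nat_lit 0x629c83) (nat_lit 0) (.node (.node .nil
  (nat_lit 0x905a4ff0660) (nat_lit 0x63a4a1) (nat_lit 0xc445e3) .nil) (nat_lit 0x905a4ff072c) (nat_lit 171334)
  (nat_lit 0) (.node .nil (nat_lit 0x905a4ff07df) (nat_lit 0xa5a564) (nat_lit 0) .nil))) (nat_lit
  0x905a4ff0cad) (nat_lit 339075) (nat_lit 0) (.node (.node (.node .nil (nat_lit 0x905a4ff0df8) (nat_lit
  172393) (nat_lit 0) .nil) (nat_lit 0x905a4ff0e88) (nat_lit 5387) (nat_lit 0) (.node .nil (nat_lit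
  0x905a4ff0f1d) (nat_lit 0xa5a483) (nat_lit 0) .nil)) (nat_lit 0x905a4ff11c3) (nat_lit 11525) (nat_lit 0)
  (.node (.node .nil (nat_lit 0x905a4ff13c1) (nat_lit 370856) (nat_lit 0) .nil) (nat_lit 0x905a4ff14ed)
  (nat_lit 368809) (nat_lit 0) (.node .nil (nat_lit 0x905a4ff1610) (nat_lit 0xb51509) (nat_lit 0) .nil))))
  (nat_lit 0x905a4ff1826) (nat_lit 331108) (nat_lit 0) (.node (.node (.node (.node .nil (nat_lit
  0x905a4ff1be1) (nat_lit 175369) (nat_lit 0) .nil) (nat_lit 0x905a4ff1c5b) (nat_lit 0xa1ad24) (nat_lit 0)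
  (.node .nil (nat_lit 0x905a4ff1c75) (nat_lit 5480) (nat_lit 0) .nil)) (nat_lit 0x905a4ff21e3) (nat_lit
  204069) (nat_lit 401967) (.node (.node .nil (nat_lit 0x905a4ff2305) (nat_lit 403724) (nat_lit 0) .nil)
  (nat_lit 0x905a4ff2368) (nat_lit 0x731483) (nat_lit 0) (.node .nil (nat_lit 0x905a4ff23e0) (nat_lit
  0xa39526) (nat_lit 0) .nil))) (nat_lit 0x905a4ff28c3) (nat_lit 0x6514e1) (nat_lit 0) (.node (.node (.node
  .nil (nat_lit 0x905a4ff29d8) (nat_lit 0x649ca1) (nat_lit 0xc2c52f) .nil) (nat_lit 0x905a4ff2a8a) (nat_lit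
  201956) (nat_lit 0) (.node .nil (nat_lit 0x905a4ff2ad4) (nat_lit 0xa39925) (nat_lit 0) .nil)) (nat_lit
  0x905a4ff2bf2) (nat_lit 300327) (nat_lit 0) (.node (.node .nil (nat_lit 0x905a4ff2d5f) (nat_lit 0xa2a4e2)
  (nat_lit 0x1153da9) .nil) (nat_lit 0x905a4ff3069) (nat_lit 335011) (nat_lit 0) (.node .nil (nat_lit
  0x905a4ff30de) (nat_lit 238754) (nat_lit 0) .nil))))) (nat_lit 0x905a4ff34aa) (nat_lit 12643) (nat_lit 0)
  (.node (.node (.node (.node (.node .nil (nat_lit 0x905a4ff34b7) (nat_lit 404803) (nat_lit 0) .nil) (nat_lit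
  0x905a4ff382e) (nat_lit 404771) (nat_lit 0) (.node .nil (nat_lit 0x905a4ff3888) (nat_lit 0xc5a923) (nat_lit
  0) .nil)) (nat_lit 0x905a4ff39d7) (nat_lit 0x16a2b142) (nat_lit 0) (.node (.node .nil (nat_lit
  0x905a4ff3a98) (nat_lit 0x6c52561) (nat_lit 0) .nil) (nat_lit 0x905a4ff3f19) (nat_lit 0xb49d84) (nat_lit 0)
  (.node .nil (nat_lit 0x905a4ff3f79) (nat_lit 0xb51582) (nat_lit 0) .nil))) (nat_lit 0x905a4ff41b9) (nat_lit
  234852) (nat_lit 0) (.node (.node (.node .nil (nat_lit 0x905a4ff41cb) (nat_lit 301418) (nat_lit 0) .nil)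
  (nat_lit 0x905a4ff4457) (nat_lit 9419) (nat_lit 0) (.node .nil (nat_lit 0x905a4ff4480) (nat_lit 370855)
  (nat_lit 0) .nil)) (nat_lit 0x905a4ff48b0) (nat_lit 240804) (nat_lit 0) (.node (.node .nil (nat_lit
  0x905a4ff4935) (nat_lit 306378) (nat_lit 0) .nil) (nat_lit 0x905a4ff4b5a) (nat_lit 370917) (nat_lit 0)
  (.node .nil (nat_lit 0x905a4ff4bac) (nat_lit 9574) (nat_lit 0) .nil)))) (nat_lit 0x905a4ff4f2b) (nat_lit
  0xb5158a) (nat_lit 0) (.node (.node (.node (.node .nil (nat_lit 0x905a4ff4f7d) (nat_lit 0xb51589) (nat_lit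
  0) .nil) (nat_lit 0x905a4ff5343) (nat_lit 0x64b165) (nat_lit 0) (.node .nil (nat_lit 0x905a4ff545c) (nat_lit
  370860) (nat_lit 0) .nil)) (nat_lit 0x905a4ff57a7) (nat_lit 5482) (nat_lit 0) (.node (.node .nil (nat_lit
  0x905a4ff59f6) (nat_lit 171) (nat_lit 0) .nil) (nat_lit 0x905a4ff5a1e) (nat_lit 175433) (nat_lit 0) (.node
  .nil (nat_lit 0x905a4ff5bb6) (nat_lit 5481) (nat_lit 0) .nil))) (nat_lit 0x905a4ff5e9c) (nat_lit 11434)
  (nat_lit 0) (.node (.node (.node .nil (nat_lit 0x905a4ff60eb) (nat_lit 357) (nat_lit 0) .nil) (nat_lit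
  0x905a4ff6113) (nat_lit 365897) (nat_lit 0) (.node .nil (nat_lit 0x905a4ff62af) (nat_lit 11433) (nat_lit 0)
  .nil)) (nat_lit 0x905a4ff6776) (nat_lit 7363) (nat_lit 0) (.node (.node .nil (nat_lit 0x905a4ff678d)
  (nat_lit 334119) (nat_lit 0) .nil) (nat_lit 0x905a4ff6929) (nat_lit 334051) (nat_lit 572868) (.node .nil
  (nat_lit 0x905a4ff69ae) (nat_lit 235811) (nat_lit 0) .nil)))))))
def tT_28 : T := (.node (.node (.node (.node (.node (.node (.node .nil (nat_lit 0x905a4ff6c68) (nat_lit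
  0x649d41) (nat_lit 0) .nil) (nat_lit 0x905a4ff7020) (nat_lit 0xa39861) (nat_lit 181742) (.node .nil (nat_lit
  0x905a4ff70b8) (nat_lit 206049) (nat_lit 0) .nil)) (nat_lit 0x905a4ff752c) (nat_lit 206058) (nat_lit 0)
  (.node (.node .nil (nat_lit 0x905a4ff75ab) (nat_lit 6371) (nat_lit 0) .nil) (nat_lit 0x905a4ff7717) (nat_lit
  335043) (nat_lit 280046) (.node .nil (nat_lit 0x905a4ff77ac) (nat_lit 6439) (nat_lit 0) .nil))) (nat_lit
  0x905a4ff7c72) (nat_lit 239910) (nat_lit 0) (.node (.node (.node .nil (nat_lit 0x905a4ff7ca2) (nat_lit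
  235617) (nat_lit 0) .nil) (nat_lit 0x905a4ff7e0e) (nat_lit 0xa31c61) (nat_lit 564718) (.node .nil (nat_lit
  0x905a4ff7e99) (nat_lit 206050) (nat_lit 0) .nil)) (nat_lit 0x905a4ff80e2) (nat_lit 365889) (nat_lit 0)
  (.node (.node .nil (nat_lit 0x905a4ff8101) (nat_lit 11425) (nat_lit 0) .nil) (nat_lit 0x905a4ff83d0)
  (nat_lit 0xb2a921) (nat_lit 0) (.node .nil (nat_lit 0x905a4ff85b7) (nat_lit 365857) (nat_lit 0) .nil))))
  (nat_lit 0x905a4ff87cb) (nat_lit 339240) (nat_lit 0) (.node (.node (.node (.node .nil (nat_lit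
  0x905a4ff87e4) (nat_lit 175425) (nat_lit 0) .nil) (nat_lit 0x905a4ff894c) (nat_lit 5473) (nat_lit 0) (.node
  .nil (nat_lit 0x905a4ff8cae) (nat_lit 175393) (nat_lit 0) .nil)) (nat_lit 0x905a4ff8e19) (nat_lit 0xa628a1)
  (nat_lit 0) (.node (.node .nil (nat_lit 0x905a4ff8f11) (nat_lit 238980) (nat_lit 0) .nil) (nat_lit
  0x905a4ff925c) (nat_lit 340131) (nat_lit 0) (.node .nil (nat_lit 0x905a4ff9322) (nat_lit 307527) (nat_lit 0)
  .nil))) (nat_lit 0x905a4ff9434) (nat_lit 0x553141) (nat_lit 0) (.node (.node (.node .nil (nat_lit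
  0x905a4ff9925) (nat_lit 174465) (nat_lit 0) .nil) (nat_lit 0x905a4ff9978) (nat_lit 238732) (nat_lit 0)
  (.node .nil (nat_lit 0x905a4ff9a11) (nat_lit 0x553121) (nat_lit 0) .nil)) (nat_lit 0x905a4ff9bf9) (nat_lit
  0xc52441) (nat_lit 0) (.node (.node .nil (nat_lit 0x905a4ff9d19) (nat_lit 12353) (nat_lit 0xf5e216) .nil)
  (nat_lit 0x905a4ff9fd2) (nat_lit 402497) (nat_lit 0) (.node .nil (nat_lit 0x905a4ffa079) (nat_lit 403521)
  (nat_lit 0) .nil))))) (nat_lit 0x905a4ffa309) (nat_lit 337025) (nat_lit 0x1888bda9) (.node (.node (.node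
  (.node (.node .nil (nat_lit 0x905a4ffa3b1) (nat_lit 129) (nat_lit 582166) .nil) (nat_lit 0x905a4ffa4f8)
  (nat_lit 10369) (nat_lit 0x1878bdc9) (.node .nil (nat_lit 0x905a4ffa675) (nat_lit 9345) (nat_lit 0xf2be2f)
  .nil)) (nat_lit 0x905a4ffa9fd) (nat_lit 0xa49041) (nat_lit 0x18b8a5ed) (.node (.node .nil (nat_lit
  0x905a4ffaa33) (nat_lit 4161) (nat_lit 385558) .nil) (nat_lit 0x905a4ffab20) (nat_lit 331841) (nat_lit
  0x1868c1ee) (.node .nil (nat_lit 0x905a4ffad6c) (nat_lit 299073) (nat_lit 0xc5c54f) .nil))) (nat_lit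
  0x905a4ffb11f) (nat_lit 0x95a8a8) (nat_lit 0) (.node (.node (.node .nil (nat_lit 0x905a4ffb481) (nat_lit
  0x751965) (nat_lit 0) .nil) (nat_lit 0x905a4ffb50a) (nat_lit 306437) (nat_lit 0) (.node .nil (nat_lit
  0x905a4ffb518) (nat_lit 0xb418e3) (nat_lit 0) .nil)) (nat_lit 0x905a4ffb812) (nat_lit 0xa48d64) (nat_lit 0)
  (.node (.node .nil (nat_lit 0x905a4ffb863) (nat_lit 0x652ca7) (nat_lit 0) .nil) (nat_lit 0x905a4ffbbf8)
  (nat_lit 300392) (nat_lit 0) (.node .nil (nat_lit 0x905a4ffbc10) (nat_lit 0xb41cc3) (nat_lit 0) .nil))))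
  (nat_lit 0x905a4ffbf07) (nat_lit 0xa49163) (nat_lit 0) (.node (.node (.node (.node .nil (nat_lit
  0x905a4ffc269) (nat_lit 0x652ce5) (nat_lit 0) .nil) (nat_lit 0x905a4ffc2ed) (nat_lit 303461) (nat_lit 0)
  (.node .nil (nat_lit 0x905a4ffc303) (nat_lit 0x8598e3) (nat_lit 0) .nil)) (nat_lit 0x905a4ffc5fe) (nat_lit
  368837) (nat_lit 0) (.node (.node .nil (nat_lit 0x905a4ffc96a) (nat_lit 0x74a164) (nat_lit 0) .nil) (nat_lit
  0x905a4ffc9de) (nat_lit 339137) (nat_lit 0) (.node .nil (nat_lit 0x905a4ffc9f9) (nat_lit 0xa59921) (nat_lit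
  0) .nil))) (nat_lit 0x905a4ffccf3) (nat_lit 366853) (nat_lit 0) (.node (.node (.node .nil (nat_lit
  0x905a4ffcd46) (nat_lit 0x83a561) (nat_lit 0) .nil) (nat_lit 0x905a4ffd0db) (nat_lit 334177) (nat_lit 0)
  (.node .nil (nat_lit 0x905a4ffd0f2) (nat_lit 0xa32d21) (nat_lit 0) .nil)) (nat_lit 0x905a4ffd3c5) (nat_lit
  172227) (nat_lit 0) (.node (.node .nil (nat_lit 0x905a4ffd46c) (nat_lit 0x851925) (nat_lit 247277) .nil)
  (nat_lit 0x905a4ffd5b5) (nat_lit 271557) (nat_lit 0) (.node .nil (nat_lit 0x905a4ffd72e) (nat_lit 268613)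
  (nat_lit 0) .nil)))))) (nat_lit 0x905a4ffdab8) (nat_lit 201987) (nat_lit 0) (.node (.node (.node (.node
  (.node (.node .nil (nat_lit 0x905a4ffdaee) (nat_lit 0x9428c5) (nat_lit 181741) .nil) (nat_lit 0x905a4ffde0d)
  (nat_lit 0x8498a2) (nat_lit 0) (.node .nil (nat_lit 0x905a4ffde27) (nat_lit 205125) (nat_lit 0) .nil))
  (nat_lit 0x905a4ffe1da) (nat_lit 273605) (nat_lit 0) (.node (.node .nil (nat_lit 0x905a4ffe552) (nat_lit
  0x83a562) (nat_lit 0) .nil) (nat_lit 0x905a4ffe5c5) (nat_lit 10598) (nat_lit 0) (.node .nil (nat_lit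
  0x905a4ffe5d2) (nat_lit 339145) (nat_lit 0) .nil))) (nat_lit 0x905a4ffe892) (nat_lit 174474) (nat_lit 0)
  (.node (.node (.node .nil (nat_lit 0x905a4ffec62) (nat_lit 0x749181) (nat_lit 0) .nil) (nat_lit
  0x905a4ffed13) (nat_lit 5452) (nat_lit 0) (.node .nil (nat_lit 0x905a4ffed88) (nat_lit 174473) (nat_lit 0)
  .nil)) (nat_lit 0x905a4ffef98) (nat_lit 403745) (nat_lit 0) (.node (.node .nil (nat_lit 0x905a4fff0a4)
  (nat_lit 385) (nat_lit 0x57e216) .nil) (nat_lit 0x905a4fff35f) (nat_lit 12609) (nat_lit 0) (.node .nil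
  (nat_lit 0x905a4fff411) (nat_lit 12577) (nat_lit 0) .nil)))) (nat_lit 0x905a4fff68b) (nat_lit 333194)
  (nat_lit 0) (.node (.node (.node (.node .nil (nat_lit 0x905a4fffa56) (nat_lit 302220) (nat_lit 0) .nil)
  (nat_lit 0x905a4fffb04) (nat_lit 10412) (nat_lit 0) (.node .nil (nat_lit 0x905a4fffb86) (nat_lit 333193)
  (nat_lit 0) .nil)) (nat_lit 0x905a4fffd71) (nat_lit 110921) (nat_lit 0) (.node (.node .nil (nat_lit
  0x905a4fffe8f) (nat_lit 108) (nat_lit 0) .nil) (nat_lit 0x905a4fffea5) (nat_lit 3465) (nat_lit 0) (.node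
  .nil (nat_lit 0x905a5000145) (nat_lit 3466) (nat_lit 0) .nil))) (nat_lit 0x905a500046b) (nat_lit 0xb29c83)
  (nat_lit 0) (.node (.node (.node .nil (nat_lit 0x905a500063f) (nat_lit 0x95a8c4) (nat_lit 0) .nil) (nat_lit
  0x905a5000743) (nat_lit 240933) (nat_lit 0) (.node .nil (nat_lit 0x905a50007c0) (nat_lit 365895) (nat_lit 0)
  .nil)) (nat_lit 0x905a5000b64) (nat_lit 0x45a921) (nat_lit 0) (.node (.node .nil (nat_lit 0x905a5000d32)
  (nat_lit 4449) (nat_lit 0) .nil) (nat_lit 0x905a5000e3a) (nat_lit 142657) (nat_lit 0) (.node .nil (nat_lit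
  0x905a5000eaf) (nat_lit 142625) (nat_lit 0) .nil))))) (nat_lit 0x905a5001298) (nat_lit 234625) (nat_lit 0)
  (.node (.node (.node (.node (.node .nil (nat_lit 0x905a5001392) (nat_lit 335017) (nat_lit 0x88bda9) .nil)
  (nat_lit 0x905a5001690) (nat_lit 10469) (nat_lit 0) (.node .nil (nat_lit 0x905a50016b2) (nat_lit 9383)
  (nat_lit 0) .nil)) (nat_lit 0x905a500198f) (nat_lit 0x9428c7) (nat_lit 0xc3c5ed) (.node (.node .nil (nat_lit
  0x905a5001a8b) (nat_lit 235779) (nat_lit 0) .nil) (nat_lit 0x905a5001c0e) (nat_lit 303334) (nat_lit 0)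
  (.node .nil (nat_lit 0x905a5001da4) (nat_lit 334087) (nat_lit 0) .nil))) (nat_lit 0x905a5001f96) (nat_lit
  0x8598a3) (nat_lit 0) (.node (.node (.node .nil (nat_lit 0x905a5002184) (nat_lit 0xa59923) (nat_lit 0) .nil)
  (nat_lit 0x905a50023fc) (nat_lit 339139) (nat_lit 0) (.node .nil (nat_lit 0x905a5002405) (nat_lit 0x84ace2)
  (nat_lit 0) .nil)) (nat_lit 0x905a500277b) (nat_lit 6405) (nat_lit 0) (.node (.node .nil (nat_lit
  0x905a5002878) (nat_lit 0xa49506) (nat_lit 567789) .nil) (nat_lit 0x905a5002a76) (nat_lit 207016) (nat_lit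
  0) (.node .nil (nat_lit 0x905a5002aa0) (nat_lit 204969) (nat_lit 0) .nil)))) (nat_lit 0x905a5002e72)
  (nat_lit 8389) (nat_lit 0) (.node (.node (.node (.node .nil (nat_lit 0x905a5002f6d) (nat_lit 0x849945)
  (nat_lit 464431) .nil) (nat_lit 0x905a5003012) (nat_lit 268457) (nat_lit 0) (.node .nil (nat_lit
  0x905a500311f) (nat_lit 268458) (nat_lit 0) .nil)) (nat_lit 0x905a5003527) (nat_lit 0xb320a3) (nat_lit 0)
  (.node (.node .nil (nat_lit 0x905a50035ea) (nat_lit 0x652d24) (nat_lit 0) .nil) (nat_lit 0x905a5003601)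
  (nat_lit 271595) (nat_lit 0) (.node .nil (nat_lit 0x905a50038cc) (nat_lit 207204) (nat_lit 0) .nil)))
  (nat_lit 0x905a5003c1c) (nat_lit 0xb418a3) (nat_lit 0) (.node (.node (.node .nil (nat_lit 0x905a5003cc7)
  (nat_lit 331110) (nat_lit 0) .nil) (nat_lit 0x905a5003cd4) (nat_lit 0xa1acc9) (nat_lit 0) (.node .nil
  (nat_lit 0x905a5003fc5) (nat_lit 0x849d62) (nat_lit 0) .nil)) (nat_lit 0x905a5004313) (nat_lit 337035)
  (nat_lit 0) (.node (.node .nil (nat_lit 0x905a50043ca) (nat_lit 273607) (nat_lit 0) .nil) (nat_lit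
  0x905a500448f) (nat_lit 267563) (nat_lit 0) (.node .nil (nat_lit 0x905a500453e) (nat_lit 0x85a8e6) (nat_lit
  0) .nil)))))))
def tT_29 : T := (.node (.node (.node (.node (.node (.node (.node .nil (nat_lit 0x905a5004acc) (nat_lit
  368870) (nat_lit 0) .nil) (nat_lit 0x905a5004adf) (nat_lit 0xb428c7) (nat_lit 0) (.node .nil (nat_lit
  0x905a5004dad) (nat_lit 0x82a562) (nat_lit 0) .nil)) (nat_lit 0x905a500513d) (nat_lit 337027) (nat_lit
  0x1914bda9) (.node (.node .nil (nat_lit 0x905a5005238) (nat_lit 131) (nat_lit 0x115e216) .nil) (nat_lit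
  0x905a50052e1) (nat_lit 10371) (nat_lit 0x1916a9e9) (.node .nil (nat_lit 0x905a500552b) (nat_lit 9347)
  (nat_lit 0xc8a9e9) .nil))) (nat_lit 0x905a5005834) (nat_lit 0xa2a4a1) (nat_lit 0x19153da9) (.node (.node
  (.node .nil (nat_lit 0x905a500592d) (nat_lit 4194) (nat_lit 0xc86216) .nil) (nat_lit 0x905a5005b63) (nat_lit
  207041) (nat_lit 0x1914bdc9) (.node .nil (nat_lit 0x905a5005c22) (nat_lit 173217) (nat_lit 0xc3460f) .nil))
  (nat_lit 0x905a5005ea6) (nat_lit 0xa49161) (nat_lit 0) (.node (.node .nil (nat_lit 0x905a500602a) (nat_lit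
  368839) (nat_lit 0) .nil) (nat_lit 0x905a500627a) (nat_lit 0xb428e6) (nat_lit 0) (.node .nil (nat_lit
  0x905a50062a7) (nat_lit 172331) (nat_lit 0) .nil)))) (nat_lit 0x905a50065f2) (nat_lit 0xa49907) (nat_lit
  0xe6162f) (.node (.node (.node (.node .nil (nat_lit 0x905a5006629) (nat_lit 8422) (nat_lit 0) .nil) (nat_lit
  0x905a50068c7) (nat_lit 272583) (nat_lit 0) (.node .nil (nat_lit 0x905a500696d) (nat_lit 238792) (nat_lit 0)
  .nil)) (nat_lit 0x905a5006d0b) (nat_lit 0xb52483) (nat_lit 0) (.node (.node .nil (nat_lit 0x905a5006d91)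
  (nat_lit 11395) (nat_lit 0) .nil) (nat_lit 0x905a5006f6d) (nat_lit 369795) (nat_lit 0) (.node .nil (nat_lit
  0x905a500700c) (nat_lit 370819) (nat_lit 0) .nil))) (nat_lit 0x905a5007402) (nat_lit 0xa5a0a9) (nat_lit 0)
  (.node (.node (.node .nil (nat_lit 0x905a5007413) (nat_lit 4203) (nat_lit 0) .nil) (nat_lit 0x905a50076b7)
  (nat_lit 339205) (nat_lit 0) (.node .nil (nat_lit 0x905a50076cd) (nat_lit 134505) (nat_lit 0) .nil))
  (nat_lit 0x905a5007ad2) (nat_lit 0xa49cc8) (nat_lit 0xc445ed) (.node (.node .nil (nat_lit 0x905a5007b7c)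
  (nat_lit 8391) (nat_lit 0) .nil) (nat_lit 0x905a5007ba9) (nat_lit 268521) (nat_lit 0) (.node .nil (nat_lit
  0x905a5007dd6) (nat_lit 272614) (nat_lit 0) .nil))))) (nat_lit 0x905a50081cb) (nat_lit 0xb52564) (nat_lit
  0xc8a5ed) (.node (.node (.node (.node (.node .nil (nat_lit 0x905a50081fe) (nat_lit 6407) (nat_lit 0) .nil)
  (nat_lit 0x905a50083e3) (nat_lit 205033) (nat_lit 0) (.node .nil (nat_lit 0x905a500847c) (nat_lit 205034)
  (nat_lit 0) .nil)) (nat_lit 0x905a50088bf) (nat_lit 171139) (nat_lit 0) (.node (.node .nil (nat_lit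
  0x905a50088f3) (nat_lit 302405) (nat_lit 0x78bda9) .nil) (nat_lit 0x905a5008c5a) (nat_lit 5447) (nat_lit 0)
  (.node .nil (nat_lit 0x905a5008ce5) (nat_lit 238753) (nat_lit 0) .nil))) (nat_lit 0x905a5008fb3) (nat_lit
  234627) (nat_lit 0) (.node (.node (.node .nil (nat_lit 0x905a500905d) (nat_lit 0x93a8a2) (nat_lit 0x58bda9)
  .nil) (nat_lit 0x905a500908f) (nat_lit 174306) (nat_lit 0) (.node .nil (nat_lit 0x905a50093e6) (nat_lit
  0x749441) (nat_lit 0) .nil)) (nat_lit 0x905a50096d3) (nat_lit 365796) (nat_lit 0) (.node (.node .nil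
  (nat_lit 0x905a50096e2) (nat_lit 0x932d41) (nat_lit 0) .nil) (nat_lit 0x905a5009986) (nat_lit 301409)
  (nat_lit 0) (.node .nil (nat_lit 0x905a5009998) (nat_lit 239976) (nat_lit 0) .nil)))) (nat_lit
  0x905a5009dca) (nat_lit 367780) (nat_lit 0) (.node (.node (.node (.node .nil (nat_lit 0x905a5009e4c)
  (nat_lit 0x959941) (nat_lit 0) .nil) (nat_lit 0x905a500a026) (nat_lit 0xb51ca1) (nat_lit 0) (.node .nil
  (nat_lit 0x905a500a0c0) (nat_lit 306369) (nat_lit 0) .nil)) (nat_lit 0x905a500a49a) (nat_lit 238761)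
  (nat_lit 0) (.node (.node .nil (nat_lit 0x905a500a4d0) (nat_lit 333095) (nat_lit 0x114bda9) .nil) (nat_lit
  0x905a500a84e) (nat_lit 174305) (nat_lit 0) (.node .nil (nat_lit 0x905a500a8c3) (nat_lit 7461) (nat_lit 0)
  .nil))) (nat_lit 0x905a500ac8f) (nat_lit 3467) (nat_lit 0) (.node (.node (.node .nil (nat_lit 0x905a500afe4)
  (nat_lit 110954) (nat_lit 0) .nil) (nat_lit 0x905a500b013) (nat_lit 110953) (nat_lit 0) (.node .nil (nat_lit
  0x905a500b06d) (nat_lit 0x95a986) (nat_lit 0) .nil)) (nat_lit 0x905a500b383) (nat_lit 16784) (nat_lit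
  0x107e216) (.node (.node .nil (nat_lit 0x905a500b6db) (nat_lit 537097) (nat_lit 0) .nil) (nat_lit
  0x905a500b6fe) (nat_lit 537098) (nat_lit 0) (.node .nil (nat_lit 0x905a500b77a) (nat_lit 0x1064149) (nat_lit
  0) .nil)))))) (nat_lit 0x905a500ba77) (nat_lit 12642) (nat_lit 0x2057e216) (.node (.node (.node (.node
  (.node (.node .nil (nat_lit 0x905a500bdad) (nat_lit 404770) (nat_lit 0) .nil) (nat_lit 0x905a500bdf8)
  (nat_lit 404802) (nat_lit 0) (.node .nil (nat_lit 0x905a500be72) (nat_lit 0xc5a922) (nat_lit 0) .nil))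
  (nat_lit 0x905a500c174) (nat_lit 11372) (nat_lit 0) (.node (.node .nil (nat_lit 0x905a500c437) (nat_lit
  363914) (nat_lit 0) .nil) (nat_lit 0x905a500c4f1) (nat_lit 363913) (nat_lit 0) (.node .nil (nat_lit
  0x905a500c54d) (nat_lit 0xb1b149) (nat_lit 0) .nil))) (nat_lit 0x905a500c864) (nat_lit 12395) (nat_lit 0)
  (.node (.node (.node .nil (nat_lit 0x905a500cbce) (nat_lit 396650) (nat_lit 0) .nil) (nat_lit 0x905a500cbe6)
  (nat_lit 396649) (nat_lit 0) (.node .nil (nat_lit 0x905a500cc46) (nat_lit 0xc1ad49) (nat_lit 0) .nil))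
  (nat_lit 0x905a500cf5f) (nat_lit 395) (nat_lit 0x1f15e216) (.node (.node .nil (nat_lit 0x905a500d2c7)
  (nat_lit 12649) (nat_lit 0) .nil) (nat_lit 0x905a500d2db) (nat_lit 12650) (nat_lit 0) (.node .nil (nat_lit
  0x905a500d34d) (nat_lit 404809) (nat_lit 0) .nil)))) (nat_lit 0x905a500d539) (nat_lit 0xa62965) (nat_lit 0)
  (.node (.node (.node (.node .nil (nat_lit 0x905a500d53c) (nat_lit 0xc52562) (nat_lit 0) .nil) (nat_lit
  0x905a500d6ce) (nat_lit 0xb2a981) (nat_lit 0) (.node .nil (nat_lit 0x905a500da26) (nat_lit 0x54b166)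
  (nat_lit 0) .nil)) (nat_lit 0x905a500dc2e) (nat_lit 0x36292b) (nat_lit 0) (.node (.node .nil (nat_lit
  0x905a500dc33) (nat_lit 0x16a61542) (nat_lit 0) .nil) (nat_lit 0x905a500dd44) (nat_lit 0xb49187) (nat_lit 0)
  (.node .nil (nat_lit 0x905a500e11d) (nat_lit 0xb530a2) (nat_lit 0) .nil))) (nat_lit 0x905a500e255) (nat_lit
  0xc52563) (nat_lit 0) (.node (.node (.node .nil (nat_lit 0x905a500e332) (nat_lit 0xb530aa) (nat_lit 0) .nil)
  (nat_lit 0x905a500e7a0) (nat_lit 0xb4b0e4) (nat_lit 0) (.node .nil (nat_lit 0x905a500e814) (nat_lit 371077)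
  (nat_lit 0) .nil)) (nat_lit 0x905a500e971) (nat_lit 0x1033206) (nat_lit 0) (.node (.node .nil (nat_lit
  0x905a500ea27) (nat_lit 403755) (nat_lit 0) .nil) (nat_lit 0x905a500ee97) (nat_lit 0x55a981) (nat_lit 0)
  (.node .nil (nat_lit 0x905a500ef07) (nat_lit 0xb3a584) (nat_lit 0) .nil))))) (nat_lit 0x905a500f0ec)
  (nat_lit 302473) (nat_lit 0) (.node (.node (.node (.node (.node .nil (nat_lit 0x905a500f139) (nat_lit
  302474) (nat_lit 0) .nil) (nat_lit 0x905a500f470) (nat_lit 9452) (nat_lit 0) (.node .nil (nat_lit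
  0x905a500f56d) (nat_lit 332940) (nat_lit 0) .nil)) (nat_lit 0x905a500f7e3) (nat_lit 0x462921) (nat_lit 0)
  (.node (.node .nil (nat_lit 0x905a500f826) (nat_lit 4481) (nat_lit 0) .nil) (nat_lit 0x905a500fb67) (nat_lit
  143681) (nat_lit 0) (.node .nil (nat_lit 0x905a500fd08) (nat_lit 143649) (nat_lit 0) .nil))) (nat_lit
  0x905a501024e) (nat_lit 273740) (nat_lit 0) (.node (.node (.node .nil (nat_lit 0x905a50102ce) (nat_lit
  0x85a989) (nat_lit 0) .nil) (nat_lit 0x905a50102e9) (nat_lit 0x462569) (nat_lit 0) (.node .nil (nat_lit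
  0x905a501041d) (nat_lit 143659) (nat_lit 0) .nil)) (nat_lit 0x905a501093b) (nat_lit 403595) (nat_lit 0)
  (.node (.node .nil (nat_lit 0x905a5010983) (nat_lit 302475) (nat_lit 0) .nil) (nat_lit 0x905a50109c7)
  (nat_lit 0xc42ca3) (nat_lit 0) (.node .nil (nat_lit 0x905a50109e5) (nat_lit 0xc51169) (nat_lit 0) .nil))))
  (nat_lit 0x905a5011030) (nat_lit 307435) (nat_lit 0) (.node (.node (.node (.node .nil (nat_lit
  0x905a5011074) (nat_lit 403812) (nat_lit 0) .nil) (nat_lit 0x905a50110bc) (nat_lit 0xc52d24) (nat_lit 0)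
  (.node .nil (nat_lit 0x905a50110da) (nat_lit 0x862ca3) (nat_lit 0) .nil)) (nat_lit 0x905a50116d7) (nat_lit
  0x85a982) (nat_lit 0) (.node (.node .nil (nat_lit 0x905a50117b1) (nat_lit 0x95a584) (nat_lit 0) .nil)
  (nat_lit 0x905a50117c4) (nat_lit 0xc4916a) (nat_lit 0) (.node .nil (nat_lit 0x905a5011900) (nat_lit 402571)
  (nat_lit 0) .nil))) (nat_lit 0x905a501288e) (nat_lit 143689) (nat_lit 0) (.node (.node (.node .nil (nat_lit
  0x905a50128e4) (nat_lit 140) (nat_lit 0) .nil) (nat_lit 0x905a50129f8) (nat_lit 4490) (nat_lit 0) (.node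
  .nil (nat_lit 0x905a5012dbf) (nat_lit 4489) (nat_lit 0) .nil)) (nat_lit 0x905a5012f83) (nat_lit 0x93b121)
  (nat_lit 0) (.node (.node .nil (nat_lit 0x905a5012fdb) (nat_lit 0x93b141) (nat_lit 0) .nil) (nat_lit
  0x905a50130ef) (nat_lit 302465) (nat_lit 0) (.node .nil (nat_lit 0x905a501340f) (nat_lit 332165) (nat_lit 0)
  .nil)))))))
def tT_30 : T := (.node (.node (.node (.node (.node (.node (.node .nil (nat_lit 0x905a50136a5) (nat_lit
  0xa5a189) (nat_lit 0) .nil) (nat_lit 0x905a5013a28) (nat_lit 339212) (nat_lit 0) (.node .nil (nat_lit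
  0x905a5013a52) (nat_lit 0xb3a582) (nat_lit 0) .nil)) (nat_lit 0x905a5013d81) (nat_lit 0x1693b141) (nat_lit
  0) (.node (.node .nil (nat_lit 0x905a5013d9e) (nat_lit 0x1693b121) (nat_lit 0x10725ea) .nil) (nat_lit
  0x905a501411f) (nat_lit 0xb49d81) (nat_lit 0) (.node .nil (nat_lit 0x905a5014146) (nat_lit 0xa5a183)
  (nat_lit 0) .nil))) (nat_lit 0x905a501446d) (nat_lit 0xa62565) (nat_lit 0) (.node (.node (.node .nil
  (nat_lit 0x905a50144b9) (nat_lit 11404) (nat_lit 0) .nil) (nat_lit 0x905a5014763) (nat_lit 364938) (nat_lit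
  0) (.node .nil (nat_lit 0x905a50147ad) (nat_lit 364937) (nat_lit 0) .nil)) (nat_lit 0x905a5014b62) (nat_lit
  397667) (nat_lit 0) (.node (.node .nil (nat_lit 0x905a5014bb6) (nat_lit 0x12c3a961) (nat_lit 0) .nil)
  (nat_lit 0x905a5014e58) (nat_lit 0xc22d23) (nat_lit 0) (.node .nil (nat_lit 0x905a5014ea9) (nat_lit
  0xc22d43) (nat_lit 0) .nil)))) (nat_lit 0x905a5015254) (nat_lit 0x962146) (nat_lit 0) (.node (.node (.node
  (.node .nil (nat_lit 0x905a5015276) (nat_lit 4204) (nat_lit 0) .nil) (nat_lit 0x905a5015612) (nat_lit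
  134538) (nat_lit 0) (.node .nil (nat_lit 0x905a50157a3) (nat_lit 134537) (nat_lit 0) .nil)) (nat_lit
  0x905a501594b) (nat_lit 401638) (nat_lit 0xe4bd8a) (.node (.node .nil (nat_lit 0x905a5015969) (nat_lit
  0x74b141) (nat_lit 0) .nil) (nat_lit 0x905a5015ccb) (nat_lit 174220) (nat_lit 0) (.node .nil (nat_lit
  0x905a5015d09) (nat_lit 238977) (nat_lit 0) .nil))) (nat_lit 0x905a501637f) (nat_lit 0xc324e5) (nat_lit 0)
  (.node (.node (.node .nil (nat_lit 0x905a50163e9) (nat_lit 336259) (nat_lit 0) .nil) (nat_lit 0x905a501645b)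
  (nat_lit 0xa43143) (nat_lit 9706) (.node .nil (nat_lit 0x905a5016487) (nat_lit 301388) (nat_lit 0) .nil))
  (nat_lit 0x905a5016a74) (nat_lit 403717) (nat_lit 0) (.node (.node .nil (nat_lit 0x905a5016ae6) (nat_lit
  398601) (nat_lit 0) .nil) (nat_lit 0x905a5016b4a) (nat_lit 0x942987) (nat_lit 0) (.node .nil (nat_lit
  0x905a5016b80) (nat_lit 12456) (nat_lit 0) .nil))))) (nat_lit 0x905a5016f49) (nat_lit 0x16a62141) (nat_lit
  0x97a8a9) (.node (.node (.node (.node (.node .nil (nat_lit 0x905a501725e) (nat_lit 0xb5192c) (nat_lit 0)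
  .nil) (nat_lit 0x905a50172ac) (nat_lit 0xb53101) (nat_lit 0) (.node .nil (nat_lit 0x905a501735f) (nat_lit
  0x462563) (nat_lit 0) .nil)) (nat_lit 0x905a5017643) (nat_lit 0xa62d25) (nat_lit 0) (.node (.node .nil
  (nat_lit 0x905a5017875) (nat_lit 0xb5218a) (nat_lit 310601) .nil) (nat_lit 0x905a50179a7) (nat_lit 370956)
  (nat_lit 0) (.node .nil (nat_lit 0x905a5017a56) (nat_lit 0xc49163) (nat_lit 0) .nil))) (nat_lit
  0x905a5017cc2) (nat_lit 274602) (nat_lit 0) (.node (.node (.node .nil (nat_lit 0x905a5017fc7) (nat_lit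
  274601) (nat_lit 0) .nil) (nat_lit 0x905a501802d) (nat_lit 0x933145) (nat_lit 0) (.node .nil (nat_lit
  0x905a5018061) (nat_lit 8581) (nat_lit 0) .nil)) (nat_lit 0x905a50183b7) (nat_lit 0x849d85) (nat_lit 0)
  (.node (.node .nil (nat_lit 0x905a50186b8) (nat_lit 272769) (nat_lit 0) .nil) (nat_lit 0x905a501872a)
  (nat_lit 0xa62901) (nat_lit 310666) (.node .nil (nat_lit 0x905a5018756) (nat_lit 0x853121) (nat_lit 0)
  .nil)))) (nat_lit 0x905a50189fc) (nat_lit 399623) (nat_lit 0xe4bd44) (.node (.node (.node (.node .nil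
  (nat_lit 0x905a5018a2a) (nat_lit 238986) (nat_lit 0) .nil) (nat_lit 0x905a5018b12) (nat_lit 7468) (nat_lit
  0) (.node .nil (nat_lit 0x905a5018d87) (nat_lit 0x551181) (nat_lit 0) .nil)) (nat_lit 0x905a50190f1)
  (nat_lit 0xc52483) (nat_lit 0) (.node (.node .nil (nat_lit 0x905a501911d) (nat_lit 12419) (nat_lit 0) .nil)
  (nat_lit 0x905a5019207) (nat_lit 403587) (nat_lit 0) (.node .nil (nat_lit 0x905a5019648) (nat_lit 402563)
  (nat_lit 0) .nil))) (nat_lit 0x905a50197ea) (nat_lit 364931) (nat_lit 0) (.node (.node (.node .nil (nat_lit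
  0x905a501984c) (nat_lit 0x961d4b) (nat_lit 0) .nil) (nat_lit 0x905a5019b04) (nat_lit 0xb23123) (nat_lit 0)
  (.node .nil (nat_lit 0x905a5019b38) (nat_lit 0xb23143) (nat_lit 0) .nil)) (nat_lit 0x905a5019edf) (nat_lit
  0xc22d49) (nat_lit 0) (.node (.node .nil (nat_lit 0x905a5019f33) (nat_lit 12427) (nat_lit 0) .nil) (nat_lit
  0x905a501a1f9) (nat_lit 397674) (nat_lit 0) (.node .nil (nat_lit 0x905a501a22d) (nat_lit 397673) (nat_lit 0)
  .nil)))))) (nat_lit 0x905a501a5f0) (nat_lit 0xb49d8a) (nat_lit 0) (.node (.node (.node (.node (.node (.node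
  .nil (nat_lit 0x905a501a609) (nat_lit 0xb49d89) (nat_lit 0xe4bd49) .nil) (nat_lit 0x905a501a98d) (nat_lit
  369900) (nat_lit 0) (.node .nil (nat_lit 0x905a501a9ac) (nat_lit 0x853162) (nat_lit 0) .nil)) (nat_lit
  0x905a501ace5) (nat_lit 0x862ce6) (nat_lit 0) (.node (.node .nil (nat_lit 0x905a501acf9) (nat_lit 0xb53125)
  (nat_lit 0) .nil) (nat_lit 0x905a501b07a) (nat_lit 336267) (nat_lit 0) (.node .nil (nat_lit 0x905a501b0ac)
  (nat_lit 0x75a582) (nat_lit 0) .nil))) (nat_lit 0x905a501b3b2) (nat_lit 0x462d49) (nat_lit 0) (.node (.node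
  (.node .nil (nat_lit 0x905a501b416) (nat_lit 4491) (nat_lit 0) .nil) (nat_lit 0x905a501b6e3) (nat_lit
  143721) (nat_lit 0) (.node .nil (nat_lit 0x905a501b705) (nat_lit 143722) (nat_lit 0) .nil)) (nat_lit
  0x905a501bad4) (nat_lit 0xb4b0ea) (nat_lit 0) (.node (.node .nil (nat_lit 0x905a501bae9) (nat_lit 0xb4b0e9)
  (nat_lit 0x1c97a924) .nil) (nat_lit 0x905a501be6c) (nat_lit 370055) (nat_lit 0) (.node .nil (nat_lit
  0x905a501be91) (nat_lit 0x853161) (nat_lit 0) .nil)))) (nat_lit 0x905a501c1c5) (nat_lit 0xc42ce6) (nat_lit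
  0) (.node (.node (.node (.node .nil (nat_lit 0x905a501c1de) (nat_lit 0xc52564) (nat_lit 0) .nil) (nat_lit
  0x905a501c55f) (nat_lit 340235) (nat_lit 0) (.node .nil (nat_lit 0x905a501c58b) (nat_lit 367916) (nat_lit 0)
  .nil)) (nat_lit 0x905a501c816) (nat_lit 404611) (nat_lit 0) (.node (.node .nil (nat_lit 0x905a501c905)
  (nat_lit 0x12762961) (nat_lit 0) .nil) (nat_lit 0x905a501cbc6) (nat_lit 0xc5a883) (nat_lit 0) (.node .nil
  (nat_lit 0x905a501cbe6) (nat_lit 0xc5a483) (nat_lit 0) .nil))) (nat_lit 0x905a501cef8) (nat_lit 0x462923)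
  (nat_lit 0) (.node (.node (.node .nil (nat_lit 0x905a501cfc4) (nat_lit 4483) (nat_lit 0) .nil) (nat_lit
  0x905a501d1ff) (nat_lit 143683) (nat_lit 0) (.node .nil (nat_lit 0x905a501d4ed) (nat_lit 143651) (nat_lit 0)
  .nil)) (nat_lit 0x905a501d698) (nat_lit 400584) (nat_lit 468458) (.node (.node .nil (nat_lit 0x905a501d6b6)
  (nat_lit 340261) (nat_lit 0) .nil) (nat_lit 0x905a501d9be) (nat_lit 174468) (nat_lit 0) (.node .nil (nat_lit
  0x905a501da56) (nat_lit 302467) (nat_lit 0) .nil))))) (nat_lit 0x905a501dd8b) (nat_lit 0x362924) (nat_lit 0)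
  (.node (.node (.node (.node (.node .nil (nat_lit 0x905a501ddad) (nat_lit 3460) (nat_lit 0) .nil) (nat_lit
  0x905a501e149) (nat_lit 110916) (nat_lit 0) (.node .nil (nat_lit 0x905a501e2dc) (nat_lit 110884) (nat_lit 0)
  .nil)) (nat_lit 0x905a501e3db) (nat_lit 274662) (nat_lit 0xe4bd43) (.node (.node .nil (nat_lit
  0x905a501e4a7) (nat_lit 0xa624a1) (nat_lit 0) .nil) (nat_lit 0x905a501e6e2) (nat_lit 238978) (nat_lit 0)
  (.node .nil (nat_lit 0x905a501e78f) (nat_lit 0x553081) (nat_lit 0) .nil))) (nat_lit 0x905a501eb8a) (nat_lit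
  0xc5a0e6) (nat_lit 0) (.node (.node (.node .nil (nat_lit 0x905a501eba0) (nat_lit 0xa62d09) (nat_lit 0) .nil)
  (nat_lit 0x905a501ed2c) (nat_lit 240940) (nat_lit 0) (.node .nil (nat_lit 0x905a501ed94) (nat_lit 340328)
  (nat_lit 0) .nil)) (nat_lit 0x905a501f283) (nat_lit 0x853169) (nat_lit 0) (.node (.node .nil (nat_lit
  0x905a501f29c) (nat_lit 0xa62d48) (nat_lit 0x1c97a8a9) .nil) (nat_lit 0x905a501f331) (nat_lit 272779)
  (nat_lit 0) (.node .nil (nat_lit 0x905a501f48d) (nat_lit 0xb4b0e1) (nat_lit 0) .nil)))) (nat_lit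
  0x905a501f96a) (nat_lit 0xc5a924) (nat_lit 0) (.node (.node (.node (.node .nil (nat_lit 0x905a501f9b6)
  (nat_lit 12644) (nat_lit 0) .nil) (nat_lit 0x905a501fc5b) (nat_lit 404772) (nat_lit 0) (.node .nil (nat_lit
  0x905a501fca5) (nat_lit 404804) (nat_lit 0) .nil)) (nat_lit 0x905a502005d) (nat_lit 143715) (nat_lit 0)
  (.node (.node .nil (nat_lit 0x905a50200b1) (nat_lit 0x93b14b) (nat_lit 0) .nil) (nat_lit 0x905a5020350)
  (nat_lit 0x462d43) (nat_lit 0) (.node .nil (nat_lit 0x905a502039a) (nat_lit 0x462d23) (nat_lit 0) .nil)))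
  (nat_lit 0x905a502075f) (nat_lit 0xb430c5) (nat_lit 0) (.node (.node (.node .nil (nat_lit 0x905a502077b)
  (nat_lit 0xa4b164) (nat_lit 0) .nil) (nat_lit 0x905a5020c13) (nat_lit 403659) (nat_lit 0) (.node .nil
  (nat_lit 0x905a5020c74) (nat_lit 0xb2a581) (nat_lit 0) .nil)) (nat_lit 0x905a5020e5c) (nat_lit 0xc42cc5)
  (nat_lit 0) (.node (.node .nil (nat_lit 0x905a5020e72) (nat_lit 0xb53127) (nat_lit 0) .nil) (nat_lit
  0x905a5021251) (nat_lit 403814) (nat_lit 0) (.node .nil (nat_lit 0x905a5021369) (nat_lit 0x55a581) (nat_lit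
  0) .nil)))))))
def tT_31 : T := (.node (.node (.node (.node (.node (.node (.node .nil (nat_lit 0x905a5021563) (nat_lit
  0xb51d8a) (nat_lit 0) .nil) (nat_lit 0x905a50219e9) (nat_lit 0xb2a583) (nat_lit 0) (.node .nil (nat_lit
  0x905a5021a5a) (nat_lit 370924) (nat_lit 0) .nil)) (nat_lit 0x905a5021c45) (nat_lit 0x16a61d21) (nat_lit 0)
  (.node (.node .nil (nat_lit 0x905a5021c5a) (nat_lit 0x881d90) (nat_lit 0) .nil) (nat_lit 0x905a5021df8)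
  (nat_lit 0x55a583) (nat_lit 0) (.node .nil (nat_lit 0x905a502214f) (nat_lit 0xb530e1) (nat_lit 0) .nil)))
  (nat_lit 0x905a502233c) (nat_lit 0x862cc5) (nat_lit 0) (.node (.node (.node .nil (nat_lit 0x905a5022356)
  (nat_lit 0xb2a58a) (nat_lit 0) .nil) (nat_lit 0x905a502246e) (nat_lit 0xc51961) (nat_lit 0) (.node .nil
  (nat_lit 0x905a5022848) (nat_lit 365868) (nat_lit 0) .nil)) (nat_lit 0x905a5022a33) (nat_lit 0xc5a0c5)
  (nat_lit 0) (.node (.node .nil (nat_lit 0x905a5022a4b) (nat_lit 0x55a58a) (nat_lit 0) .nil) (nat_lit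
  0x905a5022eca) (nat_lit 0xc52cc1) (nat_lit 0) (.node .nil (nat_lit 0x905a5022f3d) (nat_lit 175404) (nat_lit
  0) .nil)))) (nat_lit 0x905a5023125) (nat_lit 0x16a3b121) (nat_lit 0) (.node (.node (.node (.node .nil
  (nat_lit 0x905a502313d) (nat_lit 0x1061e08) (nat_lit 0) .nil) (nat_lit 0x905a502351e) (nat_lit 0xb49185)
  (nat_lit 0) (.node .nil (nat_lit 0x905a502362e) (nat_lit 0xb51d81) (nat_lit 0) .nil)) (nat_lit
  0x905a502381a) (nat_lit 0xb530e9) (nat_lit 0) (.node (.node .nil (nat_lit 0x905a5023834) (nat_lit 0x103b208)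
  (nat_lit 0) .nil) (nat_lit 0x905a5023ccc) (nat_lit 0xb4b0a4) (nat_lit 0) (.node .nil (nat_lit 0x905a5023d23)
  (nat_lit 371079) (nat_lit 0) .nil))) (nat_lit 0x905a5023fca) (nat_lit 0xa61d26) (nat_lit 0) (.node (.node
  (.node .nil (nat_lit 0x905a5024242) (nat_lit 403624) (nat_lit 0) .nil) (nat_lit 0x905a5024260) (nat_lit
  401577) (nat_lit 0) (.node .nil (nat_lit 0x905a5024341) (nat_lit 12549) (nat_lit 0) .nil)) (nat_lit
  0x905a50246c1) (nat_lit 0xa62902) (nat_lit 310595) (.node (.node .nil (nat_lit 0x905a5024939) (nat_lit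
  0x6624e5) (nat_lit 0) .nil) (nat_lit 0x905a5024955) (nat_lit 272770) (nat_lit 0) (.node .nil (nat_lit
  0x905a5024a36) (nat_lit 0x932981) (nat_lit 0) .nil))))) (nat_lit 0x905a5024da5) (nat_lit 8524) (nat_lit 0)
  (.node (.node (.node (.node (.node .nil (nat_lit 0x905a5025001) (nat_lit 0xc5a564) (nat_lit 0) .nil)
  (nat_lit 0x905a5025044) (nat_lit 340296) (nat_lit 310596) (.node .nil (nat_lit 0x905a502512b) (nat_lit
  272777) (nat_lit 0) .nil)) (nat_lit 0x905a5025545) (nat_lit 371080) (nat_lit 0) (.node (.node .nil (nat_lit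
  0x905a50257ee) (nat_lit 0xb5310a) (nat_lit 0x97a924) .nil) (nat_lit 0x905a5025817) (nat_lit 0xb53109)
  (nat_lit 0) (.node .nil (nat_lit 0x905a5025910) (nat_lit 0xc4ac83) (nat_lit 0) .nil))) (nat_lit
  0x905a5025ee7) (nat_lit 0x14c5a4a1) (nat_lit 0) (.node (.node (.node .nil (nat_lit 0x905a5025f08) (nat_lit
  0x16a43141) (nat_lit 533994) .nil) (nat_lit 0x905a5025f60) (nat_lit 0xb52181) (nat_lit 0) (.node .nil
  (nat_lit 0x905a5026005) (nat_lit 0x362564) (nat_lit 0) .nil)) (nat_lit 0x905a502637c) (nat_lit 267657)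
  (nat_lit 0) (.node (.node .nil (nat_lit 0x905a50264e0) (nat_lit 267658) (nat_lit 0) .nil) (nat_lit
  0x905a502652b) (nat_lit 0x961945) (nat_lit 0) (.node .nil (nat_lit 0x905a5026608) (nat_lit 8364) (nat_lit 0)
  .nil)))) (nat_lit 0x905a50269cb) (nat_lit 340234) (nat_lit 0) (.node (.node (.node (.node .nil (nat_lit
  0x905a5026bb7) (nat_lit 10632) (nat_lit 0) .nil) (nat_lit 0x905a5026c08) (nat_lit 0xc39925) (nat_lit 0)
  (.node .nil (nat_lit 0x905a5026c26) (nat_lit 340233) (nat_lit 0) .nil)) (nat_lit 0x905a50270c0) (nat_lit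
  0xc52505) (nat_lit 0) (.node (.node .nil (nat_lit 0x905a50272ac) (nat_lit 301445) (nat_lit 0) .nil) (nat_lit
  0x905a5027304) (nat_lit 274757) (nat_lit 0) (.node .nil (nat_lit 0x905a502731d) (nat_lit 267651) (nat_lit
  0xa7b944) .nil))) (nat_lit 0x905a50277af) (nat_lit 401733) (nat_lit 0) (.node (.node (.node .nil (nat_lit
  0x905a5027a89) (nat_lit 0x9618a2) (nat_lit 0) .nil) (nat_lit 0x905a5027ad0) (nat_lit 398595) (nat_lit
  343498) (.node .nil (nat_lit 0x905a5027ae4) (nat_lit 0xa4b107) (nat_lit 0) .nil)) (nat_lit 0x905a5027e47)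
  (nat_lit 0x362964) (nat_lit 0) (.node (.node .nil (nat_lit 0x905a5028134) (nat_lit 0x959d83) (nat_lit 0)
  .nil) (nat_lit 0x905a50281ea) (nat_lit 0x12653161) (nat_lit 0) (.node .nil (nat_lit 0x905a50281f3) (nat_lit
  404741) (nat_lit 0xa7a9c3) .nil)))))) (nat_lit 0x905a5028c32) (nat_lit 238987) (nat_lit 0) (.node (.node
  (.node (.node (.node (.node .nil (nat_lit 0x905a5028f26) (nat_lit 0x462963) (nat_lit 0) .nil) (nat_lit
  0x905a5028fd8) (nat_lit 0x74b16a) (nat_lit 0) (.node .nil (nat_lit 0x905a5028fdd) (nat_lit 369029) (nat_lit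
  0xa7ad4e) .nil)) (nat_lit 0x905a5029388) (nat_lit 0x761925) (nat_lit 0) (.node (.node .nil (nat_lit
  0x905a5029654) (nat_lit 10508) (nat_lit 0) .nil) (nat_lit 0x905a50296ad) (nat_lit 336265) (nat_lit 0) (.node
  .nil (nat_lit 0x905a50296b9) (nat_lit 336266) (nat_lit 0) .nil))) (nat_lit 0x905a502998c) (nat_lit 0xc52481)
  (nat_lit 0) (.node (.node (.node .nil (nat_lit 0x905a50299cd) (nat_lit 12417) (nat_lit 0) .nil) (nat_lit
  0x905a5029d10) (nat_lit 403585) (nat_lit 0) (.node .nil (nat_lit 0x905a5029eaf) (nat_lit 402561) (nat_lit 0)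
  .nil)) (nat_lit 0x905a502a07f) (nat_lit 0x961d21) (nat_lit 0) (.node (.node .nil (nat_lit 0x905a502a0ce)
  (nat_lit 0x961d41) (nat_lit 0) .nil) (nat_lit 0x905a502a403) (nat_lit 307425) (nat_lit 0) (.node .nil
  (nat_lit 0x905a502a504) (nat_lit 333188) (nat_lit 0) .nil)))) (nat_lit 0x905a502a8c3) (nat_lit 0xb42982)
  (nat_lit 0) (.node (.node (.node (.node .nil (nat_lit 0x905a502ab82) (nat_lit 0x18922d41) (nat_lit 0) .nil)
  (nat_lit 0x905a502ab84) (nat_lit 0xa6290b) (nat_lit 0) (.node .nil (nat_lit 0x905a502acb5) (nat_lit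
  0xc49161) (nat_lit 0) .nil)) (nat_lit 0x905a502b1e0) (nat_lit 368972) (nat_lit 0) (.node (.node .nil
  (nat_lit 0x905a502b277) (nat_lit 0xc4ad44) (nat_lit 0) .nil) (nat_lit 0x905a502b279) (nat_lit 0xc4ad24)
  (nat_lit 0) (.node .nil (nat_lit 0x905a502b3ac) (nat_lit 402788) (nat_lit 0) .nil))) (nat_lit 0x905a502b89c)
  (nat_lit 0x63b125) (nat_lit 0) (.node (.node (.node .nil (nat_lit 0x905a502b925) (nat_lit 340225) (nat_lit
  0) .nil) (nat_lit 0x905a502b969) (nat_lit 0xa62141) (nat_lit 0) (.node .nil (nat_lit 0x905a502b97c) (nat_lit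
  334124) (nat_lit 0) .nil)) (nat_lit 0x905a502bf95) (nat_lit 0x8628a1) (nat_lit 0) (.node (.node .nil
  (nat_lit 0x905a502c024) (nat_lit 307397) (nat_lit 0) .nil) (nat_lit 0x905a502c06b) (nat_lit 274595) (nat_lit
  0xa7b98a) (.node .nil (nat_lit 0x905a502c07f) (nat_lit 0x54b146) (nat_lit 0) .nil))))) (nat_lit
  0x905a502c423) (nat_lit 401571) (nat_lit 0xa7b943) (.node (.node (.node (.node (.node .nil (nat_lit
  0x905a502c65f) (nat_lit 240006) (nat_lit 0) .nil) (nat_lit 0x905a502c693) (nat_lit 0xa624e6) (nat_lit 0)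
  (.node .nil (nat_lit 0x905a502c71d) (nat_lit 0x9330a2) (nat_lit 0) .nil)) (nat_lit 0x905a502cbe8) (nat_lit
  0xa43121) (nat_lit 0) (.node (.node .nil (nat_lit 0x905a502cd52) (nat_lit 0x661d25) (nat_lit 0) .nil)
  (nat_lit 0x905a502cd8a) (nat_lit 0xa43141) (nat_lit 0) (.node .nil (nat_lit 0x905a502ce02) (nat_lit 336257)
  (nat_lit 0) .nil))) (nat_lit 0x905a502d459) (nat_lit 0x74b162) (nat_lit 0) (.node (.node (.node .nil
  (nat_lit 0x905a502d4c1) (nat_lit 0xc51163) (nat_lit 0) .nil) (nat_lit 0x905a502d570) (nat_lit 401765)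
  (nat_lit 343374) (.node .nil (nat_lit 0x905a502d573) (nat_lit 0x93298b) (nat_lit 0) .nil)) (nat_lit
  0x905a502db50) (nat_lit 0xc52c83) (nat_lit 0) (.node (.node .nil (nat_lit 0x905a502dbb1) (nat_lit 0x74b161)
  (nat_lit 0) .nil) (nat_lit 0x905a502dc67) (nat_lit 0x85312b) (nat_lit 0) (.node .nil (nat_lit 0x905a502dc70)
  (nat_lit 274789) (nat_lit 0xa7a9c4) .nil)))) (nat_lit 0x905a50317cc) (nat_lit 306412) (nat_lit 0) (.node
  (.node (.node (.node .nil (nat_lit 0x905a50319c7) (nat_lit 0xc51161) (nat_lit 0) .nil) (nat_lit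
  0x905a5031aeb) (nat_lit 0xc5a0a3) (nat_lit 0) (.node .nil (nat_lit 0x905a5031af1) (nat_lit 0x959d8a)
  (nat_lit 0) .nil)) (nat_lit 0x905a5031ec1) (nat_lit 143691) (nat_lit 0) (.node (.node .nil (nat_lit
  0x905a5032182) (nat_lit 307559) (nat_lit 0) .nil) (nat_lit 0x905a50321de) (nat_lit 0xb430a3) (nat_lit 0)
  (.node .nil (nat_lit 0x905a50321e4) (nat_lit 0x462969) (nat_lit 0) .nil))) (nat_lit 0x905a503249c) (nat_lit
  403748) (nat_lit 0) (.node (.node (.node .nil (nat_lit 0x905a5032509) (nat_lit 388) (nat_lit 0) .nil)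
  (nat_lit 0x905a50326f7) (nat_lit 12612) (nat_lit 0) (.node .nil (nat_lit 0x905a50329e6) (nat_lit 12580)
  (nat_lit 0) .nil)) (nat_lit 0x905a5032b93) (nat_lit 307433) (nat_lit 0) (.node (.node .nil (nat_lit
  0x905a5032c02) (nat_lit 307434) (nat_lit 0) .nil) (nat_lit 0x905a5032dec) (nat_lit 9607) (nat_lit 0) (.node
  .nil (nat_lit 0x905a5033038) (nat_lit 340132) (nat_lit 0) .nil)))))))
def tT_32 : T := (.node (.node (.node (.node (.node (.node (.node .nil (nat_lit 0x92bd4c03328) (nat_lit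
  0x10424a1) (nat_lit 0) .nil) (nat_lit 0x92bd4c035bc) (nat_lit 0x1052125) (nat_lit 0) (.node .nil (nat_lit
  0x92bd4c035c4) (nat_lit 180386) (nat_lit 0) .nil)) (nat_lit 0x92bd4c03815) (nat_lit 533767) (nat_lit 0)
  (.node (.node .nil (nat_lit 0x92bd4c03a1f) (nat_lit 532807) (nat_lit 0) .nil) (nat_lit 0x92bd4c03cb3)
  (nat_lit 5639) (nat_lit 0) (.node .nil (nat_lit 0x92bd4c03cb5) (nat_lit 0x1052127) (nat_lit 0) .nil)))
  (nat_lit 0x92bd4c04201) (nat_lit 0x14c81d21) (nat_lit 0) (.node (.node (.node .nil (nat_lit 0x92bd4c04207)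
  (nat_lit 0xa640e1) (nat_lit 0) .nil) (nat_lit 0x92bd4c0420b) (nat_lit 409796) (nat_lit 0) (.node .nil
  (nat_lit 0x92bd4c042c5) (nat_lit 0xc824c2) (nat_lit 0) .nil)) (nat_lit 0x92bd4c053ed) (nat_lit 0x851601)
  (nat_lit 0) (.node (.node .nil (nat_lit 0x92bd4c05617) (nat_lit 0x5824a1) (nat_lit 12465) .nil) (nat_lit
  0x92bd4c057ce) (nat_lit 532642) (nat_lit 0) (.node .nil (nat_lit 0x92bd4c0585b) (nat_lit 0xa2c125) (nat_lit
  0) .nil)))) (nat_lit 0x92bd4c05a95) (nat_lit 172554) (nat_lit 0) (.node (.node (.node (.node .nil (nat_lit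
  0x92bd4c05d59) (nat_lit 533672) (nat_lit 0) .nil) (nat_lit 0x92bd4c05ec6) (nat_lit 5392) (nat_lit 0) (.node
  .nil (nat_lit 0x92bd4c05f1a) (nat_lit 0x1052505) (nat_lit 274990) .nil)) (nat_lit 0x92bd4c0618c) (nat_lit
  532775) (nat_lit 0) (.node (.node .nil (nat_lit 0x92bd4c06456) (nat_lit 333319) (nat_lit 0) .nil) (nat_lit
  0x92bd4c0659d) (nat_lit 6288) (nat_lit 0) (.node .nil (nat_lit 0x92bd4c065b9) (nat_lit 0x1052507) (nat_lit
  0) .nil))) (nat_lit 0x92bd4c068d3) (nat_lit 300551) (nat_lit 0) (.node (.node (.node .nil (nat_lit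
  0x92bd4c06af6) (nat_lit 180551) (nat_lit 0) .nil) (nat_lit 0x92bd4c06cb1) (nat_lit 0xa2c127) (nat_lit 0)
  (.node .nil (nat_lit 0x92bd4c06d3c) (nat_lit 16647) (nat_lit 0) .nil)) (nat_lit 0x92bd4c071d6) (nat_lit
  0x1049161) (nat_lit 0) (.node (.node .nil (nat_lit 0x92bd4c0724d) (nat_lit 0x682966) (nat_lit 0) .nil)
  (nat_lit 0x92bd4c0739f) (nat_lit 0x882ce6) (nat_lit 0) (.node .nil (nat_lit 0x92bd4c07409) (nat_lit
  0x20922d41) (nat_lit 0) .nil))))) (nat_lit 0x92bd4c078c5) (nat_lit 532649) (nat_lit 0) (.node (.node (.node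
  (.node (.node .nil (nat_lit 0x92bd4c07974) (nat_lit 534696) (nat_lit 0) .nil) (nat_lit 0x92bd4c079fb)
  (nat_lit 16645) (nat_lit 0) (.node .nil (nat_lit 0x92bd4c07b2d) (nat_lit 0x1051509) (nat_lit 0x8645c4)
  .nil)) (nat_lit 0x92bd4c0bc67) (nat_lit 530794) (nat_lit 0) (.node (.node .nil (nat_lit 0x92bd4c0beeb)
  (nat_lit 530793) (nat_lit 0) .nil) (nat_lit 0x92bd4c0bf71) (nat_lit 0x1032d49) (nat_lit 0) (.node .nil
  (nat_lit 0x92bd4c0c0f1) (nat_lit 16587) (nat_lit 0) .nil))) (nat_lit 0x92bd4c0df4d) (nat_lit 0xc52e03)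
  (nat_lit 0) (.node (.node (.node .nil (nat_lit 0x92bd4c0e186) (nat_lit 0x18a5c123) (nat_lit 0) .nil)
  (nat_lit 0x92bd4c0e21e) (nat_lit 0x102a586) (nat_lit 0) (.node .nil (nat_lit 0x92bd4c0e380) (nat_lit 278920)
  (nat_lit 0) .nil)) (nat_lit 0x92bd4c0e663) (nat_lit 0xa640a2) (nat_lit 0) (.node (.node .nil (nat_lit
  0x92bd4c0ea2a) (nat_lit 0x1062561) (nat_lit 0) .nil) (nat_lit 0x92bd4c0ea55) (nat_lit 0xc818a7) (nat_lit 0)
  (.node .nil (nat_lit 0x92bd4c0ea65) (nat_lit 0x652590) (nat_lit 0) .nil)))) (nat_lit 0x92bd4c14edb) (nat_lit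
  142544) (nat_lit 0) (.node (.node (.node (.node .nil (nat_lit 0x92bd4c15117) (nat_lit 0xb49a01) (nat_lit 0)
  .nil) (nat_lit 0x92bd4c15175) (nat_lit 0x1052ca7) (nat_lit 0) (.node .nil (nat_lit 0x92bd4c1528c) (nat_lit
  0x105192b) (nat_lit 0) .nil)) (nat_lit 0x92bd4c15810) (nat_lit 0xc82988) (nat_lit 0) (.node (.node .nil
  (nat_lit 0x92bd4c15832) (nat_lit 0x959201) (nat_lit 0) .nil) (nat_lit 0x92bd4c1597e) (nat_lit 0x781167)
  (nat_lit 0) (.node .nil (nat_lit 0x92bd4c159a4) (nat_lit 0x12b24141) (nat_lit 0) .nil))) (nat_lit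
  0x92bd4c15f05) (nat_lit 0xc8290c) (nat_lit 0) (.node (.node (.node .nil (nat_lit 0x92bd4c15f27) (nat_lit
  299376) (nat_lit 0) .nil) (nat_lit 0x92bd4c16073) (nat_lit 0x782ce4) (nat_lit 0) (.node .nil (nat_lit
  0x92bd4c1609b) (nat_lit 0x922e0a) (nat_lit 0) .nil)) (nat_lit 0x92bd4c17ad4) (nat_lit 0xb49a03) (nat_lit 0)
  (.node (.node .nil (nat_lit 0x92bd4c17bb0) (nat_lit 370896) (nat_lit 0) .nil) (nat_lit 0x92bd4c17bbb)
  (nat_lit 367108) (nat_lit 0) (.node .nil (nat_lit 0x92bd4c17c24) (nat_lit 0xb51a09) (nat_lit 0) .nil))))))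
  (nat_lit 0x92bd4c181af) (nat_lit 0x12c828e2) (nat_lit 0) (.node (.node (.node (.node (.node (.node .nil
  (nat_lit 0x92bd4c182e6) (nat_lit 0xc81528) (nat_lit 0) .nil) (nat_lit 0x92bd4c1834f) (nat_lit 0x1062963)
  (nat_lit 0) (.node .nil (nat_lit 0x92bd4c1838c) (nat_lit 274952) (nat_lit 0) .nil)) (nat_lit 0x92bd4c18f97)
  (nat_lit 0xa2c189) (nat_lit 0) (.node (.node .nil (nat_lit 0x92bd4c19023) (nat_lit 333324) (nat_lit 0) .nil)
  (nat_lit 0x92bd4c190d4) (nat_lit 402800) (nat_lit 0) (.node .nil (nat_lit 0x92bd4c19153) (nat_lit 0x7830e3)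
  (nat_lit 0) .nil))) (nat_lit 0x92bd4c40d46) (nat_lit 336392) (nat_lit 0) (.node (.node (.node .nil (nat_lit
  0x92bd4c4100e) (nat_lit 0x92c0a1) (nat_lit 0) .nil) (nat_lit 0x92bd4c41217) (nat_lit 0x1042925) (nat_lit 0)
  (.node .nil (nat_lit 0x92bd4c41237) (nat_lit 278785) (nat_lit 0x19153e36) .nil)) (nat_lit 0x92bd4c4143b)
  (nat_lit 180519) (nat_lit 0) (.node (.node .nil (nat_lit 0x92bd4c414e9) (nat_lit 534791) (nat_lit 0) .nil)
  (nat_lit 0x92bd4c4190c) (nat_lit 6224) (nat_lit 0) (.node .nil (nat_lit 0x92bd4c4192a) (nat_lit 0x1042927)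
  (nat_lit 0) .nil)))) (nat_lit 0x92bd4c4256a) (nat_lit 0xc820e1) (nat_lit 0) (.node (.node (.node (.node .nil
  (nat_lit 0x92bd4c42570) (nat_lit 0x961205) (nat_lit 0) .nil) (nat_lit 0x92bd4c42572) (nat_lit 0x962910)
  (nat_lit 0) (.node .nil (nat_lit 0x92bd4c42630) (nat_lit 0xc51a02) (nat_lit 0) .nil)) (nat_lit
  0x92bd4c4297f) (nat_lit 0xb49605) (nat_lit 0) (.node (.node .nil (nat_lit 0x92bd4c42bfe) (nat_lit 534883)
  (nat_lit 0) .nil) (nat_lit 0x92bd4c42c84) (nat_lit 278888) (nat_lit 0) (.node .nil (nat_lit 0x92bd4c42e02)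
  (nat_lit 0x1052d23) (nat_lit 0) .nil))) (nat_lit 0x92bd4c46a80) (nat_lit 201072) (nat_lit 0) (.node (.node
  (.node .nil (nat_lit 0x92bd4c46aa4) (nat_lit 0xb49a02) (nat_lit 0) .nil) (nat_lit 0x92bd4c46b02) (nat_lit
  0xa5c0e5) (nat_lit 0) (.node .nil (nat_lit 0x92bd4c46c17) (nat_lit 0x16934142) (nat_lit 567747) .nil))
  (nat_lit 0x92bd4c46f58) (nat_lit 0x1904ad42) (nat_lit 0) (.node (.node .nil (nat_lit 0x92bd4c471fe) (nat_lit
  0xc82562) (nat_lit 0) .nil) (nat_lit 0x92bd4c472b3) (nat_lit 0x582983) (nat_lit 0) (.node .nil (nat_lit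
  0x92bd4c47332) (nat_lit 0x781d83) (nat_lit 0) .nil))))) (nat_lit 0x92bd4c476b5) (nat_lit 0x12783081)
  (nat_lit 0) (.node (.node (.node (.node (.node .nil (nat_lit 0x92bd4c4785f) (nat_lit 0x882181) (nat_lit 0)
  .nil) (nat_lit 0x92bd4c478f7) (nat_lit 0x10530e6) (nat_lit 0) (.node .nil (nat_lit 0x92bd4c47a5d) (nat_lit
  0xd052581) (nat_lit 0) .nil)) (nat_lit 0x92bd4c47efc) (nat_lit 334337) (nat_lit 0) (.node (.node .nil
  (nat_lit 0x92bd4c47fdd) (nat_lit 301168) (nat_lit 0) .nil) (nat_lit 0x92bd4c48032) (nat_lit 0xa34121)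
  (nat_lit 0) (.node .nil (nat_lit 0x92bd4c48164) (nat_lit 213121) (nat_lit 0) .nil))) (nat_lit 0x92bd4c4860e)
  (nat_lit 0x944101) (nat_lit 0) (.node (.node (.node .nil (nat_lit 0x92bd4c486bb) (nat_lit 333317) (nat_lit
  0) .nil) (nat_lit 0x92bd4c4886c) (nat_lit 0x102a928) (nat_lit 0) (.node .nil (nat_lit 0x92bd4c4888f)
  (nat_lit 180385) (nat_lit 0x1e68be36) .nil)) (nat_lit 0x92bd4c48c34) (nat_lit 213283) (nat_lit 0) (.node
  (.node .nil (nat_lit 0x92bd4c48d0b) (nat_lit 213315) (nat_lit 0) .nil) (nat_lit 0x92bd4c48f63) (nat_lit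
  6659) (nat_lit 0) (.node .nil (nat_lit 0x92bd4c48f7e) (nat_lit 337104) (nat_lit 0) .nil)))) (nat_lit
  0x92bd4c49467) (nat_lit 0xa5c062) (nat_lit 0) (.node (.node (.node (.node .nil (nat_lit 0x92bd4c494aa)
  (nat_lit 0x1059528) (nat_lit 0) .nil) (nat_lit 0x92bd4c494f1) (nat_lit 0x85c102) (nat_lit 0x1153e36) (.node
  .nil (nat_lit 0x92bd4c49663) (nat_lit 0x14b82462) (nat_lit 0) .nil)) (nat_lit 0x92bd4c49a1f) (nat_lit
  377034) (nat_lit 0) (.node (.node .nil (nat_lit 0x92bd4c49b60) (nat_lit 377033) (nat_lit 0) .nil) (nat_lit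
  0x92bd4c49be6) (nat_lit 0xb81949) (nat_lit 0) (.node .nil (nat_lit 0x92bd4c49d58) (nat_lit 11782) (nat_lit
  0) .nil))) (nat_lit 0x92bd4c4a2d9) (nat_lit 209412) (nat_lit 0) (.node (.node (.node .nil (nat_lit
  0x92bd4c4a2e2) (nat_lit 0x18a34121) (nat_lit 0) .nil) (nat_lit 0x92bd4c4a374) (nat_lit 0x943203) (nat_lit 0)
  (.node .nil (nat_lit 0x92bd4c4a37d) (nat_lit 0xc51a01) (nat_lit 0) .nil)) (nat_lit 0x92bd4c4a9c6) (nat_lit
  0x19049941) (nat_lit 0) (.node (.node .nil (nat_lit 0x92bd4c4a9dd) (nat_lit 0xc240c3) (nat_lit 0) .nil)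
  (nat_lit 0x92bd4c4aa6b) (nat_lit 0xa640e2) (nat_lit 0) (.node .nil (nat_lit 0x92bd4c4aa70) (nat_lit
  0xc824c1) (nat_lit 0) .nil)))))))
def tT_33 : T := (.node (.node (.node (.node (.node (.node (.node .nil (nat_lit 0x92bd4c4b06f) (nat_lit 6665)
  (nat_lit 0) .nil) (nat_lit 0x92bd4c4b24a) (nat_lit 208) (nat_lit 0) (.node .nil (nat_lit 0x92bd4c4b24f)
  (nat_lit 213321) (nat_lit 0) .nil)) (nat_lit 0x92bd4c4b5d0) (nat_lit 529704) (nat_lit 0) (.node (.node .nil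
  (nat_lit 0x92bd4c4b770) (nat_lit 180549) (nat_lit 0xc2c5a3) .nil) (nat_lit 0x92bd4c4b941) (nat_lit 0x5828a9)
  (nat_lit 0) (.node .nil (nat_lit 0x92bd4c4b946) (nat_lit 278786) (nat_lit 0) .nil))) (nat_lit 0x92bd4c4bd58)
  (nat_lit 532773) (nat_lit 0) (.node (.node (.node .nil (nat_lit 0x92bd4c4be84) (nat_lit 278856) (nat_lit
  411149) .nil) (nat_lit 0x92bd4c4c02c) (nat_lit 0x882909) (nat_lit 0) (.node .nil (nat_lit 0x92bd4c4c03a)
  (nat_lit 278787) (nat_lit 0) .nil)) (nat_lit 0x92bd4c4c4b6) (nat_lit 303624) (nat_lit 0) (.node (.node .nil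
  (nat_lit 0x92bd4c4c579) (nat_lit 180394) (nat_lit 0) .nil) (nat_lit 0x92bd4c4c71f) (nat_lit 0x581549)
  (nat_lit 0) (.node .nil (nat_lit 0x92bd4c4c731) (nat_lit 5637) (nat_lit 0x10c8be36) .nil)))) (nat_lit
  0x92bd4c4cbaf) (nat_lit 200202) (nat_lit 0) (.node (.node (.node (.node .nil (nat_lit 0x92bd4c4cc3e)
  (nat_lit 200201) (nat_lit 0) .nil) (nat_lit 0x92bd4c4ce14) (nat_lit 6256) (nat_lit 0) (.node .nil (nat_lit
  0x92bd4c4ce28) (nat_lit 0xa49a01) (nat_lit 0) .nil)) (nat_lit 0x92bd4c4d23b) (nat_lit 0x10428e1) (nat_lit 0)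
  (.node (.node .nil (nat_lit 0x92bd4c4d333) (nat_lit 0x104a0e1) (nat_lit 0) .nil) (nat_lit 0x92bd4c4d511)
  (nat_lit 180449) (nat_lit 0) (.node .nil (nat_lit 0x92bd4c4d51f) (nat_lit 0xa49a02) (nat_lit 0) .nil)))
  (nat_lit 0x92bd4c4da09) (nat_lit 0x1032d21) (nat_lit 0) (.node (.node (.node .nil (nat_lit 0x92bd4c4da28)
  (nat_lit 0x1032d41) (nat_lit 0) .nil) (nat_lit 0x92bd4c4da49) (nat_lit 0x2065a921) (nat_lit 0) (.node .nil
  (nat_lit 0x92bd4c4dc09) (nat_lit 530785) (nat_lit 0) .nil)) (nat_lit 0x92bd4c4df73) (nat_lit 535753)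
  (nat_lit 0) (.node (.node .nil (nat_lit 0x92bd4c4e11d) (nat_lit 535754) (nat_lit 0) .nil) (nat_lit
  0x92bd4c4e140) (nat_lit 0x1059949) (nat_lit 0) (.node .nil (nat_lit 0x92bd4c4e2ed) (nat_lit 16742) (nat_lit
  0) .nil))))) (nat_lit 0x92bd4c4e668) (nat_lit 0x1052c62) (nat_lit 0) (.node (.node (.node (.node (.node .nil
  (nat_lit 0x92bd4c4e833) (nat_lit 0x882d02) (nat_lit 0x58be36) .nil) (nat_lit 0x92bd4c4e84e) (nat_lit
  0xb81528) (nat_lit 0) (.node .nil (nat_lit 0x92bd4c4e9e2) (nat_lit 0x20a5a462) (nat_lit 0) .nil)) (nat_lit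
  0x92bd4c4eee2) (nat_lit 339459) (nat_lit 0) (.node (.node .nil (nat_lit 0x92bd4c4ef2a) (nat_lit 273928)
  (nat_lit 0) .nil) (nat_lit 0x92bd4c4ef43) (nat_lit 0x102ad28) (nat_lit 0) (.node .nil (nat_lit
  0x92bd4c4f0ec) (nat_lit 0xa5c123) (nat_lit 0) .nil))) (nat_lit 0x92bd4c4f357) (nat_lit 0x12c52201) (nat_lit
  0) (.node (.node (.node .nil (nat_lit 0x92bd4c4f65e) (nat_lit 409863) (nat_lit 0) .nil) (nat_lit
  0x92bd4c4f6e7) (nat_lit 0x962203) (nat_lit 0) (.node .nil (nat_lit 0x92bd4c4f708) (nat_lit 0xc2c147)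
  (nat_lit 0) .nil)) (nat_lit 0x92bd4c4fa51) (nat_lit 0xc81881) (nat_lit 0) (.node (.node .nil (nat_lit
  0x92bd4c4fd51) (nat_lit 0xa640e9) (nat_lit 0) .nil) (nat_lit 0x92bd4c4fddc) (nat_lit 340487) (nat_lit 0)
  (.node .nil (nat_lit 0x92bd4c4fdf5) (nat_lit 0x1062d26) (nat_lit 0) .nil)))) (nat_lit 0x92bd4c5016c)
  (nat_lit 0xc1c146) (nat_lit 0) (.node (.node (.node (.node .nil (nat_lit 0x92bd4c50448) (nat_lit 0xc824ca)
  (nat_lit 0) .nil) (nat_lit 0x92bd4c50458) (nat_lit 0xc81882) (nat_lit 0) (.node .nil (nat_lit 0x92bd4c504ea)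
  (nat_lit 409894) (nat_lit 0) .nil)) (nat_lit 0x92bd4c508e2) (nat_lit 0xc49a03) (nat_lit 0) (.node (.node
  .nil (nat_lit 0x92bd4c50a6f) (nat_lit 0xc51a09) (nat_lit 0) .nil) (nat_lit 0x92bd4c50b3f) (nat_lit 399876)
  (nat_lit 0) (.node .nil (nat_lit 0x92bd4c50beb) (nat_lit 403664) (nat_lit 0) .nil))) (nat_lit 0x92bd4c51196)
  (nat_lit 213314) (nat_lit 0) (.node (.node (.node .nil (nat_lit 0x92bd4c511e4) (nat_lit 213282) (nat_lit 0)
  .nil) (nat_lit 0x92bd4c513b1) (nat_lit 6658) (nat_lit 0) (.node .nil (nat_lit 0x92bd4c513c6) (nat_lit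
  0x682922) (nat_lit 0) .nil)) (nat_lit 0x92bd4c5188d) (nat_lit 213313) (nat_lit 0) (.node (.node .nil
  (nat_lit 0x92bd4c518dd) (nat_lit 213281) (nat_lit 0) .nil) (nat_lit 0x92bd4c51aaa) (nat_lit 6657) (nat_lit
  0) (.node .nil (nat_lit 0x92bd4c51abd) (nat_lit 0x682921) (nat_lit 0) .nil)))))) (nat_lit 0x92bd4c51f8a)
  (nat_lit 0x102a501) (nat_lit 0) (.node (.node (.node (.node (.node (.node .nil (nat_lit 0x92bd4c51fea)
  (nat_lit 0x5828a1) (nat_lit 398893) .nil) (nat_lit 0x92bd4c521a3) (nat_lit 0x1051528) (nat_lit 0) (.node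
  .nil (nat_lit 0x92bd4c521ac) (nat_lit 180387) (nat_lit 0) .nil)) (nat_lit 0x92bd4c5267f) (nat_lit 300549)
  (nat_lit 0) (.node (.node .nil (nat_lit 0x92bd4c526df) (nat_lit 278794) (nat_lit 0) .nil) (nat_lit
  0x92bd4c52892) (nat_lit 0x882149) (nat_lit 0) (.node .nil (nat_lit 0x92bd4c528a3) (nat_lit 8712) (nat_lit
  0x1858be36) .nil))) (nat_lit 0x92bd4c52cf6) (nat_lit 306691) (nat_lit 0) (.node (.node (.node .nil (nat_lit
  0x92bd4c52e13) (nat_lit 241159) (nat_lit 0) .nil) (nat_lit 0x92bd4c52e5f) (nat_lit 0x75c0ea) (nat_lit 0)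
  (.node .nil (nat_lit 0x92bd4c52f7f) (nat_lit 0x95c143) (nat_lit 0) .nil)) (nat_lit 0x92bd4c533ff) (nat_lit
  0x65c123) (nat_lit 0) (.node (.node .nil (nat_lit 0x92bd4c53508) (nat_lit 0xa4ae06) (nat_lit 0) .nil)
  (nat_lit 0x92bd4c53548) (nat_lit 0x65c143) (nat_lit 0) (.node .nil (nat_lit 0x92bd4c53674) (nat_lit 208387)
  (nat_lit 0) .nil)))) (nat_lit 0x92bd4c53b24) (nat_lit 0xb34123) (nat_lit 0) (.node (.node (.node (.node .nil
  (nat_lit 0x92bd4c53c01) (nat_lit 0x10524cb) (nat_lit 0) .nil) (nat_lit 0x92bd4c53c3d) (nat_lit 0xb34143)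
  (nat_lit 0) (.node .nil (nat_lit 0x92bd4c53d7e) (nat_lit 367107) (nat_lit 0) .nil)) (nat_lit 0x92bd4c54218)
  (nat_lit 0x582ce9) (nat_lit 0) (.node (.node .nil (nat_lit 0x92bd4c542b1) (nat_lit 0x20a49961) (nat_lit 0)
  .nil) (nat_lit 0x92bd4c54332) (nat_lit 0x582cea) (nat_lit 0) (.node .nil (nat_lit 0x92bd4c54472) (nat_lit
  180583) (nat_lit 0) .nil))) (nat_lit 0x92bd4c548be) (nat_lit 0x682d23) (nat_lit 0) (.node (.node (.node .nil
  (nat_lit 0x92bd4c549a8) (nat_lit 0x1052566) (nat_lit 0) .nil) (nat_lit 0x92bd4c54a27) (nat_lit 0x682d43)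
  (nat_lit 0) (.node .nil (nat_lit 0x92bd4c54b5f) (nat_lit 213347) (nat_lit 0) .nil)) (nat_lit 0x92bd4c54fdf)
  (nat_lit 533859) (nat_lit 0) (.node (.node .nil (nat_lit 0x92bd4c5509f) (nat_lit 246119) (nat_lit 0) .nil)
  (nat_lit 0x92bd4c55127) (nat_lit 0x782cea) (nat_lit 0) (.node .nil (nat_lit 0x92bd4c55254) (nat_lit
  0x104ad43) (nat_lit 0) .nil))))) (nat_lit 0x92bd4c55722) (nat_lit 0x95c062) (nat_lit 0) (.node (.node (.node
  (.node (.node .nil (nat_lit 0x92bd4c55796) (nat_lit 0x75c0e2) (nat_lit 0x114be36) .nil) (nat_lit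
  0x92bd4c55828) (nat_lit 0x56414c) (nat_lit 0) (.node .nil (nat_lit 0x92bd4c55957) (nat_lit 0x12b82862)
  (nat_lit 0) .nil)) (nat_lit 0x92bd4c55e19) (nat_lit 0x104ac62) (nat_lit 0) (.node (.node .nil (nat_lit
  0x92bd4c55ece) (nat_lit 0x782ce2) (nat_lit 0x2297c616) .nil) (nat_lit 0x92bd4c55f18) (nat_lit 0xc2c14c)
  (nat_lit 0) (.node .nil (nat_lit 0x92bd4c5604b) (nat_lit 0x2095a862) (nat_lit 0) .nil))) (nat_lit
  0x92bd4c562f1) (nat_lit 0x4640c9) (nat_lit 0) (.node (.node (.node .nil (nat_lit 0x92bd4c565b2) (nat_lit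
  143878) (nat_lit 0) .nil) (nat_lit 0x92bd4c565dc) (nat_lit 0x14c824e1) (nat_lit 0) (.node .nil (nat_lit
  0x92bd4c566b3) (nat_lit 0x1062d46) (nat_lit 0) .nil)) (nat_lit 0x92bd4c56ca7) (nat_lit 397830) (nat_lit 0)
  (.node (.node .nil (nat_lit 0x92bd4c56cdb) (nat_lit 0xc828c9) (nat_lit 0) .nil) (nat_lit 0x92bd4c56d30)
  (nat_lit 0xc1c126) (nat_lit 0) (.node .nil (nat_lit 0x92bd4c56daa) (nat_lit 409926) (nat_lit 0) .nil))))
  (nat_lit 0x92bd4c573a0) (nat_lit 0x94320a) (nat_lit 0) (.node (.node (.node (.node .nil (nat_lit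
  0x92bd4c573ca) (nat_lit 201104) (nat_lit 0) .nil) (nat_lit 0x92bd4c57427) (nat_lit 0x62320a) (nat_lit 0)
  (.node .nil (nat_lit 0x92bd4c574a9) (nat_lit 303504) (nat_lit 0) .nil)) (nat_lit 0x92bd4c57a95) (nat_lit
  0x12c44141) (nat_lit 0) (.node (.node .nil (nat_lit 0x92bd4c57abf) (nat_lit 209040) (nat_lit 0) .nil)
  (nat_lit 0x92bd4c57b32) (nat_lit 0x66120a) (nat_lit 0) (.node .nil (nat_lit 0x92bd4c57ba0) (nat_lit
  0x962201) (nat_lit 0) .nil))) (nat_lit 0x92bd4c5818f) (nat_lit 0x96220a) (nat_lit 0) (.node (.node (.node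
  .nil (nat_lit 0x92bd4c581b8) (nat_lit 399504) (nat_lit 0) .nil) (nat_lit 0x92bd4c58227) (nat_lit 0x553206)
  (nat_lit 0) (.node .nil (nat_lit 0x92bd4c58292) (nat_lit 307472) (nat_lit 0) .nil)) (nat_lit 0x92bd4c5886b)
  (nat_lit 0xc49a0a) (nat_lit 0) (.node (.node .nil (nat_lit 0x92bd4c588ad) (nat_lit 143568) (nat_lit 0) .nil)
  (nat_lit 0x92bd4c588e5) (nat_lit 0xc51a03) (nat_lit 0) (.node .nil (nat_lit 0x92bd4c58987) (nat_lit 402640)
  (nat_lit 0) .nil)))))))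
def tT_34 : T := (.node (.node (.node (.node (.node (.node (.node .nil (nat_lit 0x92bd4c58f6f) (nat_lit
  0xc824c3) (nat_lit 0) .nil) (nat_lit 0x92bd4c58faa) (nat_lit 0x19051921) (nat_lit 0) (.node .nil (nat_lit
  0x92bd4c5907c) (nat_lit 0xc828c1) (nat_lit 0) .nil)) (nat_lit 0x92bd4c5966a) (nat_lit 401648) (nat_lit 0)
  (.node (.node .nil (nat_lit 0x92bd4c596a1) (nat_lit 0xa64127) (nat_lit 0) .nil) (nat_lit 0x92bd4c59706)
  (nat_lit 0xc49e05) (nat_lit 0) (.node .nil (nat_lit 0x92bd4c59771) (nat_lit 0xc828c2) (nat_lit 0) .nil)))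
  (nat_lit 0x92bd4c59a2d) (nat_lit 246055) (nat_lit 12848) (.node (.node (.node .nil (nat_lit 0x92bd4c59c6e)
  (nat_lit 0xa3c0e2) (nat_lit 0) .nil) (nat_lit 0x92bd4c59d83) (nat_lit 245987) (nat_lit 0) (.node .nil
  (nat_lit 0x92bd4c59eea) (nat_lit 0x7824ea) (nat_lit 0) .nil)) (nat_lit 0x92bd4c5a151) (nat_lit 530599)
  (nat_lit 0x1f14be36) (.node (.node .nil (nat_lit 0x92bd4c5a3a8) (nat_lit 0xa3c0e1) (nat_lit 0) .nil)
  (nat_lit 0x92bd4c5a41e) (nat_lit 0x105a562) (nat_lit 0) (.node .nil (nat_lit 0x92bd4c5a5eb) (nat_lit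
  0xa49e07) (nat_lit 0) .nil)))) (nat_lit 0x92bd4c5a83e) (nat_lit 0x1032921) (nat_lit 0) (.node (.node (.node
  (.node .nil (nat_lit 0x92bd4c5aaa4) (nat_lit 530721) (nat_lit 0) .nil) (nat_lit 0x92bd4c5ab13) (nat_lit
  530753) (nat_lit 0) (.node .nil (nat_lit 0x92bd4c5ace0) (nat_lit 16577) (nat_lit 0) .nil)) (nat_lit
  0x92bd4c5afe1) (nat_lit 530754) (nat_lit 0) (.node (.node .nil (nat_lit 0x92bd4c5b14f) (nat_lit 530722)
  (nat_lit 0) .nil) (nat_lit 0x92bd4c5b17c) (nat_lit 0x1032922) (nat_lit 0) (.node .nil (nat_lit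
  0x92bd4c5b3cd) (nat_lit 16578) (nat_lit 0) .nil))) (nat_lit 0x92bd4c5b82c) (nat_lit 82121) (nat_lit 0)
  (.node (.node (.node .nil (nat_lit 0x92bd4c5b917) (nat_lit 82122) (nat_lit 0) .nil) (nat_lit 0x92bd4c5b959)
  (nat_lit 0x281949) (nat_lit 0) (.node .nil (nat_lit 0x92bd4c5bab2) (nat_lit 2566) (nat_lit 0) .nil))
  (nat_lit 0x92bd4c5bf85) (nat_lit 16585) (nat_lit 0) (.node (.node .nil (nat_lit 0x92bd4c5c00e) (nat_lit
  16586) (nat_lit 0) .nil) (nat_lit 0x92bd4c5c050) (nat_lit 530761) (nat_lit 0) (.node .nil (nat_lit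
  0x92bd4c5c1bc) (nat_lit 518) (nat_lit 0) .nil))))) (nat_lit 0x92bd4c5c678) (nat_lit 335367) (nat_lit 0)
  (.node (.node (.node (.node (.node .nil (nat_lit 0x92bd4c5c6fd) (nat_lit 0x7824e2) (nat_lit 0) .nil)
  (nat_lit 0x92bd4c5c71e) (nat_lit 531653) (nat_lit 0x1878be36) (.node .nil (nat_lit 0x92bd4c5c8b1) (nat_lit
  0xa3c0e9) (nat_lit 0) .nil)) (nat_lit 0x92bd4c5cd0f) (nat_lit 0xc53205) (nat_lit 0) (.node (.node .nil
  (nat_lit 0x92bd4c5cdf4) (nat_lit 535851) (nat_lit 12841) .nil) (nat_lit 0x92bd4c5ce3a) (nat_lit 530661)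
  (nat_lit 0) (.node .nil (nat_lit 0x92bd4c5cf95) (nat_lit 0x105a56a) (nat_lit 0) .nil))) (nat_lit
  0x92bd4c5d31b) (nat_lit 306690) (nat_lit 0) (.node (.node (.node .nil (nat_lit 0x92bd4c5d527) (nat_lit
  0x95c122) (nat_lit 0x78be36) .nil) (nat_lit 0x92bd4c5d590) (nat_lit 0xa59a06) (nat_lit 0) (.node .nil
  (nat_lit 0x92bd4c5d6be) (nat_lit 0x95c142) (nat_lit 0) .nil)) (nat_lit 0x92bd4c5dba3) (nat_lit 16683)
  (nat_lit 0) (.node (.node .nil (nat_lit 0x92bd4c5dc1e) (nat_lit 533865) (nat_lit 0) .nil) (nat_lit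
  0x92bd4c5dc85) (nat_lit 0xa32e06) (nat_lit 0) (.node .nil (nat_lit 0x92bd4c5dd76) (nat_lit 533866) (nat_lit
  0) .nil)))) (nat_lit 0x92bd4c5e097) (nat_lit 0x104ad22) (nat_lit 0xf17c616) (.node (.node (.node (.node .nil
  (nat_lit 0x92bd4c5e29d) (nat_lit 533858) (nat_lit 0) .nil) (nat_lit 0x92bd4c5e378) (nat_lit 0xb51e07)
  (nat_lit 0) (.node .nil (nat_lit 0x92bd4c5e4be) (nat_lit 0x104ad42) (nat_lit 0) .nil)) (nat_lit
  0x92bd4c5e93d) (nat_lit 306697) (nat_lit 0) (.node (.node .nil (nat_lit 0x92bd4c5e990) (nat_lit 9584)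
  (nat_lit 0) .nil) (nat_lit 0x92bd4c5ea6d) (nat_lit 0xa34166) (nat_lit 0) (.node .nil (nat_lit 0x92bd4c5eb6b)
  (nat_lit 306698) (nat_lit 0) .nil))) (nat_lit 0x92bd4c5f030) (nat_lit 0x65c149) (nat_lit 0) (.node (.node
  (.node .nil (nat_lit 0x92bd4c5f087) (nat_lit 208394) (nat_lit 0) .nil) (nat_lit 0x92bd4c5f161) (nat_lit
  208393) (nat_lit 0) (.node .nil (nat_lit 0x92bd4c5f260) (nat_lit 6512) (nat_lit 0) .nil)) (nat_lit
  0x92bd4c5f494) (nat_lit 0xb34149) (nat_lit 0) (.node (.node .nil (nat_lit 0x92bd4c5f77e) (nat_lit 367114)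
  (nat_lit 0) .nil) (nat_lit 0x92bd4c5f856) (nat_lit 367113) (nat_lit 0) (.node .nil (nat_lit 0x92bd4c5f99f)
  (nat_lit 11472) (nat_lit 0) .nil)))))) (nat_lit 0x92bd4c5fcde) (nat_lit 0xb34141) (nat_lit 0) (.node (.node
  (.node (.node (.node (.node .nil (nat_lit 0x92bd4c5feea) (nat_lit 0x16682921) (nat_lit 0) .nil) (nat_lit
  0x92bd4c5ff48) (nat_lit 0xb34121) (nat_lit 0) (.node .nil (nat_lit 0x92bd4c60081) (nat_lit 367105) (nat_lit
  0) .nil)) (nat_lit 0x92bd4c60566) (nat_lit 213354) (nat_lit 0) (.node (.node .nil (nat_lit 0x92bd4c605e3)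
  (nat_lit 0x682d49) (nat_lit 0) .nil) (nat_lit 0x92bd4c6063f) (nat_lit 213353) (nat_lit 0) (.node .nil
  (nat_lit 0x92bd4c6073b) (nat_lit 6667) (nat_lit 0) .nil))) (nat_lit 0x92bd4c60a19) (nat_lit 0x1049502)
  (nat_lit 410947) (.node (.node (.node .nil (nat_lit 0x92bd4c60a6e) (nat_lit 172546) (nat_lit 0) .nil)
  (nat_lit 0x92bd4c60c7f) (nat_lit 0x10428a1) (nat_lit 0) (.node .nil (nat_lit 0x92bd4c60e29) (nat_lit
  0x9428b0) (nat_lit 0) .nil)) (nat_lit 0x92bd4c612f5) (nat_lit 306692) (nat_lit 0) (.node (.node .nil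
  (nat_lit 0x92bd4c61338) (nat_lit 0x75c147) (nat_lit 0) .nil) (nat_lit 0x92bd4c61495) (nat_lit 0x95c124)
  (nat_lit 0) (.node .nil (nat_lit 0x92bd4c614f4) (nat_lit 0x95c144) (nat_lit 0) .nil)))) (nat_lit
  0x92bd4c61a2f) (nat_lit 0x65c124) (nat_lit 0) (.node (.node (.node (.node .nil (nat_lit 0x92bd4c61b09)
  (nat_lit 0x65c144) (nat_lit 0) .nil) (nat_lit 0x92bd4c61b18) (nat_lit 208388) (nat_lit 0) (.node .nil
  (nat_lit 0x92bd4c61b8a) (nat_lit 0x20932962) (nat_lit 378314) .nil)) (nat_lit 0x92bd4c61ebe) (nat_lit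
  0x934141) (nat_lit 0) (.node (.node .nil (nat_lit 0x92bd4c62116) (nat_lit 333936) (nat_lit 0) .nil) (nat_lit
  0x92bd4c62178) (nat_lit 301569) (nat_lit 0) (.node .nil (nat_lit 0x92bd4c6230a) (nat_lit 201218) (nat_lit 0)
  .nil))) (nat_lit 0x92bd4c627bd) (nat_lit 180517) (nat_lit 12561) (.node (.node (.node .nil (nat_lit
  0x92bd4c62849) (nat_lit 272560) (nat_lit 0) .nil) (nat_lit 0x92bd4c62971) (nat_lit 529666) (nat_lit 0)
  (.node .nil (nat_lit 0x92bd4c62a00) (nat_lit 0x851609) (nat_lit 0) .nil)) (nat_lit 0x92bd4c62c97) (nat_lit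
  306320) (nat_lit 0) (.node (.node .nil (nat_lit 0x92bd4c62d93) (nat_lit 0x19053101) (nat_lit 0) .nil)
  (nat_lit 0x92bd4c63050) (nat_lit 0x95920a) (nat_lit 0) (.node .nil (nat_lit 0x92bd4c63087) (nat_lit
  0x63c168) (nat_lit 0) .nil))))) (nat_lit 0x92bd4c63391) (nat_lit 0xb51a03) (nat_lit 0) (.node (.node (.node
  (.node (.node .nil (nat_lit 0x92bd4c63488) (nat_lit 369872) (nat_lit 0) .nil) (nat_lit 0x92bd4c63781)
  (nat_lit 0xb49a0a) (nat_lit 0) (.node .nil (nat_lit 0x92bd4c637c3) (nat_lit 208016) (nat_lit 0) .nil))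
  (nat_lit 0x92bd4c63c98) (nat_lit 334338) (nat_lit 0) (.node (.node .nil (nat_lit 0x92bd4c63d5e) (nat_lit
  0x92c0e1) (nat_lit 0) .nil) (nat_lit 0x92bd4c63e56) (nat_lit 0xa34122) (nat_lit 0) (.node .nil (nat_lit
  0x92bd4c63ee3) (nat_lit 532705) (nat_lit 0) .nil))) (nat_lit 0x92bd4c641b7) (nat_lit 0x883101) (nat_lit 0)
  (.node (.node (.node .nil (nat_lit 0x92bd4c64502) (nat_lit 0x1061528) (nat_lit 0) .nil) (nat_lit
  0x92bd4c64516) (nat_lit 0xc82963) (nat_lit 0) (.node .nil (nat_lit 0x92bd4c645ca) (nat_lit 0xd052582)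
  (nat_lit 0) .nil)) (nat_lit 0x92bd4c64883) (nat_lit 409899) (nat_lit 0) (.node (.node .nil (nat_lit
  0x92bd4c64bf3) (nat_lit 0xa2c181) (nat_lit 0) .nil) (nat_lit 0x92bd4c64c29) (nat_lit 0x1061cc5) (nat_lit 0)
  (.node .nil (nat_lit 0x92bd4c64cb7) (nat_lit 0xc8256a) (nat_lit 0) .nil)))) (nat_lit 0x92bd4c64f7c) (nat_lit
  0xa2c182) (nat_lit 0) (.node (.node (.node (.node .nil (nat_lit 0x92bd4c652ea) (nat_lit 0xc4ae02) (nat_lit
  0) .nil) (nat_lit 0x92bd4c65320) (nat_lit 0x14583122) (nat_lit 0) (.node .nil (nat_lit 0x92bd4c653ac)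
  (nat_lit 0x103b0c5) (nat_lit 0) .nil)) (nat_lit 0x92bd4c65698) (nat_lit 0x68292c) (nat_lit 0) (.node (.node
  .nil (nat_lit 0x92bd4c659e3) (nat_lit 0x583145) (nat_lit 0) .nil) (nat_lit 0x92bd4c659fb) (nat_lit 0x93c184)
  (nat_lit 0) (.node .nil (nat_lit 0x92bd4c65aa5) (nat_lit 278796) (nat_lit 0) .nil))) (nat_lit 0x92bd4c65df6)
  (nat_lit 334345) (nat_lit 0) (.node (.node (.node .nil (nat_lit 0x92bd4c65f00) (nat_lit 10448) (nat_lit 0)
  .nil) (nat_lit 0x92bd4c66013) (nat_lit 301571) (nat_lit 0) (.node .nil (nat_lit 0x92bd4c66178) (nat_lit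
  6660) (nat_lit 0) .nil)) (nat_lit 0x92bd4c6645a) (nat_lit 16552) (nat_lit 0) (.node (.node .nil (nat_lit
  0x92bd4c6658c) (nat_lit 534789) (nat_lit 0) .nil) (nat_lit 0x92bd4c665f7) (nat_lit 529673) (nat_lit 0)
  (.node .nil (nat_lit 0x92bd4c667fb) (nat_lit 0x10520a9) (nat_lit 0xc8a9c4) .nil)))))))
def tT_35 : T := (.node (.node (.node (.node (.node (.node (.node .nil (nat_lit 0x92bd4c66dc5) (nat_lit
  0x19052181) (nat_lit 0) .nil) (nat_lit 0x92bd4c66f2e) (nat_lit 0x75c0e4) (nat_lit 0) (.node .nil (nat_lit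
  0x92bd4c66f80) (nat_lit 0x48256a) (nat_lit 0) .nil)) (nat_lit 0x92bd4c674b2) (nat_lit 0xb82127) (nat_lit 0)
  (.node (.node .nil (nat_lit 0x92bd4c674f8) (nat_lit 0x1052ce5) (nat_lit 0) .nil) (nat_lit 0x92bd4c67628)
  (nat_lit 0x20a32562) (nat_lit 17742) (.node .nil (nat_lit 0x92bd4c67675) (nat_lit 201227) (nat_lit 0)
  .nil))) (nat_lit 0x92bd4c67ba7) (nat_lit 0x682d24) (nat_lit 0) (.node (.node (.node .nil (nat_lit
  0x92bd4c67c81) (nat_lit 0xb51a02) (nat_lit 0) .nil) (nat_lit 0x92bd4c67cfd) (nat_lit 0x16a34122) (nat_lit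
  567748) (.node .nil (nat_lit 0x92bd4c67d6d) (nat_lit 213348) (nat_lit 0) .nil)) (nat_lit 0x92bd4c6828b)
  (nat_lit 334339) (nat_lit 0) (.node (.node .nil (nat_lit 0x92bd4c682dc) (nat_lit 9424) (nat_lit 0) .nil)
  (nat_lit 0x92bd4c6834f) (nat_lit 301578) (nat_lit 0) (.node .nil (nat_lit 0x92bd4c6847d) (nat_lit 213123)
  (nat_lit 0) .nil)))) (nat_lit 0x92bd4c6897a) (nat_lit 0x104a0a2) (nat_lit 12842) (.node (.node (.node (.node
  .nil (nat_lit 0x92bd4c689c7) (nat_lit 532805) (nat_lit 0) .nil) (nat_lit 0x92bd4c68a44) (nat_lit 267778)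
  (nat_lit 0) (.node .nil (nat_lit 0x92bd4c68b72) (nat_lit 0x10428a9) (nat_lit 0) .nil)) (nat_lit
  0x92bd4c68e56) (nat_lit 0x782d47) (nat_lit 0) (.node (.node .nil (nat_lit 0x92bd4c69043) (nat_lit 533860)
  (nat_lit 0) .nil) (nat_lit 0x92bd4c691e2) (nat_lit 0x104ad24) (nat_lit 0) (.node .nil (nat_lit
  0x92bd4c6924c) (nat_lit 0x104ad44) (nat_lit 0) .nil))) (nat_lit 0x92bd4c6961e) (nat_lit 0xa2c0e1) (nat_lit
  0) (.node (.node (.node .nil (nat_lit 0x92bd4c697cd) (nat_lit 301570) (nat_lit 0) .nil) (nat_lit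
  0x92bd4c698d2) (nat_lit 0x934142) (nat_lit 0) (.node .nil (nat_lit 0x92bd4c69963) (nat_lit 201217) (nat_lit
  0) .nil)) (nat_lit 0x92bd4c69c9d) (nat_lit 0x104994b) (nat_lit 0) (.node (.node .nil (nat_lit 0x92bd4c69d13)
  (nat_lit 0x681169) (nat_lit 0) .nil) (nat_lit 0x92bd4c69f48) (nat_lit 0xb51a01) (nat_lit 0) (.node .nil
  (nat_lit 0x92bd4c6a00d) (nat_lit 213131) (nat_lit 0) .nil))))) (nat_lit 0x92bd4c6a311) (nat_lit 0x85c0e6)
  (nat_lit 0) (.node (.node (.node (.node (.node .nil (nat_lit 0x92bd4c6a406) (nat_lit 0x652e06) (nat_lit 0)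
  .nil) (nat_lit 0x92bd4c6a4c6) (nat_lit 533643) (nat_lit 0) (.node .nil (nat_lit 0x92bd4c6a6a5) (nat_lit
  0x104916a) (nat_lit 0) .nil)) (nat_lit 0x92bd4c6ab03) (nat_lit 533765) (nat_lit 0) (.node (.node .nil
  (nat_lit 0x92bd4c6ac96) (nat_lit 267786) (nat_lit 0) .nil) (nat_lit 0x92bd4c6adb5) (nat_lit 8368) (nat_lit
  0) (.node .nil (nat_lit 0x92bd4c6ae44) (nat_lit 0x10524a8) (nat_lit 410958) .nil))) (nat_lit 0x92bd4c6b46f)
  (nat_lit 0x961207) (nat_lit 0) (.node (.node (.node .nil (nat_lit 0x92bd4c6b48e) (nat_lit 0x864101) (nat_lit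
  0) .nil) (nat_lit 0x92bd4c6b4dd) (nat_lit 0x564145) (nat_lit 0) (.node .nil (nat_lit 0x92bd4c6b52d) (nat_lit
  0x20962d47) (nat_lit 0) .nil)) (nat_lit 0x92bd4c6bb62) (nat_lit 0x1053165) (nat_lit 0) (.node (.node .nil
  (nat_lit 0x92bd4c6bb85) (nat_lit 0x106256a) (nat_lit 0) .nil) (nat_lit 0x92bd4c6bbca) (nat_lit 536875)
  (nat_lit 0) (.node .nil (nat_lit 0x92bd4c6bc2a) (nat_lit 0x7640e3) (nat_lit 0) .nil)))) (nat_lit
  0x92bd4c6c223) (nat_lit 0xc49605) (nat_lit 0) (.node (.node (.node (.node .nil (nat_lit 0x92bd4c6c2ca)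
  (nat_lit 0xc4410a) (nat_lit 0) .nil) (nat_lit 0x92bd4c6c305) (nat_lit 401928) (nat_lit 0) (.node .nil
  (nat_lit 0x92bd4c6c31a) (nat_lit 0x964147) (nat_lit 0) .nil)) (nat_lit 0x92bd4c6c93c) (nat_lit 0xa640a1)
  (nat_lit 0) (.node (.node .nil (nat_lit 0x92bd4c6c9b9) (nat_lit 0x1062562) (nat_lit 0) .nil) (nat_lit
  0x92bd4c6c9e4) (nat_lit 0xc3c0e3) (nat_lit 0) (.node .nil (nat_lit 0x92bd4c6c9f6) (nat_lit 0x14c81521)
  (nat_lit 0) .nil))) (nat_lit 0x92bd4c6cfa3) (nat_lit 340485) (nat_lit 0) (.node (.node (.node .nil (nat_lit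
  0x92bd4c6d0ab) (nat_lit 0xc82d2b) (nat_lit 0) .nil) (nat_lit 0x92bd4c6d0ea) (nat_lit 0xa640a9) (nat_lit 0)
  (.node .nil (nat_lit 0x92bd4c6d10b) (nat_lit 0xc818e5) (nat_lit 0) .nil)) (nat_lit 0x92bd4c6d3e7) (nat_lit
  0x12c828e1) (nat_lit 0) (.node (.node .nil (nat_lit 0x92bd4c6d729) (nat_lit 0x1892c0a1) (nat_lit 0) .nil)
  (nat_lit 0x92bd4c6d7a8) (nat_lit 0xc52208) (nat_lit 0) (.node .nil (nat_lit 0x92bd4c6d7e3) (nat_lit
  0xc44101) (nat_lit 0) .nil)))))) (nat_lit 0x92bd4c6dc76) (nat_lit 0x105a8c4) (nat_lit 0) (.node (.node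
  (.node (.node (.node (.node .nil (nat_lit 0x92bd4c6dd16) (nat_lit 0x482d26) (nat_lit 0) .nil) (nat_lit
  0x92bd4c6ddac) (nat_lit 0x14959a01) (nat_lit 0) (.node .nil (nat_lit 0x92bd4c6df56) (nat_lit 241157)
  (nat_lit 0) .nil)) (nat_lit 0x92bd4c6e3cb) (nat_lit 0x1059943) (nat_lit 0) (.node (.node .nil (nat_lit
  0x92bd4c6e40b) (nat_lit 0x1059923) (nat_lit 0) .nil) (nat_lit 0x92bd4c6e4a1) (nat_lit 0xb82926) (nat_lit 0)
  (.node .nil (nat_lit 0x92bd4c6e603) (nat_lit 535747) (nat_lit 0) .nil))) (nat_lit 0x92bd4c6e87b) (nat_lit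
  534822) (nat_lit 0) (.node (.node (.node .nil (nat_lit 0x92bd4c6ea98) (nat_lit 147750) (nat_lit 0) .nil)
  (nat_lit 0x92bd4c6ebc0) (nat_lit 114890) (nat_lit 0) (.node .nil (nat_lit 0x92bd4c6ecfb) (nat_lit 3590)
  (nat_lit 0) .nil)) (nat_lit 0x92bd4c6f170) (nat_lit 0x781521) (nat_lit 0) (.node (.node .nil (nat_lit
  0x92bd4c6f299) (nat_lit 0x282926) (nat_lit 0) .nil) (nat_lit 0x92bd4c6f2b5) (nat_lit 0x1051881) (nat_lit 0)
  (.node .nil (nat_lit 0x92bd4c6f403) (nat_lit 245921) (nat_lit 0) .nil)))) (nat_lit 0x92bd4c6f6c0) (nat_lit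
  0x1032d23) (nat_lit 0) (.node (.node (.node (.node .nil (nat_lit 0x92bd4c6f876) (nat_lit 0x1032d43) (nat_lit
  0) .nil) (nat_lit 0x92bd4c6f8b7) (nat_lit 0xa4acd0) (nat_lit 0) (.node .nil (nat_lit 0x92bd4c6fb1a) (nat_lit
  530787) (nat_lit 0) .nil)) (nat_lit 0x92bd4c6fdfd) (nat_lit 0x105a926) (nat_lit 0) (.node (.node .nil
  (nat_lit 0x92bd4c6fe84) (nat_lit 0xb81923) (nat_lit 0) .nil) (nat_lit 0x92bd4c6ffa1) (nat_lit 0xb81943)
  (nat_lit 0) (.node .nil (nat_lit 0x92bd4c701d2) (nat_lit 377027) (nat_lit 0) .nil))) (nat_lit 0x92bd4c70672)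
  (nat_lit 530723) (nat_lit 0) (.node (.node (.node .nil (nat_lit 0x92bd4c70752) (nat_lit 0x10524c1) (nat_lit
  0) .nil) (nat_lit 0x92bd4c7079f) (nat_lit 530755) (nat_lit 0) (.node .nil (nat_lit 0x92bd4c708e2) (nat_lit
  16579) (nat_lit 0) .nil)) (nat_lit 0x92bd4c70d00) (nat_lit 245929) (nat_lit 0) (.node (.node .nil (nat_lit
  0x92bd4c70e6e) (nat_lit 0x10524c2) (nat_lit 0) .nil) (nat_lit 0x92bd4c70e96) (nat_lit 534724) (nat_lit 0)
  (.node .nil (nat_lit 0x92bd4c70fe3) (nat_lit 7685) (nat_lit 0) .nil))))) (nat_lit 0x92bd4c713f5) (nat_lit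
  0x781d41) (nat_lit 0) (.node (.node (.node (.node (.node .nil (nat_lit 0x92bd4c71565) (nat_lit 245985)
  (nat_lit 0x1914be36) .nil) (nat_lit 0x92bd4c7158d) (nat_lit 302599) (nat_lit 0) (.node .nil (nat_lit
  0x92bd4c716d8) (nat_lit 0x93c0ea) (nat_lit 0) .nil)) (nat_lit 0x92bd4c71b55) (nat_lit 0x781d42) (nat_lit 0)
  (.node (.node .nil (nat_lit 0x92bd4c71c5c) (nat_lit 245986) (nat_lit 0) .nil) (nat_lit 0x92bd4c71c84)
  (nat_lit 0x781d22) (nat_lit 400932) (.node .nil (nat_lit 0x92bd4c71dc5) (nat_lit 0xa3c127) (nat_lit 0)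
  .nil))) (nat_lit 0x92bd4c71fe6) (nat_lit 366085) (nat_lit 0x88be36) (.node (.node (.node .nil (nat_lit
  0x92bd4c72155) (nat_lit 339458) (nat_lit 0) .nil) (nat_lit 0x92bd4c7238d) (nat_lit 0x959a06) (nat_lit 0)
  (.node .nil (nat_lit 0x92bd4c724a1) (nat_lit 0xa5c122) (nat_lit 0) .nil)) (nat_lit 0x92bd4c7296e) (nat_lit
  175621) (nat_lit 0) (.node (.node .nil (nat_lit 0x92bd4c729ad) (nat_lit 16715) (nat_lit 0) .nil) (nat_lit
  0x92bd4c72a86) (nat_lit 0xb82125) (nat_lit 0) (.node .nil (nat_lit 0x92bd4c72bd3) (nat_lit 534889) (nat_lit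
  0) .nil)))) (nat_lit 0x92bd4c73015) (nat_lit 245994) (nat_lit 0) (.node (.node (.node (.node .nil (nat_lit
  0x92bd4c73056) (nat_lit 7687) (nat_lit 0x32297c616) .nil) (nat_lit 0x92bd4c73156) (nat_lit 245993) (nat_lit
  0) (.node .nil (nat_lit 0x92bd4c732aa) (nat_lit 0x781d49) (nat_lit 0) .nil)) (nat_lit 0x92bd4c73504)
  (nat_lit 231943) (nat_lit 0) (.node (.node .nil (nat_lit 0x92bd4c7372f) (nat_lit 0x10518e5) (nat_lit 0)
  .nil) (nat_lit 0x92bd4c73853) (nat_lit 0x93c0e2) (nat_lit 410916) (.node .nil (nat_lit 0x92bd4c7398c)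
  (nat_lit 0x1052d2b) (nat_lit 0) .nil))) (nat_lit 0x92bd4c73e8c) (nat_lit 534882) (nat_lit 0) (.node (.node
  (.node .nil (nat_lit 0x92bd4c73f1e) (nat_lit 0xb2c0a1) (nat_lit 0x1117c616) .nil) (nat_lit 0x92bd4c73f69)
  (nat_lit 0x12b340c1) (nat_lit 0) (.node .nil (nat_lit 0x92bd4c74080) (nat_lit 0x1052d22) (nat_lit 0) .nil))
  (nat_lit 0x92bd4c74581) (nat_lit 10608) (nat_lit 0) (.node (.node .nil (nat_lit 0x92bd4c74617) (nat_lit
  180581) (nat_lit 0) .nil) (nat_lit 0x92bd4c74658) (nat_lit 0x105a125) (nat_lit 0) (.node .nil (nat_lit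
  0x92bd4c747bf) (nat_lit 339465) (nat_lit 0) .nil)))))))
def tT_36 : T := (.node (.node (.node (.node (.node (.node (.node .nil (nat_lit 0x92bd4c7bc7b) (nat_lit
  0x1062125) (nat_lit 0) .nil) (nat_lit 0x92bd4c7bc8f) (nat_lit 0xc82962) (nat_lit 0) (.node .nil (nat_lit
  0x92bd4c7bd9b) (nat_lit 180396) (nat_lit 0) .nil)) (nat_lit 0x92bd4c7c08f) (nat_lit 0xc52e09) (nat_lit 0)
  (.node (.node .nil (nat_lit 0x92bd4c7c09b) (nat_lit 0x1043125) (nat_lit 0) .nil) (nat_lit 0x92bd4c7c3b2)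
  (nat_lit 403824) (nat_lit 0) (.node .nil (nat_lit 0x92bd4c7c492) (nat_lit 0x5830a2) (nat_lit 0) .nil)))
  (nat_lit 0x92bd4c7c75f) (nat_lit 0x582982) (nat_lit 0) (.node (.node (.node .nil (nat_lit 0x92bd4c7cac5)
  (nat_lit 0xc82563) (nat_lit 0) .nil) (nat_lit 0x92bd4c7cba0) (nat_lit 0xb053122) (nat_lit 0) (.node .nil
  (nat_lit 0x92bd4c7cba2) (nat_lit 0x7830e1) (nat_lit 0) .nil)) (nat_lit 0x92bd4c7ce54) (nat_lit 0x362570)
  (nat_lit 0) (.node (.node .nil (nat_lit 0x92bd4c7d1bc) (nat_lit 0x582981) (nat_lit 0) .nil) (nat_lit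
  0x92bd4c7d295) (nat_lit 0x1052586) (nat_lit 0) (.node .nil (nat_lit 0x92bd4c7d297) (nat_lit 0x781d81)
  (nat_lit 0) .nil)))) (nat_lit 0x92bd4c7d574) (nat_lit 180613) (nat_lit 0) (.node (.node (.node (.node .nil
  (nat_lit 0x92bd4c7d828) (nat_lit 0x1032585) (nat_lit 0) .nil) (nat_lit 0x92bd4c7d8cd) (nat_lit 0xc52e02)
  (nat_lit 0) (.node .nil (nat_lit 0x92bd4c7d96d) (nat_lit 0x18a5c122) (nat_lit 0) .nil)) (nat_lit
  0x92bd4c7de83) (nat_lit 0x581582) (nat_lit 0) (.node (.node .nil (nat_lit 0x92bd4c7df48) (nat_lit 409931)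
  (nat_lit 0) .nil) (nat_lit 0x92bd4c7df60) (nat_lit 0x782584) (nat_lit 0) (.node .nil (nat_lit 0x92bd4c7e062)
  (nat_lit 0xc82969) (nat_lit 0) .nil))) (nat_lit 0x92bd4c7e610) (nat_lit 0xc4ae03) (nat_lit 0) (.node (.node
  (.node .nil (nat_lit 0x92bd4c7e6b1) (nat_lit 0xa2c183) (nat_lit 0) .nil) (nat_lit 0x92bd4c7e747) (nat_lit
  246151) (nat_lit 0) (.node .nil (nat_lit 0x92bd4c7e774) (nat_lit 0x20a4b0c2) (nat_lit 0) .nil)) (nat_lit
  0x92bd4c7ed05) (nat_lit 180556) (nat_lit 0) (.node (.node .nil (nat_lit 0x92bd4c7eda8) (nat_lit 0x781d89)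
  (nat_lit 0) .nil) (nat_lit 0x92bd4c7edca) (nat_lit 0x582989) (nat_lit 0) (.node .nil (nat_lit 0x92bd4c7ee73)
  (nat_lit 245996) (nat_lit 0) .nil))))) (nat_lit 0x92bd4c7f3f9) (nat_lit 0xc49e07) (nat_lit 0) (.node (.node
  (.node (.node (.node .nil (nat_lit 0x92bd4c7f471) (nat_lit 0xc3c0e1) (nat_lit 0) .nil) (nat_lit
  0x92bd4c7f4b2) (nat_lit 0xa640a3) (nat_lit 0) (.node .nil (nat_lit 0x92bd4c7f55c) (nat_lit 0xa49990)
  (nat_lit 0) .nil)) (nat_lit 0x92bd4c7fb68) (nat_lit 242183) (nat_lit 0) (.node (.node .nil (nat_lit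
  0x92bd4c7fba7) (nat_lit 0x1062563) (nat_lit 0) .nil) (nat_lit 0x92bd4c7fba9) (nat_lit 0x853204) (nat_lit 0)
  (.node .nil (nat_lit 0x92bd4c7fc51) (nat_lit 0x14961a02) (nat_lit 0) .nil))) (nat_lit 0x92bd4c7ffa0)
  (nat_lit 536907) (nat_lit 0) (.node (.node (.node .nil (nat_lit 0x92bd4c802a4) (nat_lit 0x933208) (nat_lit
  0) .nil) (nat_lit 0x92bd4c8033f) (nat_lit 0x1062969) (nat_lit 0) (.node .nil (nat_lit 0x92bd4c80342)
  (nat_lit 176645) (nat_lit 0) .nil)) (nat_lit 0x92bd4c8097d) (nat_lit 0xc82d4b) (nat_lit 0) (.node (.node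
  .nil (nat_lit 0x92bd4c8099b) (nat_lit 0x64b0b0) (nat_lit 0) .nil) (nat_lit 0x92bd4c809a1) (nat_lit 0xc2c0a2)
  (nat_lit 0) (.node .nil (nat_lit 0x92bd4c809a6) (nat_lit 0xa4b206) (nat_lit 0) .nil)))) (nat_lit
  0x92bd4c81072) (nat_lit 0x54b206) (nat_lit 0) (.node (.node (.node (.node .nil (nat_lit 0x92bd4c8108e)
  (nat_lit 0xa60e05) (nat_lit 0) .nil) (nat_lit 0x92bd4c81096) (nat_lit 0xa4b0d0) (nat_lit 0) (.node .nil
  (nat_lit 0x92bd4c810fc) (nat_lit 400903) (nat_lit 0) .nil)) (nat_lit 0x92bd4c81402) (nat_lit 0x106246b)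
  (nat_lit 0) (.node (.node .nil (nat_lit 0x92bd4c81785) (nat_lit 0xa23110) (nat_lit 0) .nil) (nat_lit
  0x92bd4c81820) (nat_lit 0x7640e1) (nat_lit 0) (.node .nil (nat_lit 0x92bd4c8182d) (nat_lit 0x14933202)
  (nat_lit 0) .nil))) (nat_lit 0x92bd4c81e4b) (nat_lit 0x20c52d21) (nat_lit 0) (.node (.node (.node .nil
  (nat_lit 0x92bd4c81e74) (nat_lit 0x1062961) (nat_lit 0) .nil) (nat_lit 0x92bd4c81e80) (nat_lit 0x961a08)
  (nat_lit 0) (.node .nil (nat_lit 0x92bd4c81f1e) (nat_lit 398853) (nat_lit 0) .nil)) (nat_lit 0x92bd4c824b2)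
  (nat_lit 0x1062962) (nat_lit 0) (.node (.node .nil (nat_lit 0x92bd4c82540) (nat_lit 0x149640c1) (nat_lit 0)
  .nil) (nat_lit 0x92bd4c82577) (nat_lit 0x9640e4) (nat_lit 0) (.node .nil (nat_lit 0x92bd4c82613) (nat_lit
  0x5640a2) (nat_lit 0) .nil)))))) (nat_lit 0x92bd4c82a99) (nat_lit 0x464126) (nat_lit 0) (.node (.node (.node
  (.node (.node (.node .nil (nat_lit 0x92bd4c82b4f) (nat_lit 0xa61207) (nat_lit 0) .nil) (nat_lit
  0x92bd4c82c73) (nat_lit 0xc3c0a1) (nat_lit 0) (.node .nil (nat_lit 0x92bd4c82ce6) (nat_lit 0x20c5a926)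
  (nat_lit 0) .nil)) (nat_lit 0x92bd4c82ff3) (nat_lit 399875) (nat_lit 0) (.node (.node .nil (nat_lit
  0x92bd4c8318e) (nat_lit 0xc34143) (nat_lit 0) .nil) (nat_lit 0x92bd4c8323c) (nat_lit 0x9640a1) (nat_lit 0)
  (.node .nil (nat_lit 0x92bd4c83368) (nat_lit 0xa5c12c) (nat_lit 0) .nil))) (nat_lit 0x92bd4c83698) (nat_lit
  0x1061942) (nat_lit 0) (.node (.node (.node .nil (nat_lit 0x92bd4c83948) (nat_lit 0x1061922) (nat_lit 0)
  .nil) (nat_lit 0x92bd4c83b00) (nat_lit 536770) (nat_lit 0) (.node .nil (nat_lit 0x92bd4c83b05) (nat_lit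
  0x20c32922) (nat_lit 0) .nil)) (nat_lit 0x92bd4c83d8d) (nat_lit 0x1033122) (nat_lit 0) (.node (.node .nil
  (nat_lit 0x92bd4c8403f) (nat_lit 0x1033142) (nat_lit 0) .nil) (nat_lit 0x92bd4c841f2) (nat_lit 530818)
  (nat_lit 0) (.node .nil (nat_lit 0x92bd4c841f7) (nat_lit 0x20662922) (nat_lit 0) .nil)))) (nat_lit
  0x92bd4c8468a) (nat_lit 0x664143) (nat_lit 0) (.node (.node (.node (.node .nil (nat_lit 0x92bd4c84722)
  (nat_lit 307717) (nat_lit 0) .nil) (nat_lit 0x92bd4c848d2) (nat_lit 0x9640aa) (nat_lit 0) (.node .nil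
  (nat_lit 0x92bd4c848ea) (nat_lit 209411) (nat_lit 0) .nil)) (nat_lit 0x92bd4c84d7f) (nat_lit 0xc3c0a9)
  (nat_lit 0) (.node (.node .nil (nat_lit 0x92bd4c84e19) (nat_lit 0xc828c4) (nat_lit 0) .nil) (nat_lit
  0x92bd4c84fc5) (nat_lit 400901) (nat_lit 0) (.node .nil (nat_lit 0x92bd4c84fe5) (nat_lit 0x190524c2)
  (nat_lit 0) .nil))) (nat_lit 0x92bd4c9089f) (nat_lit 0x1053126) (nat_lit 0) (.node (.node (.node .nil
  (nat_lit 0x92bd4c90a9e) (nat_lit 0x1051186) (nat_lit 0) .nil) (nat_lit 0x92bd4c90b02) (nat_lit 0x6830a3)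
  (nat_lit 0) (.node .nil (nat_lit 0x92bd4c90b95) (nat_lit 0x45a590) (nat_lit 0) .nil)) (nat_lit
  0x92bd4c90eb4) (nat_lit 534918) (nat_lit 0) (.node (.node .nil (nat_lit 0x92bd4c90f94) (nat_lit 0x834183)
  (nat_lit 0) .nil) (nat_lit 0x92bd4c91195) (nat_lit 0xb4b203) (nat_lit 0) (.node .nil (nat_lit 0x92bd4c911f7)
  (nat_lit 0x10530c9) (nat_lit 0) .nil))))) (nat_lit 0x92bd4c91809) (nat_lit 0x20c52121) (nat_lit 0) (.node
  (.node (.node (.node (.node .nil (nat_lit 0x92bd4c91870) (nat_lit 0x1032583) (nat_lit 0) .nil) (nat_lit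
  0x92bd4c918e6) (nat_lit 114956) (nat_lit 0) (.node .nil (nat_lit 0x92bd4c9198f) (nat_lit 0x1062901) (nat_lit
  0) .nil)) (nat_lit 0x92bd4c91fb0) (nat_lit 0x1052568) (nat_lit 0) (.node (.node .nil (nat_lit 0x92bd4c91fce)
  (nat_lit 0x10598e3) (nat_lit 0) .nil) (nat_lit 0x92bd4c92034) (nat_lit 0xc5a990) (nat_lit 0) (.node .nil
  (nat_lit 0x92bd4c920c7) (nat_lit 303627) (nat_lit 0) .nil))) (nat_lit 0x92bd4c9252e) (nat_lit 0x859a03)
  (nat_lit 0) (.node (.node (.node .nil (nat_lit 0x92bd4c926c8) (nat_lit 0x20a5a4e2) (nat_lit 0) .nil)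
  (nat_lit 0x92bd4c9272b) (nat_lit 0x65c125) (nat_lit 7716) (.node .nil (nat_lit 0x92bd4c927bc) (nat_lit
  0xa598b0) (nat_lit 0) .nil)) (nat_lit 0x92bd4c92a5f) (nat_lit 0x104998a) (nat_lit 0) (.node (.node .nil
  (nat_lit 0x92bd4c92a8c) (nat_lit 533708) (nat_lit 0) .nil) (nat_lit 0x92bd4c92cbe) (nat_lit 213383) (nat_lit
  0) (.node .nil (nat_lit 0x92bd4c92d75) (nat_lit 0xc52e05) (nat_lit 0) .nil)))) (nat_lit 0x92bd4c95b16)
  (nat_lit 180545) (nat_lit 0) (.node (.node (.node (.node .nil (nat_lit 0x92bd4c95d09) (nat_lit 5633)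
  (nat_lit 0) .nil) (nat_lit 0x92bd4c95e46) (nat_lit 0x1052501) (nat_lit 0) (.node .nil (nat_lit
  0x92bd4c95f8a) (nat_lit 180513) (nat_lit 0) .nil)) (nat_lit 0x92bd4c9620d) (nat_lit 0x6824a1) (nat_lit 0)
  (.node (.node .nil (nat_lit 0x92bd4c96400) (nat_lit 0xa49a05) (nat_lit 0) .nil) (nat_lit 0x92bd4c96539)
  (nat_lit 205315) (nat_lit 0) (.node .nil (nat_lit 0x92bd4c9667f) (nat_lit 0x652201) (nat_lit 0) .nil)))
  (nat_lit 0x92bd4c96b90) (nat_lit 176651) (nat_lit 0) (.node (.node (.node .nil (nat_lit 0x92bd4c96bf1)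
  (nat_lit 0x56416a) (nat_lit 0) .nil) (nat_lit 0x92bd4c96c6d) (nat_lit 0x20c52501) (nat_lit 0) (.node .nil
  (nat_lit 0x92bd4c96ca4) (nat_lit 0x1049983) (nat_lit 0) .nil)) (nat_lit 0x92bd4c97270) (nat_lit 0xa4b208)
  (nat_lit 0) (.node (.node .nil (nat_lit 0x92bd4c9730c) (nat_lit 0x764141) (nat_lit 0) .nil) (nat_lit
  0x92bd4c9737d) (nat_lit 242177) (nat_lit 0) (.node .nil (nat_lit 0x92bd4c97423) (nat_lit 0x764121) (nat_lit
  0) .nil)))))))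
def tT_37 : T := (.node (.node (.node (.node (.node (.node (.node .nil (nat_lit 0x92bd4c979e2) (nat_lit
  0xc38e0a) (nat_lit 0) .nil) (nat_lit 0x92bd4c97a89) (nat_lit 400496) (nat_lit 0) (.node .nil (nat_lit
  0x92bd4c97b2a) (nat_lit 402672) (nat_lit 0) .nil)) (nat_lit 0x92bd4c9808b) (nat_lit 307721) (nat_lit 0)
  (.node (.node .nil (nat_lit 0x92bd4c980d5) (nat_lit 9616) (nat_lit 0) .nil) (nat_lit 0x92bd4c9817c) (nat_lit
  307722) (nat_lit 0) (.node .nil (nat_lit 0x92bd4c98221) (nat_lit 0x964149) (nat_lit 0) .nil))) (nat_lit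
  0x92bd4c9875b) (nat_lit 0x461a05) (nat_lit 0) (.node (.node (.node .nil (nat_lit 0x92bd4c987f5) (nat_lit
  0x91b201) (nat_lit 0) .nil) (nat_lit 0x92bd4c9885c) (nat_lit 0x12364141) (nat_lit 0) (.node .nil (nat_lit
  0x92bd4c98904) (nat_lit 0x753208) (nat_lit 0) .nil)) (nat_lit 0x92bd4c98bd6) (nat_lit 536833) (nat_lit 0)
  (.node (.node .nil (nat_lit 0x92bd4c98e2f) (nat_lit 0x103258a) (nat_lit 0) .nil) (nat_lit 0x92bd4c98ee8)
  (nat_lit 530732) (nat_lit 0) (.node .nil (nat_lit 0x92bd4c98fd7) (nat_lit 0x1062141) (nat_lit 0) .nil))))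
  (nat_lit 0x92bd4c9cc15) (nat_lit 245890) (nat_lit 0) (.node (.node (.node (.node .nil (nat_lit
  0x92bd4c9cd32) (nat_lit 335369) (nat_lit 0) .nil) (nat_lit 0x92bd4c9ce35) (nat_lit 302224) (nat_lit 0)
  (.node .nil (nat_lit 0x92bd4c9ced9) (nat_lit 10480) (nat_lit 0) .nil)) (nat_lit 0x92bd4ca00f3) (nat_lit
  307723) (nat_lit 0) (.node (.node .nil (nat_lit 0x92bd4ca0137) (nat_lit 0x583146) (nat_lit 0) .nil) (nat_lit
  0x92bd4ca04a5) (nat_lit 0x10620c1) (nat_lit 0) (.node .nil (nat_lit 0x92bd4ca061b) (nat_lit 0x96416a)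
  (nat_lit 0) .nil))) (nat_lit 0x92bd4ca07ea) (nat_lit 0x1043146) (nat_lit 0) (.node (.node (.node .nil
  (nat_lit 0x92bd4ca082c) (nat_lit 147756) (nat_lit 0) .nil) (nat_lit 0x92bd4ca0b96) (nat_lit 0x48258a)
  (nat_lit 0) (.node .nil (nat_lit 0x92bd4ca0d04) (nat_lit 0x5830c2) (nat_lit 0) .nil)) (nat_lit
  0x92bd4ca0fd0) (nat_lit 0x105a506) (nat_lit 0) (.node (.node .nil (nat_lit 0x92bd4ca1238) (nat_lit 535752)
  (nat_lit 0) .nil) (nat_lit 0x92bd4ca1281) (nat_lit 0x1052567) (nat_lit 0) (.node .nil (nat_lit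
  0x92bd4ca147c) (nat_lit 335371) (nat_lit 0) .nil))))) (nat_lit 0x92bd4ca4084) (nat_lit 80) (nat_lit 0)
  (.node (.node (.node (.node (.node .nil (nat_lit 0x92bd4ca428c) (nat_lit 2569) (nat_lit 0) .nil) (nat_lit
  0x92bd4ca4290) (nat_lit 2570) (nat_lit 0) (.node .nil (nat_lit 0x92bd4ca4572) (nat_lit 82249) (nat_lit 0)
  .nil)) (nat_lit 0x92bd4ca477a) (nat_lit 0x1051d25) (nat_lit 0) (.node (.node .nil (nat_lit 0x92bd4ca4983)
  (nat_lit 0x8828e2) (nat_lit 0) .nil) (nat_lit 0x92bd4ca4987) (nat_lit 529703) (nat_lit 0) (.node .nil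
  (nat_lit 0x92bd4ca4c67) (nat_lit 529635) (nat_lit 0) .nil))) (nat_lit 0x92bd4ca4db3) (nat_lit 0x14c3c121)
  (nat_lit 0) (.node (.node (.node .nil (nat_lit 0x92bd4ca4de0) (nat_lit 274951) (nat_lit 0) .nil) (nat_lit
  0x92bd4ca4fd4) (nat_lit 0x964102) (nat_lit 0) (.node .nil (nat_lit 0x92bd4ca4fe6) (nat_lit 0xa61e01)
  (nat_lit 0) .nil)) (nat_lit 0x92bd4cae0b3) (nat_lit 171529) (nat_lit 0) (.node (.node .nil (nat_lit
  0x92bd4cae0cc) (nat_lit 0x53c149) (nat_lit 0) .nil) (nat_lit 0x92bd4cae2cc) (nat_lit 171530) (nat_lit 0)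
  (.node .nil (nat_lit 0x92bd4cae541) (nat_lit 5360) (nat_lit 0) .nil)))) (nat_lit 0x92bd4caedc2) (nat_lit
  0x883122) (nat_lit 0) (.node (.node (.node (.node .nil (nat_lit 0x92bd4caeef2) (nat_lit 0x883142) (nat_lit
  0) .nil) (nat_lit 0x92bd4caf0bc) (nat_lit 0x10524ec) (nat_lit 0) (.node .nil (nat_lit 0x92bd4caf269)
  (nat_lit 278914) (nat_lit 0) .nil)) (nat_lit 0x92bd4caf7d8) (nat_lit 0x14c24121) (nat_lit 0) (.node (.node
  .nil (nat_lit 0x92bd4caf8dd) (nat_lit 0x72a590) (nat_lit 0) .nil) (nat_lit 0x92bd4caf9bc) (nat_lit 0xc81cc4)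
  (nat_lit 0) (.node .nil (nat_lit 0x92bd4caf9f4) (nat_lit 0xa61201) (nat_lit 0) .nil))) (nat_lit
  0x92bd4cb0696) (nat_lit 0xa3c183) (nat_lit 0) (.node (.node (.node .nil (nat_lit 0x92bd4cb0697) (nat_lit
  0x14783123) (nat_lit 0) .nil) (nat_lit 0x92bd4cb06b7) (nat_lit 0x10430e1) (nat_lit 0) (.node .nil (nat_lit
  0x92bd4cb0702) (nat_lit 0x103992c) (nat_lit 0) .nil)) (nat_lit 0x92bd4cb0dab) (nat_lit 0xd062924) (nat_lit
  0) (.node (.node .nil (nat_lit 0x92bd4cb0dae) (nat_lit 213380) (nat_lit 0) .nil) (nat_lit 0x92bd4cb0dcb)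
  (nat_lit 0x683124) (nat_lit 0) (.node .nil (nat_lit 0x92bd4cb0dce) (nat_lit 0x683144) (nat_lit 0) .nil))))))
  (nat_lit 0x92bd4cb13c8) (nat_lit 0x14783121) (nat_lit 0) (.node (.node (.node (.node (.node (.node .nil
  (nat_lit 0x92bd4cb13cd) (nat_lit 201228) (nat_lit 0) .nil) (nat_lit 0x92bd4cb152c) (nat_lit 0x1043127)
  (nat_lit 0) (.node .nil (nat_lit 0x92bd4cb152f) (nat_lit 0xa3c181) (nat_lit 0) .nil)) (nat_lit
  0x92bd4cb1830) (nat_lit 0x10620e3) (nat_lit 0) (.node (.node .nil (nat_lit 0x92bd4cb1831) (nat_lit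
  0x14783122) (nat_lit 0) .nil) (nat_lit 0x92bd4cb1b6e) (nat_lit 0xa3c182) (nat_lit 0) (.node .nil (nat_lit
  0x92bd4cb1b6f) (nat_lit 0x1062127) (nat_lit 0) .nil))) (nat_lit 0x92bd4cb2270) (nat_lit 0x624182) (nat_lit
  0) (.node (.node (.node .nil (nat_lit 0x92bd4cb2277) (nat_lit 0x20a4b105) (nat_lit 0) .nil) (nat_lit
  0x92bd4cb2303) (nat_lit 0x1032587) (nat_lit 0) (.node .nil (nat_lit 0x92bd4cb2304) (nat_lit 0x102a986)
  (nat_lit 0) .nil)) (nat_lit 0x92bd4cb2689) (nat_lit 0x10324ec) (nat_lit 0) (.node (.node .nil (nat_lit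
  0x92bd4cb2719) (nat_lit 335372) (nat_lit 0) .nil) (nat_lit 0x92bd4cb2967) (nat_lit 0x624181) (nat_lit 0)
  (.node .nil (nat_lit 0x92bd4cb296e) (nat_lit 0xa3c189) (nat_lit 0) .nil)))) (nat_lit 0x92bd4cb2daf) (nat_lit
  0x10620ea) (nat_lit 0) (.node (.node (.node (.node .nil (nat_lit 0x92bd4cb2f99) (nat_lit 536839) (nat_lit 0)
  .nil) (nat_lit 0x92bd4cb2f9a) (nat_lit 0x20961d46) (nat_lit 0) (.node .nil (nat_lit 0x92bd4cb30ff) (nat_lit
  0x10620e9) (nat_lit 0) .nil)) (nat_lit 0x92bd4cb3444) (nat_lit 532871) (nat_lit 0) (.node (.node .nil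
  (nat_lit 0x92bd4cb3445) (nat_lit 0x12b53204) (nat_lit 0) .nil) (nat_lit 0x92bd4cb377a) (nat_lit 0x10430e9)
  (nat_lit 0) (.node .nil (nat_lit 0x92bd4cb377b) (nat_lit 0x1051985) (nat_lit 0) .nil))) (nat_lit
  0x92bd4cb3d7b) (nat_lit 399882) (nat_lit 0) (.node (.node (.node .nil (nat_lit 0x92bd4cb3e04) (nat_lit
  399881) (nat_lit 0) .nil) (nat_lit 0x92bd4cb3f0a) (nat_lit 12496) (nat_lit 0) (.node .nil (nat_lit
  0x92bd4cb3fa0) (nat_lit 0x964145) (nat_lit 0) .nil)) (nat_lit 0x92bd4cb4472) (nat_lit 0xc81922) (nat_lit 0)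
  (.node (.node .nil (nat_lit 0x92bd4cb4504) (nat_lit 0xc81942) (nat_lit 0) .nil) (nat_lit 0x92bd4cb4660)
  (nat_lit 0x19032922) (nat_lit 0) (.node .nil (nat_lit 0x92bd4cb4697) (nat_lit 409794) (nat_lit 0) .nil)))))
  (nat_lit 0x92bd4cb4ba3) (nat_lit 0x104b0e6) (nat_lit 0) (.node (.node (.node (.node (.node .nil (nat_lit
  0x92bd4cb4d6e) (nat_lit 0x782981) (nat_lit 0) .nil) (nat_lit 0x92bd4cb4d8a) (nat_lit 0xf053121) (nat_lit 0)
  (.node .nil (nat_lit 0x92bd4cb4d8f) (nat_lit 200204) (nat_lit 0) .nil)) (nat_lit 0x92bd4cb5135) (nat_lit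
  0xa23207) (nat_lit 0) (.node (.node .nil (nat_lit 0x92bd4cb5257) (nat_lit 0xc24126) (nat_lit 0) .nil)
  (nat_lit 0x92bd4cb545f) (nat_lit 0xc82926) (nat_lit 0) (.node .nil (nat_lit 0x92bd4cb546e) (nat_lit 242181)
  (nat_lit 0) .nil))) (nat_lit 0x92bd4cb5828) (nat_lit 0x9640a2) (nat_lit 0) (.node (.node (.node .nil
  (nat_lit 0x92bd4cb594c) (nat_lit 0xc82147) (nat_lit 0) .nil) (nat_lit 0x92bd4cb598b) (nat_lit 398855)
  (nat_lit 0) (.node .nil (nat_lit 0x92bd4cb5b6b) (nat_lit 0x12c81542) (nat_lit 0) .nil)) (nat_lit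
  0x92bd4cb5f62) (nat_lit 530826) (nat_lit 0) (.node (.node .nil (nat_lit 0x92bd4cb60bf) (nat_lit 530825)
  (nat_lit 0) .nil) (nat_lit 0x92bd4cb6247) (nat_lit 0x1033149) (nat_lit 0) (.node .nil (nat_lit
  0x92bd4cb6277) (nat_lit 16588) (nat_lit 0) .nil)))) (nat_lit 0x92bd4cb6657) (nat_lit 536777) (nat_lit 0)
  (.node (.node (.node (.node .nil (nat_lit 0x92bd4cb67b8) (nat_lit 536778) (nat_lit 0) .nil) (nat_lit
  0x92bd4cb68ca) (nat_lit 16774) (nat_lit 0) (.node .nil (nat_lit 0x92bd4cb6970) (nat_lit 0x1061949) (nat_lit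
  0) .nil)) (nat_lit 0x92bd4cb6e2b) (nat_lit 0xc81923) (nat_lit 0) (.node (.node .nil (nat_lit 0x92bd4cb6e9c)
  (nat_lit 0xc81943) (nat_lit 0) .nil) (nat_lit 0x92bd4cb7048) (nat_lit 409795) (nat_lit 0) (.node .nil
  (nat_lit 0x92bd4cb7068) (nat_lit 0x190524c1) (nat_lit 0) .nil))) (nat_lit 0x92bd4cb7520) (nat_lit 0xa640c8)
  (nat_lit 0) (.node (.node (.node .nil (nat_lit 0x92bd4cb758f) (nat_lit 0x104b165) (nat_lit 0) .nil) (nat_lit
  0x92bd4cb773f) (nat_lit 0x14b82582) (nat_lit 0) (.node .nil (nat_lit 0x92bd4cb7757) (nat_lit 176647)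
  (nat_lit 0) .nil)) (nat_lit 0x92bd4cb8f70) (nat_lit 0xc81941) (nat_lit 0) (.node (.node .nil (nat_lit
  0x92bd4cb90d8) (nat_lit 0xc81921) (nat_lit 0) .nil) (nat_lit 0x92bd4cb9320) (nat_lit 0x95c14c) (nat_lit 0)
  (.node .nil (nat_lit 0x92bd4cb932a) (nat_lit 409793) (nat_lit 0) .nil)))))))
def tT_38 : T := (.node (.node (.node (.node (.node (.node (.node .nil (nat_lit 0x92bd4cb97cd) (nat_lit
  0x664142) (nat_lit 0) .nil) (nat_lit 0x92bd4cb9a17) (nat_lit 209410) (nat_lit 0) (.node .nil (nat_lit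
  0x92bd4cb9a1d) (nat_lit 0xcc82922) (nat_lit 0) .nil)) (nat_lit 0x92bd4cb9eb5) (nat_lit 0xb4b205) (nat_lit 0)
  (.node (.node .nil (nat_lit 0x92bd4cba0f5) (nat_lit 0x782982) (nat_lit 0) .nil) (nat_lit 0x92bd4cba111)
  (nat_lit 0xf053122) (nat_lit 0) (.node .nil (nat_lit 0x92bd4cba118) (nat_lit 0x683061) (nat_lit 0) .nil)))
  (nat_lit 0x92bd4cba4fe) (nat_lit 205324) (nat_lit 0) (.node (.node (.node .nil (nat_lit 0x92bd4cba601)
  (nat_lit 0x644189) (nat_lit 0) .nil) (nat_lit 0x92bd4cba73a) (nat_lit 0x20852581) (nat_lit 0) (.node .nil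
  (nat_lit 0x92bd4cba810) (nat_lit 0x1032984) (nat_lit 0) .nil)) (nat_lit 0x92bd4cbabf3) (nat_lit 0x14582581)
  (nat_lit 0) (.node (.node .nil (nat_lit 0x92bd4cbacf6) (nat_lit 0x1032982) (nat_lit 0) .nil) (nat_lit
  0x92bd4cbae2f) (nat_lit 0x681582) (nat_lit 0) (.node .nil (nat_lit 0x92bd4cbaf0f) (nat_lit 0x16964081)
  (nat_lit 0) .nil)))) (nat_lit 0x92bd4cbb1ba) (nat_lit 205321) (nat_lit 0) (.node (.node (.node (.node .nil
  (nat_lit 0x92bd4cbb399) (nat_lit 0x682925) (nat_lit 0) .nil) (nat_lit 0x92bd4cbb480) (nat_lit 6416) (nat_lit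
  0) (.node .nil (nat_lit 0x92bd4cbb62b) (nat_lit 205322) (nat_lit 0) .nil)) (nat_lit 0x92bd4cbb8b1) (nat_lit
  333313) (nat_lit 0) (.node (.node .nil (nat_lit 0x92bd4cbba90) (nat_lit 5232) (nat_lit 0) .nil) (nat_lit
  0x92bd4cbbb6f) (nat_lit 0xa2c121) (nat_lit 0) (.node .nil (nat_lit 0x92bd4cbbd20) (nat_lit 533761) (nat_lit
  0) .nil))) (nat_lit 0x92bd4cbbf95) (nat_lit 205323) (nat_lit 0) (.node (.node (.node .nil (nat_lit
  0x92bd4cbc2f0) (nat_lit 0x14b81d22) (nat_lit 0) .nil) (nat_lit 0x92bd4cbc387) (nat_lit 0x95c106) (nat_lit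
  560) (.node .nil (nat_lit 0x92bd4cbc40b) (nat_lit 0xa5c0e2) (nat_lit 0) .nil)) (nat_lit 0x92bd4cbc68f)
  (nat_lit 0x95a910) (nat_lit 0) (.node (.node .nil (nat_lit 0x92bd4cbc8b8) (nat_lit 377031) (nat_lit 0) .nil)
  (nat_lit 0x92bd4cbca81) (nat_lit 0xb828e6) (nat_lit 0) (.node .nil (nat_lit 0x92bd4cbcb00) (nat_lit
  0x102a561) (nat_lit 0) .nil))))) (nat_lit 0x92bd4cbe230) (nat_lit 3586) (nat_lit 0xc8be36) (.node (.node
  (.node (.node (.node .nil (nat_lit 0x92bd4cbe433) (nat_lit 115010) (nat_lit 411044) .nil) (nat_lit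
  0x92bd4cbe5a5) (nat_lit 114978) (nat_lit 12836) (.node .nil (nat_lit 0x92bd4cbe703) (nat_lit 0x382922)
  (nat_lit 411076) .nil)) (nat_lit 0x92bd4cbe926) (nat_lit 0x10524e5) (nat_lit 0) (.node (.node .nil (nat_lit
  0x92bd4cbeb28) (nat_lit 529641) (nat_lit 0) .nil) (nat_lit 0x92bd4cbec95) (nat_lit 529642) (nat_lit 0)
  (.node .nil (nat_lit 0x92bd4cbedfb) (nat_lit 16551) (nat_lit 0) .nil))) (nat_lit 0x92bd4cbef52) (nat_lit
  0x2054b141) (nat_lit 0) (.node (.node (.node .nil (nat_lit 0x92bd4cbef89) (nat_lit 0x783103) (nat_lit 0)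
  .nil) (nat_lit 0x92bd4cbf195) (nat_lit 0x102a581) (nat_lit 0) (.node .nil (nat_lit 0x92bd4cbf30f) (nat_lit
  0x103a984) (nat_lit 0) .nil)) (nat_lit 0x92bd4cbf785) (nat_lit 403696) (nat_lit 0) (.node (.node .nil
  (nat_lit 0x92bd4cbf962) (nat_lit 242180) (nat_lit 0) .nil) (nat_lit 0x92bd4cbfa43) (nat_lit 0x764124)
  (nat_lit 0) (.node .nil (nat_lit 0x92bd4cbfb49) (nat_lit 0xc51e09) (nat_lit 0) .nil)))) (nat_lit
  0x92bd4cbfde8) (nat_lit 0x2065a8e1) (nat_lit 0) (.node (.node (.node (.node .nil (nat_lit 0x92bd4cc00b5)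
  (nat_lit 0x45c0e6) (nat_lit 0) .nil) (nat_lit 0x92bd4cc00ce) (nat_lit 0x104acaa) (nat_lit 0) (.node .nil
  (nat_lit 0x92bd4cc0251) (nat_lit 533861) (nat_lit 0) .nil)) (nat_lit 0x92bd4cc05c3) (nat_lit 0x92c166)
  (nat_lit 0) (.node (.node .nil (nat_lit 0x92bd4cc07aa) (nat_lit 0x78292b) (nat_lit 0) .nil) (nat_lit
  0x92bd4cc07c5) (nat_lit 0x65c0a3) (nat_lit 0) (.node .nil (nat_lit 0x92bd4cc08e9) (nat_lit 0x103a962)
  (nat_lit 0) .nil))) (nat_lit 0x92bd4cc0c10) (nat_lit 0x9340a1) (nat_lit 0) (.node (.node (.node .nil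
  (nat_lit 0x92bd4cc0e12) (nat_lit 0xa34125) (nat_lit 0) .nil) (nat_lit 0x92bd4cc0f67) (nat_lit 213154)
  (nat_lit 0) (.node .nil (nat_lit 0x92bd4cc104f) (nat_lit 0x681542) (nat_lit 0) .nil)) (nat_lit
  0x92bd4cc12f2) (nat_lit 0x4824e1) (nat_lit 0) (.node (.node .nil (nat_lit 0x92bd4cc12fc) (nat_lit 0x10524e2)
  (nat_lit 0) .nil) (nat_lit 0x92bd4cc1536) (nat_lit 213249) (nat_lit 0) (.node .nil (nat_lit 0x92bd4cc17c3)
  (nat_lit 0x682141) (nat_lit 0) .nil)))))) (nat_lit 0x92bd4cc19e7) (nat_lit 16709) (nat_lit 0) (.node (.node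
  (.node (.node (.node (.node .nil (nat_lit 0x92bd4cc19f1) (nat_lit 3589) (nat_lit 0) .nil) (nat_lit
  0x92bd4cc1c2b) (nat_lit 534697) (nat_lit 0) (.node .nil (nat_lit 0x92bd4cc1eba) (nat_lit 9488) (nat_lit 0)
  .nil)) (nat_lit 0x92bd4cc1fe2) (nat_lit 533891) (nat_lit 0) (.node (.node .nil (nat_lit 0x92bd4cc2026)
  (nat_lit 0x1061948) (nat_lit 0) .nil) (nat_lit 0x92bd4cc2238) (nat_lit 0x104b143) (nat_lit 0) (.node .nil
  (nat_lit 0x92bd4cc23c3) (nat_lit 0x1061903) (nat_lit 0) .nil))) (nat_lit 0x92bd4cc2a1d) (nat_lit 0x96120a)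
  (nat_lit 0) (.node (.node (.node .nil (nat_lit 0x92bd4cc2af6) (nat_lit 0xc34145) (nat_lit 0) .nil) (nat_lit
  0x92bd4cc2bfa) (nat_lit 0x6640a3) (nat_lit 0) (.node .nil (nat_lit 0x92bd4cc2c28) (nat_lit 307344) (nat_lit
  0) .nil)) (nat_lit 0x92bd4cc2df5) (nat_lit 246028) (nat_lit 0) (.node (.node .nil (nat_lit 0x92bd4cc2e26)
  (nat_lit 0x94418a) (nat_lit 0) .nil) (nat_lit 0x92bd4cc31b6) (nat_lit 303628) (nat_lit 0) (.node .nil
  (nat_lit 0x92bd4cc31b8) (nat_lit 0x10530e1) (nat_lit 0) .nil)))) (nat_lit 0x92bd4cc35dd) (nat_lit 532801)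
  (nat_lit 0) (.node (.node (.node (.node .nil (nat_lit 0x92bd4cc363c) (nat_lit 532769) (nat_lit 0) .nil)
  (nat_lit 0x92bd4cc37d7) (nat_lit 16641) (nat_lit 0) (.node .nil (nat_lit 0x92bd4cc392a) (nat_lit 0x1042921)
  (nat_lit 0) .nil)) (nat_lit 0x92bd4cc3bb9) (nat_lit 0x1062906) (nat_lit 0) (.node (.node .nil (nat_lit
  0x92bd4cc3bfd) (nat_lit 0x104b081) (nat_lit 0) .nil) (nat_lit 0x92bd4cc3e13) (nat_lit 0x581983) (nat_lit 0)
  (.node .nil (nat_lit 0x92bd4cc3f8e) (nat_lit 0x20962881) (nat_lit 0) .nil))) (nat_lit 0x92bd4cc46be)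
  (nat_lit 0x10628c2) (nat_lit 0) (.node (.node (.node .nil (nat_lit 0x92bd4cc46f7) (nat_lit 269836) (nat_lit
  0) .nil) (nat_lit 0x92bd4cc4701) (nat_lit 0x20962901) (nat_lit 0) (.node .nil (nat_lit 0x92bd4cc475b)
  (nat_lit 0x582581) (nat_lit 0) .nil)) (nat_lit 0x92bd4cc4ae4) (nat_lit 0x582582) (nat_lit 0) (.node (.node
  .nil (nat_lit 0x92bd4cc4dee) (nat_lit 147846) (nat_lit 0) .nil) (nat_lit 0x92bd4cc4df8) (nat_lit 0x20c51921)
  (nat_lit 0) (.node .nil (nat_lit 0x92bd4cc4e66) (nat_lit 0x10628c1) (nat_lit 0) .nil))))) (nat_lit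
  0x92bd4cc51d8) (nat_lit 0x1061944) (nat_lit 0) (.node (.node (.node (.node (.node .nil (nat_lit
  0x92bd4cc5407) (nat_lit 0x104b10a) (nat_lit 0) .nil) (nat_lit 0x92bd4cc54ca) (nat_lit 536772) (nat_lit 0)
  (.node .nil (nat_lit 0x92bd4cc5553) (nat_lit 533896) (nat_lit 0) .nil)) (nat_lit 0x92bd4cc587b) (nat_lit
  0x104a18a) (nat_lit 0) (.node (.node .nil (nat_lit 0x92bd4cc5ba7) (nat_lit 533772) (nat_lit 0) .nil)
  (nat_lit 0x92bd4cc5bbf) (nat_lit 530572) (nat_lit 0) (.node .nil (nat_lit 0x92bd4cc5c35) (nat_lit 0x10628c3)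
  (nat_lit 0) .nil))) (nat_lit 0x92bd4cc6297) (nat_lit 180524) (nat_lit 0) (.node (.node (.node .nil (nat_lit
  0x92bd4cc62ca) (nat_lit 0x104b148) (nat_lit 0) .nil) (nat_lit 0x92bd4cc62d8) (nat_lit 0x83c181) (nat_lit 0)
  (.node .nil (nat_lit 0x92bd4cc6334) (nat_lit 0xc82d46) (nat_lit 0) .nil)) (nat_lit 0x92bd4cc66b9) (nat_lit
  536902) (nat_lit 0) (.node (.node .nil (nat_lit 0x92bd4cc69c7) (nat_lit 0x10628c9) (nat_lit 0) .nil)
  (nat_lit 0x92bd4cc69cd) (nat_lit 147660) (nat_lit 0) (.node .nil (nat_lit 0x92bd4cc6a41) (nat_lit 0x104a183)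
  (nat_lit 0) .nil)))) (nat_lit 0x92bd4cc6db1) (nat_lit 0x104b101) (nat_lit 0) (.node (.node (.node (.node
  .nil (nat_lit 0x92bd4cc6fde) (nat_lit 530820) (nat_lit 0) .nil) (nat_lit 0x92bd4cc709b) (nat_lit 0x20962141)
  (nat_lit 0) (.node .nil (nat_lit 0x92bd4cc712c) (nat_lit 0x1033144) (nat_lit 0) .nil)) (nat_lit
  0x92bd4cc7522) (nat_lit 528774) (nat_lit 0) (.node (.node .nil (nat_lit 0x92bd4cc7780) (nat_lit 0x10230ca)
  (nat_lit 0) .nil) (nat_lit 0x92bd4cc7792) (nat_lit 0x10624ca) (nat_lit 0) (.node .nil (nat_lit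
  0x92bd4cc780e) (nat_lit 536870) (nat_lit 0) .nil))) (nat_lit 0x92bd4cc7e3b) (nat_lit 0xa64142) (nat_lit 0)
  (.node (.node (.node .nil (nat_lit 0x92bd4cc7e98) (nat_lit 340482) (nat_lit 0) .nil) (nat_lit 0x92bd4cc7f36)
  (nat_lit 0xa64122) (nat_lit 0) (.node .nil (nat_lit 0x92bd4cc7f3e) (nat_lit 0xb49a0c) (nat_lit 0) .nil))
  (nat_lit 0x92bd4cc8168) (nat_lit 0x103256a) (nat_lit 0) (.node (.node .nil (nat_lit 0x92bd4cc847f) (nat_lit
  0x682963) (nat_lit 0) .nil) (nat_lit 0x92bd4cc85dd) (nat_lit 530731) (nat_lit 0) (.node .nil (nat_lit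
  0x92bd4cc8719) (nat_lit 535719) (nat_lit 0) .nil)))))))
def tT_39 : T := (.node (.node (.node (.node (.node (.node (.node .nil (nat_lit 0x92bd4cc8c7e) (nat_lit
  377160) (nat_lit 0) .nil) (nat_lit 0x92bd4cc8cc3) (nat_lit 377091) (nat_lit 0) (.node .nil (nat_lit
  0x92bd4cc8db6) (nat_lit 369840) (nat_lit 0) .nil)) (nat_lit 0x92bd4cc8f44) (nat_lit 0x1062d45) (nat_lit 0)
  (.node (.node .nil (nat_lit 0x92bd4cc8f87) (nat_lit 0x933202) (nat_lit 0) .nil) (nat_lit 0x92bd4cc92c3)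
  (nat_lit 143632) (nat_lit 0) (.node .nil (nat_lit 0x92bd4cc939d) (nat_lit 0x12664142) (nat_lit 0) .nil)))
  (nat_lit 0x92bd4cc9a17) (nat_lit 0xa3a590) (nat_lit 0) (.node (.node (.node .nil (nat_lit 0x92bd4cc9a75)
  (nat_lit 0xc49602) (nat_lit 0) .nil) (nat_lit 0x92bd4cc9b05) (nat_lit 0x364101) (nat_lit 0) (.node .nil
  (nat_lit 0x92bd4cc9b76) (nat_lit 0xc82902) (nat_lit 0) .nil)) (nat_lit 0x92bd4cc9d3f) (nat_lit 0x682cc3)
  (nat_lit 0) (.node (.node .nil (nat_lit 0x92bd4cca1b2) (nat_lit 0xb49a06) (nat_lit 0) .nil) (nat_lit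
  0x92bd4cca1ca) (nat_lit 0xa3ae07) (nat_lit 0) (.node .nil (nat_lit 0x92bd4cca2ee) (nat_lit 0xa4ae03)
  (nat_lit 0) .nil)))) (nat_lit 0x92bd4cca728) (nat_lit 0x75c149) (nat_lit 0) (.node (.node (.node (.node .nil
  (nat_lit 0x92bd4cca82b) (nat_lit 7536) (nat_lit 0) .nil) (nat_lit 0x92bd4cca857) (nat_lit 306695) (nat_lit
  0) (.node .nil (nat_lit 0x92bd4cca98d) (nat_lit 241162) (nat_lit 0) .nil)) (nat_lit 0x92bd4ccab1b) (nat_lit
  0x103258b) (nat_lit 0) (.node (.node .nil (nat_lit 0x92bd4ccab60) (nat_lit 0xb8288c) (nat_lit 0) .nil)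
  (nat_lit 0x92bd4ccae9a) (nat_lit 0x149640e2) (nat_lit 0) (.node .nil (nat_lit 0x92bd4ccaf74) (nat_lit
  0x861a06) (nat_lit 0) .nil))) (nat_lit 0x92bd4ccca9c) (nat_lit 0xb81cc4) (nat_lit 0) (.node (.node (.node
  .nil (nat_lit 0x92bd4cccadf) (nat_lit 0xea59a01) (nat_lit 0) .nil) (nat_lit 0x92bd4cccb62) (nat_lit
  0x104ad45) (nat_lit 0) (.node .nil (nat_lit 0x92bd4cccc4f) (nat_lit 0x84ae02) (nat_lit 0) .nil)) (nat_lit
  0x92bd4ccd0fc) (nat_lit 213349) (nat_lit 0) (.node (.node .nil (nat_lit 0x92bd4ccd193) (nat_lit 0x93a970)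
  (nat_lit 0) .nil) (nat_lit 0x92bd4ccd1d8) (nat_lit 0x1042566) (nat_lit 0) (.node .nil (nat_lit
  0x92bd4ccd2c8) (nat_lit 0x1052ce4) (nat_lit 0) .nil))))) (nat_lit 0x92bd4ccd5b2) (nat_lit 369904) (nat_lit
  0) (.node (.node (.node (.node (.node .nil (nat_lit 0x92bd4ccd956) (nat_lit 241155) (nat_lit 0) .nil)
  (nat_lit 0x92bd4ccd968) (nat_lit 0x75c143) (nat_lit 0) (.node .nil (nat_lit 0x92bd4ccd971) (nat_lit
  0xb49e0a) (nat_lit 0) .nil)) (nat_lit 0x92bd4cd06ef) (nat_lit 0xb52590) (nat_lit 0) (.node (.node .nil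
  (nat_lit 0x92bd4cd08df) (nat_lit 0x103a982) (nat_lit 0) .nil) (nat_lit 0x92bd4cd08e9) (nat_lit 0x104b0a3)
  (nat_lit 0) (.node .nil (nat_lit 0x92bd4cd0acb) (nat_lit 235020) (nat_lit 0) .nil))) (nat_lit 0x92bd4cd0de6)
  (nat_lit 0x2092b142) (nat_lit 0) (.node (.node (.node .nil (nat_lit 0x92bd4cd0fd4) (nat_lit 0x1049582)
  (nat_lit 0) .nil) (nat_lit 0x92bd4cd0fdc) (nat_lit 0x1051d84) (nat_lit 0) (.node .nil (nat_lit
  0x92bd4cd11d5) (nat_lit 0x53c183) (nat_lit 0) .nil)) (nat_lit 0x92bd4cd12e9) (nat_lit 0x1061ca3) (nat_lit 0)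
  (.node (.node .nil (nat_lit 0x92bd4cd13cf) (nat_lit 0x38292c) (nat_lit 0) .nil) (nat_lit 0x92bd4cd1736)
  (nat_lit 0x12734181) (nat_lit 0) (.node .nil (nat_lit 0x92bd4cd1767) (nat_lit 0x1042986) (nat_lit 0)
  .nil)))) (nat_lit 0x92bd4cd1abb) (nat_lit 264713) (nat_lit 0) (.node (.node (.node (.node .nil (nat_lit
  0x92bd4cd1b1f) (nat_lit 8272) (nat_lit 0) .nil) (nat_lit 0x92bd4cd1b9a) (nat_lit 264714) (nat_lit 0) (.node
  .nil (nat_lit 0x92bd4cd1de9) (nat_lit 0x282925) (nat_lit 0) .nil)) (nat_lit 0x92bd4cd21e7) (nat_lit 533666)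
  (nat_lit 0) (.node (.node .nil (nat_lit 0x92bd4cd2223) (nat_lit 0xa44122) (nat_lit 0) .nil) (nat_lit
  0x92bd4cd2276) (nat_lit 147618) (nat_lit 0) (.node .nil (nat_lit 0x92bd4cd228f) (nat_lit 336386) (nat_lit 0)
  .nil))) (nat_lit 0x92bd4cd28de) (nat_lit 531778) (nat_lit 0) (.node (.node (.node .nil (nat_lit
  0x92bd4cd290d) (nat_lit 16610) (nat_lit 0) .nil) (nat_lit 0x92bd4cd296b) (nat_lit 0x103a922) (nat_lit 0)
  (.node .nil (nat_lit 0x92bd4cd2989) (nat_lit 531746) (nat_lit 0) .nil)) (nat_lit 0x92bd4cd2f9c) (nat_lit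
  0xa34101) (nat_lit 0) (.node (.node .nil (nat_lit 0x92bd4cd3002) (nat_lit 0x1049d42) (nat_lit 0) .nil)
  (nat_lit 0x92bd4cd3078) (nat_lit 533730) (nat_lit 0) (.node .nil (nat_lit 0x92bd4cd32ca) (nat_lit 202241)
  (nat_lit 0) .nil)))))) (nat_lit 0x92bd4cd3694) (nat_lit 0x10428c1) (nat_lit 0) (.node (.node (.node (.node
  (.node (.node .nil (nat_lit 0x92bd4cd3744) (nat_lit 300550) (nat_lit 0) .nil) (nat_lit 0x92bd4cd394a)
  (nat_lit 180418) (nat_lit 0) (.node .nil (nat_lit 0x92bd4cd394f) (nat_lit 0x1032928) (nat_lit 0) .nil))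
  (nat_lit 0x92bd4cd8a24) (nat_lit 0xc39603) (nat_lit 0) (.node (.node .nil (nat_lit 0x92bd4cd8b2a) (nat_lit
  0xa48d90) (nat_lit 0) .nil) (nat_lit 0x92bd4cd8d75) (nat_lit 0xc3c128) (nat_lit 0) (.node .nil (nat_lit
  0x92bd4cd8f15) (nat_lit 0x103314b) (nat_lit 0) .nil))) (nat_lit 0x92bd4cd91eb) (nat_lit 0x4818e1) (nat_lit
  0) (.node (.node (.node .nil (nat_lit 0x92bd4cd945c) (nat_lit 0x10524e6) (nat_lit 0) .nil) (nat_lit
  0x92bd4cd9658) (nat_lit 533703) (nat_lit 0) (.node .nil (nat_lit 0x92bd4cd9689) (nat_lit 0x103a8c2) (nat_lit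
  0) .nil)) (nat_lit 0x92bd4cd9ecc) (nat_lit 0xb52202) (nat_lit 13585) (.node (.node .nil (nat_lit
  0x92bd4cd9f3d) (nat_lit 0xb824a2) (nat_lit 0) .nil) (nat_lit 0x92bd4cda026) (nat_lit 142853) (nat_lit 0)
  (.node .nil (nat_lit 0x92bd4cda328) (nat_lit 0x16a44122) (nat_lit 0) .nil)))) (nat_lit 0x92bd4cda92f)
  (nat_lit 0xb828c3) (nat_lit 0) (.node (.node (.node (.node .nil (nat_lit 0x92bd4cdaa29) (nat_lit 535846)
  (nat_lit 0) .nil) (nat_lit 0x92bd4cdaaca) (nat_lit 0x105a4ca) (nat_lit 0) (.node .nil (nat_lit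
  0x92bd4cdaaf2) (nat_lit 530788) (nat_lit 0) .nil)) (nat_lit 0x92bd4cdaed1) (nat_lit 535878) (nat_lit 0)
  (.node (.node .nil (nat_lit 0x92bd4cdb141) (nat_lit 0xb824c3) (nat_lit 0) .nil) (nat_lit 0x92bd4cdb1a6)
  (nat_lit 0x105a8c9) (nat_lit 0) (.node .nil (nat_lit 0x92bd4cdb203) (nat_lit 147659) (nat_lit 0) .nil)))
  (nat_lit 0x92bd4cdb71a) (nat_lit 0x105a8c3) (nat_lit 0) (.node (.node (.node .nil (nat_lit 0x92bd4cdb81b)
  (nat_lit 377126) (nat_lit 0) .nil) (nat_lit 0x92bd4cdb87e) (nat_lit 528742) (nat_lit 0) (.node .nil (nat_lit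
  0x92bd4cdb8b7) (nat_lit 0xb824ca) (nat_lit 0) .nil)) (nat_lit 0x92bd4cdbe53) (nat_lit 377158) (nat_lit 0)
  (.node (.node .nil (nat_lit 0x92bd4cdbf31) (nat_lit 0x105a4c3) (nat_lit 0) .nil) (nat_lit 0x92bd4cdbf73)
  (nat_lit 365062) (nat_lit 0) (.node .nil (nat_lit 0x92bd4cdbf91) (nat_lit 0xb828c9) (nat_lit 0) .nil)))))
  (nat_lit 0x92bd4cdc546) (nat_lit 0x105a8c2) (nat_lit 0) (.node (.node (.node (.node (.node .nil (nat_lit
  0x92bd4cdc628) (nat_lit 0x103a565) (nat_lit 0) .nil) (nat_lit 0x92bd4cdc67b) (nat_lit 0x20b51922) (nat_lit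
  14513) (.node .nil (nat_lit 0x92bd4cdc6f2) (nat_lit 147814) (nat_lit 0) .nil)) (nat_lit 0x92bd4cdcbaf)
  (nat_lit 0x1059944) (nat_lit 0) (.node (.node .nil (nat_lit 0x92bd4cdccfc) (nat_lit 0x105a4c2) (nat_lit 0)
  .nil) (nat_lit 0x92bd4cdcd9a) (nat_lit 0x20b49942) (nat_lit 571715) (.node .nil (nat_lit 0x92bd4cdcdea)
  (nat_lit 535748) (nat_lit 0) .nil))) (nat_lit 0x92bd4cdd28a) (nat_lit 0xb81944) (nat_lit 0) (.node (.node
  (.node .nil (nat_lit 0x92bd4cdd3f8) (nat_lit 0xb824c2) (nat_lit 0) .nil) (nat_lit 0x92bd4cdd48d) (nat_lit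
  0x17049942) (nat_lit 17866) (.node .nil (nat_lit 0x92bd4cdd4b7) (nat_lit 377028) (nat_lit 0) .nil)) (nat_lit
  0x92bd4cdd7b7) (nat_lit 0x17051922) (nat_lit 7726) (.node (.node .nil (nat_lit 0x92bd4cdda27) (nat_lit
  0xb828c2) (nat_lit 0) .nil) (nat_lit 0x92bd4cddb06) (nat_lit 0xb49e05) (nat_lit 0) (.node .nil (nat_lit
  0x92bd4cddbc8) (nat_lit 142854) (nat_lit 0) .nil)))) (nat_lit 0x92bd4cde031) (nat_lit 16678) (nat_lit 0)
  (.node (.node (.node (.node .nil (nat_lit 0x92bd4cde1c1) (nat_lit 115014) (nat_lit 0) .nil) (nat_lit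
  0x92bd4cde255) (nat_lit 533706) (nat_lit 0) (.node .nil (nat_lit 0x92bd4cde2b1) (nat_lit 530562) (nat_lit 0)
  .nil)) (nat_lit 0x92bd4cde76b) (nat_lit 533699) (nat_lit 0) (.node (.node .nil (nat_lit 0x92bd4cde83e)
  (nat_lit 534721) (nat_lit 0) .nil) (nat_lit 0x92bd4cde94c) (nat_lit 0x1051921) (nat_lit 0) (.node .nil
  (nat_lit 0x92bd4cde9e5) (nat_lit 147649) (nat_lit 0) .nil))) (nat_lit 0x92bd4cdec39) (nat_lit 534722)
  (nat_lit 0) (.node (.node (.node .nil (nat_lit 0x92bd4cdec87) (nat_lit 0x1051922) (nat_lit 0) .nil) (nat_lit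
  0x92bd4cdeec0) (nat_lit 302597) (nat_lit 0) (.node .nil (nat_lit 0x92bd4cdf0d8) (nat_lit 8432) (nat_lit 0)
  .nil)) (nat_lit 0x92bd4cdf37c) (nat_lit 0x2824ca) (nat_lit 0) (.node (.node .nil (nat_lit 0x92bd4cdf57d)
  (nat_lit 82214) (nat_lit 0) .nil) (nat_lit 0x92bd4cdf69c) (nat_lit 0x1032881) (nat_lit 0) (.node .nil
  (nat_lit 0x92bd4cdf796) (nat_lit 530561) (nat_lit 0) .nil)))))))
def tT_40 : T := (.node (.node (.node (.node (.node (.node (.node .nil (nat_lit 0x92bd4cdfda2) (nat_lit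
  534723) (nat_lit 0) .nil) (nat_lit 0x92bd4cdfe30) (nat_lit 0x1049941) (nat_lit 0) (.node .nil (nat_lit
  0x92bd4cdfec5) (nat_lit 147651) (nat_lit 0) .nil)) (nat_lit 0x92bd4ce035c) (nat_lit 114982) (nat_lit 0)
  (.node (.node .nil (nat_lit 0x92bd4ce03aa) (nat_lit 4614) (nat_lit 0) .nil) (nat_lit 0x92bd4ce0427) (nat_lit
  16710) (nat_lit 0) (.node .nil (nat_lit 0x92bd4ce0525) (nat_lit 534729) (nat_lit 0) .nil))) (nat_lit
  0x92bd4ce089e) (nat_lit 269825) (nat_lit 0) (.node (.node (.node .nil (nat_lit 0x92bd4ce0a96) (nat_lit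
  0x93c0a1) (nat_lit 0) .nil) (nat_lit 0x92bd4ce0b1e) (nat_lit 82246) (nat_lit 0) (.node .nil (nat_lit
  0x92bd4ce0c16) (nat_lit 0x2828c9) (nat_lit 0) .nil)) (nat_lit 0x92bd4ce1157) (nat_lit 533698) (nat_lit 0)
  (.node (.node .nil (nat_lit 0x92bd4ce1283) (nat_lit 530756) (nat_lit 0) .nil) (nat_lit 0x92bd4ce130b)
  (nat_lit 0x1049942) (nat_lit 0) (.node .nil (nat_lit 0x92bd4ce13a8) (nat_lit 16580) (nat_lit 0) .nil))))
  (nat_lit 0x92bd4ce1532) (nat_lit 0xb824e2) (nat_lit 6692) (.node (.node (.node (.node .nil (nat_lit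
  0x92bd4ce1564) (nat_lit 0x1022d47) (nat_lit 0) .nil) (nat_lit 0x92bd4ce1813) (nat_lit 202251) (nat_lit 0)
  (.node .nil (nat_lit 0x92bd4ce18af) (nat_lit 0x17049d42) (nat_lit 0) .nil)) (nat_lit 0x92bd4ce1f2b) (nat_lit
  0x14c82482) (nat_lit 0) (.node (.node .nil (nat_lit 0x92bd4ce201a) (nat_lit 0x4640e6) (nat_lit 0) .nil)
  (nat_lit 0x92bd4ce2033) (nat_lit 0x74b208) (nat_lit 0) (.node .nil (nat_lit 0x92bd4ce2178) (nat_lit
  0xa64082) (nat_lit 0) .nil))) (nat_lit 0x92bd4ce26a8) (nat_lit 0x12b828e3) (nat_lit 0) (.node (.node (.node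
  .nil (nat_lit 0x92bd4ce276c) (nat_lit 241156) (nat_lit 0) .nil) (nat_lit 0x92bd4ce2819) (nat_lit 0x95c0e4)
  (nat_lit 0) (.node .nil (nat_lit 0x92bd4ce289a) (nat_lit 0x75c144) (nat_lit 0) .nil)) (nat_lit
  0x92bd4ce2b58) (nat_lit 0x783144) (nat_lit 0) (.node (.node .nil (nat_lit 0x92bd4ce2e17) (nat_lit 0x783124)
  (nat_lit 0) .nil) (nat_lit 0x92bd4ce2eb8) (nat_lit 0xf062924) (nat_lit 0) (.node .nil (nat_lit
  0x92bd4ce2f49) (nat_lit 246148) (nat_lit 0) .nil))))) (nat_lit 0x92bd4ce315f) (nat_lit 147785) (nat_lit 0)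
  (.node (.node (.node (.node (.node .nil (nat_lit 0x92bd4ce34c0) (nat_lit 4618) (nat_lit 0) .nil) (nat_lit
  0x92bd4ce354e) (nat_lit 4617) (nat_lit 0) (.node .nil (nat_lit 0x92bd4ce355f) (nat_lit 144) (nat_lit 0)
  .nil)) (nat_lit 0x92bd4ce3759) (nat_lit 0x482923) (nat_lit 0) (.node (.node .nil (nat_lit 0x92bd4ce3961)
  (nat_lit 4611) (nat_lit 0) .nil) (nat_lit 0x92bd4ce3b64) (nat_lit 147779) (nat_lit 0) (.node .nil (nat_lit
  0x92bd4ce3bdf) (nat_lit 147747) (nat_lit 0) .nil))) (nat_lit 0x92bd4ce3ed3) (nat_lit 172240) (nat_lit 0)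
  (.node (.node (.node .nil (nat_lit 0x92bd4ce4057) (nat_lit 0x1049d45) (nat_lit 0) .nil) (nat_lit
  0x92bd4ce42cc) (nat_lit 529735) (nat_lit 0) (.node .nil (nat_lit 0x92bd4ce42d9) (nat_lit 0x103a4a1) (nat_lit
  0) .nil)) (nat_lit 0x92bd4ce4646) (nat_lit 278754) (nat_lit 0) (.node (.node .nil (nat_lit 0x92bd4ce49be)
  (nat_lit 0x1049ca1) (nat_lit 0) .nil) (nat_lit 0x92bd4ce4a36) (nat_lit 0x10514e1) (nat_lit 0) (.node .nil
  (nat_lit 0x92bd4ce4a41) (nat_lit 0x103a925) (nat_lit 0) .nil)))) (nat_lit 0x92bd4ce4c52) (nat_lit 0xb82924)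
  (nat_lit 0) (.node (.node (.node (.node .nil (nat_lit 0x92bd4ce4dbc) (nat_lit 11780) (nat_lit 0) .nil)
  (nat_lit 0x92bd4ce5019) (nat_lit 377156) (nat_lit 0) (.node .nil (nat_lit 0x92bd4ce5047) (nat_lit 377124)
  (nat_lit 0) .nil)) (nat_lit 0x92bd4ce534a) (nat_lit 0x126828c1) (nat_lit 0) (.node (.node .nil (nat_lit
  0x92bd4ce55cc) (nat_lit 213188) (nat_lit 0) .nil) (nat_lit 0x92bd4ce56ed) (nat_lit 0x681944) (nat_lit
  0xc8b543) (.node .nil (nat_lit 0x92bd4ce5727) (nat_lit 0x6824c2) (nat_lit 0) .nil))) (nat_lit 0x92bd4ce5dfd)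
  (nat_lit 143600) (nat_lit 0) (.node (.node (.node .nil (nat_lit 0x92bd4ce5ee6) (nat_lit 0x461e09) (nat_lit
  0) .nil) (nat_lit 0x92bd4ce5f4f) (nat_lit 0x461e0a) (nat_lit 0) (.node .nil (nat_lit 0x92bd4ce5f63) (nat_lit
  0x1492b202) (nat_lit 0) .nil)) (nat_lit 0x92bd4ce64f4) (nat_lit 0x12c82881) (nat_lit 0) (.node (.node .nil
  (nat_lit 0x92bd4ce65e1) (nat_lit 0x8628d0) (nat_lit 0) .nil) (nat_lit 0x92bd4ce6630) (nat_lit 0x964081)
  (nat_lit 0) (.node .nil (nat_lit 0x92bd4ce6658) (nat_lit 0x6640a2) (nat_lit 0) .nil)))))) (nat_lit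
  0x92bd4ce6ac2) (nat_lit 278886) (nat_lit 0) (.node (.node (.node (.node (.node (.node .nil (nat_lit
  0x92bd4ce6c3f) (nat_lit 0x95c147) (nat_lit 0) .nil) (nat_lit 0x92bd4ce6d8c) (nat_lit 0xb49e04) (nat_lit 0)
  (.node .nil (nat_lit 0x92bd4ce6e30) (nat_lit 0xb828c5) (nat_lit 0) .nil)) (nat_lit 0x92bd4ce73cc) (nat_lit
  0x934184) (nat_lit 0) (.node (.node .nil (nat_lit 0x92bd4ce73d4) (nat_lit 0x4830e6) (nat_lit 0) .nil)
  (nat_lit 0x92bd4ce74c9) (nat_lit 0x14782581) (nat_lit 0) (.node .nil (nat_lit 0x92bd4ce74f5) (nat_lit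
  0x1042985) (nat_lit 0) .nil))) (nat_lit 0x92bd4ce7681) (nat_lit 16779) (nat_lit 0) (.node (.node (.node .nil
  (nat_lit 0x92bd4ce7ac9) (nat_lit 536938) (nat_lit 0) .nil) (nat_lit 0x92bd4ce7b47) (nat_lit 536937) (nat_lit
  0) (.node .nil (nat_lit 0x92bd4ce7bb8) (nat_lit 0x1062d49) (nat_lit 0) .nil)) (nat_lit 0x92bd4ce7ee3)
  (nat_lit 0xc81cc9) (nat_lit 0) (.node (.node .nil (nat_lit 0x92bd4ce812f) (nat_lit 409830) (nat_lit 0) .nil)
  (nat_lit 0x92bd4ce819e) (nat_lit 0xa1b201) (nat_lit 0) (.node .nil (nat_lit 0x92bd4ce8239) (nat_lit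
  0x14364121) (nat_lit 0) .nil)))) (nat_lit 0x92bd4ce84e7) (nat_lit 0x939a01) (nat_lit 0) (.node (.node (.node
  (.node .nil (nat_lit 0x92bd4ce8567) (nat_lit 239824) (nat_lit 0) .nil) (nat_lit 0x92bd4ce8864) (nat_lit
  236036) (nat_lit 0) (.node .nil (nat_lit 0x92bd4ce88d4) (nat_lit 0x751a09) (nat_lit 0) .nil)) (nat_lit
  0x92bd4ce8c0d) (nat_lit 0x1051d22) (nat_lit 0) (.node (.node .nil (nat_lit 0x92bd4ce8d7c) (nat_lit 0x934101)
  (nat_lit 0) .nil) (nat_lit 0x92bd4ce8ef6) (nat_lit 147681) (nat_lit 0) (.node .nil (nat_lit 0x92bd4ce9108)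
  (nat_lit 534754) (nat_lit 0) .nil))) (nat_lit 0x92bd4ce9304) (nat_lit 16545) (nat_lit 0) (.node (.node
  (.node .nil (nat_lit 0x92bd4ce9473) (nat_lit 529729) (nat_lit 0) .nil) (nat_lit 0x92bd4ce95ef) (nat_lit
  0x102a921) (nat_lit 0) (.node .nil (nat_lit 0x92bd4ce97ff) (nat_lit 529697) (nat_lit 0) .nil)) (nat_lit
  0x92bd4ce99a1) (nat_lit 0x1062d47) (nat_lit 0) (.node (.node .nil (nat_lit 0x92bd4ce99ae) (nat_lit 0xc49a08)
  (nat_lit 0) .nil) (nat_lit 0x92bd4ce9e0a) (nat_lit 0x12564145) (nat_lit 0) (.node .nil (nat_lit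
  0x92bd4ce9e8a) (nat_lit 397831) (nat_lit 0) .nil))))) (nat_lit 0x92bd4cebc27) (nat_lit 534915) (nat_lit 0)
  (.node (.node (.node (.node (.node .nil (nat_lit 0x92bd4cebc70) (nat_lit 0x8824ec) (nat_lit 0) .nil)
  (nat_lit 0x92bd4cebff9) (nat_lit 0x63c181) (nat_lit 0) (.node .nil (nat_lit 0x92bd4cec0ea) (nat_lit
  0x1053123) (nat_lit 0) .nil)) (nat_lit 0x92bd4cec474) (nat_lit 213382) (nat_lit 0) (.node (.node .nil
  (nat_lit 0x92bd4cec702) (nat_lit 0x103a584) (nat_lit 0) .nil) (nat_lit 0x92bd4cec7e6) (nat_lit 0x10530a3)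
  (nat_lit 0) (.node .nil (nat_lit 0x92bd4cec85e) (nat_lit 0x104b147) (nat_lit 0) .nil))) (nat_lit
  0x92bd4cecd0c) (nat_lit 409801) (nat_lit 0) (.node (.node (.node .nil (nat_lit 0x92bd4cecded) (nat_lit
  409802) (nat_lit 0) .nil) (nat_lit 0x92bd4cece9a) (nat_lit 0xc81949) (nat_lit 0) (.node .nil (nat_lit
  0x92bd4cecee6) (nat_lit 12806) (nat_lit 0) .nil)) (nat_lit 0x92bd4ced457) (nat_lit 0x1062cc9) (nat_lit 0)
  (.node (.node .nil (nat_lit 0x92bd4ced4e2) (nat_lit 0x464146) (nat_lit 0) .nil) (nat_lit 0x92bd4ced58f)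
  (nat_lit 0x12b82982) (nat_lit 0) (.node .nil (nat_lit 0x92bd4ced67d) (nat_lit 536934) (nat_lit 0) .nil))))
  (nat_lit 0x92bd4cee933) (nat_lit 209418) (nat_lit 0) (.node (.node (.node (.node .nil (nat_lit
  0x92bd4cee9c2) (nat_lit 209417) (nat_lit 0) .nil) (nat_lit 0x92bd4ceea86) (nat_lit 6544) (nat_lit 0) (.node
  .nil (nat_lit 0x92bd4ceeb56) (nat_lit 0x664149) (nat_lit 0) .nil)) (nat_lit 0x92bd4ceefdb) (nat_lit
  0xc34142) (nat_lit 0) (.node (.node .nil (nat_lit 0x92bd4cef0b7) (nat_lit 0xc34122) (nat_lit 0) .nil)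
  (nat_lit 0x92bd4cef17d) (nat_lit 399874) (nat_lit 0) (.node .nil (nat_lit 0x92bd4cef1b5) (nat_lit
  0x12c828a2) (nat_lit 0) .nil))) (nat_lit 0x92bd4cefc2c) (nat_lit 180615) (nat_lit 0) (.node (.node (.node
  .nil (nat_lit 0x92bd4cefc2d) (nat_lit 0x782989) (nat_lit 0) .nil) (nat_lit 0x92bd4cefe51) (nat_lit 0x5830e9)
  (nat_lit 0) (.node .nil (nat_lit 0x92bd4cf001f) (nat_lit 246092) (nat_lit 0) .nil)) (nat_lit 0x92bd4cf04ee)
  (nat_lit 0x683123) (nat_lit 0) (.node (.node .nil (nat_lit 0x92bd4cf0536) (nat_lit 213379) (nat_lit 0) .nil)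
  (nat_lit 0x92bd4cf0537) (nat_lit 0xd062923) (nat_lit 0) (.node .nil (nat_lit 0x92bd4cf0716) (nat_lit
  0x683143) (nat_lit 0) .nil)))))))
def tT_41 : T := (.node (.node (.node (.node (.node (.node (.node .nil (nat_lit 0x92bd4d07689) (nat_lit
  530659) (nat_lit 0) .nil) (nat_lit 0x92bd4d077a6) (nat_lit 0xc53201) (nat_lit 0) (.node .nil (nat_lit
  0x92bd4d07846) (nat_lit 530727) (nat_lit 0) .nil)) (nat_lit 0x92bd4d07ceb) (nat_lit 209415) (nat_lit 0)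
  (.node (.node .nil (nat_lit 0x92bd4d07df6) (nat_lit 0xc51602) (nat_lit 0) .nil) (nat_lit 0x92bd4d07ec3)
  (nat_lit 0x93a990) (nat_lit 0) (.node .nil (nat_lit 0x92bd4d07f03) (nat_lit 0xc82502) (nat_lit 0) .nil)))
  (nat_lit 0x92bd4d0819e) (nat_lit 334342) (nat_lit 0) (.node (.node (.node .nil (nat_lit 0x92bd4d081ba)
  (nat_lit 204293) (nat_lit 0x1868be36) .nil) (nat_lit 0x92bd4d083b7) (nat_lit 0x9340c1) (nat_lit 0) (.node
  .nil (nat_lit 0x92bd4d08628) (nat_lit 0xa340c9) (nat_lit 0) .nil)) (nat_lit 0x92bd4d087c0) (nat_lit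
  0x764101) (nat_lit 0) (.node (.node .nil (nat_lit 0x92bd4d087e7) (nat_lit 0xa49190) (nat_lit 0) .nil)
  (nat_lit 0x92bd4d089e3) (nat_lit 0xb82987) (nat_lit 0) (.node .nil (nat_lit 0x92bd4d089f7) (nat_lit
  0xec82121) (nat_lit 0) .nil)))) (nat_lit 0x92bd4d09d67) (nat_lit 535877) (nat_lit 0) (.node (.node (.node
  (.node .nil (nat_lit 0x92bd4d0a01e) (nat_lit 376995) (nat_lit 0) .nil) (nat_lit 0x92bd4d0a0f0) (nat_lit
  0x105a8a9) (nat_lit 0) (.node .nil (nat_lit 0x92bd4d0a213) (nat_lit 0xb4a201) (nat_lit 0) .nil)) (nat_lit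
  0x92bd4d0a38f) (nat_lit 536901) (nat_lit 0) (.node (.node .nil (nat_lit 0x92bd4d0a68b) (nat_lit 529795)
  (nat_lit 0) .nil) (nat_lit 0x92bd4d0a83a) (nat_lit 0x10628a9) (nat_lit 0) (.node .nil (nat_lit
  0x92bd4d0a899) (nat_lit 0x102b123) (nat_lit 0) .nil))) (nat_lit 0x92bd4d10b38) (nat_lit 534828) (nat_lit 0)
  (.node (.node (.node .nil (nat_lit 0x92bd4d10c1e) (nat_lit 536743) (nat_lit 0) .nil) (nat_lit 0x92bd4d10f87)
  (nat_lit 0x10530c8) (nat_lit 0) (.node .nil (nat_lit 0x92bd4d10fa2) (nat_lit 0x10614e9) (nat_lit 0) .nil))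
  (nat_lit 0x92bd4d1130d) (nat_lit 0x105a92c) (nat_lit 0) (.node (.node .nil (nat_lit 0x92bd4d1165b) (nat_lit
  0xa3b204) (nat_lit 0) .nil) (nat_lit 0x92bd4d11753) (nat_lit 0x92b203) (nat_lit 0) (.node .nil (nat_lit
  0x92bd4d11809) (nat_lit 0xc81ca1) (nat_lit 0) .nil))))) (nat_lit 0x92bd4d119cb) (nat_lit 0x932e05) (nat_lit
  0) (.node (.node (.node (.node (.node .nil (nat_lit 0x92bd4d11a3c) (nat_lit 246091) (nat_lit 0) .nil)
  (nat_lit 0x92bd4d11b25) (nat_lit 0x782969) (nat_lit 0) (.node .nil (nat_lit 0x92bd4d11cea) (nat_lit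
  0x582cc3) (nat_lit 0) .nil)) (nat_lit 0x92bd4d120f1) (nat_lit 0x749a01) (nat_lit 0) (.node (.node .nil
  (nat_lit 0x92bd4d121a4) (nat_lit 0xa32206) (nat_lit 0) .nil) (nat_lit 0x92bd4d123ab) (nat_lit 0x6524f0)
  (nat_lit 0) (.node .nil (nat_lit 0x92bd4d123ae) (nat_lit 203920) (nat_lit 0) .nil))) (nat_lit 0x92bd4d12961)
  (nat_lit 377098) (nat_lit 0) (.node (.node (.node .nil (nat_lit 0x92bd4d12aa8) (nat_lit 0xb82149) (nat_lit
  0) .nil) (nat_lit 0x92bd4d12c45) (nat_lit 11784) (nat_lit 0) (.node .nil (nat_lit 0x92bd4d12d04) (nat_lit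
  377097) (nat_lit 0) .nil)) (nat_lit 0x92bd4d12fb5) (nat_lit 246089) (nat_lit 0) (.node (.node .nil (nat_lit
  0x92bd4d13231) (nat_lit 240) (nat_lit 0) .nil) (nat_lit 0x92bd4d13427) (nat_lit 7690) (nat_lit 0) (.node
  .nil (nat_lit 0x92bd4d13458) (nat_lit 7689) (nat_lit 0) .nil)))) (nat_lit 0x92bd4d2e699) (nat_lit 0x1033143)
  (nat_lit 0) (.node (.node (.node (.node .nil (nat_lit 0x92bd4d2e8c1) (nat_lit 0x1033123) (nat_lit 0) .nil)
  (nat_lit 0x92bd4d2ea0a) (nat_lit 530819) (nat_lit 0) (.node .nil (nat_lit 0x92bd4d2ea67) (nat_lit 0x1062926)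
  (nat_lit 0) .nil)) (nat_lit 0x92bd4d2fb72) (nat_lit 536771) (nat_lit 0) (.node (.node .nil (nat_lit
  0x92bd4d2fb7a) (nat_lit 0x92c182) (nat_lit 0) .nil) (nat_lit 0x92bd4d2fda2) (nat_lit 0x1061943) (nat_lit 0)
  (.node .nil (nat_lit 0x92bd4d2feeb) (nat_lit 0xa5a590) (nat_lit 0) .nil))) (nat_lit 0x92bd4d30349) (nat_lit
  0x92c181) (nat_lit 0) (.node (.node (.node .nil (nat_lit 0x92bd4d30483) (nat_lit 527750) (nat_lit 0) .nil)
  (nat_lit 0x92bd4d30497) (nat_lit 0x10628c4) (nat_lit 0) (.node .nil (nat_lit 0x92bd4d3066e) (nat_lit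
  0x12583141) (nat_lit 0) .nil)) (nat_lit 0x92bd4d30a3e) (nat_lit 0x3830ca) (nat_lit 0) (.node (.node .nil
  (nat_lit 0x92bd4d30b90) (nat_lit 300556) (nat_lit 0) .nil) (nat_lit 0x92bd4d30d38) (nat_lit 0x92c18a)
  (nat_lit 0) (.node .nil (nat_lit 0x92bd4d30d65) (nat_lit 115078) (nat_lit 0) .nil)))))) (nat_lit
  0x92bd4d31005) (nat_lit 0x930e05) (nat_lit 0) (.node (.node (.node (.node (.node (.node .nil (nat_lit
  0x92bd4d311bc) (nat_lit 0x934145) (nat_lit 0) .nil) (nat_lit 0x92bd4d312e4) (nat_lit 268432) (nat_lit 0)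
  (.node .nil (nat_lit 0x92bd4d31479) (nat_lit 0xa32201) (nat_lit 0) .nil)) (nat_lit 0x92bd4d316f2) (nat_lit
  534785) (nat_lit 0) (.node (.node .nil (nat_lit 0x92bd4d318b1) (nat_lit 3592) (nat_lit 0) .nil) (nat_lit
  0x92bd4d319df) (nat_lit 0x1052121) (nat_lit 0) (.node .nil (nat_lit 0x92bd4d31b6e) (nat_lit 300545) (nat_lit
  0) .nil))) (nat_lit 0x92bd4d36282) (nat_lit 0x653201) (nat_lit 0) (.node (.node (.node .nil (nat_lit
  0x92bd4d362ba) (nat_lit 0x5640c9) (nat_lit 0) .nil) (nat_lit 0x92bd4d365a5) (nat_lit 0xca64121) (nat_lit 0)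
  (.node .nil (nat_lit 0x92bd4d36721) (nat_lit 176646) (nat_lit 0) .nil)) (nat_lit 0x92bd4d36975) (nat_lit
  0x92b205) (nat_lit 0) (.node (.node .nil (nat_lit 0x92bd4d369af) (nat_lit 0x1053166) (nat_lit 0) .nil)
  (nat_lit 0x92bd4d36e14) (nat_lit 0x104b14b) (nat_lit 0) (.node .nil (nat_lit 0x92bd4d36ec3) (nat_lit 209416)
  (nat_lit 0) .nil)))) (nat_lit 0x92bd4d370e6) (nat_lit 0xc82583) (nat_lit 548) (.node (.node (.node (.node
  .nil (nat_lit 0x92bd4d37114) (nat_lit 0x14b49e02) (nat_lit 0) .nil) (nat_lit 0x92bd4d3742b) (nat_lit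
  0xb820c3) (nat_lit 0) (.node .nil (nat_lit 0x92bd4d37625) (nat_lit 0xa5c0c5) (nat_lit 0) .nil)) (nat_lit
  0x92bd4d385c7) (nat_lit 529770) (nat_lit 0) (.node (.node .nil (nat_lit 0x92bd4d385f9) (nat_lit 16555)
  (nat_lit 0) .nil) (nat_lit 0x92bd4d38843) (nat_lit 0xa5c128) (nat_lit 0) (.node .nil (nat_lit 0x92bd4d38b06)
  (nat_lit 529769) (nat_lit 0) .nil))) (nat_lit 0x92bd4d38c6e) (nat_lit 0xa43208) (nat_lit 0) (.node (.node
  (.node .nil (nat_lit 0x92bd4d38d4a) (nat_lit 0x12c828c4) (nat_lit 0) .nil) (nat_lit 0x92bd4d390c8) (nat_lit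
  241872) (nat_lit 0) (.node .nil (nat_lit 0x92bd4d39182) (nat_lit 0x961e05) (nat_lit 0) .nil)) (nat_lit
  0x92bd4d3935e) (nat_lit 401929) (nat_lit 0) (.node (.node .nil (nat_lit 0x92bd4d39441) (nat_lit 12560)
  (nat_lit 0) .nil) (nat_lit 0x92bd4d39484) (nat_lit 401930) (nat_lit 0) (.node .nil (nat_lit 0x92bd4d39864)
  (nat_lit 0xc82925) (nat_lit 0) .nil))))) (nat_lit 0x92bd4d43392) (nat_lit 409927) (nat_lit 0) (.node (.node
  (.node (.node (.node .nil (nat_lit 0x92bd4d433a1) (nat_lit 0xc824e4) (nat_lit 0) .nil) (nat_lit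
  0x92bd4d437ed) (nat_lit 0xc828e9) (nat_lit 0) (.node .nil (nat_lit 0x92bd4d4387d) (nat_lit 143879) (nat_lit
  0) .nil)) (nat_lit 0x92bd4d44871) (nat_lit 0x105a48c) (nat_lit 0) (.node (.node .nil (nat_lit 0x92bd4d4488a)
  (nat_lit 0xc82906) (nat_lit 0) .nil) (nat_lit 0x92bd4d44995) (nat_lit 0xa4b110) (nat_lit 0) (.node .nil
  (nat_lit 0x92bd4d44ccc) (nat_lit 0xc29e05) (nat_lit 0) .nil))) (nat_lit 0x92bd4d44f0e) (nat_lit 0x128830e1)
  (nat_lit 0) (.node (.node (.node .nil (nat_lit 0x92bd4d44f5a) (nat_lit 534916) (nat_lit 0) .nil) (nat_lit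
  0x92bd4d45301) (nat_lit 0x1053124) (nat_lit 0) (.node .nil (nat_lit 0x92bd4d453d2) (nat_lit 0x1053144)
  (nat_lit 0) .nil)) (nat_lit 0x92bd4d463f1) (nat_lit 534636) (nat_lit 0) (.node (.node .nil (nat_lit
  0x92bd4d46439) (nat_lit 0x882587) (nat_lit 0) .nil) (nat_lit 0x92bd4d467d6) (nat_lit 236044) (nat_lit 0)
  (.node .nil (nat_lit 0x92bd4d468b5) (nat_lit 0x1050d89) (nat_lit 0) .nil)))) (nat_lit 0x92bd4d46d08)
  (nat_lit 529730) (nat_lit 0) (.node (.node (.node (.node .nil (nat_lit 0x92bd4d46e2d) (nat_lit 16546)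
  (nat_lit 0) .nil) (nat_lit 0x92bd4d46e88) (nat_lit 0x102a922) (nat_lit 0) (.node .nil (nat_lit
  0x92bd4d47098) (nat_lit 529698) (nat_lit 0) .nil)) (nat_lit 0x92bd4d47401) (nat_lit 0x1049c81) (nat_lit 0)
  (.node (.node .nil (nat_lit 0x92bd4d47520) (nat_lit 0x1051d21) (nat_lit 0) .nil) (nat_lit 0x92bd4d4757d)
  (nat_lit 147682) (nat_lit 0) (.node .nil (nat_lit 0x92bd4d4778f) (nat_lit 534753) (nat_lit 0) .nil)))
  (nat_lit 0x92bd4d4c1e6) (nat_lit 0x103a562) (nat_lit 177) (.node (.node (.node .nil (nat_lit 0x92bd4d4c2ff)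
  (nat_lit 535749) (nat_lit 0) .nil) (nat_lit 0x92bd4d4c309) (nat_lit 0x1042966) (nat_lit 0) (.node .nil
  (nat_lit 0x92bd4d4c312) (nat_lit 0x2074ad42) (nat_lit 0) .nil)) (nat_lit 0x92bd4d4c8d5) (nat_lit 0x12c82981)
  (nat_lit 0) (.node (.node .nil (nat_lit 0x92bd4d4c8df) (nat_lit 0x105a142) (nat_lit 17709) .nil) (nat_lit
  0x92bd4d4ca14) (nat_lit 535810) (nat_lit 0) (.node .nil (nat_lit 0x92bd4d4cad1) (nat_lit 0x105a122) (nat_lit
  0) .nil)))))))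
def tT_42 : T := (.node (.node (.node (.node (.node (.node (.node .nil (nat_lit 0x92bd4d4d000) (nat_lit 7248)
  (nat_lit 0) .nil) (nat_lit 0x92bd4d4d1f2) (nat_lit 231946) (nat_lit 0) (.node .nil (nat_lit 0x92bd4d4d227)
  (nat_lit 231945) (nat_lit 0) .nil)) (nat_lit 0x92bd4d4e4db) (nat_lit 0x10524c7) (nat_lit 0) (.node (.node
  .nil (nat_lit 0x92bd4d4e537) (nat_lit 269831) (nat_lit 0) .nil) (nat_lit 0x92bd4d4e6d5) (nat_lit 533734)
  (nat_lit 0) (.node .nil (nat_lit 0x92bd4d4e706) (nat_lit 0x103a8c1) (nat_lit 0) .nil))) (nat_lit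
  0x92bd4d4ebc1) (nat_lit 0xb340a1) (nat_lit 0) (.node (.node (.node .nil (nat_lit 0x92bd4d4ebf0) (nat_lit
  0x12782962) (nat_lit 0) .nil) (nat_lit 0x92bd4d4ec33) (nat_lit 0x1032568) (nat_lit 0) (.node .nil (nat_lit
  0x92bd4d4edae) (nat_lit 0x103a963) (nat_lit 0) .nil)) (nat_lit 0x92bd4d4f2e3) (nat_lit 0xb818e4) (nat_lit 0)
  (.node (.node .nil (nat_lit 0x92bd4d4f328) (nat_lit 0x751a0b) (nat_lit 0) .nil) (nat_lit 0x92bd4d4f3a9)
  (nat_lit 0x88256a) (nat_lit 0) (.node .nil (nat_lit 0x92bd4d4f4a3) (nat_lit 278827) (nat_lit 0) .nil))))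
  (nat_lit 0x92bd4d53df4) (nat_lit 0x2092ad41) (nat_lit 0) (.node (.node (.node (.node .nil (nat_lit
  0x92bd4d53f32) (nat_lit 0x1059d46) (nat_lit 0) .nil) (nat_lit 0x92bd4d53f6e) (nat_lit 0x45c0c7) (nat_lit 0)
  (.node .nil (nat_lit 0x92bd4d54137) (nat_lit 0x1049561) (nat_lit 0) .nil)) (nat_lit 0x92bd4d5434a) (nat_lit
  0x103a481) (nat_lit 0) (.node (.node .nil (nat_lit 0x92bd4d545e0) (nat_lit 531585) (nat_lit 0) .nil)
  (nat_lit 0x92bd4d54633) (nat_lit 0x10524e1) (nat_lit 0) (.node .nil (nat_lit 0x92bd4d54890) (nat_lit 115015)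
  (nat_lit 0) .nil))) (nat_lit 0x92bd4d54a3f) (nat_lit 82245) (nat_lit 0) (.node (.node (.node .nil (nat_lit
  0x92bd4d54cd7) (nat_lit 0x2828a9) (nat_lit 0) .nil) (nat_lit 0x92bd4d54d2f) (nat_lit 245953) (nat_lit 0)
  (.node .nil (nat_lit 0x92bd4d54f85) (nat_lit 303184) (nat_lit 0) .nil)) (nat_lit 0x92bd4d552d7) (nat_lit
  0xb340a3) (nat_lit 0) (.node (.node .nil (nat_lit 0x92bd4d55417) (nat_lit 0x85a4d0) (nat_lit 0) .nil)
  (nat_lit 0x92bd4d5544d) (nat_lit 0x20752d21) (nat_lit 0) (.node .nil (nat_lit 0x92bd4d55616) (nat_lit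
  0x103a961) (nat_lit 0) .nil))))) (nat_lit 0x92bd4d55b71) (nat_lit 0x20a5a4a2) (nat_lit 0) (.node (.node
  (.node (.node (.node .nil (nat_lit 0x92bd4d55bd5) (nat_lit 0x105a902) (nat_lit 279978) .nil) (nat_lit
  0x92bd4d55c26) (nat_lit 175620) (nat_lit 0) (.node .nil (nat_lit 0x92bd4d55c84) (nat_lit 0x55c124) (nat_lit
  0) .nil)) (nat_lit 0x92bd4d55e0e) (nat_lit 409925) (nat_lit 0) (.node (.node .nil (nat_lit 0x92bd4d55ed6)
  (nat_lit 307408) (nat_lit 0) .nil) (nat_lit 0x92bd4d55fa3) (nat_lit 396805) (nat_lit 0) (.node .nil (nat_lit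
  0x92bd4d562e0) (nat_lit 0xc828a9) (nat_lit 0) .nil))) (nat_lit 0x92bd4d564f1) (nat_lit 533612) (nat_lit 0)
  (.node (.node (.node .nil (nat_lit 0x92bd4d564f5) (nat_lit 0x102a987) (nat_lit 0) .nil) (nat_lit
  0x92bd4d56761) (nat_lit 0x1048d8a) (nat_lit 0) (.node .nil (nat_lit 0x92bd4d56970) (nat_lit 0x382186)
  (nat_lit 0) .nil)) (nat_lit 0x92bd4d56fde) (nat_lit 0x681521) (nat_lit 0) (.node (.node .nil (nat_lit
  0x92bd4d56ffb) (nat_lit 0x851a09) (nat_lit 0) .nil) (nat_lit 0x92bd4d570ee) (nat_lit 213153) (nat_lit 0)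
  (.node .nil (nat_lit 0x92bd4d571d8) (nat_lit 272592) (nat_lit 0) .nil)))) (nat_lit 0x92bd4d81710) (nat_lit
  0x1061d41) (nat_lit 0) (.node (.node (.node (.node .nil (nat_lit 0x92bd4d8180c) (nat_lit 0x1061d21) (nat_lit
  0) .nil) (nat_lit 0x92bd4d81a04) (nat_lit 0x102a92c) (nat_lit 0) (.node .nil (nat_lit 0x92bd4d81a99)
  (nat_lit 536801) (nat_lit 0) .nil)) (nat_lit 0x92bd4d81e03) (nat_lit 0x481d89) (nat_lit 0) (.node (.node
  .nil (nat_lit 0x92bd4d820f4) (nat_lit 147692) (nat_lit 0) .nil) (nat_lit 0x92bd4d82190) (nat_lit 0x20c51d21)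
  (nat_lit 0) (.node .nil (nat_lit 0x92bd4d822ee) (nat_lit 0x10628e1) (nat_lit 0) .nil))) (nat_lit
  0x92bd4d846d4) (nat_lit 0xa2320b) (nat_lit 0) (.node (.node (.node .nil (nat_lit 0x92bd4d84774) (nat_lit
  0xc49570) (nat_lit 0) .nil) (nat_lit 0x92bd4d84ad4) (nat_lit 0x2092b147) (nat_lit 0) (.node .nil (nat_lit
  0x92bd4d84c99) (nat_lit 0x63c184) (nat_lit 0) .nil)) (nat_lit 0x92bd4d84dc7) (nat_lit 0x104b0e5) (nat_lit 0)
  (.node (.node .nil (nat_lit 0x92bd4d84e6b) (nat_lit 534914) (nat_lit 0) .nil) (nat_lit 0x92bd4d851c9)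
  (nat_lit 0x1053142) (nat_lit 0) (.node .nil (nat_lit 0x92bd4d85382) (nat_lit 0x1053122) (nat_lit 0)
  .nil)))))) (nat_lit 0x92bd4d92986) (nat_lit 0x92c185) (nat_lit 0) (.node (.node (.node (.node (.node (.node
  .nil (nat_lit 0x92bd4d92ab2) (nat_lit 0x14683122) (nat_lit 0) .nil) (nat_lit 0x92bd4d92b66) (nat_lit 278918)
  (nat_lit 0) (.node .nil (nat_lit 0x92bd4d92b8b) (nat_lit 0xa34182) (nat_lit 0) .nil)) (nat_lit
  0x92bd4d9307b) (nat_lit 0x1053107) (nat_lit 0) (.node (.node .nil (nat_lit 0x92bd4d9313c) (nat_lit 232972)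
  (nat_lit 0) .nil) (nat_lit 0x92bd4d931b7) (nat_lit 0x12c82964) (nat_lit 0) (.node .nil (nat_lit
  0x92bd4d93288) (nat_lit 0x71c189) (nat_lit 0) .nil))) (nat_lit 0x92bd4d9357d) (nat_lit 0x10520ac) (nat_lit
  0) (.node (.node (.node .nil (nat_lit 0x92bd4d9377d) (nat_lit 0x64b20b) (nat_lit 0) .nil) (nat_lit
  0x92bd4d938c7) (nat_lit 0x1061cc4) (nat_lit 0) (.node .nil (nat_lit 0x92bd4d9396d) (nat_lit 0x1493c181)
  (nat_lit 0) .nil)) (nat_lit 0x92bd4d93c72) (nat_lit 0x92c187) (nat_lit 0) (.node (.node .nil (nat_lit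
  0x92bd4d93e23) (nat_lit 530668) (nat_lit 0) .nil) (nat_lit 0x92bd4d93e6e) (nat_lit 0x1031d8a) (nat_lit 0)
  (.node .nil (nat_lit 0x92bd4d93fbe) (nat_lit 0x93c14c) (nat_lit 0) .nil)))) (nat_lit 0x92bd4d9433e) (nat_lit
  534727) (nat_lit 0) (.node (.node (.node (.node .nil (nat_lit 0x92bd4d94598) (nat_lit 0x10518e9) (nat_lit 0)
  .nil) (nat_lit 0x92bd4d945d3) (nat_lit 16614) (nat_lit 0) (.node .nil (nat_lit 0x92bd4d9479f) (nat_lit
  531657) (nat_lit 0) .nil)) (nat_lit 0x92bd4d94ac6) (nat_lit 302596) (nat_lit 0) (.node (.node .nil (nat_lit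
  0x92bd4d94c87) (nat_lit 8710) (nat_lit 0) .nil) (nat_lit 0x92bd4d94cfc) (nat_lit 0xa49e02) (nat_lit 0)
  (.node .nil (nat_lit 0x92bd4d94e94) (nat_lit 534725) (nat_lit 0) .nil))) (nat_lit 0x92bd4d95355) (nat_lit
  0x783141) (nat_lit 0) (.node (.node (.node .nil (nat_lit 0x92bd4d95379) (nat_lit 0xf062921) (nat_lit 0)
  .nil) (nat_lit 0x92bd4d954a0) (nat_lit 246145) (nat_lit 0) (.node .nil (nat_lit 0x92bd4d95561) (nat_lit
  0x783121) (nat_lit 0) .nil)) (nat_lit 0x92bd4d95a46) (nat_lit 0x1033125) (nat_lit 0) (.node (.node .nil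
  (nat_lit 0x92bd4d95b95) (nat_lit 0x12c82963) (nat_lit 0) .nil) (nat_lit 0x92bd4d95c3d) (nat_lit 245900)
  (nat_lit 0) (.node .nil (nat_lit 0x92bd4d95c5e) (nat_lit 0x102b146) (nat_lit 0) .nil))))) (nat_lit
  0x92bd4d95f56) (nat_lit 0xb24127) (nat_lit 0) (.node (.node (.node (.node (.node .nil (nat_lit
  0x92bd4d96247) (nat_lit 367112) (nat_lit 0) .nil) (nat_lit 0x92bd4d96278) (nat_lit 0x95a8f0) (nat_lit 0)
  (.node .nil (nat_lit 0x92bd4d9637a) (nat_lit 0xa59a05) (nat_lit 0) .nil)) (nat_lit 0x92bd4d9664f) (nat_lit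
  0xa5c0e6) (nat_lit 570499) (.node (.node .nil (nat_lit 0x92bd4d96850) (nat_lit 0x2095a902) (nat_lit 0) .nil)
  (nat_lit 0x92bd4d96959) (nat_lit 204299) (nat_lit 0) (.node .nil (nat_lit 0x92bd4d96a71) (nat_lit 0x582562)
  (nat_lit 0) .nil))) (nat_lit 0x92bd4d96c12) (nat_lit 409769) (nat_lit 0) (.node (.node (.node .nil (nat_lit
  0x92bd4d96c1e) (nat_lit 409770) (nat_lit 0) .nil) (nat_lit 0x92bd4d96e1d) (nat_lit 0xc81549) (nat_lit 0)
  (.node .nil (nat_lit 0x92bd4d96efc) (nat_lit 12805) (nat_lit 0) .nil)) (nat_lit 0x92bd4d97677) (nat_lit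
  0xc82149) (nat_lit 0) (.node (.node .nil (nat_lit 0x92bd4d976dc) (nat_lit 409865) (nat_lit 0) .nil) (nat_lit
  0x92bd4d97766) (nat_lit 12808) (nat_lit 0) (.node .nil (nat_lit 0x92bd4d97840) (nat_lit 409866) (nat_lit 0)
  .nil)))) (nat_lit 0x92bd4d97aa0) (nat_lit 0xc82989) (nat_lit 0) (.node (.node (.node (.node .nil (nat_lit
  0x92bd4d97aae) (nat_lit 409932) (nat_lit 17827) .nil) (nat_lit 0x92bd4d97cda) (nat_lit 0xb39a03) (nat_lit 0)
  (.node .nil (nat_lit 0x92bd4d97f84) (nat_lit 0x95c102) (nat_lit 0) .nil)) (nat_lit 0x92bd4d981a3) (nat_lit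
  0x1022d27) (nat_lit 0) (.node (.node .nil (nat_lit 0x92bd4d98261) (nat_lit 0xb240e1) (nat_lit 0) .nil)
  (nat_lit 0x92bd4d9852d) (nat_lit 0x17051d22) (nat_lit 0) (.node .nil (nat_lit 0x92bd4d98679) (nat_lit
  0xb828e2) (nat_lit 0) .nil))) (nat_lit 0x92bd4d987ba) (nat_lit 0x105a583) (nat_lit 0) (.node (.node (.node
  .nil (nat_lit 0x92bd4d988aa) (nat_lit 0x5640c4) (nat_lit 0) .nil) (nat_lit 0x92bd4d98b8b) (nat_lit 0xa33209)
  (nat_lit 0) (.node .nil (nat_lit 0x92bd4d98cd2) (nat_lit 334224) (nat_lit 0) .nil)) (nat_lit 0x92bd4d99263)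
  (nat_lit 268656) (nat_lit 0) (.node (.node .nil (nat_lit 0x92bd4d99313) (nat_lit 0xa5c0e9) (nat_lit 0) .nil)
  (nat_lit 0x92bd4d993ad) (nat_lit 0x95c0c8) (nat_lit 0) (.node .nil (nat_lit 0x92bd4d99447) (nat_lit 339463)
  (nat_lit 0) .nil)))))))
def tT_43 : T := (.node (.node (.node (.node (.node (.node (.node .nil (nat_lit 0x92bd4d9eb81) (nat_lit
  0x20a4b0a2) (nat_lit 0) .nil) (nat_lit 0x92bd4d9ec5f) (nat_lit 528775) (nat_lit 0) (.node .nil (nat_lit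
  0x92bd4d9ee48) (nat_lit 0x383147) (nat_lit 0) .nil)) (nat_lit 0x92bd4d9f037) (nat_lit 0x1023147) (nat_lit 0)
  (.node (.node .nil (nat_lit 0x92bd4d9f163) (nat_lit 0x10624e2) (nat_lit 0) .nil) (nat_lit 0x92bd4d9f354)
  (nat_lit 0x20a2a581) (nat_lit 0) (.node .nil (nat_lit 0x92bd4d9f3f4) (nat_lit 115079) (nat_lit 0) .nil)))
  (nat_lit 0x92bd4d9f71e) (nat_lit 409893) (nat_lit 0) (.node (.node (.node .nil (nat_lit 0x92bd4d9f84f)
  (nat_lit 403728) (nat_lit 0) .nil) (nat_lit 0x92bd4d9f95a) (nat_lit 397829) (nat_lit 0) (.node .nil (nat_lit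
  0x92bd4d9fc59) (nat_lit 0xc52209) (nat_lit 0) .nil)) (nat_lit 0x92bd4d9feee) (nat_lit 180518) (nat_lit 0)
  (.node (.node .nil (nat_lit 0x92bd4da01f5) (nat_lit 530691) (nat_lit 0) .nil) (nat_lit 0x92bd4da01f9)
  (nat_lit 0x1032909) (nat_lit 0) (.node .nil (nat_lit 0x92bd4da0387) (nat_lit 530760) (nat_lit 0) .nil))))
  (nat_lit 0x92bd4da0886) (nat_lit 0x105250c) (nat_lit 0) (.node (.node (.node (.node .nil (nat_lit
  0x92bd4da08fa) (nat_lit 0x681583) (nat_lit 0) .nil) (nat_lit 0x92bd4da093b) (nat_lit 0x1032983) (nat_lit 0)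
  (.node .nil (nat_lit 0x92bd4da09cd) (nat_lit 0xb4b090) (nat_lit 0) .nil)) (nat_lit 0x92bd4da0c44) (nat_lit
  536810) (nat_lit 0) (.node (.node .nil (nat_lit 0x92bd4da0d40) (nat_lit 536809) (nat_lit 0) .nil) (nat_lit
  0x92bd4da0f33) (nat_lit 0x1061d49) (nat_lit 0) (.node .nil (nat_lit 0x92bd4da10b6) (nat_lit 16775) (nat_lit
  0) .nil))) (nat_lit 0x92bd4da132f) (nat_lit 0x10624e4) (nat_lit 0) (.node (.node (.node .nil (nat_lit
  0x92bd4da1626) (nat_lit 0x481d81) (nat_lit 0) .nil) (nat_lit 0x92bd4da17a7) (nat_lit 0x10628e9) (nat_lit 0)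
  (.node .nil (nat_lit 0x92bd4da181c) (nat_lit 536903) (nat_lit 0) .nil)) (nat_lit 0x92bd4da1d65) (nat_lit
  0x105198a) (nat_lit 0) (.node (.node .nil (nat_lit 0x92bd4da1ddd) (nat_lit 0x1051989) (nat_lit 0) .nil)
  (nat_lit 0x92bd4da1e20) (nat_lit 0x683125) (nat_lit 0) (.node .nil (nat_lit 0x92bd4da1eb0) (nat_lit 534732)
  (nat_lit 0) .nil))))) (nat_lit 0x92bd4da23d7) (nat_lit 0x652209) (nat_lit 0) (.node (.node (.node (.node
  (.node .nil (nat_lit 0x92bd4da2522) (nat_lit 201221) (nat_lit 0) .nil) (nat_lit 0x92bd4da25b4) (nat_lit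
  213285) (nat_lit 0) (.node .nil (nat_lit 0x92bd4da2677) (nat_lit 207120) (nat_lit 0) .nil)) (nat_lit
  0x92bd4da28b7) (nat_lit 0xb49a08) (nat_lit 0) (.node (.node .nil (nat_lit 0x92bd4da28d2) (nat_lit
  0x20b51d22) (nat_lit 0) .nil) (nat_lit 0x92bd4da2b7b) (nat_lit 365063) (nat_lit 0) (.node .nil (nat_lit
  0x92bd4da2d7e) (nat_lit 0x105a8e2) (nat_lit 0) .nil))) (nat_lit 0x92bd4da2fae) (nat_lit 0xc82981) (nat_lit
  557) (.node (.node (.node .nil (nat_lit 0x92bd4da2fc1) (nat_lit 0x63c163) (nat_lit 0) .nil) (nat_lit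
  0x92bd4da3270) (nat_lit 0x19053121) (nat_lit 0) (.node .nil (nat_lit 0x92bd4da3475) (nat_lit 0x104ad02)
  (nat_lit 0) .nil)) (nat_lit 0x92bd4da38b8) (nat_lit 176) (nat_lit 0) (.node (.node .nil (nat_lit
  0x92bd4da3a05) (nat_lit 534824) (nat_lit 0) .nil) (nat_lit 0x92bd4da3a95) (nat_lit 5642) (nat_lit 0) (.node
  .nil (nat_lit 0x92bd4da3b58) (nat_lit 5641) (nat_lit 0) .nil)))) (nat_lit 0x92bd4da3db1) (nat_lit 180610)
  (nat_lit 0) (.node (.node (.node (.node .nil (nat_lit 0x92bd4da4007) (nat_lit 0x583142) (nat_lit 0) .nil)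
  (nat_lit 0x92bd4da40b2) (nat_lit 0x1062928) (nat_lit 0) (.node .nil (nat_lit 0x92bd4da4219) (nat_lit
  0x583122) (nat_lit 0) .nil)) (nat_lit 0x92bd4da44a8) (nat_lit 0x1062909) (nat_lit 0) (.node (.node .nil
  (nat_lit 0x92bd4da46fc) (nat_lit 0x1062123) (nat_lit 0) .nil) (nat_lit 0x92bd4da47a7) (nat_lit 536835)
  (nat_lit 0) (.node .nil (nat_lit 0x92bd4da4912) (nat_lit 536904) (nat_lit 0) .nil))) (nat_lit 0x92bd4da4a87)
  (nat_lit 0xc4960b) (nat_lit 0) (.node (.node (.node .nil (nat_lit 0x92bd4da4ac6) (nat_lit 0x482982) (nat_lit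
  0) .nil) (nat_lit 0x92bd4da4e40) (nat_lit 0x9053122) (nat_lit 0) (.node .nil (nat_lit 0x92bd4da4fb1)
  (nat_lit 0xc783081) (nat_lit 0) .nil)) (nat_lit 0x92bd4da517e) (nat_lit 340491) (nat_lit 0) (.node (.node
  .nil (nat_lit 0x92bd4da51b9) (nat_lit 0xc82568) (nat_lit 0) .nil) (nat_lit 0x92bd4da552f) (nat_lit 0x734183)
  (nat_lit 0) (.node .nil (nat_lit 0x92bd4da56a2) (nat_lit 0xa64169) (nat_lit 0) .nil)))))) (nat_lit
  0x92bd4da5b44) (nat_lit 5635) (nat_lit 0) (.node (.node (.node (.node (.node (.node .nil (nat_lit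
  0x92bd4da5c5a) (nat_lit 333321) (nat_lit 0) .nil) (nat_lit 0x92bd4da5d64) (nat_lit 10416) (nat_lit 0) (.node
  .nil (nat_lit 0x92bd4da5e0d) (nat_lit 16680) (nat_lit 0) .nil)) (nat_lit 0x92bd4da6060) (nat_lit 0xc82983)
  (nat_lit 17828) (.node (.node .nil (nat_lit 0x92bd4da60d3) (nat_lit 367824) (nat_lit 0) .nil) (nat_lit
  0x92bd4da62e5) (nat_lit 0x12b82902) (nat_lit 0) (.node .nil (nat_lit 0x92bd4da6528) (nat_lit 0x54ae02)
  (nat_lit 0) .nil))) (nat_lit 0x92bd4da6757) (nat_lit 0x1022ce9) (nat_lit 0) (.node (.node (.node .nil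
  (nat_lit 0x92bd4da67ca) (nat_lit 0x12b51e01) (nat_lit 0) .nil) (nat_lit 0x92bd4da6ad2) (nat_lit 528743)
  (nat_lit 0) (.node .nil (nat_lit 0x92bd4da6c1f) (nat_lit 0x1022cea) (nat_lit 0) .nil)) (nat_lit
  0x92bd4da7025) (nat_lit 0xd0524a1) (nat_lit 0) (.node (.node .nil (nat_lit 0x92bd4da713b) (nat_lit 205313)
  (nat_lit 0) .nil) (nat_lit 0x92bd4da7245) (nat_lit 0x644121) (nat_lit 0) (.node .nil (nat_lit 0x92bd4da72ee)
  (nat_lit 0x644141) (nat_lit 0) .nil)))) (nat_lit 0x92bd4da7794) (nat_lit 0x764081) (nat_lit 0) (.node (.node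
  (.node (.node .nil (nat_lit 0x92bd4da786d) (nat_lit 0xec82481) (nat_lit 0) .nil) (nat_lit 0x92bd4da7973)
  (nat_lit 0x18a3c121) (nat_lit 0) (.node .nil (nat_lit 0x92bd4da79c8) (nat_lit 0xc51e01) (nat_lit 0) .nil))
  (nat_lit 0x92bd4da7b5b) (nat_lit 0xb82583) (nat_lit 0) (.node (.node .nil (nat_lit 0x92bd4da7f0b) (nat_lit
  0xc820c3) (nat_lit 0) .nil) (nat_lit 0x92bd4da7f9c) (nat_lit 0xa61a09) (nat_lit 0) (.node .nil (nat_lit
  0x92bd4da8072) (nat_lit 340176) (nat_lit 0) .nil))) (nat_lit 0x92bd4da8270) (nat_lit 0xc81521) (nat_lit 0)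
  (.node (.node (.node .nil (nat_lit 0x92bd4da8292) (nat_lit 0xc81541) (nat_lit 0) .nil) (nat_lit
  0x92bd4da85d4) (nat_lit 409761) (nat_lit 0) (.node .nil (nat_lit 0x92bd4da86fe) (nat_lit 0x1902a921)
  (nat_lit 0) .nil)) (nat_lit 0x92bd4da89f9) (nat_lit 0xc1c0e6) (nat_lit 0) (.node (.node .nil (nat_lit
  0x92bd4da8c89) (nat_lit 534923) (nat_lit 0) .nil) (nat_lit 0x92bd4da8dce) (nat_lit 0x961cb0) (nat_lit 0)
  (.node .nil (nat_lit 0x92bd4da8e00) (nat_lit 0x1053169) (nat_lit 0) .nil))))) (nat_lit 0x92bd4da93ec)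
  (nat_lit 0x644181) (nat_lit 0) (.node (.node (.node (.node (.node .nil (nat_lit 0x92bd4da9439) (nat_lit
  0x104292c) (nat_lit 0) .nil) (nat_lit 0x92bd4da944b) (nat_lit 0xb4b202) (nat_lit 0) (.node .nil (nat_lit
  0x92bd4da95a2) (nat_lit 0x382986) (nat_lit 0) .nil)) (nat_lit 0x92bd4da9743) (nat_lit 0x103b124) (nat_lit 0)
  (.node (.node .nil (nat_lit 0x92bd4da9a61) (nat_lit 531844) (nat_lit 0) .nil) (nat_lit 0x92bd4da9bd5)
  (nat_lit 0x20a49582) (nat_lit 0) (.node .nil (nat_lit 0x92bd4da9c5f) (nat_lit 0x103b144) (nat_lit 0) .nil)))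
  (nat_lit 0x92bd4da9e38) (nat_lit 0x103b143) (nat_lit 0) (.node (.node (.node .nil (nat_lit 0x92bd4da9f6d)
  (nat_lit 0x103b123) (nat_lit 0) .nil) (nat_lit 0x92bd4daa156) (nat_lit 0x105152c) (nat_lit 0) (.node .nil
  (nat_lit 0x92bd4daa2cc) (nat_lit 531843) (nat_lit 0) .nil)) (nat_lit 0x92bd4daa8cb) (nat_lit 0xa2c12c)
  (nat_lit 0) (.node (.node .nil (nat_lit 0x92bd4daa91c) (nat_lit 0x6830a2) (nat_lit 0) .nil) (nat_lit
  0x92bd4daa934) (nat_lit 0x782985) (nat_lit 0) (.node .nil (nat_lit 0x92bd4daaa85) (nat_lit 0xb4b204)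
  (nat_lit 0) .nil)))) (nat_lit 0x92bd4daaefb) (nat_lit 0x14c24123) (nat_lit 0) (.node (.node (.node (.node
  .nil (nat_lit 0x92bd4dab02b) (nat_lit 0xc824c7) (nat_lit 0) .nil) (nat_lit 0x92bd4dab0b1) (nat_lit
  0x8c81cc1) (nat_lit 0) (.node .nil (nat_lit 0x92bd4dab170) (nat_lit 0xa61203) (nat_lit 0) .nil)) (nat_lit
  0x92bd4dab30f) (nat_lit 0xc824a1) (nat_lit 0) (.node (.node .nil (nat_lit 0x92bd4dab443) (nat_lit 0xc52201)
  (nat_lit 0) .nil) (nat_lit 0x92bd4dab7b4) (nat_lit 401923) (nat_lit 0) (.node .nil (nat_lit 0x92bd4dab846)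
  (nat_lit 0x18a44121) (nat_lit 0) .nil))) (nat_lit 0x92bd4dabb68) (nat_lit 0x5824c1) (nat_lit 0) (.node
  (.node (.node .nil (nat_lit 0x92bd4dabce4) (nat_lit 0xa2c0c9) (nat_lit 0) .nil) (nat_lit 0x92bd4dabde3)
  (nat_lit 114888) (nat_lit 0) (.node .nil (nat_lit 0x92bd4dabfc5) (nat_lit 333318) (nat_lit 0) .nil))
  (nat_lit 0x92bd4dac484) (nat_lit 0x16a3c122) (nat_lit 0) (.node (.node .nil (nat_lit 0x92bd4dac54d) (nat_lit
  246116) (nat_lit 0) .nil) (nat_lit 0x92bd4dac5fc) (nat_lit 0x104ace4) (nat_lit 0) (.node .nil (nat_lit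
  0x92bd4dac683) (nat_lit 0xb51e02) (nat_lit 0) .nil)))))))
def tT_44 : T := (.node (.node (.node (.node (.node (.node (.node .nil (nat_lit 0x92bd4dac944) (nat_lit
  0x20a4b101) (nat_lit 0) .nil) (nat_lit 0x92bd4dacc1b) (nat_lit 0x1051984) (nat_lit 0) (.node .nil (nat_lit
  0x92bd4dacd16) (nat_lit 0x16923201) (nat_lit 0) .nil)) (nat_lit 0x92bd4dad349) (nat_lit 0x1495c102) (nat_lit
  0) (.node (.node .nil (nat_lit 0x92bd4dad361) (nat_lit 0x1059cc3) (nat_lit 0) .nil) (nat_lit 0x92bd4dad3bc)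
  (nat_lit 0x20c53162) (nat_lit 17933) (.node .nil (nat_lit 0x92bd4dad495) (nat_lit 0x942e02) (nat_lit 0)
  .nil))) (nat_lit 0x92bd4dad91f) (nat_lit 0x832e03) (nat_lit 0) (.node (.node (.node .nil (nat_lit
  0x92bd4dada59) (nat_lit 0xa5c127) (nat_lit 0) .nil) (nat_lit 0x92bd4dadab1) (nat_lit 0xb34125) (nat_lit 0)
  (.node .nil (nat_lit 0x92bd4dadb8c) (nat_lit 0xa5c0e3) (nat_lit 0) .nil)) (nat_lit 0x92bd4daddf4) (nat_lit
  0x20a33122) (nat_lit 0) (.node (.node .nil (nat_lit 0x92bd4dade27) (nat_lit 0x644183) (nat_lit 0) .nil)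
  (nat_lit 0x92bd4dae039) (nat_lit 0x1051982) (nat_lit 0) (.node .nil (nat_lit 0x92bd4dae0f8) (nat_lit
  0xb48d90) (nat_lit 0) .nil)))) (nat_lit 0x92bd4dae404) (nat_lit 0x204624e1) (nat_lit 0) (.node (.node (.node
  (.node .nil (nat_lit 0x92bd4dae4b4) (nat_lit 0x4830e1) (nat_lit 0) .nil) (nat_lit 0x92bd4dae87a) (nat_lit
  0xa4412c) (nat_lit 0) (.node .nil (nat_lit 0x92bd4dae8f7) (nat_lit 0xc82d47) (nat_lit 0) .nil)) (nat_lit
  0x92bd4daee3a) (nat_lit 0x544187) (nat_lit 0) (.node (.node .nil (nat_lit 0x92bd4daeef3) (nat_lit 0x93c187)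
  (nat_lit 0) .nil) (nat_lit 0x92bd4daef65) (nat_lit 0x20a61922) (nat_lit 0) (.node .nil (nat_lit
  0x92bd4daf011) (nat_lit 0x10530c2) (nat_lit 0) .nil))) (nat_lit 0x92bd4daf1f4) (nat_lit 0x1023127) (nat_lit
  0) (.node (.node (.node .nil (nat_lit 0x92bd4daf3ae) (nat_lit 0x14882581) (nat_lit 0) .nil) (nat_lit
  0x92bd4daf4ba) (nat_lit 147847) (nat_lit 0) (.node .nil (nat_lit 0x92bd4daf6df) (nat_lit 0x10628e2) (nat_lit
  0) .nil)) (nat_lit 0x92bd4daf8eb) (nat_lit 0x103b141) (nat_lit 0) (.node (.node .nil (nat_lit 0x92bd4daf9e5)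
  (nat_lit 0x103b121) (nat_lit 0) .nil) (nat_lit 0x92bd4dafaa5) (nat_lit 531841) (nat_lit 0) (.node .nil
  (nat_lit 0x92bd4dafbb3) (nat_lit 0x20762921) (nat_lit 0) .nil))))) (nat_lit 0x92bd4db031d) (nat_lit
  0x1052588) (nat_lit 0) (.node (.node (.node (.node (.node .nil (nat_lit 0x92bd4db03d4) (nat_lit 0x10530c4)
  (nat_lit 0) .nil) (nat_lit 0x92bd4db0444) (nat_lit 0x61c185) (nat_lit 0) (.node .nil (nat_lit 0x92bd4db04f2)
  (nat_lit 0xb49190) (nat_lit 0) .nil)) (nat_lit 0x92bd4db06db) (nat_lit 531850) (nat_lit 0) (.node (.node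
  .nil (nat_lit 0x92bd4db0781) (nat_lit 0x103b149) (nat_lit 0) .nil) (nat_lit 0x92bd4db07d5) (nat_lit 531849)
  (nat_lit 0) (.node .nil (nat_lit 0x92bd4db0b4f) (nat_lit 16620) (nat_lit 0) .nil))) (nat_lit 0x92bd4db0cd0)
  (nat_lit 0x102a587) (nat_lit 0) (.node (.node (.node .nil (nat_lit 0x92bd4db0d6e) (nat_lit 0x482981)
  (nat_lit 0) .nil) (nat_lit 0x92bd4db1127) (nat_lit 0x9053121) (nat_lit 0) (.node .nil (nat_lit
  0x92bd4db129a) (nat_lit 0x734184) (nat_lit 0) .nil)) (nat_lit 0x92bd4db15a3) (nat_lit 180612) (nat_lit 0)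
  (.node (.node .nil (nat_lit 0x92bd4db182e) (nat_lit 0x209628c1) (nat_lit 0) .nil) (nat_lit 0x92bd4db1893)
  (nat_lit 0x583124) (nat_lit 0) (.node .nil (nat_lit 0x92bd4db19e9) (nat_lit 0x1062902) (nat_lit 0) .nil))))
  (nat_lit 0x92bd4db1b63) (nat_lit 0xc4acb0) (nat_lit 0) (.node (.node (.node (.node .nil (nat_lit
  0x92bd4db1b9f) (nat_lit 147788) (nat_lit 0) .nil) (nat_lit 0x92bd4db1d12) (nat_lit 0x482989) (nat_lit 0)
  (.node .nil (nat_lit 0x92bd4db208a) (nat_lit 0x783107) (nat_lit 0) .nil)) (nat_lit 0x92bd4db240a) (nat_lit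
  0x1043123) (nat_lit 0) (.node (.node .nil (nat_lit 0x92bd4db24ba) (nat_lit 0x104b146) (nat_lit 0) .nil)
  (nat_lit 0x92bd4db2709) (nat_lit 532867) (nat_lit 0) (.node .nil (nat_lit 0x92bd4db27d1) (nat_lit 0x1043143)
  (nat_lit 0) .nil))) (nat_lit 0x92bd4db2a31) (nat_lit 0x583141) (nat_lit 0) (.node (.node (.node .nil
  (nat_lit 0x92bd4db2baf) (nat_lit 180609) (nat_lit 0) .nil) (nat_lit 0x92bd4db2e00) (nat_lit 0xa6412b)
  (nat_lit 0) (.node .nil (nat_lit 0x92bd4db2ec6) (nat_lit 0x583121) (nat_lit 0) .nil)) (nat_lit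
  0x92bd4db3048) (nat_lit 534913) (nat_lit 0) (.node (.node .nil (nat_lit 0x92bd4db3082) (nat_lit 0x1049d85)
  (nat_lit 0) .nil) (nat_lit 0x92bd4db30ff) (nat_lit 0x1053141) (nat_lit 0) (.node .nil (nat_lit
  0x92bd4db355d) (nat_lit 0x1053121) (nat_lit 0) .nil)))))) (nat_lit 0x92bd4db3870) (nat_lit 0x583149)
  (nat_lit 0) (.node (.node (.node (.node (.node (.node .nil (nat_lit 0x92bd4db3af9) (nat_lit 5644) (nat_lit
  0) .nil) (nat_lit 0x92bd4db3b5c) (nat_lit 180618) (nat_lit 0) (.node .nil (nat_lit 0x92bd4db3cae) (nat_lit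
  180617) (nat_lit 0) .nil)) (nat_lit 0x92bd4db3d8b) (nat_lit 16716) (nat_lit 0) (.node (.node .nil (nat_lit
  0x92bd4db3d94) (nat_lit 0x104b0a7) (nat_lit 0) .nil) (nat_lit 0x92bd4db41dc) (nat_lit 534922) (nat_lit 0)
  (.node .nil (nat_lit 0x92bd4db434d) (nat_lit 534921) (nat_lit 0) .nil))) (nat_lit 0x92bd4db45a9) (nat_lit
  0xc82982) (nat_lit 0) (.node (.node (.node .nil (nat_lit 0x92bd4db4877) (nat_lit 0xb31e03) (nat_lit 0) .nil)
  (nat_lit 0x92bd4db48e3) (nat_lit 0x95c10a) (nat_lit 0) (.node .nil (nat_lit 0x92bd4db4af1) (nat_lit 306696)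
  (nat_lit 0) .nil)) (nat_lit 0x92bd4db4ca0) (nat_lit 0xb824e4) (nat_lit 0) (.node (.node .nil (nat_lit
  0x92bd4db4fd8) (nat_lit 147815) (nat_lit 0) .nil) (nat_lit 0x92bd4db508f) (nat_lit 0xb828e9) (nat_lit 0)
  (.node .nil (nat_lit 0x92bd4db51e8) (nat_lit 377159) (nat_lit 0) .nil)))) (nat_lit 0x92bd4db567c) (nat_lit
  0xa340a9) (nat_lit 0) (.node (.node (.node (.node .nil (nat_lit 0x92bd4db5772) (nat_lit 268803) (nat_lit 0)
  .nil) (nat_lit 0x92bd4db5800) (nat_lit 0x6824a2) (nat_lit 0) (.node .nil (nat_lit 0x92bd4db58a5) (nat_lit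
  334341) (nat_lit 0) .nil)) (nat_lit 0x92bd4db5d78) (nat_lit 5634) (nat_lit 0) (.node (.node .nil (nat_lit
  0x92bd4db5e69) (nat_lit 0x1052502) (nat_lit 0) .nil) (nat_lit 0x92bd4db5ef5) (nat_lit 180546) (nat_lit 0)
  (.node .nil (nat_lit 0x92bd4db5f9a) (nat_lit 180514) (nat_lit 0) .nil))) (nat_lit 0x92bd4db617e) (nat_lit
  0xc5320b) (nat_lit 0) (.node (.node (.node .nil (nat_lit 0x92bd4db644d) (nat_lit 0x734163) (nat_lit 0) .nil)
  (nat_lit 0x92bd4db6464) (nat_lit 0x104ad0a) (nat_lit 0) (.node .nil (nat_lit 0x92bd4db66be) (nat_lit 533864)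
  (nat_lit 0) .nil)) (nat_lit 0x92bd4db6873) (nat_lit 0x105a4e4) (nat_lit 0) (.node (.node .nil (nat_lit
  0x92bd4db6b5b) (nat_lit 142855) (nat_lit 0) .nil) (nat_lit 0x92bd4db6c6f) (nat_lit 0x105a8e9) (nat_lit 0)
  (.node .nil (nat_lit 0x92bd4db6db8) (nat_lit 535879) (nat_lit 0) .nil))))) (nat_lit 0x92bd4db7256) (nat_lit
  0x932910) (nat_lit 0) (.node (.node (.node (.node (.node .nil (nat_lit 0x92bd4db7341) (nat_lit 268400)
  (nat_lit 0) .nil) (nat_lit 0x92bd4db73d9) (nat_lit 0x5824e5) (nat_lit 0) (.node .nil (nat_lit 0x92bd4db748c)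
  (nat_lit 0xa340a1) (nat_lit 0) .nil)) (nat_lit 0x92bd4db794f) (nat_lit 4616) (nat_lit 0) (.node (.node .nil
  (nat_lit 0x92bd4db7a32) (nat_lit 0x934147) (nat_lit 0) .nil) (nat_lit 0x92bd4db7ad0) (nat_lit 334343)
  (nat_lit 0) (.node .nil (nat_lit 0x92bd4db7b83) (nat_lit 213287) (nat_lit 0) .nil))) (nat_lit 0x92bd4db7dbb)
  (nat_lit 0xa34127) (nat_lit 0) (.node (.node (.node .nil (nat_lit 0x92bd4db8008) (nat_lit 6663) (nat_lit 0)
  .nil) (nat_lit 0x92bd4db81c5) (nat_lit 147784) (nat_lit 0) (.node .nil (nat_lit 0x92bd4db827b) (nat_lit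
  82216) (nat_lit 0) .nil)) (nat_lit 0x92bd4db8544) (nat_lit 0xa5c0c7) (nat_lit 0) (.node (.node .nil (nat_lit
  0x92bd4db86f4) (nat_lit 0x95c148) (nat_lit 0) .nil) (nat_lit 0x92bd4db8854) (nat_lit 366832) (nat_lit 0)
  (.node .nil (nat_lit 0x92bd4db8968) (nat_lit 173424) (nat_lit 0) .nil)))) (nat_lit 0x92bd4db8df2) (nat_lit
  213217) (nat_lit 0) (.node (.node (.node (.node .nil (nat_lit 0x92bd4db8eb4) (nat_lit 0xa2c122) (nat_lit 0)
  .nil) (nat_lit 0x92bd4db8fb0) (nat_lit 333314) (nat_lit 0) (.node .nil (nat_lit 0x92bd4db906f) (nat_lit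
  533762) (nat_lit 0) .nil)) (nat_lit 0x92bd4db92b5) (nat_lit 0x1052cc7) (nat_lit 0) (.node (.node .nil
  (nat_lit 0x92bd4db9312) (nat_lit 0x104ad48) (nat_lit 0) .nil) (nat_lit 0x92bd4db9641) (nat_lit 236043)
  (nat_lit 0) (.node .nil (nat_lit 0x92bd4db9775) (nat_lit 180523) (nat_lit 0) .nil))) (nat_lit 0x92bd4db99aa)
  (nat_lit 0x1059d24) (nat_lit 0) (.node (.node (.node .nil (nat_lit 0x92bd4db9d19) (nat_lit 535780) (nat_lit
  0) .nil) (nat_lit 0x92bd4db9d47) (nat_lit 0x105a927) (nat_lit 0) (.node .nil (nat_lit 0x92bd4db9e68)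
  (nat_lit 0x105a8e3) (nat_lit 0) .nil)) (nat_lit 0x92bd4dba2d9) (nat_lit 0x834149) (nat_lit 0) (.node (.node
  .nil (nat_lit 0x92bd4dba39b) (nat_lit 8400) (nat_lit 0) .nil) (nat_lit 0x92bd4dba491) (nat_lit 268809)
  (nat_lit 0) (.node .nil (nat_lit 0x92bd4dba550) (nat_lit 268810) (nat_lit 0) .nil)))))))
def tT_45 : T := (.node (.node (.node (.node (.node (.node (.node .nil (nat_lit 0x92bd4dba9cd) (nat_lit
  0xa424d0) (nat_lit 0) .nil) (nat_lit 0x92bd4dbab8a) (nat_lit 0x834121) (nat_lit 0) (.node .nil (nat_lit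
  0x92bd4dbac40) (nat_lit 0x834141) (nat_lit 0) .nil)) (nat_lit 0x92bd4dbaf03) (nat_lit 0xb81d24) (nat_lit 0)
  (.node (.node .nil (nat_lit 0x92bd4dbb1f6) (nat_lit 377060) (nat_lit 0) .nil) (nat_lit 0x92bd4dbb225)
  (nat_lit 0xb82927) (nat_lit 0) (.node .nil (nat_lit 0x92bd4dbb32d) (nat_lit 0xb828e3) (nat_lit 0) .nil)))
  (nat_lit 0x92bd4dbb49b) (nat_lit 0xc2c126) (nat_lit 0) (.node (.node (.node .nil (nat_lit 0x92bd4dbb5aa)
  (nat_lit 0x14c34122) (nat_lit 0) .nil) (nat_lit 0x92bd4dbb800) (nat_lit 0xc81903) (nat_lit 0) (.node .nil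
  (nat_lit 0x92bd4dbb9af) (nat_lit 0xa61a02) (nat_lit 0) .nil)) (nat_lit 0x92bd4dbbe78) (nat_lit 400900)
  (nat_lit 0) (.node (.node .nil (nat_lit 0x92bd4dbbf98) (nat_lit 0xc3c124) (nat_lit 0) .nil) (nat_lit
  0x92bd4dbc09e) (nat_lit 0x92a990) (nat_lit 0) (.node .nil (nat_lit 0x92bd4dbc0f1) (nat_lit 0xc51e02)
  (nat_lit 0) .nil)))) (nat_lit 0x92bd4dbc284) (nat_lit 0x564126) (nat_lit 0) (.node (.node (.node (.node .nil
  (nat_lit 0x92bd4dbc636) (nat_lit 0x364106) (nat_lit 0) .nil) (nat_lit 0x92bd4dbc6af) (nat_lit 0x14664122)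
  (nat_lit 0) (.node .nil (nat_lit 0x92bd4dbc79d) (nat_lit 0xa33202) (nat_lit 0) .nil)) (nat_lit
  0x92bd4dbcc7e) (nat_lit 0xc3c081) (nat_lit 0) (.node (.node .nil (nat_lit 0x92bd4dbcce9) (nat_lit 0xa640a7)
  (nat_lit 0) .nil) (nat_lit 0x92bd4dbcd6d) (nat_lit 0x933206) (nat_lit 0) (.node .nil (nat_lit 0x92bd4dbce8e)
  (nat_lit 0x12553201) (nat_lit 0) .nil))) (nat_lit 0x92bd4dbd081) (nat_lit 0x20a624e1) (nat_lit 0) (.node
  (.node (.node .nil (nat_lit 0x92bd4dbd0ba) (nat_lit 0x782183) (nat_lit 0) .nil) (nat_lit 0x92bd4dbd16c)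
  (nat_lit 0x102a582) (nat_lit 0) (.node .nil (nat_lit 0x92bd4dbd26f) (nat_lit 0xc828cb) (nat_lit 0) .nil))
  (nat_lit 0x92bd4dbd843) (nat_lit 515) (nat_lit 0) (.node (.node .nil (nat_lit 0x92bd4dbdb43) (nat_lit 16707)
  (nat_lit 0) .nil) (nat_lit 0x92bd4dbdbb8) (nat_lit 16675) (nat_lit 0) (.node .nil (nat_lit 0x92bd4dbdd22)
  (nat_lit 534819) (nat_lit 0) .nil))))) (nat_lit 0x92bd4dbdf39) (nat_lit 0xa440e9) (nat_lit 0) (.node (.node
  (.node (.node (.node .nil (nat_lit 0x92bd4dbe217) (nat_lit 0x1039521) (nat_lit 0) .nil) (nat_lit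
  0x92bd4dbe2a8) (nat_lit 336391) (nat_lit 0) (.node .nil (nat_lit 0x92bd4dbe417) (nat_lit 531617) (nat_lit 0)
  .nil)) (nat_lit 0x92bd4dbe549) (nat_lit 0xc8292c) (nat_lit 17859) (.node (.node .nil (nat_lit 0x92bd4dbe898)
  (nat_lit 0x1042967) (nat_lit 0) .nil) (nat_lit 0x92bd4dbe9c8) (nat_lit 0x104acc4) (nat_lit 0) (.node .nil
  (nat_lit 0x92bd4dbeaf8) (nat_lit 377061) (nat_lit 0) .nil))) (nat_lit 0x92bd4dbf00c) (nat_lit 0xa64141)
  (nat_lit 0) (.node (.node (.node .nil (nat_lit 0x92bd4dbf044) (nat_lit 340481) (nat_lit 0) .nil) (nat_lit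
  0x92bd4dbf107) (nat_lit 0xa64121) (nat_lit 0) (.node .nil (nat_lit 0x92bd4dbf19d) (nat_lit 0xc81927)
  (nat_lit 0) .nil)) (nat_lit 0x92bd4dbf28f) (nat_lit 0xc81522) (nat_lit 0) (.node (.node .nil (nat_lit
  0x92bd4dbf37f) (nat_lit 0xc81542) (nat_lit 0) .nil) (nat_lit 0x92bd4dbf6c1) (nat_lit 409762) (nat_lit 0)
  (.node .nil (nat_lit 0x92bd4dbf7d7) (nat_lit 0x20a62561) (nat_lit 0) .nil)))) (nat_lit 0x92bd4dbfb41)
  (nat_lit 10640) (nat_lit 0) (.node (.node (.node (.node .nil (nat_lit 0x92bd4dbfdf4) (nat_lit 340490)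
  (nat_lit 0) .nil) (nat_lit 0x92bd4dbfebd) (nat_lit 0xa64149) (nat_lit 0) (.node .nil (nat_lit 0x92bd4dbfeef)
  (nat_lit 340489) (nat_lit 0) .nil)) (nat_lit 0x92bd4dc015f) (nat_lit 0x64b204) (nat_lit 0) (.node (.node
  .nil (nat_lit 0x92bd4dc0167) (nat_lit 0x1062caa) (nat_lit 0) .nil) (nat_lit 0x92bd4dc01bb) (nat_lit 536933)
  (nat_lit 0) (.node .nil (nat_lit 0x92bd4dc02e2) (nat_lit 0x105312b) (nat_lit 0) .nil))) (nat_lit
  0x92bd4dc08f9) (nat_lit 0xa44127) (nat_lit 0) (.node (.node (.node .nil (nat_lit 0x92bd4dc0bd9) (nat_lit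
  0x281527) (nat_lit 0) .nil) (nat_lit 0x92bd4dc0c07) (nat_lit 531781) (nat_lit 0) (.node .nil (nat_lit
  0x92bd4dc0d9a) (nat_lit 114917) (nat_lit 0) .nil)) (nat_lit 0x92bd4dc12da) (nat_lit 0x1454b201) (nat_lit 0)
  (.node (.node .nil (nat_lit 0x92bd4dc1329) (nat_lit 0x764143) (nat_lit 0) .nil) (nat_lit 0x92bd4dc13d0)
  (nat_lit 242179) (nat_lit 0) (.node .nil (nat_lit 0x92bd4dc1471) (nat_lit 0x764123) (nat_lit 0) .nil))))))
  (nat_lit 0x92bd4dc1818) (nat_lit 0xc3c149) (nat_lit 0) (.node (.node (.node (.node (.node (.node .nil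
  (nat_lit 0x92bd4dc1a3f) (nat_lit 400906) (nat_lit 0) .nil) (nat_lit 0x92bd4dc1a79) (nat_lit 12528) (nat_lit
  0) (.node .nil (nat_lit 0x92bd4dc1b58) (nat_lit 400905) (nat_lit 0) .nil)) (nat_lit 0x92bd4dc1f11) (nat_lit
  0x861a03) (nat_lit 0) (.node (.node .nil (nat_lit 0x92bd4dc2103) (nat_lit 0x960e0a) (nat_lit 0) .nil)
  (nat_lit 0x92bd4dc2134) (nat_lit 307312) (nat_lit 0) (.node .nil (nat_lit 0x92bd4dc224b) (nat_lit 0x105a986)
  (nat_lit 0) .nil))) (nat_lit 0x92bd4dc27be) (nat_lit 401616) (nat_lit 0) (.node (.node (.node .nil (nat_lit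
  0x92bd4dc280a) (nat_lit 533899) (nat_lit 0) .nil) (nat_lit 0x92bd4dc28b1) (nat_lit 0x104b16a) (nat_lit 0)
  (.node .nil (nat_lit 0x92bd4dc2956) (nat_lit 0xc41a0a) (nat_lit 0) .nil)) (nat_lit 0x92bd4dc2bc7) (nat_lit
  16) (nat_lit 0x1912be36) (.node (.node .nil (nat_lit 0x92bd4dc2ecc) (nat_lit 521) (nat_lit 12835) .nil)
  (nat_lit 0x92bd4dc2ed6) (nat_lit 522) (nat_lit 411043) (.node .nil (nat_lit 0x92bd4dc3067) (nat_lit 16713)
  (nat_lit 411075) .nil)))) (nat_lit 0x92bd4dc3200) (nat_lit 0xa3b209) (nat_lit 0) (.node (.node (.node (.node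
  .nil (nat_lit 0x92bd4dc322b) (nat_lit 0xc440e1) (nat_lit 0) .nil) (nat_lit 0x92bd4dc32de) (nat_lit 335248)
  (nat_lit 0) (.node .nil (nat_lit 0x92bd4dc32fd) (nat_lit 0x964101) (nat_lit 0) .nil)) (nat_lit
  0x92bd4dc3c03) (nat_lit 245889) (nat_lit 0) (.node (.node .nil (nat_lit 0x92bd4dc3cb5) (nat_lit 0xa38a09)
  (nat_lit 0) .nil) (nat_lit 0x92bd4dc3d19) (nat_lit 0x782481) (nat_lit 0) (.node .nil (nat_lit 0x92bd4dc3e77)
  (nat_lit 334928) (nat_lit 0) .nil))) (nat_lit 0x92bd4dc42f6) (nat_lit 0x1051927) (nat_lit 0) (.node (.node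
  (.node .nil (nat_lit 0x92bd4dc4392) (nat_lit 531651) (nat_lit 0) .nil) (nat_lit 0x92bd4dc440e) (nat_lit
  0xc53202) (nat_lit 0) (.node .nil (nat_lit 0x92bd4dc456c) (nat_lit 0x1039923) (nat_lit 0) .nil)) (nat_lit
  0x92bd4dc46df) (nat_lit 400904) (nat_lit 0) (.node (.node .nil (nat_lit 0x92bd4dc4708) (nat_lit 0xa4b090)
  (nat_lit 0) .nil) (nat_lit 0x92bd4dc47c1) (nat_lit 0xc3c109) (nat_lit 0) (.node .nil (nat_lit 0x92bd4dc487e)
  (nat_lit 0xc3c10a) (nat_lit 0) .nil))))) (nat_lit 0x92bd4dc4ec7) (nat_lit 213187) (nat_lit 0) (.node (.node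
  (.node (.node (.node .nil (nat_lit 0x92bd4dc50e3) (nat_lit 0x9340c2) (nat_lit 0) .nil) (nat_lit
  0x92bd4dc5115) (nat_lit 0x681943) (nat_lit 0) (.node .nil (nat_lit 0x92bd4dc5337) (nat_lit 0xd0524c1)
  (nat_lit 399918) .nil)) (nat_lit 0x92bd4dc55b9) (nat_lit 0x782928) (nat_lit 0) (.node (.node .nil (nat_lit
  0x92bd4dc57da) (nat_lit 235018) (nat_lit 0) .nil) (nat_lit 0x92bd4dc5811) (nat_lit 235017) (nat_lit 0)
  (.node .nil (nat_lit 0x92bd4dc5a2a) (nat_lit 7344) (nat_lit 0) .nil))) (nat_lit 0x92bd4dc5e92) (nat_lit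
  0x14464121) (nat_lit 0) (.node (.node (.node .nil (nat_lit 0x92bd4dc5fde) (nat_lit 0x93b208) (nat_lit 0)
  .nil) (nat_lit 0x92bd4dc60bb) (nat_lit 0xc818e4) (nat_lit 0) (.node .nil (nat_lit 0x92bd4dc60f3) (nat_lit
  0xa23201) (nat_lit 0) .nil)) (nat_lit 0x92bd4dc6589) (nat_lit 176643) (nat_lit 0) (.node (.node .nil
  (nat_lit 0x92bd4dc66db) (nat_lit 0xc51601) (nat_lit 0) .nil) (nat_lit 0x92bd4dc67a8) (nat_lit 0x18a2c121)
  (nat_lit 0) (.node .nil (nat_lit 0x92bd4dc67e8) (nat_lit 0xc82501) (nat_lit 0) .nil)))) (nat_lit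
  0x92bd4dc6d14) (nat_lit 0x20862921) (nat_lit 0) (.node (.node (.node (.node .nil (nat_lit 0x92bd4dc6dcb)
  (nat_lit 0x1043121) (nat_lit 0) .nil) (nat_lit 0x92bd4dc6e27) (nat_lit 532865) (nat_lit 0) (.node .nil
  (nat_lit 0x92bd4dc6ebe) (nat_lit 0x1043141) (nat_lit 0) .nil)) (nat_lit 0x92bd4dc73f5) (nat_lit 0x104b0c2)
  (nat_lit 0) (.node (.node .nil (nat_lit 0x92bd4dc740b) (nat_lit 180611) (nat_lit 0) .nil) (nat_lit
  0x92bd4dc74c4) (nat_lit 0x583143) (nat_lit 0) (.node .nil (nat_lit 0x92bd4dc751e) (nat_lit 0x20961942)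
  (nat_lit 0) .nil))) (nat_lit 0x92bd4dc778f) (nat_lit 0x1061d43) (nat_lit 0) (.node (.node (.node .nil
  (nat_lit 0x92bd4dc781a) (nat_lit 0x10624ea) (nat_lit 0) .nil) (nat_lit 0x92bd4dc78c4) (nat_lit 536871)
  (nat_lit 0) (.node .nil (nat_lit 0x92bd4dc7c0e) (nat_lit 536803) (nat_lit 0) .nil)) (nat_lit 0x92bd4dc7f73)
  (nat_lit 0x20653121) (nat_lit 0) (.node (.node .nil (nat_lit 0x92bd4dc7f9a) (nat_lit 213381) (nat_lit 0)
  .nil) (nat_lit 0x92bd4dc8016) (nat_lit 0x1032981) (nat_lit 0) (.node .nil (nat_lit 0x92bd4dc83ab) (nat_lit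
  0x6830a9) (nat_lit 0) .nil)))))))
def tT_46 : T := (.node (.node (.node (.node (.node (.node (.node .nil (nat_lit 0x92bd4dc866e) (nat_lit
  114924) (nat_lit 0) .nil) (nat_lit 0x92bd4dc86ac) (nat_lit 0x10624e1) (nat_lit 0) (.node .nil (nat_lit
  0x92bd4dc886e) (nat_lit 0x20c49d41) (nat_lit 0) .nil)) (nat_lit 0x92bd4dc9010) (nat_lit 0x1032989) (nat_lit
  0) (.node (.node .nil (nat_lit 0x92bd4dc9077) (nat_lit 530764) (nat_lit 0) .nil) (nat_lit 0x92bd4dc9102)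
  (nat_lit 213164) (nat_lit 0) (.node .nil (nat_lit 0x92bd4dc91ca) (nat_lit 0x681589) (nat_lit 0) .nil)))
  (nat_lit 0x92bd4dc9707) (nat_lit 0x834181) (nat_lit 0) (.node (.node (.node .nil (nat_lit 0x92bd4dc9768)
  (nat_lit 0xb4b201) (nat_lit 0) .nil) (nat_lit 0x92bd4dc97f7) (nat_lit 0x16964141) (nat_lit 0) (.node .nil
  (nat_lit 0x92bd4dc98bd) (nat_lit 0x1051983) (nat_lit 0) .nil)) (nat_lit 0x92bd4dc9a61) (nat_lit 0x683109)
  (nat_lit 0) (.node (.node .nil (nat_lit 0x92bd4dc9b4a) (nat_lit 0x10524ac) (nat_lit 0) .nil) (nat_lit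
  0x92bd4dc9d53) (nat_lit 213384) (nat_lit 0) (.node .nil (nat_lit 0x92bd4dc9f69) (nat_lit 0x68310a) (nat_lit
  0) .nil)))) (nat_lit 0x92bd4dca156) (nat_lit 0x1061d24) (nat_lit 0) (.node (.node (.node (.node .nil
  (nat_lit 0x92bd4dca1dd) (nat_lit 536804) (nat_lit 0) .nil) (nat_lit 0x92bd4dca5d3) (nat_lit 0x1052585)
  (nat_lit 0) (.node .nil (nat_lit 0x92bd4dca678) (nat_lit 0x10628e3) (nat_lit 0) .nil)) (nat_lit
  0x92bd4dca90b) (nat_lit 370064) (nat_lit 0) (.node (.node .nil (nat_lit 0x92bd4dca938) (nat_lit 268812)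
  (nat_lit 0) .nil) (nat_lit 0x92bd4dca95f) (nat_lit 0xb4b20a) (nat_lit 0) (.node .nil (nat_lit 0x92bd4dcacfc)
  (nat_lit 0x10530c3) (nat_lit 0) .nil))) (nat_lit 0x92bd4dcaf5a) (nat_lit 534820) (nat_lit 0) (.node (.node
  (.node .nil (nat_lit 0x92bd4dcb07a) (nat_lit 16708) (nat_lit 0) .nil) (nat_lit 0x92bd4dcb098) (nat_lit 516)
  (nat_lit 0) (.node .nil (nat_lit 0x92bd4dcb211) (nat_lit 16676) (nat_lit 0) .nil)) (nat_lit 0x92bd4dcb64d)
  (nat_lit 147623) (nat_lit 0) (.node (.node .nil (nat_lit 0x92bd4dcb78e) (nat_lit 0x11049d41) (nat_lit 0)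
  .nil) (nat_lit 0x92bd4dcb906) (nat_lit 0x1051ca3) (nat_lit 0) (.node .nil (nat_lit 0x92bd4dcba12) (nat_lit
  0x8824e1) (nat_lit 0) .nil))))) (nat_lit 0x92bd4dcbe1e) (nat_lit 0x904b0e1) (nat_lit 0) (.node (.node (.node
  (.node (.node .nil (nat_lit 0x92bd4dcbe61) (nat_lit 0x681982) (nat_lit 0) .nil) (nat_lit 0x92bd4dcc1d3)
  (nat_lit 529740) (nat_lit 0) (.node .nil (nat_lit 0x92bd4dcc24b) (nat_lit 0x102a989) (nat_lit 0) .nil))
  (nat_lit 0x92bd4dcc749) (nat_lit 0x14c82481) (nat_lit 0) (.node (.node .nil (nat_lit 0x92bd4dcc826) (nat_lit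
  0x1062565) (nat_lit 0) .nil) (nat_lit 0x92bd4dcc8c4) (nat_lit 0xc240e6) (nat_lit 0) (.node .nil (nat_lit
  0x92bd4dcc8d3) (nat_lit 0xa64081) (nat_lit 0) .nil))) (nat_lit 0x92bd4dccb0c) (nat_lit 0xc824a2) (nat_lit 0)
  (.node (.node (.node .nil (nat_lit 0x92bd4dccc44) (nat_lit 0xc52202) (nat_lit 0) .nil) (nat_lit
  0x92bd4dccf9a) (nat_lit 274544) (nat_lit 0) (.node .nil (nat_lit 0x92bd4dcd043) (nat_lit 0x9628d0) (nat_lit
  0) .nil)) (nat_lit 0x92bd4dcd1fd) (nat_lit 0x864123) (nat_lit 0) (.node (.node .nil (nat_lit 0x92bd4dcd316)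
  (nat_lit 274947) (nat_lit 0) .nil) (nat_lit 0x92bd4dcd33b) (nat_lit 0x864143) (nat_lit 0) (.node .nil
  (nat_lit 0x92bd4dcd740) (nat_lit 0x12c51a01) (nat_lit 0) .nil)))) (nat_lit 0x92bd4dcdaaa) (nat_lit 0xa64144)
  (nat_lit 0) (.node (.node (.node (.node .nil (nat_lit 0x92bd4dcdc29) (nat_lit 0xa64124) (nat_lit 0) .nil)
  (nat_lit 0x92bd4dcdce8) (nat_lit 0xc824e6) (nat_lit 0) (.node .nil (nat_lit 0x92bd4dcde4f) (nat_lit 340484)
  (nat_lit 0) .nil)) (nat_lit 0x92bd4dce04b) (nat_lit 278753) (nat_lit 0) (.node (.node .nil (nat_lit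
  0x92bd4dce3c3) (nat_lit 533671) (nat_lit 0) .nil) (nat_lit 0x92bd4dce43b) (nat_lit 534757) (nat_lit 0)
  (.node .nil (nat_lit 0x92bd4dce446) (nat_lit 0x1051ca9) (nat_lit 0) .nil))) (nat_lit 0x92bd4dce9cc) (nat_lit
  377062) (nat_lit 0) (.node (.node (.node .nil (nat_lit 0x92bd4dceab4) (nat_lit 0x2054ad42) (nat_lit 0) .nil)
  (nat_lit 0x92bd4dcebe6) (nat_lit 0xb828c7) (nat_lit 181667) (.node .nil (nat_lit 0x92bd4dcec78) (nat_lit
  0x102a562) (nat_lit 0) .nil)) (nat_lit 0x92bd4dcf029) (nat_lit 268811) (nat_lit 0) (.node (.node .nil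
  (nat_lit 0x92bd4dcf235) (nat_lit 0x1052ce9) (nat_lit 0) .nil) (nat_lit 0x92bd4dcf2d8) (nat_lit 0x104acc8)
  (nat_lit 0) (.node .nil (nat_lit 0x92bd4dcf36d) (nat_lit 534887) (nat_lit 0) .nil)))))) (nat_lit
  0x92bd4dcf52a) (nat_lit 0x1052483) (nat_lit 0) (.node (.node (.node (.node (.node (.node .nil (nat_lit
  0x92bd4dcf889) (nat_lit 534659) (nat_lit 0) .nil) (nat_lit 0x92bd4dcf917) (nat_lit 533635) (nat_lit 0)
  (.node .nil (nat_lit 0x92bd4dcf928) (nat_lit 16515) (nat_lit 0) .nil)) (nat_lit 0x92bd4dcfba6) (nat_lit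
  0xd049941) (nat_lit 0) (.node (.node .nil (nat_lit 0x92bd4dcfc50) (nat_lit 0x6828c3) (nat_lit 0) .nil)
  (nat_lit 0x92bd4dcfc54) (nat_lit 0x6824c1) (nat_lit 12497) (.node .nil (nat_lit 0x92bd4dcfdbd) (nat_lit
  532710) (nat_lit 0) .nil))) (nat_lit 0x92bd4dd0618) (nat_lit 0xa34183) (nat_lit 0) (.node (.node (.node .nil
  (nat_lit 0x92bd4dd06b1) (nat_lit 0x14683123) (nat_lit 0) .nil) (nat_lit 0x92bd4dd06c4) (nat_lit 0x1061925)
  (nat_lit 0) (.node .nil (nat_lit 0x92bd4dd07f6) (nat_lit 0x781181) (nat_lit 0) .nil)) (nat_lit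
  0x92bd4dd0d1d) (nat_lit 0xc818e9) (nat_lit 0) (.node (.node .nil (nat_lit 0x92bd4dd0d4a) (nat_lit 409799)
  (nat_lit 0) .nil) (nat_lit 0x92bd4dd0db7) (nat_lit 340080) (nat_lit 0) (.node .nil (nat_lit 0x92bd4dd0e1b)
  (nat_lit 0xa60e09) (nat_lit 0) .nil)))) (nat_lit 0x92bd4dd1015) (nat_lit 400) (nat_lit 0) (.node (.node
  (.node (.node .nil (nat_lit 0x92bd4dd14e6) (nat_lit 12810) (nat_lit 0) .nil) (nat_lit 0x92bd4dd1539)
  (nat_lit 12809) (nat_lit 0) (.node .nil (nat_lit 0x92bd4dd15bb) (nat_lit 409929) (nat_lit 0) .nil)) (nat_lit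
  0x92bd4dd17d6) (nat_lit 0x2045a921) (nat_lit 0) (.node (.node .nil (nat_lit 0x92bd4dd1808) (nat_lit 528737)
  (nat_lit 0) .nil) (nat_lit 0x92bd4dd1893) (nat_lit 0x1022d41) (nat_lit 0) (.node .nil (nat_lit
  0x92bd4dd18f0) (nat_lit 0x1022d21) (nat_lit 0) .nil))) (nat_lit 0x92bd4dd2221) (nat_lit 0xb51e09) (nat_lit
  0) (.node (.node (.node .nil (nat_lit 0x92bd4dd22e5) (nat_lit 0x781161) (nat_lit 0) .nil) (nat_lit
  0x92bd4dd2394) (nat_lit 0x959a08) (nat_lit 0) (.node .nil (nat_lit 0x92bd4dd2428) (nat_lit 370928) (nat_lit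
  0) .nil)) (nat_lit 0x92bd4dd26ef) (nat_lit 0x5824c2) (nat_lit 0) (.node (.node .nil (nat_lit 0x92bd4dd296a)
  (nat_lit 532675) (nat_lit 0) .nil) (nat_lit 0x92bd4dd296e) (nat_lit 0x1049948) (nat_lit 0) (.node .nil
  (nat_lit 0x92bd4dd2b00) (nat_lit 0x1032902) (nat_lit 0) .nil))))) (nat_lit 0x92bd4dd2e86) (nat_lit
  0x16a3c121) (nat_lit 0) (.node (.node (.node (.node (.node .nil (nat_lit 0x92bd4dd30d4) (nat_lit 245899)
  (nat_lit 0) .nil) (nat_lit 0x92bd4dd3181) (nat_lit 0x1032d25) (nat_lit 0) (.node .nil (nat_lit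
  0x92bd4dd3212) (nat_lit 0xb51e01) (nat_lit 0) .nil)) (nat_lit 0x92bd4dd345e) (nat_lit 0x6824e6) (nat_lit 0)
  (.node (.node .nil (nat_lit 0x92bd4dd3653) (nat_lit 114950) (nat_lit 0) .nil) (nat_lit 0x92bd4dd375e)
  (nat_lit 0x1042926) (nat_lit 0) (.node .nil (nat_lit 0x92bd4dd3938) (nat_lit 0xa2c0c2) (nat_lit 0) .nil)))
  (nat_lit 0x92bd4dd39b6) (nat_lit 0x63c189) (nat_lit 0) (.node (.node (.node .nil (nat_lit 0x92bd4dd3a64)
  (nat_lit 0x1053061) (nat_lit 0) .nil) (nat_lit 0x92bd4dd3ca9) (nat_lit 0x20a62461) (nat_lit 0) (.node .nil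
  (nat_lit 0x92bd4dd3d4b) (nat_lit 204300) (nat_lit 0) .nil)) (nat_lit 0x92bd4dd4159) (nat_lit 115020)
  (nat_lit 0) (.node (.node .nil (nat_lit 0x92bd4dd418f) (nat_lit 0x103a585) (nat_lit 0) .nil) (nat_lit
  0x92bd4dd4292) (nat_lit 0x382989) (nat_lit 0) (.node .nil (nat_lit 0x92bd4dd4518) (nat_lit 0x734181)
  (nat_lit 0) .nil)))) (nat_lit 0x92bd4dd4a85) (nat_lit 536836) (nat_lit 0) (.node (.node (.node (.node .nil
  (nat_lit 0x92bd4dd4c7e) (nat_lit 0x1062144) (nat_lit 0) .nil) (nat_lit 0x92bd4dd4cfc) (nat_lit 0x104b0ca)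
  (nat_lit 0) (.node .nil (nat_lit 0x92bd4dd4d1e) (nat_lit 533894) (nat_lit 0) .nil)) (nat_lit 0x92bd4dd50a2)
  (nat_lit 532868) (nat_lit 0) (.node (.node .nil (nat_lit 0x92bd4dd5340) (nat_lit 0x20933142) (nat_lit 0)
  .nil) (nat_lit 0x92bd4dd537b) (nat_lit 0x1043144) (nat_lit 0) (.node .nil (nat_lit 0x92bd4dd54a1) (nat_lit
  0x1049982) (nat_lit 0) .nil))) (nat_lit 0x92bd4dd5799) (nat_lit 0x1043149) (nat_lit 0) (.node (.node (.node
  .nil (nat_lit 0x92bd4dd5a37) (nat_lit 16652) (nat_lit 0) .nil) (nat_lit 0x92bd4dd5a70) (nat_lit 532873)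
  (nat_lit 0) (.node .nil (nat_lit 0x92bd4dd5b96) (nat_lit 532874) (nat_lit 0) .nil)) (nat_lit 0x92bd4dd5f66)
  (nat_lit 0x1062149) (nat_lit 0) (.node (.node .nil (nat_lit 0x92bd4dd6165) (nat_lit 536841) (nat_lit 0)
  .nil) (nat_lit 0x92bd4dd61e1) (nat_lit 16776) (nat_lit 0) (.node .nil (nat_lit 0x92bd4dd61ff) (nat_lit
  536842) (nat_lit 0) .nil)))))))
def tT_47 : T := (.node (.node (.node (.node (.node (.node (.node .nil (nat_lit 0x92bd4dd645f) (nat_lit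
  0x1051181) (nat_lit 0) .nil) (nat_lit 0x92bd4dd67f4) (nat_lit 0x20a23121) (nat_lit 0) (.node .nil (nat_lit
  0x92bd4dd68dd) (nat_lit 0x834186) (nat_lit 0) .nil)) (nat_lit 0x92bd4dd6a71) (nat_lit 534668) (nat_lit 0)
  (.node (.node .nil (nat_lit 0x92bd4dd6b1f) (nat_lit 0x9440ec) (nat_lit 0) .nil) (nat_lit 0x92bd4dd6d60)
  (nat_lit 0x105118a) (nat_lit 0) (.node .nil (nat_lit 0x92bd4dd6e04) (nat_lit 0x1051189) (nat_lit 0) .nil)))
  (nat_lit 0x92bd4dd7216) (nat_lit 0x944187) (nat_lit 0) (.node (.node (.node .nil (nat_lit 0x92bd4dd7248)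
  (nat_lit 0x1053081) (nat_lit 0) .nil) (nat_lit 0x92bd4dd73d1) (nat_lit 0x6440cc) (nat_lit 0) (.node .nil
  (nat_lit 0x92bd4dd75e3) (nat_lit 0x20a62481) (nat_lit 0) .nil)) (nat_lit 0x92bd4dd7d74) (nat_lit 0xa4ae08)
  (nat_lit 0) (.node (.node .nil (nat_lit 0x92bd4dd7d88) (nat_lit 0xb818e3) (nat_lit 0) .nil) (nat_lit
  0x92bd4dd7df1) (nat_lit 0x106298b) (nat_lit 0) (.node .nil (nat_lit 0x92bd4dd7e8c) (nat_lit 303472) (nat_lit
  0) .nil)))) (nat_lit 0x92bd4dd81b9) (nat_lit 0x18b53202) (nat_lit 17833) (.node (.node (.node (.node .nil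
  (nat_lit 0x92bd4dd8467) (nat_lit 0x20a4ad02) (nat_lit 0) .nil) (nat_lit 0x92bd4dd847f) (nat_lit 0xb81cc3)
  (nat_lit 0) (.node .nil (nat_lit 0x92bd4dd85cb) (nat_lit 0x944162) (nat_lit 0) .nil)) (nat_lit
  0x92bd4dd88f5) (nat_lit 82090) (nat_lit 0) (.node (.node .nil (nat_lit 0x92bd4dd8a19) (nat_lit 2565)
  (nat_lit 0) .nil) (nat_lit 0x92bd4dd8a50) (nat_lit 0x281549) (nat_lit 0) (.node .nil (nat_lit 0x92bd4dd8ca3)
  (nat_lit 82089) (nat_lit 0) .nil))) (nat_lit 0x92bd4dd8e90) (nat_lit 529737) (nat_lit 0) (.node (.node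
  (.node .nil (nat_lit 0x92bd4dd8fec) (nat_lit 16554) (nat_lit 0) .nil) (nat_lit 0x92bd4dd90f1) (nat_lit 517)
  (nat_lit 0) (.node .nil (nat_lit 0x92bd4dd939a) (nat_lit 16553) (nat_lit 0) .nil)) (nat_lit 0x92bd4dd9578)
  (nat_lit 4615) (nat_lit 0) (.node (.node .nil (nat_lit 0x92bd4dd96e3) (nat_lit 301576) (nat_lit 0) .nil)
  (nat_lit 0x92bd4dd97e4) (nat_lit 0xa34128) (nat_lit 0) (.node .nil (nat_lit 0x92bd4dd9a8f) (nat_lit 82247)
  (nat_lit 0) .nil))))) (nat_lit 0x92bd4dd9dd4) (nat_lit 533732) (nat_lit 0) (.node (.node (.node (.node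
  (.node .nil (nat_lit 0x92bd4dd9efe) (nat_lit 534761) (nat_lit 0) .nil) (nat_lit 0x92bd4dd9f33) (nat_lit
  531587) (nat_lit 0) (.node .nil (nat_lit 0x92bd4dda186) (nat_lit 16711) (nat_lit 0) .nil)) (nat_lit
  0x92bd4dda5e2) (nat_lit 0x644163) (nat_lit 0) (.node (.node .nil (nat_lit 0x92bd4dda758) (nat_lit
  0x14b824e2) (nat_lit 0) .nil) (nat_lit 0x92bd4dda7b8) (nat_lit 0x682d25) (nat_lit 17700) (.node .nil
  (nat_lit 0x92bd4dda851) (nat_lit 0x103a964) (nat_lit 0) .nil))) (nat_lit 0x92bd4ddaafb) (nat_lit 0x5824cb)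
  (nat_lit 0) (.node (.node (.node .nil (nat_lit 0x92bd4ddad0d) (nat_lit 0x834163) (nat_lit 0) .nil) (nat_lit
  0x92bd4ddae4d) (nat_lit 0x1052d27) (nat_lit 0) (.node .nil (nat_lit 0x92bd4ddaf90) (nat_lit 0x1052ce3)
  (nat_lit 0) .nil)) (nat_lit 0x92bd4ddb45c) (nat_lit 0x964123) (nat_lit 0) (.node (.node .nil (nat_lit
  0x92bd4ddb4fb) (nat_lit 307715) (nat_lit 0) .nil) (nat_lit 0x92bd4ddb54e) (nat_lit 0x964143) (nat_lit 0)
  (.node .nil (nat_lit 0x92bd4ddb583) (nat_lit 0xb82986) (nat_lit 0) .nil)))) (nat_lit 0x92bd4ddb8fb) (nat_lit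
  0x91b20a) (nat_lit 0) (.node (.node (.node (.node .nil (nat_lit 0x92bd4ddbb51) (nat_lit 0xc41a03) (nat_lit
  0) .nil) (nat_lit 0x92bd4ddbbf0) (nat_lit 298384) (nat_lit 0) (.node .nil (nat_lit 0x92bd4ddbcfc) (nat_lit
  0xc51a05) (nat_lit 0) .nil)) (nat_lit 0x92bd4ddbeca) (nat_lit 0xc828e1) (nat_lit 0) (.node (.node .nil
  (nat_lit 0x92bd4ddbee7) (nat_lit 0x19049c81) (nat_lit 0) .nil) (nat_lit 0x92bd4ddbfa5) (nat_lit 0x19051d21)
  (nat_lit 0) (.node .nil (nat_lit 0x92bd4ddc3ce) (nat_lit 0x4640e1) (nat_lit 0) .nil))) (nat_lit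
  0x92bd4ddc4f1) (nat_lit 0xc828e2) (nat_lit 0) (.node (.node (.node .nil (nat_lit 0x92bd4ddc5de) (nat_lit
  0x943208) (nat_lit 0) .nil) (nat_lit 0x92bd4ddc7f1) (nat_lit 0x19051d22) (nat_lit 0) (.node .nil (nat_lit
  0x92bd4ddcac3) (nat_lit 0xc240e1) (nat_lit 0) .nil)) (nat_lit 0x92bd4ddcc0d) (nat_lit 0x105a584) (nat_lit 0)
  (.node (.node .nil (nat_lit 0x92bd4ddcce1) (nat_lit 0xc828c8) (nat_lit 0) .nil) (nat_lit 0x92bd4ddcee4)
  (nat_lit 0x5640c3) (nat_lit 0) (.node .nil (nat_lit 0x92bd4ddd10b) (nat_lit 0xa4a190) (nat_lit 0) .nil))))))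
  (nat_lit 0x92bd4ddd3ad) (nat_lit 0xc82126) (nat_lit 0) (.node (.node (.node (.node (.node (.node .nil
  (nat_lit 0x92bd4ddd3d8) (nat_lit 0xa33090) (nat_lit 0) .nil) (nat_lit 0x92bd4ddd486) (nat_lit 0xc81904)
  (nat_lit 0) (.node .nil (nat_lit 0x92bd4ddd7fc) (nat_lit 0x14962201) (nat_lit 0) .nil)) (nat_lit
  0x92bd4ddde1e) (nat_lit 0x764149) (nat_lit 0) (.node (.node .nil (nat_lit 0x92bd4dddeb7) (nat_lit 242186)
  (nat_lit 0) .nil) (nat_lit 0x92bd4dddf28) (nat_lit 7568) (nat_lit 0) (.node .nil (nat_lit 0x92bd4dddfd1)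
  (nat_lit 242185) (nat_lit 0) .nil))) (nat_lit 0x92bd4dde513) (nat_lit 0x552590) (nat_lit 0) (.node (.node
  (.node .nil (nat_lit 0x92bd4dde5ae) (nat_lit 0xc3c141) (nat_lit 0) .nil) (nat_lit 0x92bd4dde609) (nat_lit
  400897) (nat_lit 0) (.node .nil (nat_lit 0x92bd4dde63c) (nat_lit 0xc3c121) (nat_lit 0) .nil)) (nat_lit
  0x92bd4dde8a2) (nat_lit 0xb82584) (nat_lit 0) (.node (.node .nil (nat_lit 0x92bd4dde8b5) (nat_lit 0x653203)
  (nat_lit 0) .nil) (nat_lit 0x92bd4ddece6) (nat_lit 0xa624d0) (nat_lit 0) (.node .nil (nat_lit 0x92bd4dded0f)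
  (nat_lit 0xc2c0c3) (nat_lit 0) .nil)))) (nat_lit 0x92bd4ddef59) (nat_lit 0x653202) (nat_lit 0) (.node (.node
  (.node (.node .nil (nat_lit 0x92bd4ddef89) (nat_lit 0xc49606) (nat_lit 0) .nil) (nat_lit 0x92bd4ddf2d6)
  (nat_lit 0x942990) (nat_lit 0) (.node .nil (nat_lit 0x92bd4ddf40d) (nat_lit 0xc2c0c2) (nat_lit 0) .nil))
  (nat_lit 0x92bd4ddfa1a) (nat_lit 0xa2a590) (nat_lit 0) (.node (.node .nil (nat_lit 0x92bd4ddfa71) (nat_lit
  0xc52206) (nat_lit 0) .nil) (nat_lit 0x92bd4ddfb18) (nat_lit 409797) (nat_lit 0) (.node .nil (nat_lit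
  0x92bd4ddfb1b) (nat_lit 0xc49e02) (nat_lit 0) .nil))) (nat_lit 0x92bd4ddfe03) (nat_lit 0x1893c141) (nat_lit
  0) (.node (.node (.node .nil (nat_lit 0x92bd4de0144) (nat_lit 0xc3c143) (nat_lit 0) .nil) (nat_lit
  0x92bd4de020f) (nat_lit 400899) (nat_lit 0) (.node .nil (nat_lit 0x92bd4de02a8) (nat_lit 0xc49e01) (nat_lit
  0) .nil)) (nat_lit 0x92bd4de0420) (nat_lit 207248) (nat_lit 0) (.node (.node .nil (nat_lit 0x92bd4de0429)
  (nat_lit 0xc2c0c9) (nat_lit 0) .nil) (nat_lit 0x92bd4de055d) (nat_lit 398854) (nat_lit 0) (.node .nil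
  (nat_lit 0x92bd4de058f) (nat_lit 0x653209) (nat_lit 0) .nil))))) (nat_lit 0x92bd4de0aad) (nat_lit
  0x1892c0c1) (nat_lit 0) (.node (.node (.node (.node (.node .nil (nat_lit 0x92bd4de0b25) (nat_lit 0xc82146)
  (nat_lit 0) .nil) (nat_lit 0x92bd4de0d7f) (nat_lit 0x5640c2) (nat_lit 0) (.node .nil (nat_lit 0x92bd4de0eac)
  (nat_lit 0x12853201) (nat_lit 0) .nil)) (nat_lit 0x92bd4de11a4) (nat_lit 0xa640c1) (nat_lit 0) (.node (.node
  .nil (nat_lit 0x92bd4de121c) (nat_lit 0xc81d24) (nat_lit 0) .nil) (nat_lit 0x92bd4de1474) (nat_lit 0xc82927)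
  (nat_lit 0) (.node .nil (nat_lit 0x92bd4de176d) (nat_lit 409828) (nat_lit 0) .nil))) (nat_lit 0x92bd4de1884)
  (nat_lit 0x961605) (nat_lit 0) (.node (.node (.node .nil (nat_lit 0x92bd4de189b) (nat_lit 0xa640c2) (nat_lit
  0) .nil) (nat_lit 0x92bd4de1a40) (nat_lit 0x20962961) (nat_lit 0) (.node .nil (nat_lit 0x92bd4de1e64)
  (nat_lit 399880) (nat_lit 0) .nil)) (nat_lit 0x92bd4de21c2) (nat_lit 274640) (nat_lit 0) (.node (.node .nil
  (nat_lit 0x92bd4de2413) (nat_lit 307713) (nat_lit 0) .nil) (nat_lit 0x92bd4de24d2) (nat_lit 0x964141)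
  (nat_lit 0) (.node .nil (nat_lit 0x92bd4de257f) (nat_lit 0x861a0a) (nat_lit 0) .nil)))) (nat_lit
  0x92bd4de2ade) (nat_lit 0xc41a01) (nat_lit 0) (.node (.node (.node (.node .nil (nat_lit 0x92bd4de2b22)
  (nat_lit 307714) (nat_lit 0) .nil) (nat_lit 0x92bd4de2bc9) (nat_lit 0x964142) (nat_lit 0) (.node .nil
  (nat_lit 0x92bd4de2bd4) (nat_lit 0x1062967) (nat_lit 0) .nil)) (nat_lit 0x92bd4de2dfe) (nat_lit 0x54b110)
  (nat_lit 0) (.node (.node .nil (nat_lit 0x92bd4de2e2e) (nat_lit 340486) (nat_lit 0) .nil) (nat_lit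
  0x92bd4de32b4) (nat_lit 0xa640c9) (nat_lit 0) (.node .nil (nat_lit 0x92bd4de334c) (nat_lit 0xc81c81)
  (nat_lit 0) .nil))) (nat_lit 0x92bd4de35e2) (nat_lit 0x6824ab) (nat_lit 0) (.node (.node (.node .nil
  (nat_lit 0x92bd4de384a) (nat_lit 0x1051d2b) (nat_lit 0) .nil) (nat_lit 0x92bd4de38b4) (nat_lit 0x1059903)
  (nat_lit 0) (.node .nil (nat_lit 0x92bd4de3ab9) (nat_lit 0xa3c163) (nat_lit 0) .nil)) (nat_lit
  0x92bd4de3ca8) (nat_lit 0xa3c122) (nat_lit 0) (.node (.node .nil (nat_lit 0x92bd4de3d18) (nat_lit 246052)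
  (nat_lit 0) .nil) (nat_lit 0x92bd4de3f21) (nat_lit 7684) (nat_lit 0) (.node .nil (nat_lit 0x92bd4de418b)
  (nat_lit 335362) (nat_lit 0) .nil)))))))
def tT_48 : T := (.node (.node (.node (.node (.node (.node (.node .nil (nat_lit 0x92bd4de46b8) (nat_lit
  0xa3c121) (nat_lit 0) .nil) (nat_lit 0x92bd4de47cc) (nat_lit 0x939201) (nat_lit 0) (.node .nil (nat_lit
  0x92bd4de487a) (nat_lit 335361) (nat_lit 0) .nil)) (nat_lit 0x92bd4de4a53) (nat_lit 0x682565) (nat_lit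
  17539) (.node (.node .nil (nat_lit 0x92bd4de4d4f) (nat_lit 0x105a0c3) (nat_lit 0) .nil) (nat_lit
  0x92bd4de4d6d) (nat_lit 0x20a3a562) (nat_lit 0) (.node .nil (nat_lit 0x92bd4de4f9a) (nat_lit 0x1052cc5)
  (nat_lit 0) .nil))) (nat_lit 0x92bd4de51be) (nat_lit 0xb2c126) (nat_lit 0) (.node (.node (.node .nil
  (nat_lit 0x92bd4de522e) (nat_lit 0xb81903) (nat_lit 0) .nil) (nat_lit 0x92bd4de5464) (nat_lit 0xa5a4f0)
  (nat_lit 0) (.node .nil (nat_lit 0x92bd4de5686) (nat_lit 0xa3ae03) (nat_lit 0) .nil)) (nat_lit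
  0x92bd4de58b3) (nat_lit 535722) (nat_lit 0) (.node (.node .nil (nat_lit 0x92bd4de5b53) (nat_lit 16741)
  (nat_lit 0) .nil) (nat_lit 0x92bd4de5bbb) (nat_lit 0x1059549) (nat_lit 0) (.node .nil (nat_lit
  0x92bd4de5d80) (nat_lit 535721) (nat_lit 0) .nil)))) (nat_lit 0x92bd4de5f36) (nat_lit 0x102ad41) (nat_lit 0)
  (.node (.node (.node (.node .nil (nat_lit 0x92bd4de624a) (nat_lit 529761) (nat_lit 0) .nil) (nat_lit
  0x92bd4de62b2) (nat_lit 0x1052d28) (nat_lit 0) (.node .nil (nat_lit 0x92bd4de647b) (nat_lit 0x102ad21)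
  (nat_lit 0) .nil)) (nat_lit 0x92bd4de68c2) (nat_lit 0xc53209) (nat_lit 0) (.node (.node .nil (nat_lit
  0x92bd4de697b) (nat_lit 245989) (nat_lit 0) .nil) (nat_lit 0x92bd4de6a9b) (nat_lit 403856) (nat_lit 0)
  (.node .nil (nat_lit 0x92bd4de6b49) (nat_lit 0x10324e1) (nat_lit 0) .nil))) (nat_lit 0x92bd4de6d61) (nat_lit
  114918) (nat_lit 0) (.node (.node (.node .nil (nat_lit 0x92bd4de6e64) (nat_lit 0xa3c0e5) (nat_lit 0) .nil)
  (nat_lit 0x92bd4de6fd4) (nat_lit 0x103a926) (nat_lit 0) (.node .nil (nat_lit 0x92bd4de7242) (nat_lit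
  0x10324e2) (nat_lit 0) .nil)) (nat_lit 0x92bd4de7487) (nat_lit 377002) (nat_lit 0) (.node (.node .nil
  (nat_lit 0x92bd4de76f1) (nat_lit 11781) (nat_lit 0) .nil) (nat_lit 0x92bd4de7797) (nat_lit 0xb81549)
  (nat_lit 0) (.node .nil (nat_lit 0x92bd4de7960) (nat_lit 377001) (nat_lit 0) .nil))))) (nat_lit
  0x92bd4de7ab9) (nat_lit 0x105a983) (nat_lit 0) (.node (.node (.node (.node (.node .nil (nat_lit
  0x92bd4de7bef) (nat_lit 204176) (nat_lit 0) .nil) (nat_lit 0x92bd4de7cea) (nat_lit 0x20b53123) (nat_lit 0)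
  (.node .nil (nat_lit 0x92bd4de7fc7) (nat_lit 0x9640c3) (nat_lit 0) .nil)) (nat_lit 0x92bd4de81a9) (nat_lit
  0x864121) (nat_lit 0) (.node (.node .nil (nat_lit 0x92bd4de82ca) (nat_lit 0x864141) (nat_lit 0) .nil)
  (nat_lit 0x92bd4de83e3) (nat_lit 274945) (nat_lit 0) (.node .nil (nat_lit 0x92bd4de86af) (nat_lit
  0x10c82921) (nat_lit 0) .nil))) (nat_lit 0x92bd4de88a1) (nat_lit 274953) (nat_lit 0) (.node (.node (.node
  .nil (nat_lit 0x92bd4de89c2) (nat_lit 274954) (nat_lit 0) .nil) (nat_lit 0x92bd4de8d26) (nat_lit 8592)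
  (nat_lit 0) (.node .nil (nat_lit 0x92bd4de8dac) (nat_lit 0x864149) (nat_lit 0) .nil)) (nat_lit
  0x92bd4de8f9a) (nat_lit 0xb82983) (nat_lit 0) (.node (.node .nil (nat_lit 0x92bd4de93ee) (nat_lit 400592)
  (nat_lit 0) .nil) (nat_lit 0x92bd4de941f) (nat_lit 0x17053123) (nat_lit 0) (.node .nil (nat_lit
  0x92bd4de94af) (nat_lit 0x93b205) (nat_lit 0) .nil)))) (nat_lit 0x92bd4de968f) (nat_lit 0x661e0a) (nat_lit
  0) (.node (.node (.node (.node .nil (nat_lit 0x92bd4de9ae9) (nat_lit 209136) (nat_lit 0) .nil) (nat_lit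
  0x92bd4de9afe) (nat_lit 0x14961207) (nat_lit 0) (.node .nil (nat_lit 0x92bd4de9ba4) (nat_lit 0x661e09)
  (nat_lit 0) .nil)) (nat_lit 0x92bd4de9d84) (nat_lit 206224) (nat_lit 0) (.node (.node .nil (nat_lit
  0x92bd4de9ea5) (nat_lit 0xc44141) (nat_lit 0) .nil) (nat_lit 0x92bd4dea1f7) (nat_lit 401921) (nat_lit 0)
  (.node .nil (nat_lit 0x92bd4dea28d) (nat_lit 0x64b20a) (nat_lit 0) .nil))) (nat_lit 0x92bd4dea78c) (nat_lit
  0xa61209) (nat_lit 0) (.node (.node (.node .nil (nat_lit 0x92bd4dea894) (nat_lit 0x961e08) (nat_lit 0) .nil)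
  (nat_lit 0x92bd4dea924) (nat_lit 340112) (nat_lit 0) (.node .nil (nat_lit 0x92bd4dea970) (nat_lit 0xc340c8)
  (nat_lit 0) .nil)) (nat_lit 0x92bd4deae83) (nat_lit 399879) (nat_lit 0) (.node (.node .nil (nat_lit
  0x92bd4deaf91) (nat_lit 0xa61a06) (nat_lit 0) .nil) (nat_lit 0x92bd4deb01b) (nat_lit 0x105a586) (nat_lit 0)
  (.node .nil (nat_lit 0x92bd4deb063) (nat_lit 0x12753201) (nat_lit 0) .nil)))))) (nat_lit 0x92bd4deb54f)
  (nat_lit 398851) (nat_lit 0) (.node (.node (.node (.node (.node (.node .nil (nat_lit 0x92bd4deb67e) (nat_lit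
  403632) (nat_lit 0) .nil) (nat_lit 0x92bd4deb75a) (nat_lit 0xc51609) (nat_lit 0) (.node .nil (nat_lit
  0x92bd4deb794) (nat_lit 409896) (nat_lit 0) .nil)) (nat_lit 0x92bd4debc46) (nat_lit 0xa23209) (nat_lit 0)
  (.node (.node .nil (nat_lit 0x92bd4debd75) (nat_lit 0xc81d26) (nat_lit 0) .nil) (nat_lit 0x92bd4debe51)
  (nat_lit 0x664106) (nat_lit 0) (.node .nil (nat_lit 0x92bd4debe91) (nat_lit 332176) (nat_lit 0) .nil)))
  (nat_lit 0x92bd4dec3ee) (nat_lit 273616) (nat_lit 0) (.node (.node (.node .nil (nat_lit 0x92bd4dec49c)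
  (nat_lit 0x20a59d22) (nat_lit 0) .nil) (nat_lit 0x92bd4dec538) (nat_lit 0x104ad06) (nat_lit 553) (.node .nil
  (nat_lit 0x92bd4dec5c4) (nat_lit 0x1052ce2) (nat_lit 0) .nil)) (nat_lit 0x92bd4dec79d) (nat_lit 531748)
  (nat_lit 0) (.node (.node .nil (nat_lit 0x92bd4dec7c9) (nat_lit 16612) (nat_lit 0) .nil) (nat_lit
  0x92bd4deca89) (nat_lit 534823) (nat_lit 0) (.node .nil (nat_lit 0x92bd4decca6) (nat_lit 534755) (nat_lit 0)
  .nil)))) (nat_lit 0x92bd4decf07) (nat_lit 147751) (nat_lit 0) (.node (.node (.node (.node .nil (nat_lit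
  0x92bd4ded139) (nat_lit 0x282927) (nat_lit 0) .nil) (nat_lit 0x92bd4ded14e) (nat_lit 6664) (nat_lit 0)
  (.node .nil (nat_lit 0x92bd4ded39f) (nat_lit 213258) (nat_lit 0) .nil)) (nat_lit 0x92bd4ded5fe) (nat_lit
  534689) (nat_lit 0) (.node (.node .nil (nat_lit 0x92bd4ded82c) (nat_lit 16547) (nat_lit 0) .nil) (nat_lit
  0x92bd4ded83f) (nat_lit 0x1051521) (nat_lit 0) (.node .nil (nat_lit 0x92bd4deda92) (nat_lit 303617) (nat_lit
  0) .nil))) (nat_lit 0x92bd4dedc80) (nat_lit 534690) (nat_lit 0) (.node (.node (.node .nil (nat_lit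
  0x92bd4dedc9f) (nat_lit 0x1051522) (nat_lit 0) .nil) (nat_lit 0x92bd4dedf6c) (nat_lit 7686) (nat_lit 0)
  (.node .nil (nat_lit 0x92bd4dee18b) (nat_lit 303618) (nat_lit 0) .nil)) (nat_lit 0x92bd4dee644) (nat_lit
  535751) (nat_lit 0) (.node (.node .nil (nat_lit 0x92bd4dee6f5) (nat_lit 0x102a56a) (nat_lit 0) .nil)
  (nat_lit 0x92bd4dee80a) (nat_lit 0x105a8e6) (nat_lit 0) (.node .nil (nat_lit 0x92bd4dee893) (nat_lit 529707)
  (nat_lit 0) .nil))))) (nat_lit 0x92bd4deed0b) (nat_lit 535782) (nat_lit 0) (.node (.node (.node (.node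
  (.node .nil (nat_lit 0x92bd4deedec) (nat_lit 0x12b52202) (nat_lit 0) .nil) (nat_lit 0x92bd4deeeff) (nat_lit
  0x105a8c7) (nat_lit 5677) (.node .nil (nat_lit 0x92bd4deef92) (nat_lit 0x922e05) (nat_lit 0) .nil)) (nat_lit
  0x92bd4def48a) (nat_lit 0xc818e1) (nat_lit 0) (.node (.node .nil (nat_lit 0x92bd4def4ff) (nat_lit 340483)
  (nat_lit 0) .nil) (nat_lit 0x92bd4def583) (nat_lit 0xa64123) (nat_lit 0) (.node .nil (nat_lit 0x92bd4def655)
  (nat_lit 0x19031d21) (nat_lit 0) .nil))) (nat_lit 0x92bd4def9f4) (nat_lit 0xc81cc1) (nat_lit 0) (.node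
  (.node (.node .nil (nat_lit 0x92bd4defbdb) (nat_lit 331152) (nat_lit 0) .nil) (nat_lit 0x92bd4defc8e)
  (nat_lit 0xa1b209) (nat_lit 0) (.node .nil (nat_lit 0x92bd4defd4c) (nat_lit 0x102b12b) (nat_lit 0) .nil))
  (nat_lit 0x92bd4defe50) (nat_lit 301456) (nat_lit 0) (.node (.node .nil (nat_lit 0x92bd4defed1) (nat_lit
  0xc828a1) (nat_lit 0) .nil) (nat_lit 0x92bd4deffec) (nat_lit 0x93320a) (nat_lit 0) (.node .nil (nat_lit
  0x92bd4df028a) (nat_lit 409763) (nat_lit 0) .nil)))) (nat_lit 0x92bd4df0547) (nat_lit 0x961a02) (nat_lit 0)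
  (.node (.node (.node (.node .nil (nat_lit 0x92bd4df05c8) (nat_lit 0xc828a2) (nat_lit 0) .nil) (nat_lit
  0x92bd4df0826) (nat_lit 0x19051522) (nat_lit 0) (.node .nil (nat_lit 0x92bd4df08c1) (nat_lit 111109)
  (nat_lit 0) .nil)) (nat_lit 0x92bd4df0c1c) (nat_lit 0x1033148) (nat_lit 0) (.node (.node .nil (nat_lit
  0x92bd4df0cbb) (nat_lit 0x104b061) (nat_lit 0) .nil) (nat_lit 0x92bd4df1095) (nat_lit 0x10430c3) (nat_lit 0)
  (.node .nil (nat_lit 0x92bd4df117b) (nat_lit 0x20962861) (nat_lit 0) .nil))) (nat_lit 0x92bd4df13b2)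
  (nat_lit 114988) (nat_lit 0) (.node (.node (.node .nil (nat_lit 0x92bd4df13e3) (nat_lit 0x205530e1) (nat_lit
  0) .nil) (nat_lit 0x92bd4df16a2) (nat_lit 0x10620c3) (nat_lit 0) (.node .nil (nat_lit 0x92bd4df185a)
  (nat_lit 0x38258a) (nat_lit 0) .nil)) (nat_lit 0x92bd4df1b71) (nat_lit 0xf062481) (nat_lit 0) (.node (.node
  .nil (nat_lit 0x92bd4df1bdd) (nat_lit 0x20a4b0e6) (nat_lit 0) .nil) (nat_lit 0x92bd4df1ff6) (nat_lit
  0x783081) (nat_lit 0) (.node .nil (nat_lit 0x92bd4df2015) (nat_lit 0xa30e0c) (nat_lit 0) .nil)))))))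
def tT_49 : T := (.node (.node (.node (.node (.node (.node (.node .nil (nat_lit 0x92bd4df2595) (nat_lit
  0xa49e01) (nat_lit 0) .nil) (nat_lit 0x92bd4df268d) (nat_lit 0x724121) (nat_lit 0) (.node .nil (nat_lit
  0x92bd4df2748) (nat_lit 335363) (nat_lit 0) .nil)) (nat_lit 0x92bd4df2999) (nat_lit 0x1061526) (nat_lit 0)
  (.node (.node .nil (nat_lit 0x92bd4df2ce3) (nat_lit 0x96414b) (nat_lit 0) .nil) (nat_lit 0x92bd4df2dc3)
  (nat_lit 233996) (nat_lit 0) (.node .nil (nat_lit 0x92bd4df2de8) (nat_lit 0xa34181) (nat_lit 0) .nil)))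
  (nat_lit 0x92bd4df30f7) (nat_lit 7312) (nat_lit 0) (.node (.node (.node .nil (nat_lit 0x92bd4df3369)
  (nat_lit 337136) (nat_lit 0) .nil) (nat_lit 0x92bd4df347a) (nat_lit 233993) (nat_lit 0) (.node .nil (nat_lit
  0x92bd4df352a) (nat_lit 233994) (nat_lit 0) .nil)) (nat_lit 0x92bd4df37d9) (nat_lit 334348) (nat_lit 0)
  (.node (.node .nil (nat_lit 0x92bd4df3a91) (nat_lit 0x102b126) (nat_lit 0) .nil) (nat_lit 0x92bd4df3b35)
  (nat_lit 0xa34189) (nat_lit 0) (.node .nil (nat_lit 0x92bd4df3bae) (nat_lit 0x724181) (nat_lit 0) .nil))))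
  (nat_lit 0x92bd4df40ee) (nat_lit 0x88198a) (nat_lit 0) (.node (.node (.node (.node .nil (nat_lit
  0x92bd4df41a5) (nat_lit 0x881989) (nat_lit 0) .nil) (nat_lit 0x92bd4df41b0) (nat_lit 0x12c82962) (nat_lit 0)
  (.node .nil (nat_lit 0x92bd4df42a3) (nat_lit 278732) (nat_lit 0) .nil)) (nat_lit 0x92bd4df457d) (nat_lit
  0xa49c50) (nat_lit 0) (.node (.node .nil (nat_lit 0x92bd4df46a9) (nat_lit 278721) (nat_lit 0) .nil) (nat_lit
  0x92bd4df48b8) (nat_lit 0x93c081) (nat_lit 0) (.node .nil (nat_lit 0x92bd4df4a09) (nat_lit 0x10518a1)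
  (nat_lit 0) .nil))) (nat_lit 0x92bd4df4c5b) (nat_lit 409900) (nat_lit 547) (.node (.node (.node .nil
  (nat_lit 0x92bd4df4e81) (nat_lit 377094) (nat_lit 0) .nil) (nat_lit 0x92bd4df4f00) (nat_lit 0xc8258a)
  (nat_lit 0) (.node .nil (nat_lit 0x92bd4df50f7) (nat_lit 0xa3ae02) (nat_lit 0) .nil)) (nat_lit
  0x92bd4df51b4) (nat_lit 0x10530a7) (nat_lit 0) (.node (.node .nil (nat_lit 0x92bd4df523d) (nat_lit 16684)
  (nat_lit 0) .nil) (nat_lit 0x92bd4df5606) (nat_lit 536776) (nat_lit 0) (.node .nil (nat_lit 0x92bd4df577c)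
  (nat_lit 533898) (nat_lit 0) .nil))))) (nat_lit 0x92bd4df5958) (nat_lit 533890) (nat_lit 0) (.node (.node
  (.node (.node (.node .nil (nat_lit 0x92bd4df597b) (nat_lit 0x10530e5) (nat_lit 0) .nil) (nat_lit
  0x92bd4df5afa) (nat_lit 536838) (nat_lit 0) (.node .nil (nat_lit 0x92bd4df5e6d) (nat_lit 0x104b142) (nat_lit
  0) .nil)) (nat_lit 0x92bd4df61b7) (nat_lit 0xc82582) (nat_lit 0) (.node (.node .nil (nat_lit 0x92bd4df6396)
  (nat_lit 377032) (nat_lit 0) .nil) (nat_lit 0x92bd4df639b) (nat_lit 0xa4ae07) (nat_lit 0) (.node .nil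
  (nat_lit 0x92bd4df65fd) (nat_lit 335216) (nat_lit 0) .nil))) (nat_lit 0x92bd4df67e5) (nat_lit 0x1904b141)
  (nat_lit 0) (.node (.node (.node .nil (nat_lit 0x92bd4df6854) (nat_lit 535814) (nat_lit 0) .nil) (nat_lit
  0x92bd4df68ae) (nat_lit 0xc82581) (nat_lit 17) (.node .nil (nat_lit 0x92bd4df6cee) (nat_lit 0xa3c162)
  (nat_lit 0) .nil)) (nat_lit 0x92bd4df6e39) (nat_lit 533889) (nat_lit 0) (.node (.node .nil (nat_lit
  0x92bd4df6e74) (nat_lit 0x1051d85) (nat_lit 0) .nil) (nat_lit 0x92bd4df718e) (nat_lit 532870) (nat_lit 0)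
  (.node .nil (nat_lit 0x92bd4df7350) (nat_lit 0x104b141) (nat_lit 0) .nil)))) (nat_lit 0x92bd4df75d2)
  (nat_lit 241158) (nat_lit 0) (.node (.node (.node (.node .nil (nat_lit 0x92bd4df7644) (nat_lit 0x14b2c121)
  (nat_lit 0) .nil) (nat_lit 0x92bd4df7695) (nat_lit 0xa59601) (nat_lit 0) (.node .nil (nat_lit 0x92bd4df7adb)
  (nat_lit 0x105a4a4) (nat_lit 0) .nil)) (nat_lit 0x92bd4df7d8c) (nat_lit 377157) (nat_lit 0) (.node (.node
  .nil (nat_lit 0x92bd4df7f76) (nat_lit 535715) (nat_lit 0) .nil) (nat_lit 0x92bd4df808c) (nat_lit 0xb828a9)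
  (nat_lit 0) (.node .nil (nat_lit 0x92bd4df81d2) (nat_lit 369936) (nat_lit 0) .nil))) (nat_lit 0x92bd4df841f)
  (nat_lit 531649) (nat_lit 0) (.node (.node (.node .nil (nat_lit 0x92bd4df854c) (nat_lit 0x1049d46) (nat_lit
  0) .nil) (nat_lit 0x92bd4df875f) (nat_lit 0x10518e1) (nat_lit 0) (.node .nil (nat_lit 0x92bd4df88ae)
  (nat_lit 0x1039921) (nat_lit 0) .nil)) (nat_lit 0x92bd4df8c6a) (nat_lit 530657) (nat_lit 0) (.node (.node
  .nil (nat_lit 0x92bd4df8d90) (nat_lit 0x20a39921) (nat_lit 0) .nil) (nat_lit 0x92bd4df8ef5) (nat_lit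
  0x1051cc1) (nat_lit 0) (.node .nil (nat_lit 0x92bd4df8fab) (nat_lit 0x1031d21) (nat_lit 0) .nil))))))
  (nat_lit 0x92bd4df91f6) (nat_lit 339120) (nat_lit 0) (.node (.node (.node (.node (.node (.node .nil (nat_lit
  0x92bd4df94a1) (nat_lit 529763) (nat_lit 0) .nil) (nat_lit 0x92bd4df9578) (nat_lit 0xa59609) (nat_lit 0)
  (.node .nil (nat_lit 0x92bd4df9692) (nat_lit 0xb4a202) (nat_lit 0) .nil)) (nat_lit 0x92bd4df9b7d) (nat_lit
  0x1051cc9) (nat_lit 0) (.node (.node .nil (nat_lit 0x92bd4df9bba) (nat_lit 16583) (nat_lit 0) .nil) (nat_lit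
  0x92bd4df9ce2) (nat_lit 534758) (nat_lit 0) (.node .nil (nat_lit 0x92bd4df9d9f) (nat_lit 530665) (nat_lit 0)
  .nil))) (nat_lit 0x92bd4df9e47) (nat_lit 0x581989) (nat_lit 0) (.node (.node (.node .nil (nat_lit
  0x92bd4df9ece) (nat_lit 0x1062146) (nat_lit 0) .nil) (nat_lit 0x92bd4dfa291) (nat_lit 0x20a61d25) (nat_lit
  0) (.node .nil (nat_lit 0x92bd4dfa3ff) (nat_lit 180428) (nat_lit 0) .nil)) (nat_lit 0x92bd4dfa600) (nat_lit
  0xc82d45) (nat_lit 0) (.node (.node .nil (nat_lit 0x92bd4dfa928) (nat_lit 115077) (nat_lit 0) .nil) (nat_lit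
  0x92bd4dfaaab) (nat_lit 0x1049d4c) (nat_lit 0) (.node .nil (nat_lit 0x92bd4dfab0a) (nat_lit 0x3830a9)
  (nat_lit 0) .nil)))) (nat_lit 0x92bd4dfacf3) (nat_lit 0x883121) (nat_lit 0) (.node (.node (.node (.node .nil
  (nat_lit 0x92bd4dfae25) (nat_lit 0x883141) (nat_lit 0) .nil) (nat_lit 0x92bd4dfb018) (nat_lit 0x1052587)
  (nat_lit 0) (.node .nil (nat_lit 0x92bd4dfb19a) (nat_lit 278913) (nat_lit 0) .nil)) (nat_lit 0x92bd4dfb6fb)
  (nat_lit 532578) (nat_lit 0) (.node (.node .nil (nat_lit 0x92bd4dfb71a) (nat_lit 534786) (nat_lit 0) .nil)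
  (nat_lit 0x92bd4dfb7c0) (nat_lit 0x1052122) (nat_lit 0) (.node .nil (nat_lit 0x92bd4dfb94d) (nat_lit 300546)
  (nat_lit 0) .nil))) (nat_lit 0x92bd4dfbdf0) (nat_lit 0x6828a9) (nat_lit 0) (.node (.node (.node .nil
  (nat_lit 0x92bd4dfbeaf) (nat_lit 200197) (nat_lit 0) .nil) (nat_lit 0x92bd4dfbef9) (nat_lit 271568) (nat_lit
  0) (.node .nil (nat_lit 0x92bd4dfc042) (nat_lit 213317) (nat_lit 0) .nil)) (nat_lit 0x92bd4dfc10e) (nat_lit
  0xc3c14b) (nat_lit 0) (.node (.node .nil (nat_lit 0x92bd4dfc116) (nat_lit 533644) (nat_lit 0) .nil) (nat_lit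
  0x92bd4dfc2fa) (nat_lit 0x10620c4) (nat_lit 0) (.node .nil (nat_lit 0x92bd4dfc585) (nat_lit 0x104918a)
  (nat_lit 0) .nil))))) (nat_lit 0x92bd4dfcc16) (nat_lit 16642) (nat_lit 0) (.node (.node (.node (.node (.node
  .nil (nat_lit 0x92bd4dfcc1e) (nat_lit 532770) (nat_lit 0) .nil) (nat_lit 0x92bd4dfcce5) (nat_lit 532802)
  (nat_lit 0) (.node .nil (nat_lit 0x92bd4dfcd09) (nat_lit 0x1042922) (nat_lit 0) .nil)) (nat_lit
  0x92bd4dfd2ee) (nat_lit 0x14c82581) (nat_lit 0) (.node (.node .nil (nat_lit 0x92bd4dfd3a2) (nat_lit 246114)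
  (nat_lit 0) .nil) (nat_lit 0x92bd4dfd3ca) (nat_lit 0x104ace2) (nat_lit 554) (.node .nil (nat_lit
  0x92bd4dfd4f7) (nat_lit 0x782d42) (nat_lit 0) .nil))) (nat_lit 0x92bd4dfd682) (nat_lit 0x9640c4) (nat_lit 0)
  (.node (.node (.node .nil (nat_lit 0x92bd4dfd6cd) (nat_lit 0x105a984) (nat_lit 0) .nil) (nat_lit
  0x92bd4dfd79a) (nat_lit 0x149640e1) (nat_lit 0) (.node .nil (nat_lit 0x92bd4dfdad3) (nat_lit 0x761890)
  (nat_lit 0) .nil)) (nat_lit 0x92bd4dfdd94) (nat_lit 0xc440e3) (nat_lit 0) (.node (.node .nil (nat_lit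
  0x92bd4dfdda1) (nat_lit 0x964148) (nat_lit 0) .nil) (nat_lit 0x92bd4dfdfe1) (nat_lit 0xa640c5) (nat_lit 0)
  (.node .nil (nat_lit 0x92bd4dfe1e0) (nat_lit 173456) (nat_lit 0) .nil)))) (nat_lit 0x92bd4dfe489) (nat_lit
  0xc240e5) (nat_lit 0) (.node (.node (.node (.node .nil (nat_lit 0x92bd4dfe496) (nat_lit 0x14c49e01) (nat_lit
  0) .nil) (nat_lit 0x92bd4dfe5ab) (nat_lit 0xa61e03) (nat_lit 0) (.node .nil (nat_lit 0x92bd4dfe8bf) (nat_lit
  0xc81d25) (nat_lit 0) .nil)) (nat_lit 0x92bd4dfeb7e) (nat_lit 0x14964081) (nat_lit 0) (.node (.node .nil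
  (nat_lit 0x92bd4dfeb8f) (nat_lit 0x764103) (nat_lit 0) .nil) (nat_lit 0x92bd4dfeca2) (nat_lit 0x7624b0)
  (nat_lit 0) (.node .nil (nat_lit 0x92bd4dfefb8) (nat_lit 0x1062966) (nat_lit 0) .nil))) (nat_lit
  0x92bd4dff273) (nat_lit 0x14964082) (nat_lit 0) (.node (.node (.node .nil (nat_lit 0x92bd4dff284) (nat_lit
  0xc81506) (nat_lit 0) .nil) (nat_lit 0x92bd4dff4c2) (nat_lit 0x105952c) (nat_lit 0) (.node .nil (nat_lit
  0x92bd4dff6c3) (nat_lit 0xa61a05) (nat_lit 0) .nil)) (nat_lit 0x92bd4dffac4) (nat_lit 0x783123) (nat_lit 0)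
  (.node (.node .nil (nat_lit 0x92bd4dffacd) (nat_lit 246147) (nat_lit 0) .nil) (nat_lit 0x92bd4dffd99)
  (nat_lit 0x682981) (nat_lit 0) (.node .nil (nat_lit 0x92bd4dffdf2) (nat_lit 0xd053121) (nat_lit 0)
  .nil)))))))
def tT_50 : T := (.node (.node (.node (.node (.node (.node (.node .nil (nat_lit 0x92bd4e00490) (nat_lit
  0x682982) (nat_lit 0) .nil) (nat_lit 0x92bd4e00499) (nat_lit 245868) (nat_lit 0) (.node .nil (nat_lit
  0x92bd4e004e5) (nat_lit 0xd053122) (nat_lit 0) .nil)) (nat_lit 0x92bd4e0075f) (nat_lit 0x882987) (nat_lit 0)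
  (.node (.node .nil (nat_lit 0x92bd4e00784) (nat_lit 0x482581) (nat_lit 0) .nil) (nat_lit 0x92bd4e0080b)
  (nat_lit 0x904b141) (nat_lit 0) (.node .nil (nat_lit 0x92bd4e00c6e) (nat_lit 0x581982) (nat_lit 0) .nil)))
  (nat_lit 0x92bd4e00e56) (nat_lit 0x103a985) (nat_lit 0) (.node (.node (.node .nil (nat_lit 0x92bd4e00e8b)
  (nat_lit 0x482582) (nat_lit 0) .nil) (nat_lit 0x92bd4e011a7) (nat_lit 0x904b142) (nat_lit 0) (.node .nil
  (nat_lit 0x92bd4e01363) (nat_lit 180614) (nat_lit 0) .nil)) (nat_lit 0x92bd4e01644) (nat_lit 213324)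
  (nat_lit 0) (.node (.node .nil (nat_lit 0x92bd4e01992) (nat_lit 530821) (nat_lit 0) .nil) (nat_lit
  0x92bd4e019ce) (nat_lit 0x682989) (nat_lit 0) (.node .nil (nat_lit 0x92bd4e01a9b) (nat_lit 0x882588)
  (nat_lit 0) .nil)))) (nat_lit 0x92bd4e01cfe) (nat_lit 213292) (nat_lit 0) (.node (.node (.node (.node .nil
  (nat_lit 0x92bd4e01d6b) (nat_lit 0x103b0c4) (nat_lit 0) .nil) (nat_lit 0x92bd4e01fa5) (nat_lit 0x10530a8)
  (nat_lit 0) (.node .nil (nat_lit 0x92bd4e02182) (nat_lit 0x68258a) (nat_lit 0) .nil)) (nat_lit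
  0x92bd4e02350) (nat_lit 278921) (nat_lit 0) (.node (.node .nil (nat_lit 0x92bd4e0247f) (nat_lit 278922)
  (nat_lit 0) .nil) (nat_lit 0x92bd4e02538) (nat_lit 8716) (nat_lit 0) (.node .nil (nat_lit 0x92bd4e02670)
  (nat_lit 0x883149) (nat_lit 0) .nil))) (nat_lit 0x92bd4e02a45) (nat_lit 0x93c188) (nat_lit 0) (.node (.node
  (.node .nil (nat_lit 0x92bd4e02b20) (nat_lit 0x1062925) (nat_lit 0) .nil) (nat_lit 0x92bd4e02b74) (nat_lit
  0x10230aa) (nat_lit 0) (.node .nil (nat_lit 0x92bd4e02e00) (nat_lit 528773) (nat_lit 0) .nil)) (nat_lit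
  0x92bd4e0351f) (nat_lit 0x1031d84) (nat_lit 0) (.node (.node .nil (nat_lit 0x92bd4e0352b) (nat_lit 0x682582)
  (nat_lit 0) .nil) (nat_lit 0x92bd4e03666) (nat_lit 0xa49e0c) (nat_lit 0) (.node .nil (nat_lit 0x92bd4e03680)
  (nat_lit 0x1052185) (nat_lit 0) .nil))))) (nat_lit 0x92bd4e03c20) (nat_lit 0x682581) (nat_lit 0) (.node
  (.node (.node (.node (.node .nil (nat_lit 0x92bd4e03cc8) (nat_lit 0x10330e4) (nat_lit 0) .nil) (nat_lit
  0x92bd4e03d5b) (nat_lit 0xd04b141) (nat_lit 0) (.node .nil (nat_lit 0x92bd4e03d75) (nat_lit 0x1053105)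
  (nat_lit 0) .nil)) (nat_lit 0x92bd4e04283) (nat_lit 531846) (nat_lit 0) (.node (.node .nil (nat_lit
  0x92bd4e0431d) (nat_lit 0x582985) (nat_lit 0) .nil) (nat_lit 0x92bd4e043c1) (nat_lit 0x12782982) (nat_lit 0)
  (.node .nil (nat_lit 0x92bd4e04472) (nat_lit 0x682584) (nat_lit 0) .nil))) (nat_lit 0x92bd4e04920) (nat_lit
  536806) (nat_lit 0) (.node (.node (.node .nil (nat_lit 0x92bd4e04a00) (nat_lit 0x12782981) (nat_lit 0) .nil)
  (nat_lit 0x92bd4e04a14) (nat_lit 0xb53203) (nat_lit 0) (.node .nil (nat_lit 0x92bd4e04b67) (nat_lit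
  0x1061cc9) (nat_lit 0) .nil)) (nat_lit 0x92bd4e04d12) (nat_lit 0x10628a1) (nat_lit 0) (.node (.node .nil
  (nat_lit 0x92bd4e04ded) (nat_lit 536739) (nat_lit 0) .nil) (nat_lit 0x92bd4e050cd) (nat_lit 0x20c51521)
  (nat_lit 0) (.node .nil (nat_lit 0x92bd4e05232) (nat_lit 0x1061523) (nat_lit 0) .nil)))) (nat_lit
  0x92bd4e05407) (nat_lit 0x10628a2) (nat_lit 0) (.node (.node (.node (.node .nil (nat_lit 0x92bd4e055f3)
  (nat_lit 0x2093a981) (nat_lit 0) .nil) (nat_lit 0x92bd4e0572d) (nat_lit 527749) (nat_lit 0) (.node .nil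
  (nat_lit 0x92bd4e05921) (nat_lit 0x10624a4) (nat_lit 0) .nil)) (nat_lit 0x92bd4e05ba5) (nat_lit 0xa44188)
  (nat_lit 0) (.node (.node .nil (nat_lit 0x92bd4e05ca1) (nat_lit 0x12683143) (nat_lit 0) .nil) (nat_lit
  0x92bd4e05e4a) (nat_lit 0x934183) (nat_lit 0) (.node .nil (nat_lit 0x92bd4e05e5d) (nat_lit 530823) (nat_lit
  0) .nil))) (nat_lit 0x92bd4e0629a) (nat_lit 0x783142) (nat_lit 0) (.node (.node (.node .nil (nat_lit
  0x92bd4e06397) (nat_lit 246146) (nat_lit 0) .nil) (nat_lit 0x92bd4e064f8) (nat_lit 0xf062922) (nat_lit 0)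
  (.node .nil (nat_lit 0x92bd4e0673a) (nat_lit 0x783122) (nat_lit 0) .nil)) (nat_lit 0x92bd4e068c5) (nat_lit
  0x10628c8) (nat_lit 0) (.node (.node .nil (nat_lit 0x92bd4e068fc) (nat_lit 0x1049181) (nat_lit 0) .nil)
  (nat_lit 0x92bd4e06bb9) (nat_lit 0x20923141) (nat_lit 0) (.node .nil (nat_lit 0x92bd4e06d71) (nat_lit
  0x72c185) (nat_lit 0) .nil)))))) (nat_lit 0x92bd4e06fb2) (nat_lit 533892) (nat_lit 0) (.node (.node (.node
  (.node (.node (.node .nil (nat_lit 0x92bd4e06fbc) (nat_lit 0x76414b) (nat_lit 0) .nil) (nat_lit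
  0x92bd4e07386) (nat_lit 0x104b144) (nat_lit 0) (.node .nil (nat_lit 0x92bd4e0747c) (nat_lit 0x5830c3)
  (nat_lit 0) .nil)) (nat_lit 0x92bd4e07a23) (nat_lit 246153) (nat_lit 0) (.node (.node .nil (nat_lit
  0x92bd4e07a35) (nat_lit 0x783149) (nat_lit 0) .nil) (nat_lit 0x92bd4e07aba) (nat_lit 7692) (nat_lit 0)
  (.node .nil (nat_lit 0x92bd4e07ac7) (nat_lit 246154) (nat_lit 0) .nil))) (nat_lit 0x92bd4e07f05) (nat_lit
  0x104b105) (nat_lit 0) (.node (.node (.node .nil (nat_lit 0x92bd4e080b5) (nat_lit 0x20a32587) (nat_lit 0)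
  .nil) (nat_lit 0x92bd4e081bc) (nat_lit 0x76416a) (nat_lit 0) (.node .nil (nat_lit 0x92bd4e08267) (nat_lit
  242187) (nat_lit 0) .nil)) (nat_lit 0x92bd4e0884c) (nat_lit 0x14961e01) (nat_lit 0) (.node (.node .nil
  (nat_lit 0x92bd4e088b5) (nat_lit 0xc82122) (nat_lit 0) .nil) (nat_lit 0x92bd4e08950) (nat_lit 409858)
  (nat_lit 0) (.node .nil (nat_lit 0x92bd4e089e6) (nat_lit 0xc82142) (nat_lit 0) .nil)))) (nat_lit
  0x92bd4e08f41) (nat_lit 0xa49d90) (nat_lit 0) (.node (.node (.node (.node .nil (nat_lit 0x92bd4e08fa5)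
  (nat_lit 409857) (nat_lit 0) .nil) (nat_lit 0x92bd4e08fac) (nat_lit 0xc82121) (nat_lit 0) (.node .nil
  (nat_lit 0x92bd4e090dd) (nat_lit 0xc82141) (nat_lit 0) .nil)) (nat_lit 0x92bd4e0927d) (nat_lit 0x105a88c)
  (nat_lit 0) (.node (.node .nil (nat_lit 0x92bd4e0928f) (nat_lit 0x106212b) (nat_lit 0) .nil) (nat_lit
  0x92bd4e0964c) (nat_lit 0xaa64125) (nat_lit 0) (.node .nil (nat_lit 0x92bd4e0966d) (nat_lit 0x964126)
  (nat_lit 0) .nil))) (nat_lit 0x92bd4e09901) (nat_lit 0xb82984) (nat_lit 0) (.node (.node (.node .nil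
  (nat_lit 0x92bd4e09986) (nat_lit 0x104312b) (nat_lit 0) .nil) (nat_lit 0x92bd4e09aa2) (nat_lit 0xc41a06)
  (nat_lit 0) (.node .nil (nat_lit 0x92bd4e09d41) (nat_lit 0xa4b207) (nat_lit 0) .nil)) (nat_lit
  0x92bd4e0a1cd) (nat_lit 536936) (nat_lit 0) (.node (.node .nil (nat_lit 0x92bd4e0a295) (nat_lit 0xa4b0f0)
  (nat_lit 0) .nil) (nat_lit 0x92bd4e0a478) (nat_lit 0xc49a07) (nat_lit 0) (.node .nil (nat_lit 0x92bd4e0a5ef)
  (nat_lit 0x653206) (nat_lit 0) .nil))))) (nat_lit 0x92bd4e0a78a) (nat_lit 213350) (nat_lit 0) (.node (.node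
  (.node (.node (.node .nil (nat_lit 0x92bd4e0a87c) (nat_lit 0xa4ae09) (nat_lit 0) .nil) (nat_lit
  0x92bd4e0aa65) (nat_lit 0x92c165) (nat_lit 0) (.node .nil (nat_lit 0x92bd4e0ad2e) (nat_lit 337264) (nat_lit
  0) .nil)) (nat_lit 0x92bd4e0ae7d) (nat_lit 0x104ad46) (nat_lit 0) (.node (.node .nil (nat_lit 0x92bd4e0af6b)
  (nat_lit 0x1032563) (nat_lit 0) .nil) (nat_lit 0x92bd4e0b225) (nat_lit 213323) (nat_lit 0) (.node .nil
  (nat_lit 0x92bd4e0b420) (nat_lit 0x10594e3) (nat_lit 0) .nil))) (nat_lit 0x92bd4e0b553) (nat_lit 535650)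
  (nat_lit 0x117c616) (.node (.node (.node .nil (nat_lit 0x92bd4e0b87e) (nat_lit 0x105a462) (nat_lit 0) .nil)
  (nat_lit 0x92bd4e0b8f7) (nat_lit 0x105a862) (nat_lit 0) (.node .nil (nat_lit 0x92bd4e0bb0e) (nat_lit
  0x20b52462) (nat_lit 0) .nil)) (nat_lit 0x92bd4e0bc4a) (nat_lit 0x1052d26) (nat_lit 0) (.node (.node .nil
  (nat_lit 0x92bd4e0bff4) (nat_lit 213291) (nat_lit 0) .nil) (nat_lit 0x92bd4e0c0b2) (nat_lit 0x1051964)
  (nat_lit 0) (.node .nil (nat_lit 0x92bd4e0c205) (nat_lit 234864) (nat_lit 0) .nil)))) (nat_lit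
  0x92bd4e0c2ce) (nat_lit 278817) (nat_lit 0) (.node (.node (.node (.node .nil (nat_lit 0x92bd4e0c459)
  (nat_lit 278849) (nat_lit 0) .nil) (nat_lit 0x92bd4e0c676) (nat_lit 8705) (nat_lit 0) (.node .nil (nat_lit
  0x92bd4e0c6ca) (nat_lit 0x10524a1) (nat_lit 0) .nil)) (nat_lit 0x92bd4e0ca2e) (nat_lit 531779) (nat_lit 0)
  (.node (.node .nil (nat_lit 0x92bd4e0cb53) (nat_lit 16679) (nat_lit 0) .nil) (nat_lit 0x92bd4e0cd69)
  (nat_lit 533738) (nat_lit 0) (.node .nil (nat_lit 0x92bd4e0cdc3) (nat_lit 16611) (nat_lit 0) .nil)))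
  (nat_lit 0x92bd4e0d16a) (nat_lit 0x931e03) (nat_lit 0) (.node (.node (.node .nil (nat_lit 0x92bd4e0d218)
  (nat_lit 0x6828c5) (nat_lit 0) .nil) (nat_lit 0x92bd4e0d523) (nat_lit 0x104b14c) (nat_lit 0) (.node .nil
  (nat_lit 0x92bd4e0d52c) (nat_lit 205318) (nat_lit 0) .nil)) (nat_lit 0x92bd4e0d85d) (nat_lit 180426)
  (nat_lit 0) (.node (.node .nil (nat_lit 0x92bd4e0d90e) (nat_lit 180425) (nat_lit 0) .nil) (nat_lit
  0x92bd4e0d980) (nat_lit 0x581949) (nat_lit 0) (.node .nil (nat_lit 0x92bd4e0dc18) (nat_lit 5638) (nat_lit 0)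
  .nil)))))))
def tT_51 : T := (.node (.node (.node (.node (.node (.node (.node .nil (nat_lit 0x92bd4e0df97) (nat_lit
  0x782962) (nat_lit 0) .nil) (nat_lit 0x92bd4e0e28f) (nat_lit 0xb2c0c3) (nat_lit 0) (.node .nil (nat_lit
  0x92bd4e0e3a2) (nat_lit 0x20752561) (nat_lit 0) .nil)) (nat_lit 0x92bd4e0e60e) (nat_lit 370960) (nat_lit 0)
  (.node (.node .nil (nat_lit 0x92bd4e0e688) (nat_lit 377125) (nat_lit 0) .nil) (nat_lit 0x92bd4e0ea7c)
  (nat_lit 0xb52209) (nat_lit 0) (.node .nil (nat_lit 0x92bd4e0eaa5) (nat_lit 273923) (nat_lit 0) .nil)))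
  (nat_lit 0x92bd4e0ed03) (nat_lit 0xa5a4d0) (nat_lit 0) (.node (.node (.node .nil (nat_lit 0x92bd4e0ee24)
  (nat_lit 0x652e03) (nat_lit 0) .nil) (nat_lit 0x92bd4e0ee69) (nat_lit 0x1032561) (nat_lit 0) (.node .nil
  (nat_lit 0x92bd4e0f2a2) (nat_lit 376999) (nat_lit 0) .nil)) (nat_lit 0x92bd4e0f471) (nat_lit 16618) (nat_lit
  0) (.node (.node .nil (nat_lit 0x92bd4e0f514) (nat_lit 16617) (nat_lit 0) .nil) (nat_lit 0x92bd4e0f735)
  (nat_lit 519) (nat_lit 0) (.node .nil (nat_lit 0x92bd4e0f76a) (nat_lit 531785) (nat_lit 0) .nil)))) (nat_lit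
  0x92bd4e0fb68) (nat_lit 16677) (nat_lit 0) (.node (.node (.node (.node .nil (nat_lit 0x92bd4e0fc0e) (nat_lit
  10512) (nat_lit 0) .nil) (nat_lit 0x92bd4e0fe2c) (nat_lit 336393) (nat_lit 0) (.node .nil (nat_lit
  0x92bd4e0fe5f) (nat_lit 4613) (nat_lit 0) .nil)) (nat_lit 0x92bd4e101e6) (nat_lit 0x65c0c3) (nat_lit 0)
  (.node (.node .nil (nat_lit 0x92bd4e1030a) (nat_lit 0x1042565) (nat_lit 0) .nil) (nat_lit 0x92bd4e1034c)
  (nat_lit 0xb51a06) (nat_lit 0) (.node .nil (nat_lit 0x92bd4e10785) (nat_lit 0x1052563) (nat_lit 0) .nil)))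
  (nat_lit 0x92bd4e10906) (nat_lit 0x782181) (nat_lit 0) (.node (.node (.node .nil (nat_lit 0x92bd4e10934)
  (nat_lit 0x10530e9) (nat_lit 0) .nil) (nat_lit 0x92bd4e10d94) (nat_lit 534919) (nat_lit 0) (.node .nil
  (nat_lit 0x92bd4e10da7) (nat_lit 0x944181) (nat_lit 0) .nil)) (nat_lit 0x92bd4e10ff4) (nat_lit 377127)
  (nat_lit 0) (.node (.node .nil (nat_lit 0x92bd4e1101e) (nat_lit 0xb81d43) (nat_lit 0) .nil) (nat_lit
  0x92bd4e11085) (nat_lit 0xb824ea) (nat_lit 0) (.node .nil (nat_lit 0x92bd4e113d3) (nat_lit 377059) (nat_lit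
  0) .nil))))) (nat_lit 0x92bd4e1173e) (nat_lit 0x931e01) (nat_lit 0) (.node (.node (.node (.node (.node .nil
  (nat_lit 0x92bd4e117b3) (nat_lit 0x751a02) (nat_lit 0) .nil) (nat_lit 0x92bd4e11ab9) (nat_lit 204292)
  (nat_lit 0) (.node .nil (nat_lit 0x92bd4e11b28) (nat_lit 0x1263c141) (nat_lit 0) .nil)) (nat_lit
  0x92bd4e11ea9) (nat_lit 0x9440ea) (nat_lit 0) (.node (.node .nil (nat_lit 0x92bd4e12190) (nat_lit 303623)
  (nat_lit 0) .nil) (nat_lit 0x92bd4e1221c) (nat_lit 0x1029d41) (nat_lit 0) (.node .nil (nat_lit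
  0x92bd4e1238e) (nat_lit 529633) (nat_lit 0) .nil))) (nat_lit 0x92bd4e125a3) (nat_lit 514) (nat_lit 0) (.node
  (.node (.node .nil (nat_lit 0x92bd4e128a9) (nat_lit 16674) (nat_lit 0) .nil) (nat_lit 0x92bd4e128b3)
  (nat_lit 16706) (nat_lit 0) (.node .nil (nat_lit 0x92bd4e12a42) (nat_lit 534818) (nat_lit 0) .nil)) (nat_lit
  0x92bd4e12c98) (nat_lit 513) (nat_lit 0x1917b236) (.node (.node .nil (nat_lit 0x92bd4e12fa0) (nat_lit 16673)
  (nat_lit 401) .nil) (nat_lit 0x92bd4e12faa) (nat_lit 16705) (nat_lit 12845) (.node .nil (nat_lit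
  0x92bd4e13183) (nat_lit 534817) (nat_lit 12846) .nil)))) (nat_lit 0x92bd4e132c1) (nat_lit 0xb340c1) (nat_lit
  0xd12be36) (.node (.node (.node (.node .nil (nat_lit 0x92bd4e136a5) (nat_lit 0x12b2c0a1) (nat_lit 0) .nil)
  (nat_lit 0x92bd4e13715) (nat_lit 0x781d4b) (nat_lit 0) (.node .nil (nat_lit 0x92bd4e1386b) (nat_lit
  0x1052562) (nat_lit 0) .nil)) (nat_lit 0x92bd4e139b1) (nat_lit 208390) (nat_lit 0) (.node (.node .nil
  (nat_lit 0x92bd4e13d98) (nat_lit 0x92ae05) (nat_lit 0) .nil) (nat_lit 0x92bd4e13e15) (nat_lit 0x1052569)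
  (nat_lit 0) (.node .nil (nat_lit 0x92bd4e13f64) (nat_lit 534827) (nat_lit 0) .nil))) (nat_lit 0x92bd4e140a8)
  (nat_lit 367110) (nat_lit 0xd17b236) (.node (.node (.node .nil (nat_lit 0x92bd4e1448d) (nat_lit 0x959605)
  (nat_lit 0) .nil) (nat_lit 0x92bd4e14509) (nat_lit 0xb340ca) (nat_lit 0) (.node .nil (nat_lit 0x92bd4e1464c)
  (nat_lit 0xa4ae02) (nat_lit 0) .nil)) (nat_lit 0x92bd4e1479f) (nat_lit 0x2095a8c2) (nat_lit 571523) (.node
  (.node .nil (nat_lit 0x92bd4e148ec) (nat_lit 0x682962) (nat_lit 0) .nil) (nat_lit 0x92bd4e14ad3) (nat_lit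
  0x482566) (nat_lit 0) (.node .nil (nat_lit 0x92bd4e14d43) (nat_lit 0x1059ca3) (nat_lit 0) .nil))))))
  (nat_lit 0x92bd4e14e96) (nat_lit 0x95c146) (nat_lit 0) (.node (.node (.node (.node (.node (.node .nil
  (nat_lit 0x92bd4e1519a) (nat_lit 0x959206) (nat_lit 0) .nil) (nat_lit 0x92bd4e151f9) (nat_lit 207216)
  (nat_lit 0) (.node .nil (nat_lit 0x92bd4e15445) (nat_lit 0xb814e3) (nat_lit 0) .nil)) (nat_lit
  0x92bd4e1565d) (nat_lit 0x20a3a4a1) (nat_lit 0) (.node (.node .nil (nat_lit 0x92bd4e158ee) (nat_lit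
  0x102a4e1) (nat_lit 0) .nil) (nat_lit 0x92bd4e15966) (nat_lit 0x103a8a2) (nat_lit 0) (.node .nil (nat_lit
  0x92bd4e15afb) (nat_lit 202245) (nat_lit 0) .nil))) (nat_lit 0x92bd4e15d52) (nat_lit 0x8828e9) (nat_lit 0)
  (.node (.node (.node .nil (nat_lit 0x92bd4e15dc2) (nat_lit 0x102a4e2) (nat_lit 0) .nil) (nat_lit
  0x92bd4e1605b) (nat_lit 278855) (nat_lit 0) (.node .nil (nat_lit 0x92bd4e1623e) (nat_lit 531619) (nat_lit 0)
  .nil)) (nat_lit 0x92bd4e1637a) (nat_lit 0x12b828c2) (nat_lit 17860) (.node (.node .nil (nat_lit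
  0x92bd4e166ad) (nat_lit 0x922e06) (nat_lit 0) .nil) (nat_lit 0x92bd4e16722) (nat_lit 0x652e02) (nat_lit 0)
  (.node .nil (nat_lit 0x92bd4e16926) (nat_lit 0xb81ca3) (nat_lit 0) .nil)))) (nat_lit 0x92bd4e169ae) (nat_lit
  0x14b824c2) (nat_lit 17865) (.node (.node (.node (.node .nil (nat_lit 0x92bd4e16df9) (nat_lit 0x64ae02)
  (nat_lit 0) .nil) (nat_lit 0x92bd4e16eb7) (nat_lit 0xa5c0c4) (nat_lit 0) (.node .nil (nat_lit 0x92bd4e1700c)
  (nat_lit 240816) (nat_lit 0) .nil)) (nat_lit 0x92bd4e17265) (nat_lit 0x93c10a) (nat_lit 0) (.node (.node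
  .nil (nat_lit 0x92bd4e17484) (nat_lit 0x72c141) (nat_lit 0) .nil) (nat_lit 0x92bd4e174b6) (nat_lit 302600)
  (nat_lit 0) (.node .nil (nat_lit 0x92bd4e17710) (nat_lit 235009) (nat_lit 0) .nil))) (nat_lit 0x92bd4e178eb)
  (nat_lit 335368) (nat_lit 0) (.node (.node (.node .nil (nat_lit 0x92bd4e1795a) (nat_lit 0xa3c109) (nat_lit
  0) .nil) (nat_lit 0x92bd4e17b62) (nat_lit 0x53c121) (nat_lit 0) (.node .nil (nat_lit 0x92bd4e17e05) (nat_lit
  171521) (nat_lit 0) .nil)) (nat_lit 0x92bd4e17f3f) (nat_lit 0xa5c126) (nat_lit 0) (.node (.node .nil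
  (nat_lit 0x92bd4e18292) (nat_lit 206192) (nat_lit 0) .nil) (nat_lit 0x92bd4e1839f) (nat_lit 0x1032963)
  (nat_lit 0) (.node .nil (nat_lit 0x92bd4e184cc) (nat_lit 235019) (nat_lit 0) .nil))))) (nat_lit
  0x92bd4e18634) (nat_lit 0x20a5a4c2) (nat_lit 17934) (.node (.node (.node (.node (.node .nil (nat_lit
  0x92bd4e186da) (nat_lit 0x682562) (nat_lit 0) .nil) (nat_lit 0x92bd4e18a96) (nat_lit 0x1052cc4) (nat_lit 0)
  (.node .nil (nat_lit 0x92bd4e18bc7) (nat_lit 171531) (nat_lit 0) .nil)) (nat_lit 0x92bd4e18d29) (nat_lit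
  16739) (nat_lit 0) (.node (.node .nil (nat_lit 0x92bd4e18dcf) (nat_lit 535875) (nat_lit 0) .nil) (nat_lit
  0x92bd4e19095) (nat_lit 535843) (nat_lit 0) (.node .nil (nat_lit 0x92bd4e192bc) (nat_lit 0x105a923) (nat_lit
  0) .nil))) (nat_lit 0x92bd4e19422) (nat_lit 376930) (nat_lit 572982) (.node (.node (.node .nil (nat_lit
  0x92bd4e19570) (nat_lit 0xb82462) (nat_lit 0) .nil) (nat_lit 0x92bd4e19771) (nat_lit 0xb82862) (nat_lit 0)
  (.node .nil (nat_lit 0x92bd4e199af) (nat_lit 0x17052462) (nat_lit 0) .nil)) (nat_lit 0x92bd4e19bad) (nat_lit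
  301574) (nat_lit 0) (.node (.node .nil (nat_lit 0x92bd4e19c24) (nat_lit 0x63c0a1) (nat_lit 0x30d17c616)
  .nil) (nat_lit 0x92bd4e19e33) (nat_lit 0xa340c1) (nat_lit 0) (.node .nil (nat_lit 0x92bd4e1a0d4) (nat_lit
  0x9340ca) (nat_lit 0) .nil)))) (nat_lit 0x92bd4e1a31b) (nat_lit 236037) (nat_lit 0) (.node (.node (.node
  (.node .nil (nat_lit 0x92bd4e1a539) (nat_lit 0x10424e6) (nat_lit 0) .nil) (nat_lit 0x92bd4e1a56f) (nat_lit
  0xa340c2) (nat_lit 0) (.node .nil (nat_lit 0x92bd4e1a7c9) (nat_lit 0x682926) (nat_lit 0xc345c3) .nil))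
  (nat_lit 0x92bd4e1a8e3) (nat_lit 11779) (nat_lit 0) (.node (.node .nil (nat_lit 0x92bd4e1ac70) (nat_lit
  377123) (nat_lit 0) .nil) (nat_lit 0x92bd4e1ac9a) (nat_lit 377155) (nat_lit 0) (.node .nil (nat_lit
  0x92bd4e1aeb5) (nat_lit 0xb82923) (nat_lit 0) .nil))) (nat_lit 0x92bd4e1afe9) (nat_lit 0x8640e3) (nat_lit 0)
  (.node (.node (.node .nil (nat_lit 0x92bd4e1b001) (nat_lit 0xa624f0) (nat_lit 0) .nil) (nat_lit
  0x92bd4e1b112) (nat_lit 0x54b202) (nat_lit 0) (.node .nil (nat_lit 0x92bd4e1b495) (nat_lit 0xc81547)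
  (nat_lit 0) .nil)) (nat_lit 0x92bd4e1b6e0) (nat_lit 0xa4b204) (nat_lit 0) (.node (.node .nil (nat_lit
  0x92bd4e1b6fc) (nat_lit 0xc29e04) (nat_lit 0) .nil) (nat_lit 0x92bd4e1b804) (nat_lit 0x653110) (nat_lit 0)
  (.node .nil (nat_lit 0x92bd4e1bb88) (nat_lit 0x102ad2c) (nat_lit 0) .nil)))))))
def tT_52 : T := (.node (.node (.node (.node (.node (.node (.node .nil (nat_lit 0x92bd4e1bdeb) (nat_lit
  0xc3c103) (nat_lit 0) .nil) (nat_lit 0x92bd4e1c03e) (nat_lit 0xa33205) (nat_lit 0) (.node .nil (nat_lit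
  0x92bd4e1c296) (nat_lit 0xb8152c) (nat_lit 0) .nil)) (nat_lit 0x92bd4e1c4bc) (nat_lit 0xc240a7) (nat_lit 0)
  (.node (.node .nil (nat_lit 0x92bd4e1c4e2) (nat_lit 0x12c82901) (nat_lit 0) .nil) (nat_lit 0x92bd4e1c8b5)
  (nat_lit 0x54b201) (nat_lit 0) (.node .nil (nat_lit 0x92bd4e1c98b) (nat_lit 0xa3b203) (nat_lit 0) .nil)))
  (nat_lit 0x92bd4e1cbf6) (nat_lit 0xa61e09) (nat_lit 0) (.node (.node (.node .nil (nat_lit 0x92bd4e1cc24)
  (nat_lit 0x8640e1) (nat_lit 0) .nil) (nat_lit 0x92bd4e1d079) (nat_lit 340208) (nat_lit 0) (.node .nil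
  (nat_lit 0x92bd4e1d085) (nat_lit 0xc824e5) (nat_lit 0) .nil)) (nat_lit 0x92bd4e1d2e6) (nat_lit 242184)
  (nat_lit 0) (.node (.node .nil (nat_lit 0x92bd4e1d30b) (nat_lit 0x14923201) (nat_lit 0) .nil) (nat_lit
  0x92bd4e1d76c) (nat_lit 0x764109) (nat_lit 0) (.node .nil (nat_lit 0x92bd4e1d77c) (nat_lit 0x105a987)
  (nat_lit 0) .nil)))) (nat_lit 0x92bd4e1d9db) (nat_lit 0xc3c101) (nat_lit 0) (.node (.node (.node (.node .nil
  (nat_lit 0x92bd4e1da02) (nat_lit 0x14961201) (nat_lit 0) .nil) (nat_lit 0x92bd4e1de51) (nat_lit 0xc49cb0)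
  (nat_lit 0) (.node .nil (nat_lit 0x92bd4e1de5d) (nat_lit 0x105a8ec) (nat_lit 0) .nil)) (nat_lit
  0x92bd4e1e0d7) (nat_lit 0x96410a) (nat_lit 0) (.node (.node .nil (nat_lit 0x92bd4e1e105) (nat_lit 401927)
  (nat_lit 0) .nil) (nat_lit 0x92bd4e1e544) (nat_lit 0xa3b201) (nat_lit 0) (.node .nil (nat_lit 0x92bd4e1e550)
  (nat_lit 307720) (nat_lit 0) .nil))) (nat_lit 0x92bd4e1e789) (nat_lit 0x19052581) (nat_lit 558) (.node
  (.node (.node .nil (nat_lit 0x92bd4e1eaf4) (nat_lit 0xb52207) (nat_lit 0) .nil) (nat_lit 0x92bd4e1ec27)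
  (nat_lit 0x1032562) (nat_lit 0) (.node .nil (nat_lit 0x92bd4e1ed37) (nat_lit 535781) (nat_lit 0) .nil))
  (nat_lit 0x92bd4e1ef7c) (nat_lit 0x10524a7) (nat_lit 0) (.node (.node .nil (nat_lit 0x92bd4e1f263) (nat_lit
  531625) (nat_lit 0) .nil) (nat_lit 0x92bd4e1f2ef) (nat_lit 531626) (nat_lit 0) (.node .nil (nat_lit
  0x92bd4e1f455) (nat_lit 16613) (nat_lit 0) .nil))))) (nat_lit 0x92bd4e1f594) (nat_lit 0xb39a05) (nat_lit
  0x68be36) (.node (.node (.node (.node (.node .nil (nat_lit 0x92bd4e1fa04) (nat_lit 0x10424ab) (nat_lit 0)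
  .nil) (nat_lit 0x92bd4e1fa1f) (nat_lit 0xc828ac) (nat_lit 0) (.node .nil (nat_lit 0x92bd4e1fb43) (nat_lit
  0x20a4ac62) (nat_lit 0) .nil)) (nat_lit 0x92bd4e1fd69) (nat_lit 16482) (nat_lit 0x1917c616) (.node (.node
  .nil (nat_lit 0x92bd4e1fde6) (nat_lit 533602) (nat_lit 4497) .nil) (nat_lit 0x92bd4e2006c) (nat_lit 534626)
  (nat_lit 143917) (.node .nil (nat_lit 0x92bd4e2024d) (nat_lit 0x1052462) (nat_lit 143918) .nil))) (nat_lit
  0x92bd4e2045e) (nat_lit 112) (nat_lit 0) (.node (.node (.node .nil (nat_lit 0x92bd4e20761) (nat_lit 3594)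
  (nat_lit 0) .nil) (nat_lit 0x92bd4e207d0) (nat_lit 3593) (nat_lit 0) (.node .nil (nat_lit 0x92bd4e20939)
  (nat_lit 115017) (nat_lit 0) .nil)) (nat_lit 0x92bd4e209c8) (nat_lit 0xb340c3) (nat_lit 0xd17c616) (.node
  (.node .nil (nat_lit 0x92bd4e20ee0) (nat_lit 0x849570) (nat_lit 0) .nil) (nat_lit 0x92bd4e20f05) (nat_lit
  0xc82985) (nat_lit 0) (.node .nil (nat_lit 0x92bd4e21004) (nat_lit 0x1495c062) (nat_lit 0) .nil)))) (nat_lit
  0x92bd4e21189) (nat_lit 0x783101) (nat_lit 0) (.node (.node (.node (.node .nil (nat_lit 0x92bd4e211b7)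
  (nat_lit 0x1051d89) (nat_lit 0) .nil) (nat_lit 0x92bd4e21602) (nat_lit 534764) (nat_lit 0) (.node .nil
  (nat_lit 0x92bd4e2162a) (nat_lit 0x944182) (nat_lit 0) .nil)) (nat_lit 0x92bd4e2187e) (nat_lit 0x1053127)
  (nat_lit 0) (.node (.node .nil (nat_lit 0x92bd4e218b0) (nat_lit 0x72c184) (nat_lit 0) .nil) (nat_lit
  0x92bd4e21cf9) (nat_lit 0x28152c) (nat_lit 0) (.node .nil (nat_lit 0x92bd4e21d27) (nat_lit 0x10530e3)
  (nat_lit 0) .nil))) (nat_lit 0x92bd4e21f73) (nat_lit 0x102a58a) (nat_lit 0) (.node (.node (.node .nil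
  (nat_lit 0x92bd4e21fa5) (nat_lit 0x53c184) (nat_lit 0) .nil) (nat_lit 0x92bd4e22403) (nat_lit 529708)
  (nat_lit 0) (.node .nil (nat_lit 0x92bd4e2241c) (nat_lit 0x1051d83) (nat_lit 0) .nil)) (nat_lit
  0x92bd4e22666) (nat_lit 246152) (nat_lit 0) (.node (.node .nil (nat_lit 0x92bd4e22695) (nat_lit 0x20a3b121)
  (nat_lit 0) .nil) (nat_lit 0x92bd4e22758) (nat_lit 0x1051d81) (nat_lit 0) (.node .nil (nat_lit
  0x92bd4e22854) (nat_lit 0x1049185) (nat_lit 0) .nil)))))) (nat_lit 0x92bd4e22dda) (nat_lit 0x549e01)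
  (nat_lit 0) (.node (.node (.node (.node (.node (.node .nil (nat_lit 0x92bd4e22e55) (nat_lit 0xa93c141)
  (nat_lit 0) .nil) (nat_lit 0x92bd4e230c3) (nat_lit 0x53c143) (nat_lit 0) (.node .nil (nat_lit 0x92bd4e232f5)
  (nat_lit 171523) (nat_lit 0) .nil)) (nat_lit 0x92bd4e23555) (nat_lit 7691) (nat_lit 0) (.node (.node .nil
  (nat_lit 0x92bd4e23751) (nat_lit 0x782d49) (nat_lit 0) .nil) (nat_lit 0x92bd4e237b0) (nat_lit 246122)
  (nat_lit 0) (.node .nil (nat_lit 0x92bd4e23817) (nat_lit 533863) (nat_lit 0) .nil))) (nat_lit 0x92bd4e23b99)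
  (nat_lit 0x1051901) (nat_lit 0) (.node (.node (.node .nil (nat_lit 0x92bd4e23c14) (nat_lit 0x10424c2)
  (nat_lit 0) .nil) (nat_lit 0x92bd4e23ef5) (nat_lit 0x20a4a0c1) (nat_lit 0) (.node .nil (nat_lit
  0x92bd4e23f80) (nat_lit 180419) (nat_lit 0) .nil)) (nat_lit 0x92bd4e2428c) (nat_lit 301296) (nat_lit 0)
  (.node (.node .nil (nat_lit 0x92bd4e2430a) (nat_lit 0x851a06) (nat_lit 0) .nil) (nat_lit 0x92bd4e24607)
  (nat_lit 246023) (nat_lit 0) (.node .nil (nat_lit 0x92bd4e24677) (nat_lit 0x931e0a) (nat_lit 0) .nil))))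
  (nat_lit 0x92bd4e24a33) (nat_lit 0x1052d25) (nat_lit 0) (.node (.node (.node (.node .nil (nat_lit
  0x92bd4e24cfc) (nat_lit 535880) (nat_lit 0) .nil) (nat_lit 0x92bd4e24d89) (nat_lit 535811) (nat_lit 0)
  (.node .nil (nat_lit 0x92bd4e24e4d) (nat_lit 0xb49601) (nat_lit 0) .nil)) (nat_lit 0x92bd4e250a7) (nat_lit
  0xa340c3) (nat_lit 0) (.node (.node .nil (nat_lit 0x92bd4e2511f) (nat_lit 199174) (nat_lit 0) .nil) (nat_lit
  0x92bd4e25392) (nat_lit 0x939a05) (nat_lit 0) (.node .nil (nat_lit 0x92bd4e255c4) (nat_lit 0xb8292b)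
  (nat_lit 411150) .nil))) (nat_lit 0x92bd4e25814) (nat_lit 6662) (nat_lit 0x1f153e36) (.node (.node (.node
  .nil (nat_lit 0x92bd4e25a2a) (nat_lit 213194) (nat_lit 0) .nil) (nat_lit 0x92bd4e25a89) (nat_lit 213193)
  (nat_lit 0) (.node .nil (nat_lit 0x92bd4e25cb9) (nat_lit 0x681949) (nat_lit 0) .nil)) (nat_lit
  0x92bd4e25f0e) (nat_lit 0x751609) (nat_lit 0) (.node (.node .nil (nat_lit 0x92bd4e26123) (nat_lit 246056)
  (nat_lit 0) .nil) (nat_lit 0x92bd4e2617c) (nat_lit 239792) (nat_lit 0) (.node .nil (nat_lit 0x92bd4e263b0)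
  (nat_lit 235011) (nat_lit 0) .nil))))) (nat_lit 0x92bd4e26504) (nat_lit 0x20652d22) (nat_lit 214467) (.node
  (.node (.node (.node (.node .nil (nat_lit 0x92bd4e2659b) (nat_lit 0x932e04) (nat_lit 0) .nil) (nat_lit
  0x92bd4e268a5) (nat_lit 0x1032962) (nat_lit 0) (.node .nil (nat_lit 0x92bd4e26aae) (nat_lit 0x759603)
  (nat_lit 0) .nil)) (nat_lit 0x92bd4e26bfb) (nat_lit 368) (nat_lit 0) (.node (.node .nil (nat_lit
  0x92bd4e26c8e) (nat_lit 11786) (nat_lit 0) .nil) (nat_lit 0x92bd4e26f9a) (nat_lit 11785) (nat_lit 0) (.node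
  .nil (nat_lit 0x92bd4e271a0) (nat_lit 377161) (nat_lit 0) .nil))) (nat_lit 0x92bd4e272f2) (nat_lit 16738)
  (nat_lit 0x117b236) (.node (.node (.node .nil (nat_lit 0x92bd4e27632) (nat_lit 535874) (nat_lit 0) .nil)
  (nat_lit 0x92bd4e27693) (nat_lit 535842) (nat_lit 0) (.node .nil (nat_lit 0x92bd4e278a0) (nat_lit 0x105a922)
  (nat_lit 0) .nil)) (nat_lit 0x92bd4e279e9) (nat_lit 11778) (nat_lit 0x112be36) (.node (.node .nil (nat_lit
  0x92bd4e27d32) (nat_lit 377122) (nat_lit 0) .nil) (nat_lit 0x92bd4e27d6a) (nat_lit 377154) (nat_lit 0)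
  (.node .nil (nat_lit 0x92bd4e27f8b) (nat_lit 0xb82922) (nat_lit 0) .nil)))) (nat_lit 0x92bd4e280e0) (nat_lit
  523) (nat_lit 0) (.node (.node (.node (.node .nil (nat_lit 0x92bd4e281a8) (nat_lit 16745) (nat_lit 0) .nil)
  (nat_lit 0x92bd4e2845f) (nat_lit 16746) (nat_lit 0) (.node .nil (nat_lit 0x92bd4e2868d) (nat_lit 535881)
  (nat_lit 0) .nil)) (nat_lit 0x92bd4e2886a) (nat_lit 0x681921) (nat_lit 0) (.node (.node .nil (nat_lit
  0x92bd4e288d2) (nat_lit 213185) (nat_lit 0x1e58be36) .nil) (nat_lit 0x92bd4e28aec) (nat_lit 0x681941)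
  (nat_lit 0) (.node .nil (nat_lit 0x92bd4e28d52) (nat_lit 0xa49a06) (nat_lit 0) .nil))) (nat_lit
  0x92bd4e28fc9) (nat_lit 213186) (nat_lit 0) (.node (.node (.node .nil (nat_lit 0x92bd4e291be) (nat_lit
  0x681942) (nat_lit 0) .nil) (nat_lit 0x92bd4e29216) (nat_lit 0x681922) (nat_lit 0) (.node .nil (nat_lit
  0x92bd4e29449) (nat_lit 0x105a92b) (nat_lit 411081) .nil)) (nat_lit 0x92bd4e296bb) (nat_lit 0x549e0a)
  (nat_lit 0) (.node (.node .nil (nat_lit 0x92bd4e298b7) (nat_lit 173296) (nat_lit 0) .nil) (nat_lit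
  0x92bd4e2990d) (nat_lit 0x751602) (nat_lit 0) (.node .nil (nat_lit 0x92bd4e29b3e) (nat_lit 171120) (nat_lit
  0) .nil)))))))
def tT_53 : T := (.node (.node (.node (.node (.node (.node (.node .nil (nat_lit 0x92bd4e29db0) (nat_lit
  0x93c148) (nat_lit 0) .nil) (nat_lit 0x92bd4e29fcb) (nat_lit 0x782501) (nat_lit 0) (.node .nil (nat_lit
  0x92bd4e2a235) (nat_lit 204295) (nat_lit 0) .nil)) (nat_lit 0x92bd4e2a3a9) (nat_lit 0x95a8d0) (nat_lit 0)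
  (.node (.node .nil (nat_lit 0x92bd4e2a6ed) (nat_lit 0x682563) (nat_lit 0) .nil) (nat_lit 0x92bd4e2a74c)
  (nat_lit 0x1032961) (nat_lit 0) (.node .nil (nat_lit 0x92bd4e2a959) (nat_lit 0x72ae03) (nat_lit 0) .nil)))
  (nat_lit 0x92bd4e2aaa6) (nat_lit 0x1032969) (nat_lit 0) (.node (.node (.node .nil (nat_lit 0x92bd4e2aded)
  (nat_lit 530763) (nat_lit 0) .nil) (nat_lit 0x92bd4e2ae1d) (nat_lit 0x64ae03) (nat_lit 0) (.node .nil
  (nat_lit 0x92bd4e2b044) (nat_lit 0x72c163) (nat_lit 0) .nil)) (nat_lit 0x92bd4e2b19b) (nat_lit 0x12b51a02)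
  (nat_lit 6702) (.node (.node .nil (nat_lit 0x92bd4e2b32d) (nat_lit 0xa22e06) (nat_lit 0) .nil) (nat_lit
  0x92bd4e2b514) (nat_lit 0x934164) (nat_lit 0) (.node .nil (nat_lit 0x92bd4e2b748) (nat_lit 0x53c163)
  (nat_lit 0) .nil)))) (nat_lit 0x92bd4e2b7d2) (nat_lit 531845) (nat_lit 0) (.node (.node (.node (.node .nil
  (nat_lit 0x92bd4e2b8aa) (nat_lit 0x1052581) (nat_lit 0) .nil) (nat_lit 0x92bd4e2ba22) (nat_lit 0x1052186)
  (nat_lit 0) (.node .nil (nat_lit 0x92bd4e2bc40) (nat_lit 0x103b0a9) (nat_lit 0) .nil)) (nat_lit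
  0x92bd4e2bec9) (nat_lit 0x105246c) (nat_lit 0) (.node (.node .nil (nat_lit 0x92bd4e2bf9d) (nat_lit 0x381d85)
  (nat_lit 0) .nil) (nat_lit 0x92bd4e2c023) (nat_lit 0x939a0c) (nat_lit 0) (.node .nil (nat_lit 0x92bd4e2c343)
  (nat_lit 0x1061d45) (nat_lit 0) .nil))) (nat_lit 0x92bd4e2c6ba) (nat_lit 0xc82d25) (nat_lit 0) (.node (.node
  (.node .nil (nat_lit 0x92bd4e2c7af) (nat_lit 0xc8214b) (nat_lit 0) .nil) (nat_lit 0x92bd4e2c975) (nat_lit
  0x1051d2c) (nat_lit 0) (.node .nil (nat_lit 0x92bd4e2cb13) (nat_lit 0x883061) (nat_lit 0) .nil)) (nat_lit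
  0x92bd4e2cdc4) (nat_lit 0x10520c1) (nat_lit 0) (.node (.node .nil (nat_lit 0x92bd4e2ce3c) (nat_lit 532774)
  (nat_lit 0) .nil) (nat_lit 0x92bd4e2d044) (nat_lit 0x10424ca) (nat_lit 0) (.node .nil (nat_lit
  0x92bd4e2d1b7) (nat_lit 530692) (nat_lit 0) .nil))))) (nat_lit 0x92bd4e2d5b1) (nat_lit 0x75c142) (nat_lit 0)
  (.node (.node (.node (.node (.node .nil (nat_lit 0x92bd4e2d79a) (nat_lit 0xa6412c) (nat_lit 0) .nil)
  (nat_lit 0x92bd4e2d830) (nat_lit 241154) (nat_lit 0) (.node .nil (nat_lit 0x92bd4e2d832) (nat_lit 0x95c0e2)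
  (nat_lit 17731) .nil)) (nat_lit 0x92bd4e2dda5) (nat_lit 0x14b824a2) (nat_lit 0) (.node (.node .nil (nat_lit
  0x92bd4e2df29) (nat_lit 0xb82902) (nat_lit 566692) .nil) (nat_lit 0x92bd4e2dfb6) (nat_lit 180580) (nat_lit
  0) (.node .nil (nat_lit 0x92bd4e2e07a) (nat_lit 0xb49602) (nat_lit 0) .nil))) (nat_lit 0x92bd4e2e2a9)
  (nat_lit 302288) (nat_lit 0) (.node (.node (.node .nil (nat_lit 0x92bd4e2e31e) (nat_lit 0x751a01) (nat_lit
  0) .nil) (nat_lit 0x92bd4e2e527) (nat_lit 0x734081) (nat_lit 0) (.node .nil (nat_lit 0x92bd4e2e693) (nat_lit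
  0x939a0a) (nat_lit 0) .nil)) (nat_lit 0x92bd4e2e97d) (nat_lit 0x1061542) (nat_lit 0) (.node (.node .nil
  (nat_lit 0x92bd4e2ec40) (nat_lit 536738) (nat_lit 0) .nil) (nat_lit 0x92bd4e2ede2) (nat_lit 0x20c2a922)
  (nat_lit 0) (.node .nil (nat_lit 0x92bd4e2ee6d) (nat_lit 0x1061522) (nat_lit 0) .nil)))) (nat_lit
  0x92bd4e2f074) (nat_lit 529802) (nat_lit 0) (.node (.node (.node (.node .nil (nat_lit 0x92bd4e2f366)
  (nat_lit 16556) (nat_lit 0) .nil) (nat_lit 0x92bd4e2f4c2) (nat_lit 0x102b149) (nat_lit 0) (.node .nil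
  (nat_lit 0x92bd4e2f562) (nat_lit 529801) (nat_lit 0) .nil)) (nat_lit 0x92bd4e2f773) (nat_lit 536869)
  (nat_lit 0) (.node (.node .nil (nat_lit 0x92bd4e2f86c) (nat_lit 0x1023145) (nat_lit 0) .nil) (nat_lit
  0x92bd4e2fa5d) (nat_lit 0x10624aa) (nat_lit 0) (.node .nil (nat_lit 0x92bd4e2fbb9) (nat_lit 147628) (nat_lit
  0) .nil))) (nat_lit 0x92bd4e30243) (nat_lit 0x10624c7) (nat_lit 0) (.node (.node (.node .nil (nat_lit
  0x92bd4e302c7) (nat_lit 0x481d86) (nat_lit 0) .nil) (nat_lit 0x92bd4e30342) (nat_lit 0x14782582) (nat_lit 0)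
  (.node .nil (nat_lit 0x92bd4e3036e) (nat_lit 0x82c14c) (nat_lit 0) .nil)) (nat_lit 0x92bd4e3066d) (nat_lit
  0xb53209) (nat_lit 0) (.node (.node .nil (nat_lit 0x92bd4e30919) (nat_lit 371088) (nat_lit 0) .nil) (nat_lit
  0x92bd4e30993) (nat_lit 0x1061cc3) (nat_lit 0) (.node .nil (nat_lit 0x92bd4e30a5d) (nat_lit 0x934182)
  (nat_lit 0) .nil)))))) (nat_lit 0x92bd4e3102d) (nat_lit 0xb8298b) (nat_lit 0) (.node (.node (.node (.node
  (.node (.node .nil (nat_lit 0x92bd4e31039) (nat_lit 0x78292c) (nat_lit 0) .nil) (nat_lit 0x92bd4e3108c)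
  (nat_lit 0x103b0c3) (nat_lit 0) (.node .nil (nat_lit 0x92bd4e31152) (nat_lit 0x934181) (nat_lit 0) .nil))
  (nat_lit 0x92bd4e3144d) (nat_lit 301580) (nat_lit 0) (.node (.node .nil (nat_lit 0x92bd4e31644) (nat_lit
  0xb53202) (nat_lit 0) .nil) (nat_lit 0x92bd4e31704) (nat_lit 0x93418a) (nat_lit 0) (.node .nil (nat_lit
  0x92bd4e3177e) (nat_lit 0x10330e3) (nat_lit 0) .nil))) (nat_lit 0x92bd4e31aef) (nat_lit 0xb53201) (nat_lit
  0) (.node (.node (.node .nil (nat_lit 0x92bd4e31d62) (nat_lit 0x93320b) (nat_lit 0) .nil) (nat_lit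
  0x92bd4e31e3c) (nat_lit 0x16a64121) (nat_lit 0) (.node .nil (nat_lit 0x92bd4e31e71) (nat_lit 0x1031d83)
  (nat_lit 0) .nil)) (nat_lit 0x92bd4e32132) (nat_lit 536746) (nat_lit 0) (.node (.node .nil (nat_lit
  0x92bd4e321f0) (nat_lit 0x1061549) (nat_lit 0) .nil) (nat_lit 0x92bd4e3241c) (nat_lit 16773) (nat_lit 0)
  (.node .nil (nat_lit 0x92bd4e3261a) (nat_lit 536745) (nat_lit 0) .nil)))) (nat_lit 0x92bd4e32827) (nat_lit
  0x102b142) (nat_lit 0) (.node (.node (.node (.node .nil (nat_lit 0x92bd4e3287e) (nat_lit 529794) (nat_lit 0)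
  .nil) (nat_lit 0x92bd4e32bb6) (nat_lit 0x20562922) (nat_lit 0) (.node .nil (nat_lit 0x92bd4e32d17) (nat_lit
  0x102b122) (nat_lit 0) .nil)) (nat_lit 0x92bd4e32f20) (nat_lit 0x10624a2) (nat_lit 0) (.node (.node .nil
  (nat_lit 0x92bd4e32f73) (nat_lit 0x20a3a581) (nat_lit 0) .nil) (nat_lit 0x92bd4e3301d) (nat_lit 0x883143)
  (nat_lit 0) (.node .nil (nat_lit 0x92bd4e3312f) (nat_lit 278915) (nat_lit 0) .nil))) (nat_lit 0x92bd4e33615)
  (nat_lit 0x10624a1) (nat_lit 0) (.node (.node (.node .nil (nat_lit 0x92bd4e336cc) (nat_lit 147845) (nat_lit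
  0) .nil) (nat_lit 0x92bd4e33716) (nat_lit 0x682986) (nat_lit 0) (.node .nil (nat_lit 0x92bd4e338ff) (nat_lit
  0x20c49541) (nat_lit 0) .nil)) (nat_lit 0x92bd4e33e14) (nat_lit 0x1061d46) (nat_lit 0) (.node (.node .nil
  (nat_lit 0x92bd4e34007) (nat_lit 0x682583) (nat_lit 0) .nil) (nat_lit 0x92bd4e34134) (nat_lit 0x4818ec)
  (nat_lit 0) (.node .nil (nat_lit 0x92bd4e341e6) (nat_lit 0xa3c12c) (nat_lit 0) .nil))))) (nat_lit
  0x92bd4e344b2) (nat_lit 0x104a187) (nat_lit 0) (.node (.node (.node (.node (.node .nil (nat_lit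
  0x92bd4e34723) (nat_lit 0xb53204) (nat_lit 0) .nil) (nat_lit 0x92bd4e347fd) (nat_lit 0x481987) (nat_lit 0)
  (.node .nil (nat_lit 0x92bd4e348db) (nat_lit 0x16a64124) (nat_lit 0) .nil)) (nat_lit 0x92bd4e34be8) (nat_lit
  0xc82928) (nat_lit 0) (.node (.node .nil (nat_lit 0x92bd4e34ded) (nat_lit 12464) (nat_lit 0) .nil) (nat_lit
  0x92bd4e34ea7) (nat_lit 398858) (nat_lit 0) (.node .nil (nat_lit 0x92bd4e35010) (nat_lit 398857) (nat_lit 0)
  .nil))) (nat_lit 0x92bd4e3548e) (nat_lit 176642) (nat_lit 0) (.node (.node (.node .nil (nat_lit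
  0x92bd4e355b6) (nat_lit 0x564142) (nat_lit 0) .nil) (nat_lit 0x92bd4e35644) (nat_lit 0xac82922) (nat_lit 0)
  (.node .nil (nat_lit 0x92bd4e35705) (nat_lit 0x564122) (nat_lit 0) .nil)) (nat_lit 0x92bd4e358a0) (nat_lit
  0xb82982) (nat_lit 0) (.node (.node .nil (nat_lit 0x92bd4e359e7) (nat_lit 0x761a03) (nat_lit 0) .nil)
  (nat_lit 0x92bd4e35d47) (nat_lit 0x17053122) (nat_lit 0) (.node .nil (nat_lit 0x92bd4e35db7) (nat_lit
  0x104b166) (nat_lit 0) .nil)))) (nat_lit 0x92bd4e35f97) (nat_lit 535884) (nat_lit 0) (.node (.node (.node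
  (.node .nil (nat_lit 0x92bd4e36304) (nat_lit 0x63b203) (nat_lit 0) .nil) (nat_lit 0x92bd4e36429) (nat_lit
  0x105a989) (nat_lit 0) (.node .nil (nat_lit 0x92bd4e364ac) (nat_lit 307718) (nat_lit 0) .nil)) (nat_lit
  0x92bd4e3668a) (nat_lit 377164) (nat_lit 0) (.node (.node .nil (nat_lit 0x92bd4e367a1) (nat_lit 0xb82989)
  (nat_lit 0) .nil) (nat_lit 0x92bd4e369fc) (nat_lit 0xc39a03) (nat_lit 0) (.node .nil (nat_lit 0x92bd4e36ba4)
  (nat_lit 0x9640c1) (nat_lit 0) .nil))) (nat_lit 0x92bd4e36d81) (nat_lit 0x105a982) (nat_lit 0) (.node (.node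
  (.node .nil (nat_lit 0x92bd4e36fc3) (nat_lit 0x20b53122) (nat_lit 0) .nil) (nat_lit 0x92bd4e37099) (nat_lit
  0x661e03) (nat_lit 0) (.node .nil (nat_lit 0x92bd4e37297) (nat_lit 0x9640c2) (nat_lit 0) .nil)) (nat_lit
  0x92bd4e37782) (nat_lit 398850) (nat_lit 0) (.node (.node .nil (nat_lit 0x92bd4e37871) (nat_lit 0x19052502)
  (nat_lit 0) .nil) (nat_lit 0x92bd4e37888) (nat_lit 0xc2c142) (nat_lit 0) (.node .nil (nat_lit 0x92bd4e379d7)
  (nat_lit 0xc2c122) (nat_lit 0) .nil)))))))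
def tT_54 : T := (.node (.node (.node (.node (.node (.node (.node .nil (nat_lit 0x92bd4e37f7d) (nat_lit
  176650) (nat_lit 0) .nil) (nat_lit 0x92bd4e3801f) (nat_lit 0x564149) (nat_lit 0) (.node .nil (nat_lit
  0x92bd4e3802c) (nat_lit 176649) (nat_lit 0) .nil)) (nat_lit 0x92bd4e386db) (nat_lit 0x683121) (nat_lit 0)
  (.node (.node .nil (nat_lit 0x92bd4e38781) (nat_lit 0x683141) (nat_lit 0) .nil) (nat_lit 0x92bd4e387a8)
  (nat_lit 213377) (nat_lit 0) (.node .nil (nat_lit 0x92bd4e387af) (nat_lit 0xd062921) (nat_lit 0) .nil)))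
  (nat_lit 0x92bd4e38aa3) (nat_lit 6668) (nat_lit 0) (.node (.node (.node .nil (nat_lit 0x92bd4e38aa6)
  (nat_lit 0x683149) (nat_lit 0) .nil) (nat_lit 0x92bd4e38dd5) (nat_lit 213385) (nat_lit 0) (.node .nil
  (nat_lit 0x92bd4e38e7a) (nat_lit 213386) (nat_lit 0) .nil)) (nat_lit 0x92bd4e393b5) (nat_lit 0x12b53201)
  (nat_lit 0) (.node (.node .nil (nat_lit 0x92bd4e393b8) (nat_lit 209419) (nat_lit 0) .nil) (nat_lit
  0x92bd4e394ce) (nat_lit 0x583127) (nat_lit 0) (.node .nil (nat_lit 0x92bd4e3956f) (nat_lit 0x782983)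
  (nat_lit 0) .nil)))) (nat_lit 0x92bd4e39bc0) (nat_lit 0x683122) (nat_lit 0) (.node (.node (.node (.node .nil
  (nat_lit 0x92bd4e39c64) (nat_lit 0x683142) (nat_lit 0) .nil) (nat_lit 0x92bd4e39c8b) (nat_lit 213378)
  (nat_lit 0) (.node .nil (nat_lit 0x92bd4e39c92) (nat_lit 0x95a990) (nat_lit 0) .nil)) (nat_lit
  0x92bd4e39e3f) (nat_lit 0xc81d42) (nat_lit 0) (.node (.node .nil (nat_lit 0x92bd4e39f2b) (nat_lit
  0x14c824c1) (nat_lit 0) .nil) (nat_lit 0x92bd4e39f77) (nat_lit 0xc81d22) (nat_lit 0) (.node .nil (nat_lit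
  0x92bd4e3a08c) (nat_lit 409826) (nat_lit 0) .nil))) (nat_lit 0x92bd4e3a55f) (nat_lit 0x45c14c) (nat_lit 0)
  (.node (.node (.node .nil (nat_lit 0x92bd4e3a57b) (nat_lit 0x9620f0) (nat_lit 0) .nil) (nat_lit
  0x92bd4e3a76c) (nat_lit 0xc39a04) (nat_lit 0) (.node .nil (nat_lit 0x92bd4e3a84b) (nat_lit 0x12c828c2)
  (nat_lit 0) .nil)) (nat_lit 0x92bd4e3af29) (nat_lit 0x92320a) (nat_lit 0) (.node (.node .nil (nat_lit
  0x92bd4e3b018) (nat_lit 0x14764101) (nat_lit 0) .nil) (nat_lit 0x92bd4e3b12f) (nat_lit 0x5640e5) (nat_lit 0)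
  (.node .nil (nat_lit 0x92bd4e3b15f) (nat_lit 299408) (nat_lit 0) .nil))))) (nat_lit 0x92bd4e3b6e2) (nat_lit
  0x19052121) (nat_lit 0) (.node (.node (.node (.node (.node .nil (nat_lit 0x92bd4e3b71b) (nat_lit 0xc49601)
  (nat_lit 0) .nil) (nat_lit 0x92bd4e3b7d0) (nat_lit 176644) (nat_lit 0) (.node .nil (nat_lit 0x92bd4e3b870)
  (nat_lit 0xc82901) (nat_lit 0) .nil)) (nat_lit 0x92bd4e3b989) (nat_lit 0xa640a8) (nat_lit 0) (.node (.node
  .nil (nat_lit 0x92bd4e3ba5a) (nat_lit 0x961206) (nat_lit 0) .nil) (nat_lit 0x92bd4e3bd8f) (nat_lit 0x964146)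
  (nat_lit 0) (.node .nil (nat_lit 0x92bd4e3bea8) (nat_lit 0x761a04) (nat_lit 0) .nil))) (nat_lit
  0x92bd4e3c107) (nat_lit 409834) (nat_lit 0) (.node (.node (.node .nil (nat_lit 0x92bd4e3c241) (nat_lit
  409833) (nat_lit 0) .nil) (nat_lit 0x92bd4e3c3f5) (nat_lit 0xc81d49) (nat_lit 0) (.node .nil (nat_lit
  0x92bd4e3c536) (nat_lit 12807) (nat_lit 0) .nil)) (nat_lit 0x92bd4e3c804) (nat_lit 0xc24147) (nat_lit 0)
  (.node (.node .nil (nat_lit 0x92bd4e3c93a) (nat_lit 0x54b205) (nat_lit 0) .nil) (nat_lit 0x92bd4e3cbaa)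
  (nat_lit 0xa64126) (nat_lit 0) (.node .nil (nat_lit 0x92bd4e3cc41) (nat_lit 536935) (nat_lit 0) .nil))))
  (nat_lit 0x92bd4e3cf15) (nat_lit 0x482d4c) (nat_lit 0) (.node (.node (.node (.node .nil (nat_lit
  0x92bd4e3cf3b) (nat_lit 0x923206) (nat_lit 0) .nil) (nat_lit 0x92bd4e3d272) (nat_lit 0x14564125) (nat_lit 0)
  (.node .nil (nat_lit 0x92bd4e3d3a1) (nat_lit 0x63b204) (nat_lit 0) .nil)) (nat_lit 0x92bd4e3d61e) (nat_lit
  0xa64105) (nat_lit 0) (.node (.node .nil (nat_lit 0x92bd4e3d636) (nat_lit 0xc498f0) (nat_lit 0) .nil)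
  (nat_lit 0x92bd4e3d67a) (nat_lit 0x12c828c1) (nat_lit 0) (.node .nil (nat_lit 0x92bd4e3d703) (nat_lit
  0x661e04) (nat_lit 0) .nil))) (nat_lit 0x92bd4e3ddf1) (nat_lit 402608) (nat_lit 0) (.node (.node (.node .nil
  (nat_lit 0x92bd4e3e0aa) (nat_lit 0xc82909) (nat_lit 0) .nil) (nat_lit 0x92bd4e3e154) (nat_lit 409928)
  (nat_lit 0) (.node .nil (nat_lit 0x92bd4e3e198) (nat_lit 409859) (nat_lit 0) .nil)) (nat_lit 0x92bd4e3e6c1)
  (nat_lit 0x12464141) (nat_lit 0) (.node (.node .nil (nat_lit 0x92bd4e3e7dd) (nat_lit 0xa3b208) (nat_lit 0)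
  .nil) (nat_lit 0x92bd4e3e8e3) (nat_lit 0xc2c0e5) (nat_lit 0) (.node .nil (nat_lit 0x92bd4e3e940) (nat_lit
  0x923201) (nat_lit 0) .nil)))))) (nat_lit 0x92bd4e3ead0) (nat_lit 0xc81d41) (nat_lit 0) (.node (.node (.node
  (.node (.node (.node .nil (nat_lit 0x92bd4e3ebda) (nat_lit 409825) (nat_lit 0) .nil) (nat_lit 0x92bd4e3ec03)
  (nat_lit 0xc81d21) (nat_lit 0) (.node .nil (nat_lit 0x92bd4e3ee35) (nat_lit 0x1903a921) (nat_lit 0) .nil))
  (nat_lit 0x92bd4e3f4f3) (nat_lit 0x12c24141) (nat_lit 0) (.node (.node .nil (nat_lit 0x92bd4e3f5ca) (nat_lit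
  0x664145) (nat_lit 0) .nil) (nat_lit 0x92bd4e3f6d0) (nat_lit 0xc340a3) (nat_lit 0) (.node .nil (nat_lit
  0x92bd4e3f72b) (nat_lit 0x961201) (nat_lit 0) .nil))) (nat_lit 0x92bd4e3fa5c) (nat_lit 0x1474b201) (nat_lit
  0) (.node (.node (.node .nil (nat_lit 0x92bd4e3fcda) (nat_lit 0xc24128) (nat_lit 0) .nil) (nat_lit
  0x92bd4e3fd2b) (nat_lit 0xc34147) (nat_lit 0) (.node .nil (nat_lit 0x92bd4e3fd71) (nat_lit 111112) (nat_lit
  0) .nil)) (nat_lit 0x92bd4e3ffb9) (nat_lit 0xc8288c) (nat_lit 0) (.node (.node .nil (nat_lit 0x92bd4e3ffe5)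
  (nat_lit 0x959603) (nat_lit 0) .nil) (nat_lit 0x92bd4e4004a) (nat_lit 0x832e06) (nat_lit 0) (.node .nil
  (nat_lit 0x92bd4e40104) (nat_lit 0x10524ab) (nat_lit 0) .nil)))) (nat_lit 0x92bd4e40701) (nat_lit 534728)
  (nat_lit 0) (.node (.node (.node (.node .nil (nat_lit 0x92bd4e4077b) (nat_lit 0x929e05) (nat_lit 0) .nil)
  (nat_lit 0x92bd4e40a5f) (nat_lit 0x1052506) (nat_lit 0) (.node .nil (nat_lit 0x92bd4e40af6) (nat_lit 167430)
  (nat_lit 0) .nil)) (nat_lit 0x92bd4e410cf) (nat_lit 401926) (nat_lit 0) (.node (.node .nil (nat_lit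
  0x92bd4e410dd) (nat_lit 0xc49e04) (nat_lit 0) .nil) (nat_lit 0x92bd4e41194) (nat_lit 0x14961602) (nat_lit 0)
  (.node .nil (nat_lit 0x92bd4e412ef) (nat_lit 0xc828c5) (nat_lit 0) .nil))) (nat_lit 0x92bd4e41645) (nat_lit
  0x103a564) (nat_lit 0) (.node (.node (.node .nil (nat_lit 0x92bd4e41819) (nat_lit 0x104ad47) (nat_lit 0)
  .nil) (nat_lit 0x92bd4e41836) (nat_lit 273926) (nat_lit 0) (.node .nil (nat_lit 0x92bd4e41a07) (nat_lit
  0x105a8c5) (nat_lit 0) .nil)) (nat_lit 0x92bd4e41ba7) (nat_lit 12400) (nat_lit 0) (.node (.node .nil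
  (nat_lit 0x92bd4e41c9f) (nat_lit 396810) (nat_lit 0) .nil) (nat_lit 0x92bd4e42027) (nat_lit 396809) (nat_lit
  0) (.node .nil (nat_lit 0x92bd4e420b8) (nat_lit 0xc1c149) (nat_lit 0) .nil))))) (nat_lit 0x92bd4e421f3)
  (nat_lit 111105) (nat_lit 0) (.node (.node (.node (.node (.node .nil (nat_lit 0x92bd4e424b8) (nat_lit
  0x364141) (nat_lit 0) .nil) (nat_lit 0x92bd4e42706) (nat_lit 0x364121) (nat_lit 0) (.node .nil (nat_lit
  0x92bd4e427a7) (nat_lit 0x6c82921) (nat_lit 0) .nil)) (nat_lit 0x92bd4e429d8) (nat_lit 0x72c164) (nat_lit 0)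
  (.node (.node .nil (nat_lit 0x92bd4e42ac4) (nat_lit 0x64ae04) (nat_lit 0) .nil) (nat_lit 0x92bd4e42ad3)
  (nat_lit 0x20a32d21) (nat_lit 0) (.node .nil (nat_lit 0x92bd4e42dda) (nat_lit 0x1051961) (nat_lit 0) .nil)))
  (nat_lit 0x92bd4e430cd) (nat_lit 0x782d03) (nat_lit 0) (.node (.node (.node .nil (nat_lit 0x92bd4e431ca)
  (nat_lit 0x1052cc9) (nat_lit 0) .nil) (nat_lit 0x92bd4e434d4) (nat_lit 534886) (nat_lit 0) (.node .nil
  (nat_lit 0x92bd4e434ef) (nat_lit 0x934163) (nat_lit 0) .nil)) (nat_lit 0x92bd4e43ae8) (nat_lit 0xb524f0)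
  (nat_lit 0) (.node (.node .nil (nat_lit 0x92bd4e43b03) (nat_lit 278731) (nat_lit 0) .nil) (nat_lit
  0x92bd4e43c41) (nat_lit 0x881969) (nat_lit 0) (.node .nil (nat_lit 0x92bd4e43d11) (nat_lit 0xa59606)
  (nat_lit 0) .nil)))) (nat_lit 0x92bd4e43f61) (nat_lit 0x723209) (nat_lit 0) (.node (.node (.node (.node .nil
  (nat_lit 0x92bd4e4413b) (nat_lit 233872) (nat_lit 0) .nil) (nat_lit 0x92bd4e44306) (nat_lit 0xa49590)
  (nat_lit 0) (.node .nil (nat_lit 0x92bd4e4431a) (nat_lit 0xc51e03) (nat_lit 0) .nil)) (nat_lit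
  0x92bd4e44700) (nat_lit 0xa4b0b0) (nat_lit 0) (.node (.node .nil (nat_lit 0x92bd4e44855) (nat_lit 274950)
  (nat_lit 0) .nil) (nat_lit 0x92bd4e44946) (nat_lit 0x8640c9) (nat_lit 0) (.node .nil (nat_lit 0x92bd4e449d2)
  (nat_lit 0x8640ca) (nat_lit 0) .nil))) (nat_lit 0x92bd4e44e6b) (nat_lit 0x16a49e01) (nat_lit 0) (.node
  (.node (.node .nil (nat_lit 0x92bd4e44fe2) (nat_lit 240784) (nat_lit 0) .nil) (nat_lit 0x92bd4e45124)
  (nat_lit 0x102ad26) (nat_lit 0) (.node .nil (nat_lit 0x92bd4e45207) (nat_lit 0xb51e03) (nat_lit 0) .nil))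
  (nat_lit 0x92bd4e4570f) (nat_lit 0x1052126) (nat_lit 0) (.node (.node .nil (nat_lit 0x92bd4e45781) (nat_lit
  532673) (nat_lit 0) .nil) (nat_lit 0x92bd4e45794) (nat_lit 0x1049901) (nat_lit 0) (.node .nil (nat_lit
  0x92bd4e458e5) (nat_lit 0x1041941) (nat_lit 0) .nil)))))))
def tT_55 : T := (.node (.node (.node (.node (.node (.node (.node .nil (nat_lit 0x92bd4e45b45) (nat_lit
  0xa4b205) (nat_lit 0) .nil) (nat_lit 0x92bd4e45daa) (nat_lit 0xc820c1) (nat_lit 0) (.node .nil (nat_lit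
  0x92bd4e45f5d) (nat_lit 0xa33203) (nat_lit 0) .nil)) (nat_lit 0x92bd4e4613f) (nat_lit 0xb82582) (nat_lit 0)
  (.node (.node .nil (nat_lit 0x92bd4e4635e) (nat_lit 0x852590) (nat_lit 0) .nil) (nat_lit 0x92bd4e4649f)
  (nat_lit 409800) (nat_lit 0) (.node .nil (nat_lit 0x92bd4e46652) (nat_lit 0x564146) (nat_lit 0) .nil)))
  (nat_lit 0x92bd4e46bf2) (nat_lit 0x1032149) (nat_lit 0) (.node (.node (.node .nil (nat_lit 0x92bd4e46c64)
  (nat_lit 16584) (nat_lit 0) .nil) (nat_lit 0x92bd4e46c73) (nat_lit 533766) (nat_lit 0) (.node .nil (nat_lit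
  0x92bd4e46dd4) (nat_lit 530698) (nat_lit 0) .nil)) (nat_lit 0x92bd4e472eb) (nat_lit 0x1041949) (nat_lit 0)
  (.node (.node .nil (nat_lit 0x92bd4e47358) (nat_lit 16646) (nat_lit 0) .nil) (nat_lit 0x92bd4e4736b)
  (nat_lit 533704) (nat_lit 0) (.node .nil (nat_lit 0x92bd4e474c9) (nat_lit 532682) (nat_lit 0) .nil))))
  (nat_lit 0x92bd4e4761f) (nat_lit 377132) (nat_lit 0) (.node (.node (.node (.node .nil (nat_lit
  0x92bd4e4791f) (nat_lit 409862) (nat_lit 0) .nil) (nat_lit 0x92bd4e47a9a) (nat_lit 0xb8258a) (nat_lit 0)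
  (.node .nil (nat_lit 0x92bd4e47b2f) (nat_lit 0xa61a03) (nat_lit 0) .nil)) (nat_lit 0x92bd4e47d16) (nat_lit
  0x105a582) (nat_lit 0) (.node (.node .nil (nat_lit 0x92bd4e47d8a) (nat_lit 0xc81901) (nat_lit 0) .nil)
  (nat_lit 0x92bd4e481a7) (nat_lit 0x10a4b201) (nat_lit 0) (.node .nil (nat_lit 0x92bd4e4822c) (nat_lit
  0xc2c146) (nat_lit 0) .nil))) (nat_lit 0x92bd4e486cf) (nat_lit 0x5828c9) (nat_lit 0) (.node (.node (.node
  .nil (nat_lit 0x92bd4e48839) (nat_lit 530689) (nat_lit 0) .nil) (nat_lit 0x92bd4e4884c) (nat_lit 0x104a0c1)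
  (nat_lit 0) (.node .nil (nat_lit 0x92bd4e489a1) (nat_lit 180550) (nat_lit 0) .nil)) (nat_lit 0x92bd4e48aff)
  (nat_lit 0xc81d43) (nat_lit 0) (.node (.node .nil (nat_lit 0x92bd4e48b77) (nat_lit 0xc824ea) (nat_lit 0)
  .nil) (nat_lit 0x92bd4e48c24) (nat_lit 409895) (nat_lit 0) (.node .nil (nat_lit 0x92bd4e48f94) (nat_lit
  409827) (nat_lit 0) .nil))))) (nat_lit 0x92bd4e491f6) (nat_lit 0x753205) (nat_lit 0) (.node (.node (.node
  (.node (.node .nil (nat_lit 0x92bd4e49314) (nat_lit 0x964105) (nat_lit 0) .nil) (nat_lit 0x92bd4e494f8)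
  (nat_lit 0x14c824c3) (nat_lit 0) (.node .nil (nat_lit 0x92bd4e49675) (nat_lit 111111) (nat_lit 0) .nil))
  (nat_lit 0x92bd4e499e3) (nat_lit 0x6640aa) (nat_lit 0) (.node (.node .nil (nat_lit 0x92bd4e49bb8) (nat_lit
  0x12c24143) (nat_lit 0) .nil) (nat_lit 0x92bd4e49d85) (nat_lit 209413) (nat_lit 0) (.node .nil (nat_lit
  0x92bd4e49df8) (nat_lit 0x961203) (nat_lit 0) .nil))) (nat_lit 0x92bd4e4a303) (nat_lit 0x964144) (nat_lit 0)
  (.node (.node (.node .nil (nat_lit 0x92bd4e4a3c3) (nat_lit 0xc340a2) (nat_lit 0) .nil) (nat_lit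
  0x92bd4e4a3ea) (nat_lit 0x1032d4c) (nat_lit 0) (.node .nil (nat_lit 0x92bd4e4a51c) (nat_lit 307716) (nat_lit
  0) .nil)) (nat_lit 0x92bd4e4a6d5) (nat_lit 0xa23206) (nat_lit 0) (.node (.node .nil (nat_lit 0x92bd4e4a7f9)
  (nat_lit 0xc824e1) (nat_lit 0) .nil) (nat_lit 0x92bd4e4a8fb) (nat_lit 396807) (nat_lit 0) (.node .nil
  (nat_lit 0x92bd4e4aa41) (nat_lit 0x19049d41) (nat_lit 0) .nil)))) (nat_lit 0x92bd4e4adcc) (nat_lit 0xa61206)
  (nat_lit 0) (.node (.node (.node (.node .nil (nat_lit 0x92bd4e4aeee) (nat_lit 0xc824e2) (nat_lit 0) .nil)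
  (nat_lit 0x92bd4e4af6c) (nat_lit 209072) (nat_lit 0) (.node .nil (nat_lit 0x92bd4e4b138) (nat_lit
  0x19049d42) (nat_lit 0) .nil)) (nat_lit 0x92bd4e4b5e0) (nat_lit 399877) (nat_lit 0) (.node (.node .nil
  (nat_lit 0x92bd4e4b7b6) (nat_lit 0x12c82882) (nat_lit 0) .nil) (nat_lit 0x92bd4e4b8a9) (nat_lit 0xc340aa)
  (nat_lit 0) (.node .nil (nat_lit 0x92bd4e4b91d) (nat_lit 0x964082) (nat_lit 0) .nil))) (nat_lit
  0x92bd4e4bc0b) (nat_lit 0x16482921) (nat_lit 0) (.node (.node (.node .nil (nat_lit 0x92bd4e4bcf1) (nat_lit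
  0xb24141) (nat_lit 0) .nil) (nat_lit 0x92bd4e4bd06) (nat_lit 365057) (nat_lit 0) (.node .nil (nat_lit
  0x92bd4e4bee6) (nat_lit 0xb24121) (nat_lit 0) .nil)) (nat_lit 0x92bd4e4c302) (nat_lit 0x45c149) (nat_lit 0)
  (.node (.node .nil (nat_lit 0x92bd4e4c3fb) (nat_lit 4464) (nat_lit 0) .nil) (nat_lit 0x92bd4e4c5a7) (nat_lit
  142857) (nat_lit 0) (.node .nil (nat_lit 0x92bd4e4c70d) (nat_lit 142858) (nat_lit 0) .nil)))))) (nat_lit
  0x92bd4e4cd19) (nat_lit 0x482ce6) (nat_lit 0) (.node (.node (.node (.node (.node (.node .nil (nat_lit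
  0x92bd4e4cd31) (nat_lit 0x95c0aa) (nat_lit 0) .nil) (nat_lit 0x92bd4e4cda8) (nat_lit 0x1032d47) (nat_lit 0)
  (.node .nil (nat_lit 0x92bd4e4cdfd) (nat_lit 306693) (nat_lit 0) .nil)) (nat_lit 0x92bd4e4d0e2) (nat_lit
  533665) (nat_lit 0) (.node (.node .nil (nat_lit 0x92bd4e4d188) (nat_lit 336385) (nat_lit 0) .nil) (nat_lit
  0x92bd4e4d3ac) (nat_lit 0xa44121) (nat_lit 0) (.node .nil (nat_lit 0x92bd4e4d3db) (nat_lit 8707) (nat_lit 0)
  .nil))) (nat_lit 0x92bd4e4d7d7) (nat_lit 531777) (nat_lit 0) (.node (.node (.node .nil (nat_lit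
  0x92bd4e4d882) (nat_lit 531745) (nat_lit 0) .nil) (nat_lit 0x92bd4e4da9d) (nat_lit 16609) (nat_lit 0) (.node
  .nil (nat_lit 0x92bd4e4dad7) (nat_lit 0x103a921) (nat_lit 0) .nil)) (nat_lit 0x92bd4e4dfc8) (nat_lit
  0x752570) (nat_lit 0) (.node (.node .nil (nat_lit 0x92bd4e4e212) (nat_lit 0x682ca3) (nat_lit 0) .nil)
  (nat_lit 0x92bd4e4e28b) (nat_lit 0x92ae06) (nat_lit 0) (.node .nil (nat_lit 0x92bd4e4e3b1) (nat_lit
  0x65c145) (nat_lit 0) .nil)))) (nat_lit 0x92bd4e4e878) (nat_lit 520) (nat_lit 0) (.node (.node (.node (.node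
  .nil (nat_lit 0x92bd4e4e964) (nat_lit 16650) (nat_lit 0) .nil) (nat_lit 0x92bd4e4e9a9) (nat_lit 532809)
  (nat_lit 0) (.node .nil (nat_lit 0x92bd4e4ead6) (nat_lit 16649) (nat_lit 0) .nil)) (nat_lit 0x92bd4e4ef6d)
  (nat_lit 0x9340aa) (nat_lit 0) (.node (.node .nil (nat_lit 0x92bd4e4f082) (nat_lit 301573) (nat_lit 0) .nil)
  (nat_lit 0x92bd4e4f09a) (nat_lit 199173) (nat_lit 0) (.node .nil (nat_lit 0x92bd4e4f1cd) (nat_lit 0x851a02)
  (nat_lit 0) .nil))) (nat_lit 0x92bd4e4f2b2) (nat_lit 0x1059d43) (nat_lit 0) (.node (.node (.node .nil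
  (nat_lit 0x92bd4e4f357) (nat_lit 535847) (nat_lit 0) .nil) (nat_lit 0x92bd4e4f6d6) (nat_lit 0x105a4ea)
  (nat_lit 0) (.node .nil (nat_lit 0x92bd4e4f741) (nat_lit 535779) (nat_lit 0) .nil)) (nat_lit 0x92bd4e4f9be)
  (nat_lit 0x1042562) (nat_lit 0) (.node (.node .nil (nat_lit 0x92bd4e4fa50) (nat_lit 0x103a966) (nat_lit 0)
  .nil) (nat_lit 0x92bd4e4fdd1) (nat_lit 0x834166) (nat_lit 0) (.node .nil (nat_lit 0x92bd4e4fdfa) (nat_lit
  0x852570) (nat_lit 0) .nil))))) (nat_lit 0x92bd4e50453) (nat_lit 208389) (nat_lit 0) (.node (.node (.node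
  (.node (.node .nil (nat_lit 0x92bd4e504d3) (nat_lit 0x93c14b) (nat_lit 0) .nil) (nat_lit 0x92bd4e50556)
  (nat_lit 0xb49a05) (nat_lit 0) (.node .nil (nat_lit 0x92bd4e50664) (nat_lit 0xa5c0e4) (nat_lit 0) .nil))
  (nat_lit 0x92bd4e5085b) (nat_lit 114922) (nat_lit 0) (.node (.node .nil (nat_lit 0x92bd4e508d2) (nat_lit
  3591) (nat_lit 0) .nil) (nat_lit 0x92bd4e50937) (nat_lit 533729) (nat_lit 0) (.node .nil (nat_lit
  0x92bd4e50b4f) (nat_lit 0x1049d41) (nat_lit 0) .nil))) (nat_lit 0x92bd4e50f50) (nat_lit 8713) (nat_lit 0)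
  (.node (.node (.node .nil (nat_lit 0x92bd4e50fba) (nat_lit 534821) (nat_lit 0) .nil) (nat_lit 0x92bd4e51031)
  (nat_lit 8714) (nat_lit 0) (.node .nil (nat_lit 0x92bd4e51242) (nat_lit 272) (nat_lit 0) .nil)) (nat_lit
  0x92bd4e51773) (nat_lit 0x882562) (nat_lit 0) (.node (.node .nil (nat_lit 0x92bd4e519ac) (nat_lit 0x1059cc4)
  (nat_lit 0) .nil) (nat_lit 0x92bd4e51a39) (nat_lit 0x752cd0) (nat_lit 0) (.node .nil (nat_lit 0x92bd4e51a73)
  (nat_lit 0x95c145) (nat_lit 0) .nil)))) (nat_lit 0x92bd4e52130) (nat_lit 531755) (nat_lit 0) (.node (.node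
  (.node (.node .nil (nat_lit 0x92bd4e5217a) (nat_lit 246115) (nat_lit 0) .nil) (nat_lit 0x92bd4e52193)
  (nat_lit 0x103a56a) (nat_lit 0) (.node .nil (nat_lit 0x92bd4e52267) (nat_lit 0x782d43) (nat_lit 0) .nil))
  (nat_lit 0x92bd4e5236b) (nat_lit 0x581941) (nat_lit 0) (.node (.node .nil (nat_lit 0x92bd4e524e5) (nat_lit
  0x581921) (nat_lit 0) .nil) (nat_lit 0x92bd4e527c3) (nat_lit 0xa2c126) (nat_lit 0) (.node .nil (nat_lit
  0x92bd4e527e8) (nat_lit 180417) (nat_lit 0) .nil))) (nat_lit 0x92bd4e52ae5) (nat_lit 0x749a02) (nat_lit 0)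
  (.node (.node (.node .nil (nat_lit 0x92bd4e52bdb) (nat_lit 0x1062984) (nat_lit 0) .nil) (nat_lit
  0x92bd4e52ee7) (nat_lit 0xa3a4d0) (nat_lit 0) (.node .nil (nat_lit 0x92bd4e52ee8) (nat_lit 0x6440c1)
  (nat_lit 0) .nil)) (nat_lit 0x92bd4e53506) (nat_lit 0x105a149) (nat_lit 0) (.node (.node .nil (nat_lit
  0x92bd4e53613) (nat_lit 535818) (nat_lit 0) .nil) (nat_lit 0x92bd4e53677) (nat_lit 16744) (nat_lit 0) (.node
  .nil (nat_lit 0x92bd4e53746) (nat_lit 535817) (nat_lit 0) .nil)))))))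
def tT_56 : T := (.node (.node (.node (.node (.node (.node (.node .nil (nat_lit 0x92bd4e53ca3) (nat_lit
  0x782921) (nat_lit 0) .nil) (nat_lit 0x92bd4e53daf) (nat_lit 246081) (nat_lit 0) (.node .nil (nat_lit
  0x92bd4e53e8a) (nat_lit 246049) (nat_lit 0) .nil)) (nat_lit 0x92bd4e54141) (nat_lit 0x20a49cc1) (nat_lit 0)
  (.node (.node .nil (nat_lit 0x92bd4e543cc) (nat_lit 147655) (nat_lit 0) .nil) (nat_lit 0x92bd4e54518)
  (nat_lit 0x10498e1) (nat_lit 0) (.node .nil (nat_lit 0x92bd4e54587) (nat_lit 0x4828e6) (nat_lit 0) .nil)))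
  (nat_lit 0x92bd4e546d1) (nat_lit 532811) (nat_lit 0) (.node (.node (.node .nil (nat_lit 0x92bd4e54742)
  (nat_lit 535845) (nat_lit 0) .nil) (nat_lit 0x92bd4e54b2b) (nat_lit 0x1042969) (nat_lit 0) (.node .nil
  (nat_lit 0x92bd4e54b5f) (nat_lit 278883) (nat_lit 0) .nil)) (nat_lit 0x92bd4e54dc8) (nat_lit 0x959a05)
  (nat_lit 0) (.node (.node .nil (nat_lit 0x92bd4e54e35) (nat_lit 0x752e02) (nat_lit 0) .nil) (nat_lit
  0x92bd4e55134) (nat_lit 0x105a0c4) (nat_lit 0) (.node .nil (nat_lit 0x92bd4e55245) (nat_lit 0x103a92b)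
  (nat_lit 0) .nil)))) (nat_lit 0x92bd4e556ec) (nat_lit 0x103a969) (nat_lit 0) (.node (.node (.node (.node
  .nil (nat_lit 0x92bd4e5586b) (nat_lit 0x582ce5) (nat_lit 0) .nil) (nat_lit 0x92bd4e558e2) (nat_lit 0x959606)
  (nat_lit 0) (.node .nil (nat_lit 0x92bd4e55a08) (nat_lit 531787) (nat_lit 0) .nil)) (nat_lit 0x92bd4e55c1e)
  (nat_lit 147783) (nat_lit 0) (.node (.node .nil (nat_lit 0x92bd4e55cc1) (nat_lit 213288) (nat_lit 0) .nil)
  (nat_lit 0x92bd4e55ec1) (nat_lit 2567) (nat_lit 0) (.node .nil (nat_lit 0x92bd4e55ecc) (nat_lit 0xa49a08)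
  (nat_lit 0) .nil))) (nat_lit 0x92bd4e56313) (nat_lit 82213) (nat_lit 0) (.node (.node (.node .nil (nat_lit
  0x92bd4e563bb) (nat_lit 335952) (nat_lit 0) .nil) (nat_lit 0x92bd4e565b6) (nat_lit 0xa40a09) (nat_lit 0)
  (.node .nil (nat_lit 0x92bd4e565c5) (nat_lit 278626) (nat_lit 0) .nil)) (nat_lit 0x92bd4e56bd1) (nat_lit
  0xb240e6) (nat_lit 0) (.node (.node .nil (nat_lit 0x92bd4e56d4c) (nat_lit 0x104956a) (nat_lit 0) .nil)
  (nat_lit 0x92bd4e56dc5) (nat_lit 0xb81d46) (nat_lit 0) (.node .nil (nat_lit 0x92bd4e56e18) (nat_lit 533675)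
  (nat_lit 0) .nil))))) (nat_lit 0x92bd4e570a9) (nat_lit 0x105a4e2) (nat_lit 7722) (.node (.node (.node (.node
  (.node .nil (nat_lit 0x92bd4e570d7) (nat_lit 0xb51a08) (nat_lit 0) .nil) (nat_lit 0x92bd4e573e7) (nat_lit
  0x20b49d42) (nat_lit 0) (.node .nil (nat_lit 0x92bd4e5748a) (nat_lit 366768) (nat_lit 0) .nil)) (nat_lit
  0x92bd4e57af0) (nat_lit 0x681549) (nat_lit 0) (.node (.node .nil (nat_lit 0x92bd4e57bb9) (nat_lit 213161)
  (nat_lit 0) .nil) (nat_lit 0x92bd4e57bd9) (nat_lit 6661) (nat_lit 0) (.node .nil (nat_lit 0x92bd4e57d06)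
  (nat_lit 213162) (nat_lit 0) .nil))) (nat_lit 0x92bd4e581e0) (nat_lit 2568) (nat_lit 0) (.node (.node (.node
  .nil (nat_lit 0x92bd4e582ae) (nat_lit 82186) (nat_lit 0) .nil) (nat_lit 0x92bd4e582ce) (nat_lit 0x682927)
  (nat_lit 0) (.node .nil (nat_lit 0x92bd4e583fd) (nat_lit 301575) (nat_lit 0) .nil)) (nat_lit 0x92bd4e5858a)
  (nat_lit 0x103a8cb) (nat_lit 0) (.node (.node .nil (nat_lit 0x92bd4e585b7) (nat_lit 532779) (nat_lit 0)
  .nil) (nat_lit 0x92bd4e588c8) (nat_lit 0x859a06) (nat_lit 0) (.node .nil (nat_lit 0x92bd4e588eb) (nat_lit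
  0xa4ae05) (nat_lit 0) .nil)))) (nat_lit 0x92bd4e58c7d) (nat_lit 0xc82984) (nat_lit 0) (.node (.node (.node
  (.node .nil (nat_lit 0x92bd4e58cb0) (nat_lit 0x1042561) (nat_lit 0) .nil) (nat_lit 0x92bd4e59000) (nat_lit
  0x644166) (nat_lit 0) (.node .nil (nat_lit 0x92bd4e59027) (nat_lit 0x1052565) (nat_lit 0) .nil)) (nat_lit
  0x92bd4e593cc) (nat_lit 534790) (nat_lit 0) (.node (.node .nil (nat_lit 0x92bd4e59447) (nat_lit 0x10424c1)
  (nat_lit 0) .nil) (nat_lit 0x92bd4e594be) (nat_lit 171525) (nat_lit 0) (.node .nil (nat_lit 0x92bd4e59728)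
  (nat_lit 0x10524c8) (nat_lit 0) .nil))) (nat_lit 0x92bd4e59a44) (nat_lit 278818) (nat_lit 0) (.node (.node
  (.node .nil (nat_lit 0x92bd4e59b64) (nat_lit 278850) (nat_lit 0) .nil) (nat_lit 0x92bd4e59d5e) (nat_lit
  8706) (nat_lit 0) (.node .nil (nat_lit 0x92bd4e59dd7) (nat_lit 0x10524a2) (nat_lit 0) .nil)) (nat_lit
  0x92bd4e5a360) (nat_lit 0x10598e4) (nat_lit 0) (.node (.node .nil (nat_lit 0x92bd4e5a4c4) (nat_lit 271728)
  (nat_lit 0) .nil) (nat_lit 0x92bd4e5a56e) (nat_lit 0x751970) (nat_lit 0) (.node .nil (nat_lit 0x92bd4e5a5ac)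
  (nat_lit 0x84ae0a) (nat_lit 0) .nil)))))) (nat_lit 0x92bd4e5aa57) (nat_lit 0x12752e02) (nat_lit 0) (.node
  (.node (.node (.node (.node (.node .nil (nat_lit 0x92bd4e5abb0) (nat_lit 367109) (nat_lit 0) .nil) (nat_lit
  0x92bd4e5ac65) (nat_lit 0xb340a9) (nat_lit 0) (.node .nil (nat_lit 0x92bd4e5ad75) (nat_lit 0xa59a08)
  (nat_lit 0) .nil)) (nat_lit 0x92bd4e5aebc) (nat_lit 334344) (nat_lit 0) (.node (.node .nil (nat_lit
  0x92bd4e5b04a) (nat_lit 82215) (nat_lit 0) .nil) (nat_lit 0x92bd4e5b243) (nat_lit 0x482927) (nat_lit 0)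
  (.node .nil (nat_lit 0x92bd4e5b2ba) (nat_lit 6320) (nat_lit 0) .nil))) (nat_lit 0x92bd4e5b61d) (nat_lit
  532806) (nat_lit 0) (.node (.node (.node .nil (nat_lit 0x92bd4e5b711) (nat_lit 0x92c0c1) (nat_lit 0) .nil)
  (nat_lit 0x92bd4e5b9a4) (nat_lit 0x10428c9) (nat_lit 0) (.node .nil (nat_lit 0x92bd4e5ba19) (nat_lit 147718)
  (nat_lit 0) .nil)) (nat_lit 0x92bd4e5c14d) (nat_lit 0xb49e02) (nat_lit 273) (.node (.node .nil (nat_lit
  0x92bd4e5c191) (nat_lit 377029) (nat_lit 0) .nil) (nat_lit 0x92bd4e5c1ac) (nat_lit 0x1693c142) (nat_lit 0)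
  (.node .nil (nat_lit 0x92bd4e5c253) (nat_lit 0xb52206) (nat_lit 0) .nil)))) (nat_lit 0x92bd4e5c769) (nat_lit
  0x96414c) (nat_lit 0) (.node (.node (.node (.node .nil (nat_lit 0x92bd4e5c842) (nat_lit 0xb82142) (nat_lit
  566691) .nil) (nat_lit 0x92bd4e5c8a6) (nat_lit 377090) (nat_lit 0) (.node .nil (nat_lit 0x92bd4e5c8eb)
  (nat_lit 0xb82122) (nat_lit 0) .nil)) (nat_lit 0x92bd4e5ca7b) (nat_lit 238800) (nat_lit 0) (.node (.node
  .nil (nat_lit 0x92bd4e5cbf3) (nat_lit 0x751a03) (nat_lit 0) .nil) (nat_lit 0x92bd4e5cefe) (nat_lit 0x749a0a)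
  (nat_lit 0) (.node .nil (nat_lit 0x92bd4e5cf05) (nat_lit 268806) (nat_lit 0) .nil))) (nat_lit 0x92bd4e5d43f)
  (nat_lit 0x103a8c9) (nat_lit 0) (.node (.node (.node .nil (nat_lit 0x92bd4e5d5f9) (nat_lit 147686) (nat_lit
  0) .nil) (nat_lit 0x92bd4e5d77c) (nat_lit 0x1049cc1) (nat_lit 0) (.node .nil (nat_lit 0x92bd4e5d7b4)
  (nat_lit 531782) (nat_lit 0) .nil)) (nat_lit 0x92bd4e5db32) (nat_lit 7682) (nat_lit 0) (.node (.node .nil
  (nat_lit 0x92bd4e5dcbe) (nat_lit 0x782922) (nat_lit 0) .nil) (nat_lit 0x92bd4e5de73) (nat_lit 246082)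
  (nat_lit 0) (.node .nil (nat_lit 0x92bd4e5dea5) (nat_lit 246050) (nat_lit 0) .nil))))) (nat_lit
  0x92bd4e5dfd5) (nat_lit 0x934165) (nat_lit 0) (.node (.node (.node (.node (.node .nil (nat_lit
  0x92bd4e5e068) (nat_lit 239984) (nat_lit 0) .nil) (nat_lit 0x92bd4e5e144) (nat_lit 0x55c0c3) (nat_lit 0)
  (.node .nil (nat_lit 0x92bd4e5e46b) (nat_lit 0x752e09) (nat_lit 0) .nil)) (nat_lit 0x92bd4e5e63c) (nat_lit
  0x1042962) (nat_lit 6701) (.node (.node .nil (nat_lit 0x92bd4e5e757) (nat_lit 0x105a4a2) (nat_lit 0) .nil)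
  (nat_lit 0x92bd4e5eb4b) (nat_lit 0x20852d22) (nat_lit 0) (.node .nil (nat_lit 0x92bd4e5eb76) (nat_lit
  147813) (nat_lit 0) .nil))) (nat_lit 0x92bd4e5ede0) (nat_lit 0x1059d22) (nat_lit 209) (.node (.node (.node
  .nil (nat_lit 0x92bd4e5ee4e) (nat_lit 0x1059d42) (nat_lit 0) .nil) (nat_lit 0x92bd4e5eef8) (nat_lit 535778)
  (nat_lit 0) (.node .nil (nat_lit 0x92bd4e5f17e) (nat_lit 0x20b3a922) (nat_lit 0) .nil)) (nat_lit
  0x92bd4e5f4d7) (nat_lit 377065) (nat_lit 0) (.node (.node .nil (nat_lit 0x92bd4e5f543) (nat_lit 377066)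
  (nat_lit 0) .nil) (nat_lit 0x92bd4e5f873) (nat_lit 0xb81d49) (nat_lit 0) (.node .nil (nat_lit 0x92bd4e5f940)
  (nat_lit 11783) (nat_lit 0) .nil)))) (nat_lit 0x92bd4e5fca7) (nat_lit 180453) (nat_lit 0) (.node (.node
  (.node (.node .nil (nat_lit 0x92bd4e5fed4) (nat_lit 0xa32209) (nat_lit 0) .nil) (nat_lit 0x92bd4e5ff36)
  (nat_lit 334096) (nat_lit 0) (.node .nil (nat_lit 0x92bd4e5ffd4) (nat_lit 0x849a02) (nat_lit 0) .nil))
  (nat_lit 0x92bd4e6042a) (nat_lit 336080) (nat_lit 0) (.node (.node .nil (nat_lit 0x92bd4e605e8) (nat_lit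
  0xa41a09) (nat_lit 0) .nil) (nat_lit 0x92bd4e60698) (nat_lit 213155) (nat_lit 0) (.node .nil (nat_lit
  0x92bd4e606f0) (nat_lit 0x849a01) (nat_lit 0) .nil))) (nat_lit 0x92bd4e6090a) (nat_lit 0xb81d22) (nat_lit
  6691) (.node (.node (.node .nil (nat_lit 0x92bd4e60a2a) (nat_lit 0xb81d42) (nat_lit 0) .nil) (nat_lit
  0x92bd4e60d0c) (nat_lit 0x1703a922) (nat_lit 0) (.node .nil (nat_lit 0x92bd4e60e2c) (nat_lit 377058)
  (nat_lit 0) .nil)) (nat_lit 0x92bd4e610a2) (nat_lit 535785) (nat_lit 0) (.node (.node .nil (nat_lit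
  0x92bd4e6111f) (nat_lit 535786) (nat_lit 0) .nil) (nat_lit 0x92bd4e61154) (nat_lit 0x1059d49) (nat_lit 0)
  (.node .nil (nat_lit 0x92bd4e6151e) (nat_lit 16743) (nat_lit 0) .nil)))))))
def tT_57 : T := (.node (.node (.node (.node (.node (.node (.node .nil (nat_lit 0x92bd4e61814) (nat_lit
  0x959601) (nat_lit 0) .nil) (nat_lit 0x92bd4e61849) (nat_lit 0x734164) (nat_lit 0) (.node .nil (nat_lit
  0x92bd4e61af2) (nat_lit 0xa42570) (nat_lit 0) .nil)) (nat_lit 0x92bd4e61e7b) (nat_lit 0xb3a8d0) (nat_lit 0)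
  (.node (.node .nil (nat_lit 0x92bd4e61f09) (nat_lit 300555) (nat_lit 0) .nil) (nat_lit 0x92bd4e621b3)
  (nat_lit 0x92c16a) (nat_lit 0) (.node .nil (nat_lit 0x92bd4e621eb) (nat_lit 0xb39a04) (nat_lit 0) .nil)))
  (nat_lit 0x92bd4e628bb) (nat_lit 114946) (nat_lit 0) (.node (.node (.node .nil (nat_lit 0x92bd4e62965)
  (nat_lit 0xa49a07) (nat_lit 0) .nil) (nat_lit 0x92bd4e629bf) (nat_lit 213319) (nat_lit 0) (.node .nil
  (nat_lit 0x92bd4e62acf) (nat_lit 147752) (nat_lit 0) .nil)) (nat_lit 0x92bd4e62e33) (nat_lit 534793)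
  (nat_lit 0) (.node (.node .nil (nat_lit 0x92bd4e62f8d) (nat_lit 16643) (nat_lit 0) .nil) (nat_lit
  0x92bd4e630b6) (nat_lit 16712) (nat_lit 0) (.node .nil (nat_lit 0x92bd4e631c8) (nat_lit 9392) (nat_lit 0)
  .nil)))) (nat_lit 0x92bd4e6337e) (nat_lit 0xc2414c) (nat_lit 0) (.node (.node (.node (.node .nil (nat_lit
  0x92bd4e633f0) (nat_lit 306352) (nat_lit 0) .nil) (nat_lit 0x92bd4e636c8) (nat_lit 0x95960a) (nat_lit 0)
  (.node .nil (nat_lit 0x92bd4e63714) (nat_lit 0xb31e04) (nat_lit 0) .nil)) (nat_lit 0x92bd4e63a71) (nat_lit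
  0x46414c) (nat_lit 0) (.node (.node .nil (nat_lit 0x92bd4e63ae5) (nat_lit 300400) (nat_lit 0) .nil) (nat_lit
  0x92bd4e63b86) (nat_lit 0x92ae0a) (nat_lit 0) (.node .nil (nat_lit 0x92bd4e63e09) (nat_lit 0x63c164)
  (nat_lit 0) .nil))) (nat_lit 0x92bd4e641da) (nat_lit 0xa4ac90) (nat_lit 0) (.node (.node (.node .nil
  (nat_lit 0x92bd4e642d2) (nat_lit 0x459a06) (nat_lit 0) .nil) (nat_lit 0x92bd4e64505) (nat_lit 0x682d46)
  (nat_lit 0) (.node .nil (nat_lit 0x92bd4e645c9) (nat_lit 0x104ad05) (nat_lit 0) .nil)) (nat_lit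
  0x92bd4e648cd) (nat_lit 278887) (nat_lit 0) (.node (.node .nil (nat_lit 0x92bd4e649ae) (nat_lit 0xa34163)
  (nat_lit 0) .nil) (nat_lit 0x92bd4e649cb) (nat_lit 0x104acca) (nat_lit 0) (.node .nil (nat_lit
  0x92bd4e64bf6) (nat_lit 533862) (nat_lit 0) .nil))))) (nat_lit 0x92bd4e64fbf) (nat_lit 0x6828c9) (nat_lit 0)
  (.node (.node (.node (.node (.node .nil (nat_lit 0x92bd4e64fcc) (nat_lit 201222) (nat_lit 0) .nil) (nat_lit
  0x92bd4e65049) (nat_lit 213318) (nat_lit 438545) (.node .nil (nat_lit 0x92bd4e65286) (nat_lit 0x61c126)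
  (nat_lit 0) .nil)) (nat_lit 0x92bd4e6559f) (nat_lit 0xc82d49) (nat_lit 0) (.node (.node .nil (nat_lit
  0x92bd4e65682) (nat_lit 12811) (nat_lit 0) .nil) (nat_lit 0x92bd4e65b03) (nat_lit 409962) (nat_lit 0) (.node
  .nil (nat_lit 0x92bd4e65b5d) (nat_lit 409961) (nat_lit 0) .nil))) (nat_lit 0x92bd4e65d81) (nat_lit 0x85c0e3)
  (nat_lit 0) (.node (.node (.node .nil (nat_lit 0x92bd4e65e2a) (nat_lit 0xa32e09) (nat_lit 0) .nil) (nat_lit
  0x92bd4e660d3) (nat_lit 0x95c0c3) (nat_lit 0) (.node .nil (nat_lit 0x92bd4e660f3) (nat_lit 334192) (nat_lit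
  0) .nil)) (nat_lit 0x92bd4e66479) (nat_lit 0x105248b) (nat_lit 0) (.node (.node .nil (nat_lit 0x92bd4e6651f)
  (nat_lit 0xb340c4) (nat_lit 0) .nil) (nat_lit 0x92bd4e667c4) (nat_lit 0x10c82981) (nat_lit 0) (.node .nil
  (nat_lit 0x92bd4e667e8) (nat_lit 0x54ae05) (nat_lit 0) .nil)))) (nat_lit 0x92bd4e66b9b) (nat_lit 0xb24149)
  (nat_lit 0) (.node (.node (.node (.node .nil (nat_lit 0x92bd4e66c1f) (nat_lit 11408) (nat_lit 0) .nil)
  (nat_lit 0x92bd4e66e78) (nat_lit 365065) (nat_lit 0) (.node .nil (nat_lit 0x92bd4e66fa3) (nat_lit 365066)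
  (nat_lit 0) .nil)) (nat_lit 0x92bd4e6725c) (nat_lit 0xa64128) (nat_lit 0) (.node (.node .nil (nat_lit
  0x92bd4e67365) (nat_lit 0x6640c2) (nat_lit 0) .nil) (nat_lit 0x92bd4e6747b) (nat_lit 0xa61603) (nat_lit 0)
  (.node .nil (nat_lit 0x92bd4e676c3) (nat_lit 0x12764081) (nat_lit 0) .nil))) (nat_lit 0x92bd4e6794d)
  (nat_lit 0x14c2c122) (nat_lit 0) (.node (.node (.node .nil (nat_lit 0x92bd4e67a2e) (nat_lit 0x74b204)
  (nat_lit 0) .nil) (nat_lit 0x92bd4e67a5c) (nat_lit 0x6640c3) (nat_lit 0) (.node .nil (nat_lit 0x92bd4e67b62)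
  (nat_lit 0xa61602) (nat_lit 0) .nil)) (nat_lit 0x92bd4e6803f) (nat_lit 246017) (nat_lit 0) (.node (.node
  .nil (nat_lit 0x92bd4e68212) (nat_lit 0xa29e09) (nat_lit 0) .nil) (nat_lit 0x92bd4e68338) (nat_lit 302256)
  (nat_lit 0) (.node .nil (nat_lit 0x92bd4e6838e) (nat_lit 333040) (nat_lit 0) .nil)))))) (nat_lit
  0x92bd4e68734) (nat_lit 0x934146) (nat_lit 0) (.node (.node (.node (.node (.node (.node .nil (nat_lit
  0x92bd4e68909) (nat_lit 531656) (nat_lit 0) .nil) (nat_lit 0x92bd4e68a2b) (nat_lit 0x103990a) (nat_lit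
  411050) (.node .nil (nat_lit 0x92bd4e68a83) (nat_lit 0x5824e6) (nat_lit 0) .nil)) (nat_lit 0x92bd4e6e2cd)
  (nat_lit 0x104b145) (nat_lit 0) (.node (.node .nil (nat_lit 0x92bd4e6e4bd) (nat_lit 0x4828ec) (nat_lit 0)
  .nil) (nat_lit 0x92bd4e6e4c4) (nat_lit 0x882582) (nat_lit 0) (.node .nil (nat_lit 0x92bd4e6e6be) (nat_lit
  0x72c181) (nat_lit 0) .nil))) (nat_lit 0x92bd4e6e9c4) (nat_lit 0x20961542) (nat_lit 0) (.node (.node (.node
  .nil (nat_lit 0x92bd4e6ebb2) (nat_lit 0x104b0a2) (nat_lit 0) .nil) (nat_lit 0x92bd4e6ebb4) (nat_lit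
  0x103a983) (nat_lit 0) (.node .nil (nat_lit 0x92bd4e6edb3) (nat_lit 0x783104) (nat_lit 0) .nil)) (nat_lit
  0x92bd4e6ef96) (nat_lit 0x5640c5) (nat_lit 0) (.node (.node .nil (nat_lit 0x92bd4e6f007) (nat_lit 0x9640e6)
  (nat_lit 0) .nil) (nat_lit 0x92bd4e6f0b0) (nat_lit 0x1491b201) (nat_lit 0) (.node .nil (nat_lit
  0x92bd4e6f494) (nat_lit 0x106194b) (nat_lit 0) .nil)))) (nat_lit 0x92bd4e6f68d) (nat_lit 0xb8292c) (nat_lit
  0) (.node (.node (.node (.node .nil (nat_lit 0x92bd4e6f6fc) (nat_lit 0x753202) (nat_lit 0) .nil) (nat_lit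
  0x92bd4e6fae4) (nat_lit 0x961603) (nat_lit 0) (.node .nil (nat_lit 0x92bd4e6fb9d) (nat_lit 409829) (nat_lit
  0) .nil)) (nat_lit 0x92bd4e6fdfb) (nat_lit 0x103a981) (nat_lit 0) (.node (.node .nil (nat_lit 0x92bd4e6fe51)
  (nat_lit 278828) (nat_lit 0) .nil) (nat_lit 0x92bd4e6fea4) (nat_lit 0x88258a) (nat_lit 0) (.node .nil
  (nat_lit 0x92bd4e7027e) (nat_lit 171532) (nat_lit 0) .nil))) (nat_lit 0x92bd4e704f2) (nat_lit 533893)
  (nat_lit 0) (.node (.node (.node .nil (nat_lit 0x92bd4e70548) (nat_lit 0x10530e4) (nat_lit 0) .nil) (nat_lit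
  0x92bd4e70599) (nat_lit 0x104b0aa) (nat_lit 0) (.node .nil (nat_lit 0x92bd4e70986) (nat_lit 0x72c183)
  (nat_lit 0) .nil)) (nat_lit 0x92bd4e70c93) (nat_lit 0x104958a) (nat_lit 0) (.node (.node .nil (nat_lit
  0x92bd4e70e50) (nat_lit 533676) (nat_lit 0) .nil) (nat_lit 0x92bd4e70e58) (nat_lit 0xa34188) (nat_lit 0)
  (.node .nil (nat_lit 0x92bd4e7107a) (nat_lit 0x782184) (nat_lit 0) .nil))))) (nat_lit 0x92bd4e7138a)
  (nat_lit 0x103a989) (nat_lit 0) (.node (.node (.node (.node (.node .nil (nat_lit 0x92bd4e71549) (nat_lit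
  531788) (nat_lit 0) .nil) (nat_lit 0x92bd4e71551) (nat_lit 0x882581) (nat_lit 0) (.node .nil (nat_lit
  0x92bd4e71771) (nat_lit 0x53c181) (nat_lit 0) .nil)) (nat_lit 0x92bd4e7188c) (nat_lit 0x10614e3) (nat_lit 0)
  (.node (.node .nil (nat_lit 0x92bd4e7196a) (nat_lit 0x1052583) (nat_lit 0) .nil) (nat_lit 0x92bd4e71c89)
  (nat_lit 0x1061527) (nat_lit 0) (.node .nil (nat_lit 0x92bd4e71d02) (nat_lit 0x103b145) (nat_lit 0) .nil)))
  (nat_lit 0x92bd4e72052) (nat_lit 0x20a4b061) (nat_lit 0) (.node (.node (.node .nil (nat_lit 0x92bd4e7205c)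
  (nat_lit 0x103b0a3) (nat_lit 0) .nil) (nat_lit 0x92bd4e72312) (nat_lit 0x883147) (nat_lit 0) (.node .nil
  (nat_lit 0x92bd4e723c9) (nat_lit 0x102b127) (nat_lit 0) .nil)) (nat_lit 0x92bd4e72745) (nat_lit 0x1061ca1)
  (nat_lit 0) (.node (.node .nil (nat_lit 0x92bd4e72751) (nat_lit 0xa4b20b) (nat_lit 0) .nil) (nat_lit
  0x92bd4e72a09) (nat_lit 0xc8192b) (nat_lit 0) (.node .nil (nat_lit 0x92bd4e72ac6) (nat_lit 0x75a990)
  (nat_lit 0) .nil)))) (nat_lit 0x92bd4e72e02) (nat_lit 0x1052582) (nat_lit 0) (.node (.node (.node (.node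
  .nil (nat_lit 0x92bd4e72e4d) (nat_lit 536805) (nat_lit 0) .nil) (nat_lit 0x92bd4e7316c) (nat_lit 0x1053106)
  (nat_lit 0) (.node .nil (nat_lit 0x92bd4e731db) (nat_lit 0x1061ca9) (nat_lit 0) .nil)) (nat_lit
  0x92bd4e73546) (nat_lit 0x753209) (nat_lit 0) (.node (.node .nil (nat_lit 0x92bd4e73890) (nat_lit 240016)
  (nat_lit 0) .nil) (nat_lit 0x92bd4e73982) (nat_lit 0x933207) (nat_lit 0) (.node .nil (nat_lit 0x92bd4e73a44)
  (nat_lit 409767) (nat_lit 0) .nil))) (nat_lit 0x92bd4e73b7f) (nat_lit 0xea64121) (nat_lit 0) (.node (.node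
  (.node .nil (nat_lit 0x92bd4e73d5b) (nat_lit 0x961a07) (nat_lit 0) .nil) (nat_lit 0x92bd4e73f23) (nat_lit
  0x753201) (nat_lit 0) (.node .nil (nat_lit 0x92bd4e74138) (nat_lit 0xc814e1) (nat_lit 0) .nil)) (nat_lit
  0x92bd4e7424f) (nat_lit 0x761603) (nat_lit 0) (.node (.node .nil (nat_lit 0x92bd4e74439) (nat_lit 0xa4b070)
  (nat_lit 0) .nil) (nat_lit 0x92bd4e7461a) (nat_lit 0x105a585) (nat_lit 0) (.node .nil (nat_lit
  0x92bd4e7481b) (nat_lit 0x7628b0) (nat_lit 0) .nil)))))))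
def tT_58 : T := (.node (.node (.node (.node (.node (.node (.node .nil (nat_lit 0x92bd4e74b32) (nat_lit
  0xa4b203) (nat_lit 0) .nil) (nat_lit 0x92bd4e74d78) (nat_lit 0xb82585) (nat_lit 0) (.node .nil (nat_lit
  0x92bd4e74f18) (nat_lit 0xec51601) (nat_lit 0) .nil)) (nat_lit 0x92bd4e7f827) (nat_lit 241840) (nat_lit 0)
  (.node (.node .nil (nat_lit 0x92bd4e7f931) (nat_lit 0xa4b201) (nat_lit 0) .nil) (nat_lit 0x92bd4e7fba6)
  (nat_lit 0x761609) (nat_lit 0) (.node .nil (nat_lit 0x92bd4e7fd35) (nat_lit 0xc51e08) (nat_lit 0) .nil)))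
  (nat_lit 0x92bd4e7ff14) (nat_lit 0xc39601) (nat_lit 0) (.node (.node (.node .nil (nat_lit 0x92bd4e8002d)
  (nat_lit 0xa4b202) (nat_lit 0) .nil) (nat_lit 0x92bd4e801dd) (nat_lit 0xc49e08) (nat_lit 0) (.node .nil
  (nat_lit 0x92bd4e8042c) (nat_lit 0x653205) (nat_lit 0) .nil)) (nat_lit 0x92bd4e80558) (nat_lit 400560)
  (nat_lit 0) (.node (.node .nil (nat_lit 0x92bd4e80722) (nat_lit 0x105258b) (nat_lit 0) .nil) (nat_lit
  0x92bd4e8094f) (nat_lit 0xc39609) (nat_lit 0) (.node .nil (nat_lit 0x92bd4e80b27) (nat_lit 0xc3960a)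
  (nat_lit 0) .nil)))) (nat_lit 0x92bd4e80c4f) (nat_lit 398576) (nat_lit 0) (.node (.node (.node (.node .nil
  (nat_lit 0x92bd4e80dcd) (nat_lit 0xc29e09) (nat_lit 0) .nil) (nat_lit 0x92bd4e80e15) (nat_lit 337296)
  (nat_lit 0) (.node .nil (nat_lit 0x92bd4e8121e) (nat_lit 0xa4b209) (nat_lit 0) .nil)) (nat_lit
  0x92bd4e81400) (nat_lit 0x12564142) (nat_lit 0) (.node (.node .nil (nat_lit 0x92bd4e81742) (nat_lit
  0x92b202) (nat_lit 0) .nil) (nat_lit 0x92bd4e81783) (nat_lit 0x68314b) (nat_lit 0) (.node .nil (nat_lit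
  0x92bd4e818e9) (nat_lit 0x3640e5) (nat_lit 0) .nil))) (nat_lit 0x92bd4e81aed) (nat_lit 0x96160a) (nat_lit 0)
  (.node (.node (.node .nil (nat_lit 0x92bd4e81c11) (nat_lit 307376) (nat_lit 0) .nil) (nat_lit 0x92bd4e81e7a)
  (nat_lit 0xa43206) (nat_lit 0) (.node .nil (nat_lit 0x92bd4e81fe2) (nat_lit 0xc81ca3) (nat_lit 0) .nil))
  (nat_lit 0x92bd4e8212f) (nat_lit 0x92b20a) (nat_lit 0) (.node (.node .nil (nat_lit 0x92bd4e824d7) (nat_lit
  300432) (nat_lit 0) .nil) (nat_lit 0x92bd4e82526) (nat_lit 0xc81d45) (nat_lit 0) (.node .nil (nat_lit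
  0x92bd4e826d6) (nat_lit 0xc1c0e5) (nat_lit 0) .nil))))) (nat_lit 0x92bd4e82897) (nat_lit 0x12c2c142)
  (nat_lit 0) (.node (.node (.node (.node (.node .nil (nat_lit 0x92bd4e829a6) (nat_lit 0x753203) (nat_lit 0)
  .nil) (nat_lit 0x92bd4e82c26) (nat_lit 0x961602) (nat_lit 0) (.node .nil (nat_lit 0x92bd4e82dcd) (nat_lit
  0xc814e3) (nat_lit 0) .nil)) (nat_lit 0x92bd4e8305c) (nat_lit 213192) (nat_lit 0) (.node (.node .nil
  (nat_lit 0x92bd4e83269) (nat_lit 0x1051d26) (nat_lit 0) .nil) (nat_lit 0x92bd4e83518) (nat_lit 0x10498e3)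
  (nat_lit 0) (.node .nil (nat_lit 0x92bd4e83548) (nat_lit 0x68190a) (nat_lit 0) .nil))) (nat_lit
  0x92bd4e839c9) (nat_lit 0x103a4ca) (nat_lit 0) (.node (.node (.node .nil (nat_lit 0x92bd4e83a6c) (nat_lit
  0x1031c81) (nat_lit 0) .nil) (nat_lit 0x92bd4e83c11) (nat_lit 531750) (nat_lit 0) (.node .nil (nat_lit
  0x92bd4e83c3f) (nat_lit 0x381d46) (nat_lit 0) .nil)) (nat_lit 0x92bd4e83d9e) (nat_lit 0x1052d02) (nat_lit
  17834) (.node (.node .nil (nat_lit 0x92bd4e83dce) (nat_lit 0x882d22) (nat_lit 0) .nil) (nat_lit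
  0x92bd4e83e96) (nat_lit 278882) (nat_lit 0) (.node .nil (nat_lit 0x92bd4e840eb) (nat_lit 0x170524a2)
  (nat_lit 0) .nil)))) (nat_lit 0x92bd4e84493) (nat_lit 339464) (nat_lit 0) (.node (.node (.node (.node .nil
  (nat_lit 0x92bd4e844c7) (nat_lit 273929) (nat_lit 0) .nil) (nat_lit 0x92bd4e8462b) (nat_lit 0x105a925)
  (nat_lit 0) (.node .nil (nat_lit 0x92bd4e848ed) (nat_lit 8560) (nat_lit 0) .nil)) (nat_lit 0x92bd4e84e8b)
  (nat_lit 0x962990) (nat_lit 0) (.node (.node .nil (nat_lit 0x92bd4e84f5d) (nat_lit 531652) (nat_lit 0) .nil)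
  (nat_lit 0x92bd4e850ef) (nat_lit 0x103a4c2) (nat_lit 0) (.node .nil (nat_lit 0x92bd4e85124) (nat_lit
  0x10518e4) (nat_lit 0) .nil))) (nat_lit 0x92bd4e855a3) (nat_lit 0x1032927) (nat_lit 0) (.node (.node (.node
  .nil (nat_lit 0x92bd4e85654) (nat_lit 530660) (nat_lit 0) .nil) (nat_lit 0x92bd4e8573b) (nat_lit 0x103a4c1)
  (nat_lit 0) (.node .nil (nat_lit 0x92bd4e8581b) (nat_lit 0x103a8c3) (nat_lit 0) .nil)) (nat_lit
  0x92bd4e858d0) (nat_lit 0x85c122) (nat_lit 0) (.node (.node .nil (nat_lit 0x92bd4e8597b) (nat_lit 0xa5c102)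
  (nat_lit 570691) .nil) (nat_lit 0x92bd4e85d18) (nat_lit 0x20b524a2) (nat_lit 0) (.node .nil (nat_lit
  0x92bd4e85dd9) (nat_lit 273922) (nat_lit 0) .nil)))))) (nat_lit 0x92bd4e86072) (nat_lit 534888) (nat_lit 0)
  (.node (.node (.node (.node (.node (.node .nil (nat_lit 0x92bd4e8609e) (nat_lit 278889) (nat_lit 0) .nil)
  (nat_lit 0x92bd4e8640d) (nat_lit 0xb82925) (nat_lit 0) (.node .nil (nat_lit 0x92bd4e864cd) (nat_lit 8715)
  (nat_lit 0) .nil)) (nat_lit 0x92bd4e86765) (nat_lit 0x46412c) (nat_lit 0) (.node (.node .nil (nat_lit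
  0x92bd4e86796) (nat_lit 0xa3ac90) (nat_lit 0) .nil) (nat_lit 0x92bd4e86a97) (nat_lit 0x2093a961) (nat_lit 0)
  (.node .nil (nat_lit 0x92bd4e86b02) (nat_lit 0xb2c0c1) (nat_lit 0) .nil))) (nat_lit 0x92bd4e86dc8) (nat_lit
  0x782963) (nat_lit 0) (.node (.node (.node .nil (nat_lit 0x92bd4e86e5c) (nat_lit 0xb49606) (nat_lit 0) .nil)
  (nat_lit 0x92bd4e8715e) (nat_lit 0x2093a962) (nat_lit 0) (.node .nil (nat_lit 0x92bd4e871fb) (nat_lit
  180582) (nat_lit 0) .nil)) (nat_lit 0x92bd4e8786a) (nat_lit 530593) (nat_lit 0) (.node (.node .nil (nat_lit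
  0x92bd4e8790b) (nat_lit 0x938a0a) (nat_lit 0) .nil) (nat_lit 0x92bd4e87a7c) (nat_lit 0xa440c1) (nat_lit 0)
  (.node .nil (nat_lit 0x92bd4e87ae6) (nat_lit 302160) (nat_lit 0) .nil)))) (nat_lit 0x92bd4e87f44) (nat_lit
  7280) (nat_lit 0) (.node (.node (.node (.node .nil (nat_lit 0x92bd4e87ffe) (nat_lit 302602) (nat_lit 0)
  .nil) (nat_lit 0x92bd4e881a8) (nat_lit 232970) (nat_lit 0) (.node .nil (nat_lit 0x92bd4e881dd) (nat_lit
  9456) (nat_lit 0) .nil)) (nat_lit 0x92bd4e8833c) (nat_lit 0xb2c0c9) (nat_lit 0) (.node (.node .nil (nat_lit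
  0x92bd4e8836b) (nat_lit 0xb2c0ca) (nat_lit 0) .nil) (nat_lit 0x92bd4e88406) (nat_lit 366086) (nat_lit 0)
  (.node .nil (nat_lit 0x92bd4e88671) (nat_lit 0x1049d4b) (nat_lit 0) .nil))) (nat_lit 0x92bd4e88a31) (nat_lit
  0x55c0c9) (nat_lit 0) (.node (.node (.node .nil (nat_lit 0x92bd4e88a5f) (nat_lit 0x752e03) (nat_lit 0) .nil)
  (nat_lit 0x92bd4e88b21) (nat_lit 0xea5c123) (nat_lit 0) (.node .nil (nat_lit 0x92bd4e88d7c) (nat_lit 175622)
  (nat_lit 0) .nil)) (nat_lit 0x92bd4e89444) (nat_lit 16581) (nat_lit 0) (.node (.node .nil (nat_lit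
  0x92bd4e894df) (nat_lit 0x93c142) (nat_lit 0) .nil) (nat_lit 0x92bd4e8968e) (nat_lit 336390) (nat_lit 0)
  (.node .nil (nat_lit 0x92bd4e896c2) (nat_lit 302594) (nat_lit 0) .nil))))) (nat_lit 0x92bd4e898c5) (nat_lit
  0x93c141) (nat_lit 0) (.node (.node (.node (.node (.node .nil (nat_lit 0x92bd4e89ad2) (nat_lit 7683)
  (nat_lit 0) .nil) (nat_lit 0x92bd4e89d83) (nat_lit 246083) (nat_lit 0) (.node .nil (nat_lit 0x92bd4e89db9)
  (nat_lit 302593) (nat_lit 0) .nil)) (nat_lit 0x92bd4e8a05f) (nat_lit 0xa22e09) (nat_lit 0) (.node (.node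
  .nil (nat_lit 0x92bd4e8a1f6) (nat_lit 332144) (nat_lit 0) .nil) (nat_lit 0x92bd4e8a361) (nat_lit 0xb2c125)
  (nat_lit 0) (.node .nil (nat_lit 0x92bd4e8a40e) (nat_lit 529675) (nat_lit 0) .nil))) (nat_lit 0x92bd4e8a93e)
  (nat_lit 339088) (nat_lit 0) (.node (.node (.node .nil (nat_lit 0x92bd4e8aa55) (nat_lit 0x582d25) (nat_lit
  0) .nil) (nat_lit 0x92bd4e8ab06) (nat_lit 535813) (nat_lit 0) (.node .nil (nat_lit 0x92bd4e8ab51) (nat_lit
  0xa59209) (nat_lit 0) .nil)) (nat_lit 0x92bd4e8b005) (nat_lit 147787) (nat_lit 0) (.node (.node .nil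
  (nat_lit 0x92bd4e8b14c) (nat_lit 0x85c128) (nat_lit 0) .nil) (nat_lit 0x92bd4e8b1fb) (nat_lit 529768)
  (nat_lit 0) (.node .nil (nat_lit 0x92bd4e8b23b) (nat_lit 0x482969) (nat_lit 0) .nil)))) (nat_lit
  0x92bd4e8b728) (nat_lit 0xa59201) (nat_lit 0) (.node (.node (.node (.node .nil (nat_lit 0x92bd4e8b75a)
  (nat_lit 0x14b24121) (nat_lit 0) .nil) (nat_lit 0x92bd4e8b844) (nat_lit 0x55c125) (nat_lit 0) (.node .nil
  (nat_lit 0x92bd4e8b8ef) (nat_lit 377093) (nat_lit 0) .nil)) (nat_lit 0x92bd4e8bddc) (nat_lit 0x7828e3)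
  (nat_lit 0) (.node (.node .nil (nat_lit 0x92bd4e8beaf) (nat_lit 0x781d24) (nat_lit 0) .nil) (nat_lit
  0x92bd4e8bfbd) (nat_lit 245988) (nat_lit 0) (.node .nil (nat_lit 0x92bd4e8c056) (nat_lit 0x782927) (nat_lit
  400942) .nil))) (nat_lit 0x92bd4e8c2f8) (nat_lit 236040) (nat_lit 0) (.node (.node (.node .nil (nat_lit
  0x92bd4e8c37d) (nat_lit 0x724127) (nat_lit 0) .nil) (nat_lit 0x92bd4e8c535) (nat_lit 0x1029d46) (nat_lit
  0x7645a4) (.node .nil (nat_lit 0x92bd4e8c74b) (nat_lit 0x20a5a564) (nat_lit 0) .nil)) (nat_lit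
  0x92bd4e8ca28) (nat_lit 366083) (nat_lit 0) (.node (.node .nil (nat_lit 0x92bd4e8cadf) (nat_lit 0x1051569)
  (nat_lit 0) .nil) (nat_lit 0x92bd4e8cda7) (nat_lit 534699) (nat_lit 0) (.node .nil (nat_lit 0x92bd4e8ce4d)
  (nat_lit 377128) (nat_lit 0) .nil)))))))
def tT_59 : T := (.node (.node (.node (.node (.node (.node (.node .nil (nat_lit 0x92bd4e8d367) (nat_lit
  0xa5c0a9) (nat_lit 0) .nil) (nat_lit 0x92bd4e8d4a9) (nat_lit 339461) (nat_lit 0) (.node .nil (nat_lit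
  0x92bd4e8d58c) (nat_lit 0x105a502) (nat_lit 0) .nil)) (nat_lit 0x92bd4e8da77) (nat_lit 6384) (nat_lit 0)
  (.node (.node .nil (nat_lit 0x92bd4e8db0b) (nat_lit 0x63c149) (nat_lit 0) .nil) (nat_lit 0x92bd4e8db18)
  (nat_lit 204298) (nat_lit 0) (.node .nil (nat_lit 0x92bd4e8dc6b) (nat_lit 204297) (nat_lit 0) .nil)))
  (nat_lit 0x92bd4e8e16e) (nat_lit 236033) (nat_lit 0) (.node (.node (.node .nil (nat_lit 0x92bd4e8e202)
  (nat_lit 0x93a8d0) (nat_lit 0) .nil) (nat_lit 0x92bd4e8e20b) (nat_lit 0x734141) (nat_lit 0) (.node .nil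
  (nat_lit 0x92bd4e8e36b) (nat_lit 0x734121) (nat_lit 0) .nil)) (nat_lit 0x92bd4e8e784) (nat_lit 7376)
  (nat_lit 0) (.node (.node .nil (nat_lit 0x92bd4e8e8ee) (nat_lit 0x734149) (nat_lit 0) .nil) (nat_lit
  0x92bd4e8e902) (nat_lit 236042) (nat_lit 0) (.node .nil (nat_lit 0x92bd4e8ea55) (nat_lit 236041) (nat_lit 0)
  .nil)))) (nat_lit 0x92bd4e8ecf0) (nat_lit 0xc782921) (nat_lit 0) (.node (.node (.node (.node .nil (nat_lit
  0x92bd4e8ef57) (nat_lit 204289) (nat_lit 0) .nil) (nat_lit 0x92bd4e8eff9) (nat_lit 0x63c141) (nat_lit 0)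
  (.node .nil (nat_lit 0x92bd4e8f158) (nat_lit 0x63c121) (nat_lit 0) .nil)) (nat_lit 0x92bd4e8f619) (nat_lit
  180579) (nat_lit 0) (.node (.node .nil (nat_lit 0x92bd4e8f636) (nat_lit 0x1052ca9) (nat_lit 0) .nil)
  (nat_lit 0x92bd4e8f778) (nat_lit 534885) (nat_lit 0) (.node .nil (nat_lit 0x92bd4e8f846) (nat_lit 0xb82502)
  (nat_lit 0) .nil))) (nat_lit 0x92bd4e8fabb) (nat_lit 0x1051561) (nat_lit 0) (.node (.node (.node .nil
  (nat_lit 0x92bd4e8fd10) (nat_lit 535812) (nat_lit 0) .nil) (nat_lit 0x92bd4e8fd2f) (nat_lit 0x105a50a)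
  (nat_lit 0) (.node .nil (nat_lit 0x92bd4e8fefe) (nat_lit 535848) (nat_lit 0) .nil)) (nat_lit 0x92bd4e900ad)
  (nat_lit 12803) (nat_lit 0) (.node (.node .nil (nat_lit 0x92bd4e902cc) (nat_lit 409891) (nat_lit 0) .nil)
  (nat_lit 0x92bd4e90514) (nat_lit 409923) (nat_lit 0) (.node .nil (nat_lit 0x92bd4e905ae) (nat_lit 0xc82923)
  (nat_lit 0) .nil))))) (nat_lit 0x92bd4e907de) (nat_lit 0x72ae04) (nat_lit 0) (.node (.node (.node (.node
  (.node .nil (nat_lit 0x92bd4e9085e) (nat_lit 0x1051969) (nat_lit 0) .nil) (nat_lit 0x92bd4e90bd6) (nat_lit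
  534731) (nat_lit 0) (.node .nil (nat_lit 0x92bd4e90bf8) (nat_lit 0x959a03) (nat_lit 0) .nil)) (nat_lit
  0x92bd4e90e4e) (nat_lit 7688) (nat_lit 0) (.node (.node .nil (nat_lit 0x92bd4e91067) (nat_lit 0x782149)
  (nat_lit 0) .nil) (nat_lit 0x92bd4e91184) (nat_lit 246025) (nat_lit 0) (.node .nil (nat_lit 0x92bd4e911c0)
  (nat_lit 246026) (nat_lit 0) .nil))) (nat_lit 0x92bd4e914d3) (nat_lit 0x14564122) (nat_lit 0) (.node (.node
  (.node .nil (nat_lit 0x92bd4e9169d) (nat_lit 0xc340c3) (nat_lit 0) .nil) (nat_lit 0x92bd4e9198e) (nat_lit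
  0x9230f0) (nat_lit 0) (.node .nil (nat_lit 0x92bd4e91a0a) (nat_lit 0xa2b202) (nat_lit 0) .nil)) (nat_lit
  0x92bd4e91bc8) (nat_lit 0xa61609) (nat_lit 0) (.node (.node .nil (nat_lit 0x92bd4e91d8d) (nat_lit 0x761a05)
  (nat_lit 0) .nil) (nat_lit 0x92bd4e92099) (nat_lit 0x943206) (nat_lit 0) (.node .nil (nat_lit 0x92bd4e920e8)
  (nat_lit 340144) (nat_lit 0) .nil)))) (nat_lit 0x92bd4e922c6) (nat_lit 267782) (nat_lit 0) (.node (.node
  (.node (.node .nil (nat_lit 0x92bd4e923d9) (nat_lit 0x929e01) (nat_lit 0) .nil) (nat_lit 0x92bd4e923ec)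
  (nat_lit 0xa39601) (nat_lit 0) (.node .nil (nat_lit 0x92bd4e92544) (nat_lit 0xa49e08) (nat_lit 0) .nil))
  (nat_lit 0x92bd4e92c52) (nat_lit 0x105a505) (nat_lit 0) (.node (.node .nil (nat_lit 0x92bd4e92eb3) (nat_lit
  0xa5c124) (nat_lit 0) .nil) (nat_lit 0x92bd4e92ec1) (nat_lit 339460) (nat_lit 0) (.node .nil (nat_lit
  0x92bd4e92f25) (nat_lit 273584) (nat_lit 0) .nil))) (nat_lit 0x92bd4e93456) (nat_lit 0x7828e2) (nat_lit 0)
  (.node (.node (.node .nil (nat_lit 0x92bd4e93586) (nat_lit 0x10324e5) (nat_lit 0) .nil) (nat_lit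
  0x92bd4e93610) (nat_lit 278758) (nat_lit 0) (.node .nil (nat_lit 0x92bd4e936ad) (nat_lit 0xf051d22) (nat_lit
  411082) .nil)) (nat_lit 0x92bd4e93b8c) (nat_lit 0x106290c) (nat_lit 0xc8a5a4) (.node (.node .nil (nat_lit
  0x92bd4e93c13) (nat_lit 0x1031d25) (nat_lit 0) .nil) (nat_lit 0x92bd4e93d05) (nat_lit 0x734101) (nat_lit 0)
  (.node .nil (nat_lit 0x92bd4e93d65) (nat_lit 0xf0524e2) (nat_lit 0) .nil)))))) (nat_lit 0x92bd4e94045)
  (nat_lit 233991) (nat_lit 0) (.node (.node (.node (.node (.node (.node .nil (nat_lit 0x92bd4e94244) (nat_lit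
  0x714147) (nat_lit 0) .nil) (nat_lit 0x92bd4e94286) (nat_lit 0x127828e2) (nat_lit 0xc8b943) (.node .nil
  (nat_lit 0x92bd4e94369) (nat_lit 0x9440e6) (nat_lit 0) .nil)) (nat_lit 0x92bd4e9477a) (nat_lit 0x7828e9)
  (nat_lit 0) (.node (.node .nil (nat_lit 0x92bd4e948d2) (nat_lit 246087) (nat_lit 410925) .nil) (nat_lit
  0x92bd4e94a60) (nat_lit 0x7824e4) (nat_lit 0) (.node .nil (nat_lit 0x92bd4e94af6) (nat_lit 0x8818e1)
  (nat_lit 0) .nil))) (nat_lit 0x92bd4e950b5) (nat_lit 0x82c169) (nat_lit 0) (.node (.node (.node .nil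
  (nat_lit 0x92bd4e9518a) (nat_lit 534667) (nat_lit 0) .nil) (nat_lit 0x92bd4e951ea) (nat_lit 267787) (nat_lit
  0) (.node .nil (nat_lit 0x92bd4e95263) (nat_lit 0x1051169) (nat_lit 0) .nil)) (nat_lit 0x92bd4e957ac)
  (nat_lit 0xb82505) (nat_lit 0) (.node (.node .nil (nat_lit 0x92bd4e95881) (nat_lit 534884) (nat_lit 0) .nil)
  (nat_lit 0x92bd4e958ea) (nat_lit 368816) (nat_lit 0) (.node .nil (nat_lit 0x92bd4e9592b) (nat_lit 0x1052d24)
  (nat_lit 0) .nil)))) (nat_lit 0x92bd4e95cb1) (nat_lit 172555) (nat_lit 0) (.node (.node (.node (.node .nil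
  (nat_lit 0x92bd4e95e9e) (nat_lit 0x544169) (nat_lit 0) .nil) (nat_lit 0x92bd4e95f6e) (nat_lit 0x20a22d21)
  (nat_lit 0) (.node .nil (nat_lit 0x92bd4e95f7a) (nat_lit 0x1051161) (nat_lit 0) .nil)) (nat_lit
  0x92bd4e964f2) (nat_lit 0x7828e1) (nat_lit 242221) (.node (.node .nil (nat_lit 0x92bd4e9663f) (nat_lit
  0x105a564) (nat_lit 0) .nil) (nat_lit 0x92bd4e966cf) (nat_lit 278727) (nat_lit 0) (.node .nil (nat_lit
  0x92bd4e96764) (nat_lit 0x93c147) (nat_lit 0) .nil))) (nat_lit 0x92bd4e96bfb) (nat_lit 0x1039546) (nat_lit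
  0) (.node (.node (.node .nil (nat_lit 0x92bd4e96cce) (nat_lit 0x93c0e4) (nat_lit 0) .nil) (nat_lit
  0x92bd4e96dc6) (nat_lit 204296) (nat_lit 0) (.node .nil (nat_lit 0x92bd4e96e22) (nat_lit 0xf0524e1) (nat_lit
  242222) .nil)) (nat_lit 0x92bd4e97042) (nat_lit 171524) (nat_lit 0) (.node (.node .nil (nat_lit
  0x92bd4e9704d) (nat_lit 0x14782501) (nat_lit 0) .nil) (nat_lit 0x92bd4e970cc) (nat_lit 0x53c124) (nat_lit 0)
  (.node .nil (nat_lit 0x92bd4e97303) (nat_lit 0x551e02) (nat_lit 0) .nil))))) (nat_lit 0x92bd4e97624)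
  (nat_lit 16492) (nat_lit 0) (.node (.node (.node (.node (.node .nil (nat_lit 0x92bd4e97705) (nat_lit
  0x101b149) (nat_lit 0) .nil) (nat_lit 0x92bd4e97b84) (nat_lit 527753) (nat_lit 0) (.node .nil (nat_lit
  0x92bd4e97be6) (nat_lit 527754) (nat_lit 0) .nil)) (nat_lit 0x92bd4e97f0c) (nat_lit 0x681983) (nat_lit 0)
  (.node (.node .nil (nat_lit 0x92bd4e9801f) (nat_lit 534700) (nat_lit 0) .nil) (nat_lit 0x92bd4e98287)
  (nat_lit 0x934188) (nat_lit 0) (.node .nil (nat_lit 0x92bd4e982fe) (nat_lit 0x1051589) (nat_lit 0) .nil)))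
  (nat_lit 0x92bd4e98422) (nat_lit 241160) (nat_lit 0) (.node (.node (.node .nil (nat_lit 0x92bd4e985a1)
  (nat_lit 0x932e0a) (nat_lit 0) .nil) (nat_lit 0x92bd4e988ae) (nat_lit 0xa5c0c3) (nat_lit 0) (.node .nil
  (nat_lit 0x92bd4e98921) (nat_lit 301424) (nat_lit 0) .nil)) (nat_lit 0x92bd4e98bf0) (nat_lit 0x782d02)
  (nat_lit 0) (.node (.node .nil (nat_lit 0x92bd4e98c23) (nat_lit 0x959a0a) (nat_lit 0) .nil) (nat_lit
  0x92bd4e98cb6) (nat_lit 306384) (nat_lit 0) (.node .nil (nat_lit 0x92bd4e98fa3) (nat_lit 0x1051963) (nat_lit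
  0) .nil)))) (nat_lit 0x92bd4e993a8) (nat_lit 0x10530a2) (nat_lit 0) (.node (.node (.node (.node .nil
  (nat_lit 0x92bd4e993eb) (nat_lit 0x734185) (nat_lit 0) .nil) (nat_lit 0x92bd4e99768) (nat_lit 0x1049187)
  (nat_lit 0) (.node .nil (nat_lit 0x92bd4e997d9) (nat_lit 0x20a61522) (nat_lit 0) .nil)) (nat_lit
  0x92bd4e99cb9) (nat_lit 0x55c149) (nat_lit 0) (.node (.node .nil (nat_lit 0x92bd4e99d36) (nat_lit 5488)
  (nat_lit 0) .nil) (nat_lit 0x92bd4e99ea2) (nat_lit 175626) (nat_lit 0) (.node .nil (nat_lit 0x92bd4e99f39)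
  (nat_lit 175625) (nat_lit 0) .nil))) (nat_lit 0x92bd4e9a3fc) (nat_lit 0xb82928) (nat_lit 0) (.node (.node
  (.node .nil (nat_lit 0x92bd4e9a42b) (nat_lit 11440) (nat_lit 0) .nil) (nat_lit 0x92bd4e9a597) (nat_lit
  366090) (nat_lit 0) (.node .nil (nat_lit 0x92bd4e9a61d) (nat_lit 366089) (nat_lit 0) .nil)) (nat_lit
  0x92bd4e9a86e) (nat_lit 0x652206) (nat_lit 0) (.node (.node .nil (nat_lit 0x92bd4e9aafa) (nat_lit 213189)
  (nat_lit 0) .nil) (nat_lit 0x92bd4e9ab6c) (nat_lit 0xa324f0) (nat_lit 0) (.node .nil (nat_lit 0x92bd4e9ad08)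
  (nat_lit 0x649e02) (nat_lit 0) .nil)))))))
def tT_60 : T := (.node (.node (.node (.node (.node (.node (.node .nil (nat_lit 0x92bd4e9afce) (nat_lit
  204291) (nat_lit 0) .nil) (nat_lit 0x92bd4e9b164) (nat_lit 0x1062989) (nat_lit 0) (.node .nil (nat_lit
  0x92bd4e9b449) (nat_lit 0x649e01) (nat_lit 0) .nil)) (nat_lit 0x92bd4e9b6e3) (nat_lit 0x1062981) (nat_lit 0)
  (.node (.node .nil (nat_lit 0x92bd4e9b933) (nat_lit 235015) (nat_lit 0) .nil) (nat_lit 0x92bd4e9b95b)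
  (nat_lit 0x649e0a) (nat_lit 0) (.node .nil (nat_lit 0x92bd4e9baf3) (nat_lit 206064) (nat_lit 0) .nil)))
  (nat_lit 0x92bd4e9bdd8) (nat_lit 0x1062982) (nat_lit 0) (.node (.node (.node .nil (nat_lit 0x92bd4e9bf55)
  (nat_lit 236035) (nat_lit 0) .nil) (nat_lit 0x92bd4e9c052) (nat_lit 0x7524d0) (nat_lit 0) (.node .nil
  (nat_lit 0x92bd4e9c236) (nat_lit 0x734123) (nat_lit 0) .nil)) (nat_lit 0x92bd4e9c6cb) (nat_lit 0x105a928)
  (nat_lit 0) (.node (.node .nil (nat_lit 0x92bd4e9c6fd) (nat_lit 366081) (nat_lit 0) .nil) (nat_lit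
  0x92bd4e9c868) (nat_lit 0xb2c141) (nat_lit 0) (.node .nil (nat_lit 0x92bd4e9c8f2) (nat_lit 0xb2c121)
  (nat_lit 0) .nil)))) (nat_lit 0x92bd4e9cc67) (nat_lit 5643) (nat_lit 0) (.node (.node (.node (.node .nil
  (nat_lit 0x92bd4e9cd58) (nat_lit 0x582d49) (nat_lit 0) .nil) (nat_lit 0x92bd4e9cf5d) (nat_lit 180586)
  (nat_lit 0) (.node .nil (nat_lit 0x92bd4e9cff5) (nat_lit 180585) (nat_lit 0) .nil)) (nat_lit 0x92bd4e9d172)
  (nat_lit 0x9628f0) (nat_lit 0) (.node (.node .nil (nat_lit 0x92bd4e9d290) (nat_lit 0xc340c2) (nat_lit 0)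
  .nil) (nat_lit 0x92bd4e9d30a) (nat_lit 0x93b204) (nat_lit 0) (.node .nil (nat_lit 0x92bd4e9d5f0) (nat_lit
  0x553202) (nat_lit 0) .nil))) (nat_lit 0x92bd4e9d799) (nat_lit 0x106292b) (nat_lit 0) (.node (.node (.node
  .nil (nat_lit 0x92bd4e9d980) (nat_lit 209414) (nat_lit 0) .nil) (nat_lit 0x92bd4e9da85) (nat_lit 0x6640c9)
  (nat_lit 0) (.node .nil (nat_lit 0x92bd4e9dcd5) (nat_lit 0x553201) (nat_lit 0) .nil)) (nat_lit
  0x92bd4e9df6c) (nat_lit 12802) (nat_lit 0) (.node (.node .nil (nat_lit 0x92bd4e9e050) (nat_lit 409922)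
  (nat_lit 0) .nil) (nat_lit 0x92bd4e9e181) (nat_lit 409890) (nat_lit 0) (.node .nil (nat_lit 0x92bd4e9e456)
  (nat_lit 0xc82922) (nat_lit 0) .nil))))) (nat_lit 0x92bd4e9e695) (nat_lit 0x482921) (nat_lit 0) (.node
  (.node (.node (.node (.node .nil (nat_lit 0x92bd4e9e912) (nat_lit 147777) (nat_lit 0) .nil) (nat_lit
  0x92bd4e9ea7d) (nat_lit 147745) (nat_lit 0) (.node .nil (nat_lit 0x92bd4e9ea92) (nat_lit 4609) (nat_lit 0)
  .nil)) (nat_lit 0x92bd4e9ed8c) (nat_lit 0x482922) (nat_lit 0) (.node (.node .nil (nat_lit 0x92bd4e9f0e5)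
  (nat_lit 147778) (nat_lit 0) .nil) (nat_lit 0x92bd4e9f174) (nat_lit 147746) (nat_lit 0) (.node .nil (nat_lit
  0x92bd4e9f185) (nat_lit 4610) (nat_lit 0) .nil))) (nat_lit 0x92bd4e9f458) (nat_lit 0x1052564) (nat_lit 0)
  (.node (.node (.node .nil (nat_lit 0x92bd4e9f48d) (nat_lit 0x65c0c4) (nat_lit 0) .nil) (nat_lit
  0x92bd4e9f7a5) (nat_lit 0xc4414c) (nat_lit 0) (.node .nil (nat_lit 0x92bd4e9f7c9) (nat_lit 0x84ae08)
  (nat_lit 0) .nil)) (nat_lit 0x92bd4e9fb50) (nat_lit 0x20a49161) (nat_lit 0) (.node (.node .nil (nat_lit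
  0x92bd4e9fbb5) (nat_lit 0x86414c) (nat_lit 0) .nil) (nat_lit 0x92bd4e9fbfb) (nat_lit 0x681166) (nat_lit 0)
  (.node .nil (nat_lit 0x92bd4e9fe6b) (nat_lit 0x582565) (nat_lit 0) .nil)))) (nat_lit 0x92bd4ea016e) (nat_lit
  0xa4ae04) (nat_lit 0) (.node (.node (.node (.node .nil (nat_lit 0x92bd4ea027e) (nat_lit 0x682cc4) (nat_lit
  0) .nil) (nat_lit 0x92bd4ea03ab) (nat_lit 0xb34126) (nat_lit 0) (.node .nil (nat_lit 0x92bd4ea0557) (nat_lit
  0x18882981) (nat_lit 0) .nil)) (nat_lit 0x92bd4ea087a) (nat_lit 0xb240e5) (nat_lit 0) (.node (.node .nil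
  (nat_lit 0x92bd4ea0973) (nat_lit 0x14b34121) (nat_lit 0) .nil) (nat_lit 0x92bd4ea09d6) (nat_lit 0xa59a01)
  (nat_lit 0) (.node .nil (nat_lit 0x92bd4ea0c4c) (nat_lit 0xb81d25) (nat_lit 0) .nil))) (nat_lit
  0x92bd4ea1034) (nat_lit 0x882ce3) (nat_lit 0) (.node (.node (.node .nil (nat_lit 0x92bd4ea1094) (nat_lit
  0x104acc3) (nat_lit 0) .nil) (nat_lit 0x92bd4ea10de) (nat_lit 0xa34169) (nat_lit 0) (.node .nil (nat_lit
  0x92bd4ea134c) (nat_lit 334347) (nat_lit 0) .nil)) (nat_lit 0x92bd4ea174c) (nat_lit 213253) (nat_lit 0)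
  (.node (.node .nil (nat_lit 0x92bd4ea19cd) (nat_lit 533733) (nat_lit 0) .nil) (nat_lit 0x92bd4ea1b36)
  (nat_lit 534695) (nat_lit 0) (.node .nil (nat_lit 0x92bd4ea1b4c) (nat_lit 0x10514e9) (nat_lit 0) .nil))))))
  (nat_lit 0x92bd4ea1e41) (nat_lit 8711) (nat_lit 0) (.node (.node (.node (.node (.node (.node .nil (nat_lit
  0x92bd4ea1f38) (nat_lit 278762) (nat_lit 0) .nil) (nat_lit 0x92bd4ea21c1) (nat_lit 278761) (nat_lit 0)
  (.node .nil (nat_lit 0x92bd4ea223f) (nat_lit 0x881d49) (nat_lit 0) .nil)) (nat_lit 0x92bd4ea2511) (nat_lit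
  0x482ca7) (nat_lit 0) (.node (.node .nil (nat_lit 0x92bd4ea2548) (nat_lit 0xa59a09) (nat_lit 0) .nil)
  (nat_lit 0x92bd4ea2866) (nat_lit 0x1049963) (nat_lit 0) (.node .nil (nat_lit 0x92bd4ea2882) (nat_lit 339152)
  (nat_lit 0) .nil))) (nat_lit 0x92bd4ea2c05) (nat_lit 0x553209) (nat_lit 0) (.node (.node (.node .nil
  (nat_lit 0x92bd4ea2ccb) (nat_lit 174480) (nat_lit 0) .nil) (nat_lit 0x92bd4ea2d0a) (nat_lit 399878) (nat_lit
  0) (.node .nil (nat_lit 0x92bd4ea307e) (nat_lit 0x961e04) (nat_lit 0) .nil)) (nat_lit 0x92bd4ea32eb)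
  (nat_lit 12801) (nat_lit 0) (.node (.node .nil (nat_lit 0x92bd4ea33dd) (nat_lit 409889) (nat_lit 0) .nil)
  (nat_lit 0x92bd4ea3699) (nat_lit 409921) (nat_lit 0) (.node .nil (nat_lit 0x92bd4ea37df) (nat_lit 0xc82921)
  (nat_lit 0) .nil)))) (nat_lit 0x92bd4ea39e0) (nat_lit 0xa2b209) (nat_lit 0) (.node (.node (.node (.node .nil
  (nat_lit 0x92bd4ea3ad4) (nat_lit 333200) (nat_lit 0) .nil) (nat_lit 0x92bd4ea3af5) (nat_lit 0x661e05)
  (nat_lit 0) (.node .nil (nat_lit 0x92bd4ea3c0e) (nat_lit 0xc49a06) (nat_lit 0) .nil)) (nat_lit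
  0x92bd4ea40e6) (nat_lit 3472) (nat_lit 0) (.node (.node .nil (nat_lit 0x92bd4ea41ac) (nat_lit 111113)
  (nat_lit 0) .nil) (nat_lit 0x92bd4ea455f) (nat_lit 111114) (nat_lit 0) (.node .nil (nat_lit 0x92bd4ea45e3)
  (nat_lit 0x364149) (nat_lit 0) .nil))) (nat_lit 0x92bd4ea4811) (nat_lit 0x75c103) (nat_lit 0) (.node (.node
  (.node .nil (nat_lit 0x92bd4ea4887) (nat_lit 0xa5c0c9) (nat_lit 0) .nil) (nat_lit 0x92bd4ea48b8) (nat_lit
  339462) (nat_lit 0) (.node .nil (nat_lit 0x92bd4ea4c2b) (nat_lit 0x932e03) (nat_lit 0) .nil)) (nat_lit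
  0x92bd4ea4f06) (nat_lit 0x482d49) (nat_lit 0) (.node (.node .nil (nat_lit 0x92bd4ea4f7c) (nat_lit 4619)
  (nat_lit 0) .nil) (nat_lit 0x92bd4ea4faa) (nat_lit 147817) (nat_lit 0) (.node .nil (nat_lit 0x92bd4ea5314)
  (nat_lit 147818) (nat_lit 0) .nil))))) (nat_lit 0x92bd4ea55bc) (nat_lit 246018) (nat_lit 0) (.node (.node
  (.node (.node (.node .nil (nat_lit 0x92bd4ea578f) (nat_lit 0xa39609) (nat_lit 0) .nil) (nat_lit
  0x92bd4ea5892) (nat_lit 300272) (nat_lit 0) (.node .nil (nat_lit 0x92bd4ea590d) (nat_lit 335024) (nat_lit 0)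
  .nil)) (nat_lit 0x92bd4ea5cb3) (nat_lit 0x6824ca) (nat_lit 0) (.node (.node .nil (nat_lit 0x92bd4ea5e82)
  (nat_lit 530695) (nat_lit 0) .nil) (nat_lit 0x92bd4ea5f8b) (nat_lit 0x61c146) (nat_lit 0) (.node .nil
  (nat_lit 0x92bd4ea6000) (nat_lit 213286) (nat_lit 399907) .nil))) (nat_lit 0x92bd4ea63e8) (nat_lit 0x85c0e2)
  (nat_lit 0) (.node (.node (.node .nil (nat_lit 0x92bd4ea64e6) (nat_lit 0x20932d41) (nat_lit 0) .nil)
  (nat_lit 0x92bd4ea66e3) (nat_lit 0xb828a7) (nat_lit 0) (.node .nil (nat_lit 0x92bd4ea670f) (nat_lit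
  0x1049961) (nat_lit 0) .nil)) (nat_lit 0x92bd4ea69d7) (nat_lit 278755) (nat_lit 0) (.node (.node .nil
  (nat_lit 0x92bd4ea6b56) (nat_lit 0x8824ea) (nat_lit 0) .nil) (nat_lit 0x92bd4ea6e57) (nat_lit 0x102a8e2)
  (nat_lit 0) (.node .nil (nat_lit 0x92bd4ea6e5e) (nat_lit 278823) (nat_lit 0) .nil)))) (nat_lit
  0x92bd4ea7196) (nat_lit 147685) (nat_lit 0) (.node (.node (.node (.node .nil (nat_lit 0x92bd4ea7258)
  (nat_lit 0x1051527) (nat_lit 0) .nil) (nat_lit 0x92bd4ea7450) (nat_lit 531749) (nat_lit 0) (.node .nil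
  (nat_lit 0x92bd4ea754e) (nat_lit 0x102a8e1) (nat_lit 0) .nil)) (nat_lit 0x92bd4ea78cd) (nat_lit 273927)
  (nat_lit 0) (.node (.node .nil (nat_lit 0x92bd4ea78ff) (nat_lit 306694) (nat_lit 0) .nil) (nat_lit
  0x92bd4ea7940) (nat_lit 0x95c0ca) (nat_lit 0) (.node .nil (nat_lit 0x92bd4ea7b78) (nat_lit 0xa32e03)
  (nat_lit 0) .nil))) (nat_lit 0x92bd4ea7fc4) (nat_lit 0x882ce2) (nat_lit 0) (.node (.node (.node .nil
  (nat_lit 0x92bd4ea8043) (nat_lit 0x104996a) (nat_lit 0) .nil) (nat_lit 0x92bd4ea82a1) (nat_lit 533707)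
  (nat_lit 0) (.node .nil (nat_lit 0x92bd4ea82be) (nat_lit 0xa59a03) (nat_lit 0) .nil)) (nat_lit
  0x92bd4ea86b3) (nat_lit 0xa49170) (nat_lit 0) (.node (.node .nil (nat_lit 0x92bd4ea8738) (nat_lit 0x624166)
  (nat_lit 0) .nil) (nat_lit 0x92bd4ea899a) (nat_lit 0xb34146) (nat_lit 0) (.node .nil (nat_lit 0x92bd4ea8aa1)
  (nat_lit 0x104950b) (nat_lit 0) .nil)))))))
def tT_61 : T := (.node (.node (.node (.node (.node (.node (.node .nil (nat_lit 0x92bd4ea8de2) (nat_lit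
  0x65c146) (nat_lit 0) .nil) (nat_lit 0x92bd4ea8e23) (nat_lit 0x659206) (nat_lit 0) (.node .nil (nat_lit
  0x92bd4ea9198) (nat_lit 0x95c105) (nat_lit 0) .nil)) (nat_lit 0x92bd4ea9461) (nat_lit 0x1052482) (nat_lit 0)
  (.node (.node .nil (nat_lit 0x92bd4ea9526) (nat_lit 16514) (nat_lit 0) .nil) (nat_lit 0x92bd4ea971f)
  (nat_lit 534658) (nat_lit 0) (.node .nil (nat_lit 0x92bd4ea981d) (nat_lit 533634) (nat_lit 0) .nil)))
  (nat_lit 0x92bd4ea9b15) (nat_lit 0x1052481) (nat_lit 0) (.node (.node (.node .nil (nat_lit 0x92bd4ea9c10)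
  (nat_lit 16513) (nat_lit 0) .nil) (nat_lit 0x92bd4ea9ee9) (nat_lit 534657) (nat_lit 0) (.node .nil (nat_lit
  0x92bd4ea9f14) (nat_lit 533633) (nat_lit 0) .nil)) (nat_lit 0x92bd4eaa28f) (nat_lit 0x48292b) (nat_lit 0)
  (.node (.node .nil (nat_lit 0x92bd4eaa387) (nat_lit 0x622e06) (nat_lit 0) .nil) (nat_lit 0x92bd4eaa5bc)
  (nat_lit 0x782967) (nat_lit 0) (.node .nil (nat_lit 0x92bd4eaa680) (nat_lit 0x1049568) (nat_lit 0) .nil))))
  (nat_lit 0x92bd4eaa980) (nat_lit 0x146824c1) (nat_lit 0) (.node (.node (.node (.node .nil (nat_lit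
  0x92bd4eaa9b7) (nat_lit 0x1049907) (nat_lit 400938) .nil) (nat_lit 0x92bd4eaaa00) (nat_lit 269520) (nat_lit
  0) (.node .nil (nat_lit 0x92bd4eaac7b) (nat_lit 0x10520e6) (nat_lit 0) .nil)) (nat_lit 0x92bd4eab04b)
  (nat_lit 0x1022d49) (nat_lit 0) (.node (.node .nil (nat_lit 0x92bd4eab083) (nat_lit 16523) (nat_lit 0) .nil)
  (nat_lit 0x92bd4eab320) (nat_lit 528746) (nat_lit 0) (.node .nil (nat_lit 0x92bd4eab3c6) (nat_lit 528745)
  (nat_lit 0) .nil))) (nat_lit 0x92bd4eab73f) (nat_lit 0x105a924) (nat_lit 0) (.node (.node (.node .nil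
  (nat_lit 0x92bd4eab7ee) (nat_lit 16740) (nat_lit 0) .nil) (nat_lit 0x92bd4eaba45) (nat_lit 535876) (nat_lit
  0) (.node .nil (nat_lit 0x92bd4eababb) (nat_lit 535844) (nat_lit 0) .nil)) (nat_lit 0x92bd4eabe5d) (nat_lit
  0xd051921) (nat_lit 0) (.node (.node .nil (nat_lit 0x92bd4eabe6d) (nat_lit 268528) (nat_lit 0) .nil)
  (nat_lit 0x92bd4eac110) (nat_lit 0x6828c1) (nat_lit 399917) (.node .nil (nat_lit 0x92bd4eac126) (nat_lit
  0x6824c3) (nat_lit 0) .nil))))) (nat_lit 0x92bd4eac554) (nat_lit 0xa34126) (nat_lit 0) (.node (.node (.node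
  (.node (.node .nil (nat_lit 0x92bd4eac5d7) (nat_lit 205040) (nat_lit 0) .nil) (nat_lit 0x92bd4eac7fa)
  (nat_lit 0x649e05) (nat_lit 399908) (.node .nil (nat_lit 0x92bd4eac850) (nat_lit 0x6828c2) (nat_lit 0)
  .nil)) (nat_lit 0x92bd4eacc49) (nat_lit 529670) (nat_lit 0) (.node (.node .nil (nat_lit 0x92bd4eaccce)
  (nat_lit 0x551e09) (nat_lit 0) .nil) (nat_lit 0x92bd4eacef1) (nat_lit 174320) (nat_lit 0) (.node .nil
  (nat_lit 0x92bd4eacf45) (nat_lit 0x749601) (nat_lit 0) .nil))) (nat_lit 0x92bd4ead340) (nat_lit 530693)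
  (nat_lit 0) (.node (.node (.node .nil (nat_lit 0x92bd4ead350) (nat_lit 0xa3c128) (nat_lit 0) .nil) (nat_lit
  0x92bd4ead5f5) (nat_lit 0x749602) (nat_lit 0) (.node .nil (nat_lit 0x92bd4ead607) (nat_lit 0x782902)
  (nat_lit 0) .nil)) (nat_lit 0x92bd4eada0e) (nat_lit 246120) (nat_lit 0) (.node (.node .nil (nat_lit
  0x92bd4eadabb) (nat_lit 0x93416a) (nat_lit 0) .nil) (nat_lit 0x92bd4eadcbf) (nat_lit 0x1052cc3) (nat_lit 0)
  (.node .nil (nat_lit 0x92bd4eade3f) (nat_lit 301579) (nat_lit 0) .nil)))) (nat_lit 0x92bd4eae107) (nat_lit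
  0x75c102) (nat_lit 0) (.node (.node (.node (.node .nil (nat_lit 0x92bd4eae13e) (nat_lit 0x12b34141) (nat_lit
  0) .nil) (nat_lit 0x92bd4eae4bd) (nat_lit 0x1032964) (nat_lit 0) (.node .nil (nat_lit 0x92bd4eae537)
  (nat_lit 0x959a01) (nat_lit 0) .nil)) (nat_lit 0x92bd4eae825) (nat_lit 246019) (nat_lit 0) (.node (.node
  .nil (nat_lit 0x92bd4eae851) (nat_lit 246088) (nat_lit 0) .nil) (nat_lit 0x92bd4eae8a5) (nat_lit 0x782909)
  (nat_lit 0) (.node .nil (nat_lit 0x92bd4eaeb1b) (nat_lit 238768) (nat_lit 0) .nil))) (nat_lit 0x92bd4eaee06)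
  (nat_lit 0x1062923) (nat_lit 0) (.node (.node (.node .nil (nat_lit 0x92bd4eaeee3) (nat_lit 16771) (nat_lit
  0) .nil) (nat_lit 0x92bd4eaf353) (nat_lit 536867) (nat_lit 0) (.node .nil (nat_lit 0x92bd4eaf3c9) (nat_lit
  536899) (nat_lit 0) .nil)) (nat_lit 0x92bd4eaf4fd) (nat_lit 524) (nat_lit 0) (.node (.node .nil (nat_lit
  0x92bd4eaf5da) (nat_lit 536905) (nat_lit 0) .nil) (nat_lit 0x92bd4eafa48) (nat_lit 16778) (nat_lit 0) (.node
  .nil (nat_lit 0x92bd4eafaba) (nat_lit 16777) (nat_lit 0) .nil)))))) (nat_lit 0x92bd4eafbf6) (nat_lit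
  0x1062921) (nat_lit 0) (.node (.node (.node (.node (.node (.node .nil (nat_lit 0x92bd4eafcd7) (nat_lit
  16769) (nat_lit 0) .nil) (nat_lit 0x92bd4eafe5d) (nat_lit 536897) (nat_lit 0) (.node .nil (nat_lit
  0x92bd4eb01ac) (nat_lit 536865) (nat_lit 0) .nil)) (nat_lit 0x92bd4eb0380) (nat_lit 536673) (nat_lit 0)
  (.node (.node .nil (nat_lit 0x92bd4eb03d0) (nat_lit 0x20c52461) (nat_lit 0) .nil) (nat_lit 0x92bd4eb04ce)
  (nat_lit 0x1062461) (nat_lit 0) (.node .nil (nat_lit 0x92bd4eb08af) (nat_lit 0x1062861) (nat_lit 0) .nil)))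
  (nat_lit 0x92bd4eb0aaf) (nat_lit 0x383149) (nat_lit 0) (.node (.node (.node .nil (nat_lit 0x92bd4eb0ab6)
  (nat_lit 3596) (nat_lit 0) .nil) (nat_lit 0x92bd4eb0cd1) (nat_lit 115081) (nat_lit 0) (.node .nil (nat_lit
  0x92bd4eb0fa6) (nat_lit 115082) (nat_lit 0) .nil)) (nat_lit 0x92bd4eb11a8) (nat_lit 16770) (nat_lit 0)
  (.node (.node .nil (nat_lit 0x92bd4eb11a9) (nat_lit 0x1062922) (nat_lit 0) .nil) (nat_lit 0x92bd4eb13c4)
  (nat_lit 536898) (nat_lit 0) (.node .nil (nat_lit 0x92bd4eb168d) (nat_lit 536866) (nat_lit 0) .nil))))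
  (nat_lit 0x92bd4eb19bc) (nat_lit 213196) (nat_lit 0) (.node (.node (.node (.node .nil (nat_lit
  0x92bd4eb1a7a) (nat_lit 0x102a982) (nat_lit 0) .nil) (nat_lit 0x92bd4eb1d20) (nat_lit 0x681989) (nat_lit 0)
  (.node .nil (nat_lit 0x92bd4eb1da8) (nat_lit 0x209628e1) (nat_lit 0) .nil)) (nat_lit 0x92bd4eb20b8) (nat_lit
  0x6830c3) (nat_lit 0) (.node (.node .nil (nat_lit 0x92bd4eb2171) (nat_lit 0x104b0e4) (nat_lit 0) .nil)
  (nat_lit 0x92bd4eb2415) (nat_lit 534917) (nat_lit 0) (.node .nil (nat_lit 0x92bd4eb248d) (nat_lit 0x10530a9)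
  (nat_lit 0) .nil))) (nat_lit 0x92bd4eb27ab) (nat_lit 0x5830e6) (nat_lit 0) (.node (.node (.node .nil
  (nat_lit 0x92bd4eb2a37) (nat_lit 0x1049d84) (nat_lit 0) .nil) (nat_lit 0x92bd4eb2af7) (nat_lit 0x1051582)
  (nat_lit 0) (.node .nil (nat_lit 0x92bd4eb2b84) (nat_lit 0x20a2b122) (nat_lit 0) .nil)) (nat_lit
  0x92bd4eb2e9f) (nat_lit 0x6830c2) (nat_lit 0) (.node (.node .nil (nat_lit 0x92bd4eb312e) (nat_lit 0x102a981)
  (nat_lit 0) .nil) (nat_lit 0x92bd4eb31ec) (nat_lit 0x482587) (nat_lit 0) (.node .nil (nat_lit 0x92bd4eb3291)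
  (nat_lit 0xc52570) (nat_lit 0) .nil))))) (nat_lit 0x92bd4eb346b) (nat_lit 0x93b20a) (nat_lit 0) (.node
  (.node (.node (.node (.node .nil (nat_lit 0x92bd4eb3495) (nat_lit 0xc81907) (nat_lit 0) .nil) (nat_lit
  0x92bd4eb3770) (nat_lit 0xa64101) (nat_lit 0) (.node .nil (nat_lit 0x92bd4eb3977) (nat_lit 302480) (nat_lit
  0) .nil)) (nat_lit 0x92bd4eb3b67) (nat_lit 143873) (nat_lit 0) (.node (.node .nil (nat_lit 0x92bd4eb3b92)
  (nat_lit 0x8c82921) (nat_lit 0) .nil) (nat_lit 0x92bd4eb3e65) (nat_lit 0x464121) (nat_lit 0) (.node .nil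
  (nat_lit 0x92bd4eb3fbf) (nat_lit 0x464141) (nat_lit 0) .nil))) (nat_lit 0x92bd4eb4311) (nat_lit 0x781187)
  (nat_lit 0) (.node (.node (.node .nil (nat_lit 0x92bd4eb4592) (nat_lit 0x1053109) (nat_lit 0) .nil) (nat_lit
  0x92bd4eb45ee) (nat_lit 534920) (nat_lit 0) (.node .nil (nat_lit 0x92bd4eb45f0) (nat_lit 0x462570) (nat_lit
  0) .nil)) (nat_lit 0x92bd4eb49f0) (nat_lit 0xa3412c) (nat_lit 0) (.node (.node .nil (nat_lit 0x92bd4eb4ca9)
  (nat_lit 0x1062905) (nat_lit 0) .nil) (nat_lit 0x92bd4eb4d42) (nat_lit 536744) (nat_lit 0) (.node .nil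
  (nat_lit 0x92bd4eb4e76) (nat_lit 0x93c182) (nat_lit 0) .nil)))) (nat_lit 0x92bd4eb50e7) (nat_lit 532869)
  (nat_lit 0) (.node (.node (.node (.node .nil (nat_lit 0x92bd4eb5344) (nat_lit 0x10430aa) (nat_lit 0) .nil)
  (nat_lit 0x92bd4eb5431) (nat_lit 0x93c18a) (nat_lit 0) (.node .nil (nat_lit 0x92bd4eb556a) (nat_lit 302604)
  (nat_lit 0) .nil)) (nat_lit 0x92bd4eb58c2) (nat_lit 0x1052189) (nat_lit 0) (.node (.node .nil (nat_lit
  0x92bd4eb5a75) (nat_lit 0x734188) (nat_lit 0) .nil) (nat_lit 0x92bd4eb5acf) (nat_lit 534796) (nat_lit 0)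
  (.node .nil (nat_lit 0x92bd4eb5ad1) (nat_lit 0xc49170) (nat_lit 0) .nil))) (nat_lit 0x92bd4eb6c20) (nat_lit
  4496) (nat_lit 0) (.node (.node (.node .nil (nat_lit 0x92bd4eb6c50) (nat_lit 0x464149) (nat_lit 0) .nil)
  (nat_lit 0x92bd4eb6f82) (nat_lit 143881) (nat_lit 0) (.node .nil (nat_lit 0x92bd4eb707c) (nat_lit 143882)
  (nat_lit 0) .nil)) (nat_lit 0x92bd4eb7313) (nat_lit 0xa64109) (nat_lit 0) (.node (.node .nil (nat_lit
  0x92bd4eb7337) (nat_lit 0xc820e6) (nat_lit 0) .nil) (nat_lit 0x92bd4eb767e) (nat_lit 340488) (nat_lit 0)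
  (.node .nil (nat_lit 0x92bd4eb7818) (nat_lit 0x93b201) (nat_lit 0) .nil)))))))
def tT_62 : T := (.node (.node (.node (.node (.node (.node (.node .nil (nat_lit 0x92bd4eb7a39) (nat_lit
  0x2093b141) (nat_lit 0) .nil) (nat_lit 0x92bd4eb7a89) (nat_lit 0x1049d81) (nat_lit 0) (.node .nil (nat_lit
  0x92bd4eb7d2a) (nat_lit 0x1051185) (nat_lit 0) .nil)) (nat_lit 0x92bd4eb80fb) (nat_lit 0x1053125) (nat_lit
  0) (.node (.node .nil (nat_lit 0x92bd4eb8126) (nat_lit 0x1061cc8) (nat_lit 0) .nil) (nat_lit 0x92bd4eb8180)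
  (nat_lit 278860) (nat_lit 0) (.node .nil (nat_lit 0x92bd4eb841a) (nat_lit 0x1049d83) (nat_lit 0) .nil)))
  (nat_lit 0x92bd4eb8724) (nat_lit 0x483149) (nat_lit 0) (.node (.node (.node .nil (nat_lit 0x92bd4eb87c9)
  (nat_lit 4620) (nat_lit 0) .nil) (nat_lit 0x92bd4eb8b2c) (nat_lit 147849) (nat_lit 0) (.node .nil (nat_lit
  0x92bd4eb8b96) (nat_lit 147850) (nat_lit 0) .nil)) (nat_lit 0x92bd4eb8e1b) (nat_lit 16524) (nat_lit 0)
  (.node (.node .nil (nat_lit 0x92bd4eb8ec0) (nat_lit 0x1023149) (nat_lit 0) .nil) (nat_lit 0x92bd4eb9221)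
  (nat_lit 528778) (nat_lit 0) (.node .nil (nat_lit 0x92bd4eb929d) (nat_lit 528777) (nat_lit 0) .nil))))
  (nat_lit 0x92bd4eb95be) (nat_lit 0x18482923) (nat_lit 0) (.node (.node (.node (.node .nil (nat_lit
  0x92bd4eb95c9) (nat_lit 397827) (nat_lit 0) .nil) (nat_lit 0x92bd4eb9930) (nat_lit 0xc24123) (nat_lit 0)
  (.node .nil (nat_lit 0x92bd4eb9938) (nat_lit 0xc24143) (nat_lit 0) .nil)) (nat_lit 0x92bd4eb9cb1) (nat_lit
  0x461a06) (nat_lit 0) (.node (.node .nil (nat_lit 0x92bd4eb9cc4) (nat_lit 0xe964141) (nat_lit 0) .nil)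
  (nat_lit 0x92bd4eba027) (nat_lit 0xa1b208) (nat_lit 0) (.node .nil (nat_lit 0x92bd4eba1f9) (nat_lit
  0x74b201) (nat_lit 0) .nil))) (nat_lit 0x92bd4eba558) (nat_lit 0x961606) (nat_lit 0) (.node (.node (.node
  .nil (nat_lit 0x92bd4eba6ef) (nat_lit 0x853202) (nat_lit 0) .nil) (nat_lit 0x92bd4eba7b3) (nat_lit 0x932990)
  (nat_lit 0) (.node .nil (nat_lit 0x92bd4eba7c6) (nat_lit 0xc3c0e4) (nat_lit 0) .nil)) (nat_lit
  0x92bd4ebab5d) (nat_lit 0xc2a20a) (nat_lit 0) (.node (.node .nil (nat_lit 0x92bd4ebaddf) (nat_lit 0x9640e1)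
  (nat_lit 0) .nil) (nat_lit 0x92bd4ebaea6) (nat_lit 398608) (nat_lit 0) (.node .nil (nat_lit 0x92bd4ebaebd)
  (nat_lit 0x12c81d41) (nat_lit 0) .nil))))) (nat_lit 0x92bd4ebb2f9) (nat_lit 0x19049161) (nat_lit 0) (.node
  (.node (.node (.node (.node .nil (nat_lit 0x92bd4ebb3d1) (nat_lit 0x1042981) (nat_lit 0) .nil) (nat_lit
  0x92bd4ebb5d8) (nat_lit 0x20853121) (nat_lit 0) (.node .nil (nat_lit 0x92bd4ebb5da) (nat_lit 0x8818ec)
  (nat_lit 0) .nil)) (nat_lit 0x92bd4ebb9ee) (nat_lit 0x1042982) (nat_lit 0) (.node (.node .nil (nat_lit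
  0x92bd4ebbac6) (nat_lit 0xc4ae04) (nat_lit 0) .nil) (nat_lit 0x92bd4ebbccd) (nat_lit 0x20932981) (nat_lit 0)
  (.node .nil (nat_lit 0x92bd4ebbccf) (nat_lit 0x881987) (nat_lit 0) .nil))) (nat_lit 0x92bd4ebc273) (nat_lit
  0x9640e2) (nat_lit 0) (.node (.node (.node .nil (nat_lit 0x92bd4ebc34c) (nat_lit 0x1062964) (nat_lit 0)
  .nil) (nat_lit 0x92bd4ebc3a0) (nat_lit 0x12c81d42) (nat_lit 0) (.node .nil (nat_lit 0x92bd4ebc3ac) (nat_lit
  274608) (nat_lit 0) .nil)) (nat_lit 0x92bd4ebc968) (nat_lit 0x853201) (nat_lit 0) (.node (.node .nil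
  (nat_lit 0x92bd4ebca4c) (nat_lit 0x9062561) (nat_lit 0) .nil) (nat_lit 0x92bd4ebca93) (nat_lit 0xc39a08)
  (nat_lit 0) (.node .nil (nat_lit 0x92bd4ebcaa7) (nat_lit 0x14c824a1) (nat_lit 0) .nil)))) (nat_lit
  0x92bd4ebccd4) (nat_lit 0x623206) (nat_lit 0) (.node (.node (.node (.node .nil (nat_lit 0x92bd4ebcd7d)
  (nat_lit 0x74b20a) (nat_lit 0) .nil) (nat_lit 0x92bd4ebd065) (nat_lit 0xb5220c) (nat_lit 0) (.node .nil
  (nat_lit 0x92bd4ebd2ba) (nat_lit 238992) (nat_lit 0) .nil)) (nat_lit 0x92bd4ebd448) (nat_lit 0x19052482)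
  (nat_lit 0) (.node (.node .nil (nat_lit 0x92bd4ebd470) (nat_lit 409730) (nat_lit 0) .nil) (nat_lit
  0x92bd4ebd7e0) (nat_lit 0xc82882) (nat_lit 0) (.node .nil (nat_lit 0x92bd4ebd820) (nat_lit 0xc82482)
  (nat_lit 0) .nil))) (nat_lit 0x92bd4ebdb56) (nat_lit 528769) (nat_lit 0) (.node (.node (.node .nil (nat_lit
  0x92bd4ebdb61) (nat_lit 0x20462921) (nat_lit 0) .nil) (nat_lit 0x92bd4ebdefd) (nat_lit 0x1023141) (nat_lit
  0) (.node .nil (nat_lit 0x92bd4ebdf2d) (nat_lit 0x1023121) (nat_lit 0) .nil)) (nat_lit 0x92bd4ebe249)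
  (nat_lit 0x9062921) (nat_lit 0) (.node (.node .nil (nat_lit 0x92bd4ebe256) (nat_lit 147841) (nat_lit 0)
  .nil) (nat_lit 0x92bd4ebe5fa) (nat_lit 0x483121) (nat_lit 0) (.node .nil (nat_lit 0x92bd4ebe616) (nat_lit
  0x483141) (nat_lit 0) .nil)))))) (nat_lit 0x92bd4ebe960) (nat_lit 0x20a624a1) (nat_lit 0) (.node (.node
  (.node (.node (.node (.node .nil (nat_lit 0x92bd4ebe994) (nat_lit 0x10430e6) (nat_lit 0) .nil) (nat_lit
  0x92bd4ebec52) (nat_lit 0x882981) (nat_lit 0) (.node .nil (nat_lit 0x92bd4ebec86) (nat_lit 0x103a582)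
  (nat_lit 0) .nil)) (nat_lit 0x92bd4ebf057) (nat_lit 0x1049d89) (nat_lit 0) (.node (.node .nil (nat_lit
  0x92bd4ebf08b) (nat_lit 0x1049d8a) (nat_lit 0) .nil) (nat_lit 0x92bd4ebf34b) (nat_lit 533740) (nat_lit 0)
  (.node .nil (nat_lit 0x92bd4ebf37f) (nat_lit 0xa44182) (nat_lit 0) .nil))) (nat_lit 0x92bd4ebf72c) (nat_lit
  0x9062922) (nat_lit 0) (.node (.node (.node .nil (nat_lit 0x92bd4ebf737) (nat_lit 147842) (nat_lit 0) .nil)
  (nat_lit 0x92bd4ebfadb) (nat_lit 0x483122) (nat_lit 0) (.node .nil (nat_lit 0x92bd4ebfafb) (nat_lit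
  0x483142) (nat_lit 0) .nil)) (nat_lit 0x92bd4ebfe48) (nat_lit 0x103a58a) (nat_lit 0) (.node (.node .nil
  (nat_lit 0x92bd4ebfe71) (nat_lit 0x6830c4) (nat_lit 0) .nil) (nat_lit 0x92bd4ec013c) (nat_lit 531756)
  (nat_lit 0) (.node .nil (nat_lit 0x92bd4ec0160) (nat_lit 0x782986) (nat_lit 0) .nil)))) (nat_lit
  0x92bd4ec053b) (nat_lit 0xa4418a) (nat_lit 0) (.node (.node (.node (.node .nil (nat_lit 0x92bd4ec0572)
  (nat_lit 0xa44189) (nat_lit 0) .nil) (nat_lit 0x92bd4ec0835) (nat_lit 336396) (nat_lit 0) (.node .nil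
  (nat_lit 0x92bd4ec0857) (nat_lit 0x104b0e1) (nat_lit 0) .nil)) (nat_lit 0x92bd4ec0c0f) (nat_lit 16772)
  (nat_lit 0) (.node (.node .nil (nat_lit 0x92bd4ec0c1c) (nat_lit 0x1062924) (nat_lit 0) .nil) (nat_lit
  0x92bd4ec0fb8) (nat_lit 536900) (nat_lit 0) (.node .nil (nat_lit 0x92bd4ec0fe6) (nat_lit 536868) (nat_lit 0)
  .nil))) (nat_lit 0x92bd4ec12fd) (nat_lit 0x19052481) (nat_lit 0) (.node (.node (.node .nil (nat_lit
  0x92bd4ec1317) (nat_lit 409729) (nat_lit 0) .nil) (nat_lit 0x92bd4ec162d) (nat_lit 0xc82881) (nat_lit 0)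
  (.node .nil (nat_lit 0x92bd4ec16c5) (nat_lit 0xc82481) (nat_lit 0) .nil)) (nat_lit 0x92bd4ec19fe) (nat_lit
  0xc31206) (nat_lit 0) (.node (.node .nil (nat_lit 0x92bd4ec1a09) (nat_lit 0xa624b0) (nat_lit 0) .nil)
  (nat_lit 0x92bd4ec1afb) (nat_lit 0xa64103) (nat_lit 0) (.node .nil (nat_lit 0x92bd4ec1f46) (nat_lit
  0x74b202) (nat_lit 0) .nil))))) (nat_lit 0x92bd4ec20f5) (nat_lit 0xc82924) (nat_lit 0) (.node (.node (.node
  (.node (.node .nil (nat_lit 0x92bd4ec2100) (nat_lit 12804) (nat_lit 0) .nil) (nat_lit 0x92bd4ec21f2)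
  (nat_lit 409892) (nat_lit 0) (.node .nil (nat_lit 0x92bd4ec2249) (nat_lit 409924) (nat_lit 0) .nil))
  (nat_lit 0x92bd4ec27e0) (nat_lit 0x661206) (nat_lit 0) (.node (.node .nil (nat_lit 0x92bd4ec27fa) (nat_lit
  0x14c49601) (nat_lit 0) .nil) (nat_lit 0x92bd4ec2ba2) (nat_lit 0xa2b204) (nat_lit 0) (.node .nil (nat_lit
  0x92bd4ec2d37) (nat_lit 0x93b203) (nat_lit 0) .nil))) (nat_lit 0x92bd4ec2efe) (nat_lit 0x104b0e9) (nat_lit
  0) (.node (.node (.node .nil (nat_lit 0x92bd4ec2f32) (nat_lit 0x104b0ea) (nat_lit 0) .nil) (nat_lit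
  0x92bd4ec2fdb) (nat_lit 0xa44181) (nat_lit 0) (.node .nil (nat_lit 0x92bd4ec321f) (nat_lit 533895) (nat_lit
  0) .nil)) (nat_lit 0x92bd4ec35f1) (nat_lit 0x2074b141) (nat_lit 0) (.node (.node .nil (nat_lit
  0x92bd4ec3625) (nat_lit 0x681984) (nat_lit 0) .nil) (nat_lit 0x92bd4ec36d2) (nat_lit 0x103a581) (nat_lit 0)
  (.node .nil (nat_lit 0x92bd4ec3914) (nat_lit 0x882982) (nat_lit 0) .nil)))) (nat_lit 0x92bd4ec3caf) (nat_lit
  143883) (nat_lit 0) (.node (.node (.node (.node .nil (nat_lit 0x92bd4ec3cbf) (nat_lit 0x20962146) (nat_lit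
  0) .nil) (nat_lit 0x92bd4ec3e76) (nat_lit 0x464169) (nat_lit 0) (.node .nil (nat_lit 0x92bd4ec3fbb) (nat_lit
  0x46416a) (nat_lit 0) .nil)) (nat_lit 0x92bd4ec43a4) (nat_lit 0x20c52481) (nat_lit 0) (.node (.node .nil
  (nat_lit 0x92bd4ec43b6) (nat_lit 536705) (nat_lit 0) .nil) (nat_lit 0x92bd4ec4477) (nat_lit 0x1062881)
  (nat_lit 0) (.node .nil (nat_lit 0x92bd4ec46b0) (nat_lit 0x1062481) (nat_lit 0) .nil))) (nat_lit
  0x92bd4ec4a0d) (nat_lit 0x20c51527) (nat_lit 0) (.node (.node (.node .nil (nat_lit 0x92bd4ec4ac2) (nat_lit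
  0x8830e3) (nat_lit 0) .nil) (nat_lit 0x92bd4ec4f75) (nat_lit 0x1061d25) (nat_lit 0) (.node .nil (nat_lit
  0x92bd4ec4fcc) (nat_lit 0x102b147) (nat_lit 0) .nil)) (nat_lit 0x92bd4ec51a2) (nat_lit 0x48292c) (nat_lit 0)
  (.node (.node .nil (nat_lit 0x92bd4ec51b7) (nat_lit 0x881d83) (nat_lit 0) .nil) (nat_lit 0x92bd4ec5654)
  (nat_lit 0x103b125) (nat_lit 0) (.node .nil (nat_lit 0x92bd4ec56c1) (nat_lit 0xc52cd0) (nat_lit 0)
  .nil)))))))
def tT_63 : T := (.node (.node (.node (.node (.node (.node (.node .nil (nat_lit 0x92bd4ec58a0) (nat_lit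
  278919) (nat_lit 0) .nil) (nat_lit 0x92bd4ec59e4) (nat_lit 0x10628a7) (nat_lit 0) (.node .nil (nat_lit
  0x92bd4ec5dc2) (nat_lit 0x10624e5) (nat_lit 0) .nil)) (nat_lit 0x92bd4ec5f7d) (nat_lit 0x105248c) (nat_lit
  0) (.node (.node .nil (nat_lit 0x92bd4ec5f95) (nat_lit 278764) (nat_lit 0) .nil) (nat_lit 0x92bd4ec61e7)
  (nat_lit 0x881d8a) (nat_lit 0) (.node .nil (nat_lit 0x92bd4ec64b7) (nat_lit 0x881d89) (nat_lit 0) .nil)))
  (nat_lit 0x92bd4ec6672) (nat_lit 0x4830e5) (nat_lit 0) (.node (.node (.node .nil (nat_lit 0x92bd4ec668e)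
  (nat_lit 0x9052582) (nat_lit 0) .nil) (nat_lit 0x92bd4ec68da) (nat_lit 0x73412c) (nat_lit 0) (.node .nil
  (nat_lit 0x92bd4ec6ba8) (nat_lit 0xa2c186) (nat_lit 0) .nil)) (nat_lit 0x92bd4ec6d80) (nat_lit 0x481d85)
  (nat_lit 0) (.node (.node .nil (nat_lit 0x92bd4ec6d83) (nat_lit 0x9052581) (nat_lit 0) .nil) (nat_lit
  0x92bd4ec6f4b) (nat_lit 0x55a590) (nat_lit 0) (.node .nil (nat_lit 0x92bd4ec729d) (nat_lit 0x1032988)
  (nat_lit 0) .nil)))) (nat_lit 0x92bd4ec746f) (nat_lit 0x8830e1) (nat_lit 0) (.node (.node (.node (.node .nil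
  (nat_lit 0x92bd4ec7484) (nat_lit 0x1052584) (nat_lit 0) .nil) (nat_lit 0x92bd4ec7923) (nat_lit 0x20c514e1)
  (nat_lit 0) (.node .nil (nat_lit 0x92bd4ec799e) (nat_lit 0xc82566) (nat_lit 0) .nil)) (nat_lit
  0x92bd4ec7ac6) (nat_lit 0x881d81) (nat_lit 0) (.node (.node .nil (nat_lit 0x92bd4ec7b79) (nat_lit
  0x20a49181) (nat_lit 0) .nil) (nat_lit 0x92bd4ec802e) (nat_lit 0x10628e5) (nat_lit 0) (.node .nil (nat_lit
  0x92bd4ec8093) (nat_lit 0x10624a7) (nat_lit 0) .nil))) (nat_lit 0x92bd4ec8381) (nat_lit 401584) (nat_lit 0)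
  (.node (.node (.node .nil (nat_lit 0x92bd4ec85ab) (nat_lit 307719) (nat_lit 0) .nil) (nat_lit 0x92bd4ec8637)
  (nat_lit 0xc4160a) (nat_lit 0) (.node .nil (nat_lit 0x92bd4ec868b) (nat_lit 0x9640ea) (nat_lit 0) .nil))
  (nat_lit 0x92bd4ec8a7b) (nat_lit 0x12653201) (nat_lit 0) (.node (.node .nil (nat_lit 0x92bd4ec8ca2) (nat_lit
  0xa43203) (nat_lit 0) .nil) (nat_lit 0x92bd4ec8d31) (nat_lit 0x92b206) (nat_lit 0) (.node .nil (nat_lit
  0x92bd4ec8d78) (nat_lit 0x761a08) (nat_lit 0) .nil))))) (nat_lit 0x92bd4ec936c) (nat_lit 272784) (nat_lit 0)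
  (.node (.node (.node (.node (.node .nil (nat_lit 0x92bd4ec9426) (nat_lit 0x48312b) (nat_lit 0) .nil)
  (nat_lit 0x92bd4ec9455) (nat_lit 0x7640e4) (nat_lit 0) (.node .nil (nat_lit 0x92bd4ec9482) (nat_lit
  0xa64125) (nat_lit 0) .nil)) (nat_lit 0x92bd4ec9ad6) (nat_lit 0xc8248b) (nat_lit 0) (.node (.node .nil
  (nat_lit 0x92bd4ec9ad8) (nat_lit 532812) (nat_lit 0) .nil) (nat_lit 0x92bd4ec9b85) (nat_lit 0x1042989)
  (nat_lit 0) (.node .nil (nat_lit 0x92bd4ec9b87) (nat_lit 0x8830e6) (nat_lit 0) .nil))) (nat_lit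
  0x92bd4eca1cb) (nat_lit 0xc82564) (nat_lit 0) (.node (.node (.node .nil (nat_lit 0x92bd4eca1cd) (nat_lit
  0x1052183) (nat_lit 0) .nil) (nat_lit 0x92bd4eca276) (nat_lit 0x881d86) (nat_lit 0) (.node .nil (nat_lit
  0x92bd4eca27c) (nat_lit 0x104994c) (nat_lit 0) .nil)) (nat_lit 0x92bd4eca84d) (nat_lit 0x104b167) (nat_lit
  0) (.node (.node .nil (nat_lit 0x92bd4eca885) (nat_lit 267664) (nat_lit 0) .nil) (nat_lit 0x92bd4eca906)
  (nat_lit 0x82b20a) (nat_lit 0) (.node .nil (nat_lit 0x92bd4eca936) (nat_lit 0x12c24147) (nat_lit 0) .nil))))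
  (nat_lit 0x92bd4ecaf65) (nat_lit 340240) (nat_lit 0) (.node (.node (.node (.node .nil (nat_lit
  0x92bd4ecafd9) (nat_lit 0x102312b) (nat_lit 0) .nil) (nat_lit 0x92bd4ecb03f) (nat_lit 0xa62209) (nat_lit 0)
  (.node .nil (nat_lit 0x92bd4ecb075) (nat_lit 0x8640c7) (nat_lit 0) .nil)) (nat_lit 0x92bd4ecb65a) (nat_lit
  0x864128) (nat_lit 0) (.node (.node .nil (nat_lit 0x92bd4ecb6c6) (nat_lit 0xc82905) (nat_lit 0) .nil)
  (nat_lit 0x92bd4ecb738) (nat_lit 409768) (nat_lit 0) (.node .nil (nat_lit 0x92bd4ecb764) (nat_lit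
  0x14961206) (nat_lit 0) .nil))) (nat_lit 0x92bd4ecbd0e) (nat_lit 0x9640e3) (nat_lit 0) (.node (.node (.node
  .nil (nat_lit 0x92bd4ecbdbf) (nat_lit 0xc428b0) (nat_lit 0) .nil) (nat_lit 0x92bd4ecbe31) (nat_lit 0xc81502)
  (nat_lit 0) (.node .nil (nat_lit 0x92bd4ecbe58) (nat_lit 0x12c81d43) (nat_lit 0) .nil)) (nat_lit
  0x92bd4ecc45b) (nat_lit 0x78258a) (nat_lit 0) (.node (.node .nil (nat_lit 0x92bd4ecc51d) (nat_lit 0x544182)
  (nat_lit 0) .nil) (nat_lit 0x92bd4ecc596) (nat_lit 0xc82964) (nat_lit 0) (.node .nil (nat_lit 0x92bd4ecc63c)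
  (nat_lit 246060) (nat_lit 0) .nil)))))) (nat_lit 0x92bd4ecd248) (nat_lit 172556) (nat_lit 0) (.node (.node
  (.node (.node (.node (.node .nil (nat_lit 0x92bd4ecd329) (nat_lit 0x12682981) (nat_lit 0) .nil) (nat_lit
  0x92bd4ecd383) (nat_lit 0x54418a) (nat_lit 0) (.node .nil (nat_lit 0x92bd4ecd426) (nat_lit 0x782582)
  (nat_lit 0) .nil)) (nat_lit 0x92bd4ecd8e7) (nat_lit 336272) (nat_lit 0) (.node (.node .nil (nat_lit
  0x92bd4ecd99a) (nat_lit 0x106248b) (nat_lit 0) .nil) (nat_lit 0x92bd4ecda02) (nat_lit 0xa43209) (nat_lit 0)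
  (.node .nil (nat_lit 0x92bd4ecda37) (nat_lit 0xc440c7) (nat_lit 0) .nil))) (nat_lit 0x92bd4ecdd10) (nat_lit
  397825) (nat_lit 0) (.node (.node (.node .nil (nat_lit 0x92bd4ecdd39) (nat_lit 0x18482921) (nat_lit 0) .nil)
  (nat_lit 0x92bd4ecdd82) (nat_lit 0xc24121) (nat_lit 0) (.node .nil (nat_lit 0x92bd4ece162) (nat_lit
  0xc24141) (nat_lit 0) .nil)) (nat_lit 0x92bd4ece400) (nat_lit 0x12c3c141) (nat_lit 0) (.node (.node .nil
  (nat_lit 0x92bd4ece42a) (nat_lit 0x6640c4) (nat_lit 0) .nil) (nat_lit 0x92bd4ece479) (nat_lit 0xa64102)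
  (nat_lit 0) (.node .nil (nat_lit 0x92bd4ece90c) (nat_lit 0x961e01) (nat_lit 0) .nil)))) (nat_lit
  0x92bd4ecebdc) (nat_lit 0xc2412b) (nat_lit 0) (.node (.node (.node (.node .nil (nat_lit 0x92bd4eced2d)
  (nat_lit 0x1052181) (nat_lit 0) .nil) (nat_lit 0x92bd4eceeed) (nat_lit 0x7830e4) (nat_lit 0) (.node .nil
  (nat_lit 0x92bd4eceef3) (nat_lit 0x20a43121) (nat_lit 0) .nil)) (nat_lit 0x92bd4ecf2d1) (nat_lit 0x1053101)
  (nat_lit 0) (.node (.node .nil (nat_lit 0x92bd4ecf424) (nat_lit 0x46412b) (nat_lit 0) .nil) (nat_lit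
  0x92bd4ecf5e4) (nat_lit 0x781d84) (nat_lit 0) (.node .nil (nat_lit 0x92bd4ecf5ea) (nat_lit 0x105192c)
  (nat_lit 0) .nil))) (nat_lit 0x92bd4ecfbfb) (nat_lit 0xa62201) (nat_lit 0) (.node (.node (.node .nil
  (nat_lit 0x92bd4ecfc67) (nat_lit 0x1062564) (nat_lit 0) .nil) (nat_lit 0x92bd4ecfcbc) (nat_lit 0xa32590)
  (nat_lit 0) (.node .nil (nat_lit 0x92bd4ecfcfc) (nat_lit 0xc440e6) (nat_lit 0) .nil)) (nat_lit
  0x92bd4ed02f0) (nat_lit 0x91b207) (nat_lit 0) (.node (.node .nil (nat_lit 0x92bd4ed035c) (nat_lit 0xc828a8)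
  (nat_lit 0) .nil) (nat_lit 0x92bd4ed03b3) (nat_lit 409861) (nat_lit 0) (.node .nil (nat_lit 0x92bd4ed03f3)
  (nat_lit 0x12753205) (nat_lit 0) .nil))))) (nat_lit 0x92bd4ed08c2) (nat_lit 0x7530d0) (nat_lit 0) (.node
  (.node (.node (.node (.node .nil (nat_lit 0x92bd4ed09ba) (nat_lit 0x564125) (nat_lit 0) .nil) (nat_lit
  0x92bd4ed0abf) (nat_lit 0xc820a2) (nat_lit 0) (.node .nil (nat_lit 0x92bd4ed0aeb) (nat_lit 0x18a2c125)
  (nat_lit 0) .nil)) (nat_lit 0x92bd4ed0fbb) (nat_lit 0x20c49161) (nat_lit 0) (.node (.node .nil (nat_lit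
  0x92bd4ed10af) (nat_lit 0xa43201) (nat_lit 0) .nil) (nat_lit 0x92bd4ed11b4) (nat_lit 0x14864121) (nat_lit 0)
  (.node .nil (nat_lit 0x92bd4ed11e8) (nat_lit 0x8640e6) (nat_lit 0) .nil))) (nat_lit 0x92bd4ed1599) (nat_lit
  0x82c182) (nat_lit 0) (.node (.node (.node .nil (nat_lit 0x92bd4ed18c6) (nat_lit 0xf04b141) (nat_lit 0)
  .nil) (nat_lit 0x92bd4ed1922) (nat_lit 0xc52e04) (nat_lit 0) (.node .nil (nat_lit 0x92bd4ed19c1) (nat_lit
  0x782581) (nat_lit 0) .nil)) (nat_lit 0x92bd4ed1c8e) (nat_lit 0x93414c) (nat_lit 0) (.node (.node .nil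
  (nat_lit 0x92bd4ed1fb9) (nat_lit 267788) (nat_lit 0) .nil) (nat_lit 0x92bd4ed2011) (nat_lit 0x1043145)
  (nat_lit 0) (.node .nil (nat_lit 0x92bd4ed20b9) (nat_lit 0x1049985) (nat_lit 0) .nil)))) (nat_lit
  0x92bd4ed5d86) (nat_lit 536837) (nat_lit 0) (.node (.node (.node (.node .nil (nat_lit 0x92bd4ed5daf)
  (nat_lit 0x10628a8) (nat_lit 0) .nil) (nat_lit 0x92bd4ed5e42) (nat_lit 0x14682581) (nat_lit 0) (.node .nil
  (nat_lit 0x92bd4ed5f7b) (nat_lit 0x882586) (nat_lit 0) .nil)) (nat_lit 0x92bd4ed6431) (nat_lit 0x104158a)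
  (nat_lit 0) (.node (.node .nil (nat_lit 0x92bd4ed6481) (nat_lit 0x12783141) (nat_lit 0) .nil) (nat_lit
  0x92bd4ed653f) (nat_lit 532652) (nat_lit 0) (.node .nil (nat_lit 0x92bd4ed6673) (nat_lit 0x93c181) (nat_lit
  0) .nil))) (nat_lit 0x92bd4ed6845) (nat_lit 12432) (nat_lit 0) (.node (.node (.node .nil (nat_lit
  0x92bd4ed6875) (nat_lit 0xc24149) (nat_lit 0) .nil) (nat_lit 0x92bd4ed697d) (nat_lit 397834) (nat_lit 0)
  (.node .nil (nat_lit 0x92bd4ed6ba7) (nat_lit 397833) (nat_lit 0) .nil)) (nat_lit 0x92bd4ed6f3a) (nat_lit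
  0x961e0a) (nat_lit 0) (.node (.node .nil (nat_lit 0x92bd4ed6f5e) (nat_lit 0xc340c4) (nat_lit 0) .nil)
  (nat_lit 0x92bd4ed72a3) (nat_lit 0x553204) (nat_lit 0) (.node .nil (nat_lit 0x92bd4ed743d) (nat_lit 307440)
  (nat_lit 0) .nil)))))))
def tT : T := (.node (.node (.node (.node (.node (.node tT_0 (nat_lit 0x905a4da6cf3) (nat_lit 202) (nat_lit 0)
  tT_1) (nat_lit 0x905a4db4c1a) (nat_lit 0x653125) (nat_lit 0) (.node tT_2 (nat_lit 0x905a4dc2765) (nat_lit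
  299361) (nat_lit 0) tT_3)) (nat_lit 0x905a4dd75e5) (nat_lit 403810) (nat_lit 0) (.node (.node tT_4 (nat_lit
  0x905a4df3279) (nat_lit 400707) (nat_lit 0) tT_5) (nat_lit 0x905a4e15441) (nat_lit 399650) (nat_lit 0)
  (.node tT_6 (nat_lit 0x905a4e24563) (nat_lit 11557) (nat_lit 0) tT_7))) (nat_lit 0x905a4e3b942) (nat_lit
  239874) (nat_lit 0) (.node (.node (.node tT_8 (nat_lit 0x905a4e62fcd) (nat_lit 403841) (nat_lit 0x88bdc9)
  tT_9) (nat_lit 0x905a4ea892c) (nat_lit 7458) (nat_lit 0) (.node tT_10 (nat_lit 0x905a4efa6ba) (nat_lit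
  0xc598a4) (nat_lit 0) tT_11)) (nat_lit 0x905a4f084d0) (nat_lit 0xc5a8c8) (nat_lit 0) (.node (.node tT_12
  (nat_lit 0x905a4f164a9) (nat_lit 301313) (nat_lit 572708) tT_13) (nat_lit 0x905a4f24571) (nat_lit 0x94298b)
  (nat_lit 0) (.node tT_14 (nat_lit 0x905a4f321e0) (nat_lit 0xc59cc4) (nat_lit 0) tT_15)))) (nat_lit
  0x905a4f3fff9) (nat_lit 302209) (nat_lit 0) (.node (.node (.node (.node tT_16 (nat_lit 0x905a4f4dfae)
  (nat_lit 238721) (nat_lit 0) tT_17) (nat_lit 0x905a4f5bd1f) (nat_lit 207243) (nat_lit 0) (.node tT_18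
  (nat_lit 0x905a4f69ead) (nat_lit 0x752d22) (nat_lit 0) tT_19)) (nat_lit 0x905a4f77a5e) (nat_lit 0x761483)
  (nat_lit 0) (.node (.node tT_20 (nat_lit 0x905a4f85940) (nat_lit 0x92a8e1) (nat_lit 572841) tT_21) (nat_lit
  0x905a4f937fa) (nat_lit 5514) (nat_lit 0) (.node tT_22 (nat_lit 0x905a4fa17bf) (nat_lit 0xb4b162) (nat_lit
  0) tT_23))) (nat_lit 0x905a4faf592) (nat_lit 7457) (nat_lit 0) (.node (.node (.node tT_24 (nat_lit
  0x905a4fbd4d5) (nat_lit 0x959521) (nat_lit 0) tT_25) (nat_lit 0x905a4fd05de) (nat_lit 241827) (nat_lit 0)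
  (.node tT_26 (nat_lit 0x905a4fe9021) (nat_lit 5227) (nat_lit 0) tT_27)) (nat_lit 0x905a4ff6bbe) (nat_lit
  203873) (nat_lit 0) (.node (.node tT_28 (nat_lit 0x905a5004a08) (nat_lit 0xa4ac81) (nat_lit 0) tT_29)
  (nat_lit 0x905a501368c) (nat_lit 0xb430e6) (nat_lit 0) (.node tT_30 (nat_lit 0x905a502154e) (nat_lit
  0xb51d89) (nat_lit 0) tT_31))))) (nat_lit 0x92bd4c03123) (nat_lit 535883) (nat_lit 411049) (.node (.node
  (.node (.node (.node tT_32 (nat_lit 0x92bd4c4aedd) (nat_lit 6666) (nat_lit 0) tT_33) (nat_lit 0x92bd4c58f60)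
  (nat_lit 0xc240c1) (nat_lit 0) (.node tT_34 (nat_lit 0x92bd4c66c81) (nat_lit 147755) (nat_lit 0) tT_35))
  (nat_lit 0x92bd4c7bbb8) (nat_lit 0x19052d22) (nat_lit 0) (.node (.node tT_36 (nat_lit 0x92bd4c97991)
  (nat_lit 0xc49e0a) (nat_lit 0) tT_37) (nat_lit 0x92bd4cb9575) (nat_lit 0x664122) (nat_lit 0) (.node tT_38
  (nat_lit 0x92bd4cc8c1a) (nat_lit 0xa5c125) (nat_lit 0) tT_39))) (nat_lit 0x92bd4cdfc51) (nat_lit 533697)
  (nat_lit 0) (.node (.node (.node tT_40 (nat_lit 0x92bd4d07582) (nat_lit 0x10324ea) (nat_lit 0) tT_41)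
  (nat_lit 0x92bd4d4ced8) (nat_lit 0x714149) (nat_lit 0) (.node tT_42 (nat_lit 0x92bd4d9e940) (nat_lit
  0x483127) (nat_lit 0) tT_43)) (nat_lit 0x92bd4dac90f) (nat_lit 0x5830e5) (nat_lit 0) (.node (.node tT_44
  (nat_lit 0x92bd4dba851) (nat_lit 268801) (nat_lit 0) tT_45) (nat_lit 0x92bd4dc8582) (nat_lit 0x381d8a)
  (nat_lit 0) (.node tT_46 (nat_lit 0x92bd4dd641a) (nat_lit 0x1029d2c) (nat_lit 0) tT_47)))) (nat_lit
  0x92bd4de45f5) (nat_lit 233987) (nat_lit 0) (.node (.node (.node (.node tT_48 (nat_lit 0x92bd4df2520)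
  (nat_lit 233985) (nat_lit 0) tT_49) (nat_lit 0x92bd4e003d3) (nat_lit 0x582585) (nat_lit 0) (.node tT_50
  (nat_lit 0x92bd4e0df17) (nat_lit 0xc82584) (nat_lit 0) tT_51)) (nat_lit 0x92bd4e1bd48) (nat_lit 0x14961203)
  (nat_lit 0) (.node (.node tT_52 (nat_lit 0x92bd4e29d3e) (nat_lit 0x751601) (nat_lit 0) tT_53) (nat_lit
  0x92bd4e37ea4) (nat_lit 5520) (nat_lit 0) (.node tT_54 (nat_lit 0x92bd4e45a4a) (nat_lit 535852) (nat_lit 0)
  tT_55))) (nat_lit 0x92bd4e53c66) (nat_lit 7681) (nat_lit 0) (.node (.node (.node tT_56 (nat_lit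
  0x92bd4e61797) (nat_lit 0x65a8f0) (nat_lit 0) tT_57) (nat_lit 0x92bd4e74a29) (nat_lit 0xc29e03) (nat_lit 0)
  (.node tT_58 (nat_lit 0x92bd4e8d1ec) (nat_lit 175619) (nat_lit 0) tT_59)) (nat_lit 0x92bd4e9af70) (nat_lit
  536908) (nat_lit 0) (.node (.node tT_60 (nat_lit 0x92bd4ea8daa) (nat_lit 0x14959201) (nat_lit 0) tT_61)
  (nat_lit 0x92bd4eb7a04) (nat_lit 0x624186) (nat_lit 0) (.node tT_62 (nat_lit 0x92bd4ec589d) (nat_lit
  0x20a4b081) (nat_lit 0) tT_63))))))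

end Cfsg.Agent.SZ
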