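import Cfsg.Agent.M24.Chain

/-! # The model of `Suz`: the second involution -/

set_option autoImplicit false
set_option maxRecDepth 100000

namespace Cfsg.Agent.SZ

open Cfsg.Agent.M24

def cC0 : ℕ := nat_lit 0x37aef4de7bcb78edcdb7a8b50eecdd7bab74ee8dcfb9b72ed9dafb6b6b6d5da9a8351ef0ddfb8b726d8dc7b87706dfd65ac7586b3d5dabf64ec8d8fb1b66eccd97b2b5eebad77af35febed83b0362ec2d87b13546a9d55aaf566adda1b4f696d1d9db3f5a6b5d6dadf5c6b9d3da7f52ea4dbbbbb76eded4da9e45662cbea22f5e5ed29a574b697d1f9873065dd27a2af527792fa3b42c884e97a344e80bd29d644e8492794ad8d9cb359464b66cce723d3b5eccef9c2f6e729249cd3ee78bdf98f32665ccd99f34669cd5a7349691d37a6348643caf96329e5acb795322656cb39fb3d5f0be366ecce45c8d91f24649c9592f26655cb99031fe42c838eb1ce38c6f8fb1ee3cc778cb18e30c5f8db1ae34c678af1662dc5d89f14629c5588f12625c4d8830fe22c4386b0ce18c2f87b0ee1cc3784f0a615c2d84307e12c238370760bc1982705607c1180f02605c0cb752da494917d2f9df5bed7defc5f9bf57eefe5febfa9e327e50cd76c3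38e74d33a3741e86bc778993cf7bcf79aeeddc9f0c9af0de04bcb79b33695bed95b224f49cda9b5a4bad3736e74fa6fa9bdbb24c49ade6915234b8b8570520a429051fd1ea3e902cad294488a911d25a4c88b3edeeb576aad4a7ab5f6bad6da4b4768ad0da8b4f69ad2d9db3d67ed067cc9d9ef26a7b4f3552dca38451632c4d8ab17622c3d92b1f642c8d8eb1b616c3583b095eebe57dafd5fec0581b055c13e56fad15b6b7571ae55ceba57aaf15d6bb27f6f53eee7d77494b72ad563ac9566a9557ab156eae55dabd596b155fac08da95596475586a72208d1546a546943d5363546b8ed1e5649e49fb4027fcfea771e96451ca7f4da8e9f98f74ea98c703c746e9ad2ea354c23a9e243f556dc2294736ceda235b89716dfdc0b776f29cd3ca654be8acfc4770468cd108188ae7cd14a173d566c09a1f41a041fb9ed42a80cf43b501e82d42a83502a1d18ad573288ddfbc941e875049e33ba79c0a5993ca74ce83b676676cec81701a71ce29cb3913937c44e8ddbda7e92b2410d37844c895bba198f91f5639fc672ce2654cb99933662c7858ccde64cc06687463bcc49771d0e333397f2d9991c58e32ea58c72388d4e5aa826a071e39c44372d65402816b110cdc35494528ce447e8fe6e9aba879332624dc9a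d179e66dc0dcff9be0acdaced22e4648d91da7740e889092164348790320241c8293f282694d3a6f4faa34c898351e96cbe95b2d25bd348db1b237c6ea91526a654f8cb19233c668c1186314638bb1722fc5e8af15a2ac548b716a2cc588a314229c5289b13227c4e89310a25c4688b12223cac94d12938c258489c10b4238448551a4108288850bc0e81e861f3be636e70ce0c12826708db3e07be6d62043f8790ee0fc1e8430820d41b8390760bc1683306248c378570b28b4388670d24a5139cf3c286509a05399ff3ff80100601403809015fdbfa7faff1fbbf67f2fe1f93f37e8fd5f7bee7e2fc1f2be47d2fa1f5bea8630c1f6bec7c2f79f1c2884ef892eab27b2f61edbda7aa90debbcc566911213ce79af41e7bd450cf15e33c7790f25e53c3788a1141bbf780ee5dd3bb778ef5df28576aec1dbbb2762ed1d9bb675eeb9d6bac756ea9d2ba4746e89d4ba874ee99ceb9c5a2b41d0ba07327e1cdb90726e50f0b9672e77cf039847a8f0fd2cb594961711d83ac75d1f2e3704e0d90b226fcdfee5ce09bb5aee34d89ab72594b2a6e2db1b9b686ced89b1b72ba374aec3706df766eb5d56dadb9ab3556a4d45ad35b6b8d76554a793ad85b04a4964d7daf4af66cd2da634d69cd1da4349694d15a333e66acf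da0341684d119d33b678cf667cce98cd3da1cc39792e59732f660cc59432b658dd1bab2dbcb77992325640e01c0b2348a9192d2b5604748d19a4342688faadb5b4c0d8230560cc1d84247568c258530d61cc3d88311624c6d721c037c774fbad55acb656a2d25a6778ee1bf3666c8da2e55ccb9d6c2d75d0ba5752eb5dcbbd78301708e26e15c1baf76b01566628c4d7d2ed5d8bed7e2f95eebe1cfb9e59eb3a86cef718e2ea2d3d9a331d602bf57cb05612c5588b0d5d2bb578af55b2b7570ae58e30b7a6f71552a3544a95522a754cac5542a9558aad572ad560abd502a14b2870dd9a7350694d31bc4368754a29537a6c50a20851e84d0328c51681d0969a938f2ddc3c27832c2544a9ad937336d79b316b2cbdf2d199d741687cdd38620c3eb949a934a684ce9b936a6c4d698d322654cc9812fa624c376deedc3c02c754fb8a4a89552b2574a494d28251ba974ee3dc8ba159f005ff618c798fbd27acf46df5bab7ae15c7b8ea2f54e93d949bd55a9243945e8b916a2c4668c918a30a256da945939bf35e6b5b7b6b6ca1b550a5752d4b29e52f3666a43286b0f61d29151ca2508a1041e82904a0b41883906a90514a34ff1ff40080501203408814fecd0a10e369c39a5fa7d98a9f03de7b8f69f43e67c8f89e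93d47acf61e63ca7a0f3d44a674b1cab91724bd97f2f59d740e7538870ce1cea9d43a6c6a611cd39c73ce81cb398724e54a195d2f65c4b385d0aa16b005e8bfd49a9853b27a55ca585f0a6132f15e6bc9491ae35a6c0d79aa3526b0d5a9b538a654d318632c598b9a033e678ce99c336654cb197330664cd19031e638c6994326648c898830e618c298c316628c49802fe5f8be984306608c09782ee5d8ba97c2f65e8bc9702de5b8b69742e65c8b89682ce598b296c2d65a8b49612c458cb208a1401d83c89f0ee520a394a29242c4d87a21c434860a21121e04c89a0ea560ab95a2b250ca214528c5009f9422824dc9c1392744ec9e13d27c4bc981312644cc9a13526c4b4971272504a49512b2583f88b1151fe44c8a072202408889121081c48810f0e0494921212444708e91923054ca91512ac410839032124148310a2104788f9002464987e8f81ee3d87a8fc1f63e87c8f01de3b8768f41e63c8788e81ce398728ec1d63a8748e01be3786e8e41c6388708db1b83646d082142278280940ac144470cf1a0334670c919432c660c518c31c640bd17c2fc600c118430c620b516c2dc5c0b91742ec5e0b11642cc5a0ad15c2bc580a91542ac560a614a2a0538a31485406b95f2b83584e09d2aa530a689512c25c4c0d412220c4988f1203443786d0dc580a78871102144311b1243603f07c0f62042b8800fe550ae94e2b6578a58730e84808d11711a22c4604c09a1642c049090128258630c81802f8620c21382785c0b6168350690fa34c2a0550a414c690d50ba1783586c0ca198340670861082084008e118228440760e81c83807e0f81e83c06e0d81a8330680c41902f0600b4170290540ac1602102003c0e01101c0881401d03c07c100250300640d01b02c05c0a0150260481202704c08c0500b0180340400900c01c0180200a01000800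
def cC1 : ℕ := nat_lit 0x37aee9dd5bcb78c3a92968ad399c06dbcf7a6e8dce66c09c148cd0ececced90aa09a821581b08a1bed88c93aa74c869bf2fd99be0891380fe47c4e122e684d387d23acf2218e871cdb4e685301acfcae97d0da399c68ca9e671c4585089e5dcbc6f911a23ce5b2f19e5ecad9089c8e9bad95f69ad1cb09c321ed6591b276ace2cb49671c65b9c4b833dd93b655c12ae564e79c86e4e1598b3b16a1562fc616cae4e33922dea3bdb6a2912a82c814b8dad1fdd8b8685e30c3588326a03c8387b54aac94528c50ca2562ac3626f25e54511caeb4558c726612c9b8c10d215c0e8815ae211b5aad73289c7b3f24ac951292514e29bc138b3686d45a5b4957aae87021f56eae1172309b935de9d009a933e83d095cab8d74ae727a4fc7f3740202a85401291523b1f618e95e0b5d698ea541b5a69a78308e0f722c370ab08c290b8e1d0fa173713f46e8d934abe5818fb0262957b9a20580581f0320186d8dc00e0680f0170188651b42642c746313699711131a4562b01df3066129456c9b938a9b49c9f13d4d03fa8e6742b99769617425d56247a6123c438a9e4ea605bb40a602834f892a6dce74ff499492df4b53b26525955ca7171a5f9f29e9404c7a0a60cc2510620c3e9dd34630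c5e41ddba8b2063fd43bbb21274d7bb1743a2a9f544206688d564443c229d365434e551400808860a240753b312012a3602bed7eafe92702586b07612c2e05c0150ea013526ca2944e2cc578bb16cfd2608490394dca552c8112f46936ce0c578b799331a406d58fb1ee39c750b734dd2b7593c8591da999aac8516a2b62aefd53ad53e10d4f1a13134dbd0aaf528250d79b8571adab665c28622f646c8b0c9634a594d32263dcbb6edf6df5d5920558b6a38bbc998a14f04d2458b995724e9922e5d98f08923420440b542a7e7bc9a280b259ac1866906addc17512a39212407933c98f3209f64b47e3909f2b81ff43d66cb0d4ad241c8ca9938d659ea45242d85af7007a297b5b6a954d19b035668bd6b25f4feceda6c9191e0aacc87e351662ca1e4a4278d9181affec945e8210a22e464a449d532a624f09d95e28f6c2d8876da5aef54eb0d62618c2debd2a628a9698d2e53c86ea0d47af35468dd1c554a611b2394ce9a12223e406a0d42c538a905196cb19bb2d2739c54056e6ef82a9c73fd2bba3b191822cd949e9bb27bd3db536fea7cd863b3c192c5140301eccc98de627d1bcfb02120ec3d7397b4b1b8331820cbe079e73651d519d55b8f5bed7cb77b738e572354e438d1dac7a1b21923ac97a32e0ff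51b8050325b8f24cea31322c59e8b1ecfd5babb5a5ea3c794737e5345bb1f35991dc5bc12520bdb3aeb386562334d94713159383aad115caba175feb31157c32ca3131bb68308600be188be97e3046060c41982d05e49ee4c884911020c2219536dd994ee8d701476cdbaf81482a35c6b4d79b00560b08310a20a411fb3f77f0fe5fabf47e6fc8798f41de3c0418b07d2fa1f5bea4264d0490ad1ac2384f6d02c0345b934971e9651ea9f620e4182bcc768cfdb829770a86d1f3d4778f29bf335686dfde2b04622e330e9bc530c09dd3cb50cef58d9d7700c69913d3766acdd89d204467b521a00240030d38d61ea7b0f1fa60c8719636f376e7995b67726c1dcba43732d8cd336d736c2b09bd67b6c55d43c265e960d2b6069ea15e7b84704e0da03b778cf26976af6419fa3d16a2b5225b132868af75a33d1740ca5ca25dced57ef62427394f3481e272cdd5a93886accbb0e33b6798604d91241cd7cec113112d8598edd70eceb0be1b67ad11ee2b267cdc5b9b4a78e91190b817a4d1da5b5b6b8d3919a90272759e4159da2625a8aca716d79953a173acb5b7374d228e51bcde9baed5a0b7bc40c715a31e772ed98c9a4524a59c72a05b4c49e1bd774e7e30961f4b4e48efe10734e8deabc4606ef82b8e81d61f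8238280387795d2ad5e4b643304b5dcbdc5f8b75dabcd77ab9546108232b0366b605d07d5c6a6a9de8f13e49a86495542c4d7b2e656c09410abd364a914ead006a00504968508cc217a234914d52803f07c94d292510760e96a067090be5760a514eb5d2331d764d20842e80c83317c02e21240c1783005a41c64ad25d618d6db147b0e99689a7536b88f0bbf7a0c594a295526c5e653384230c629a8c0b75dabadaf332eedc32cbc33b784209a133826814fe91122b5b4d48176f5115a0931a9a496cb2e58dae225ec6b8ca91ddbc6349ade51eb66932e85c84969b1b66778a0c2ded38a39472ce61c9584b05602c52e04b49fa624bf0e6c12c7c42ad711342730da23ad60ceaf35ec9f53fd1a59352864b7c60556767332e1248d99f3321fc8c2bf672ca65fd645a4aed1a5909d7624119b53ecd13a279d526f953ace57bf6e4cd7cf5b947a101fad5e86c1087127566cceadb1468bd18b1763ac458f9f88ec2d6cd228e9325b0e0860dd1e17510c31cbb17910a318bd1e63ce794f41e93d67b0f5506886d914ce16612be84084a0ea65370b55770cd8ce99fd4aec2f70a61181b4542554ac95d2a4ffd85ae34ce94c1ba26b28ec0ca39cdebc073f89f45470a8bb07280c25ceb4cd0c0080300e0105e09e1382e9a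8538e55c4b18346874d8bac3a8eb8eaeecdcd43943c6f8db2727a9da9e92021e503a0920a11daab532d9995aeb5b2ea5c83d07906e0d0390710720e9772f07b4f817b2f87c4fa5d4a429bedc24fb7f72a94cef9dcde1132cc9e53626bd1189312e7cbdf45731112dd7bc4ddd9a5e7a414aa554e8b9b2d6c3d929656e6b64a99d778ee04d598799f34665ccd496e3db449b776ee4c698b3259bde0bc35debc3e689d1321856fad174d275bbc9592724647a3eb7ae2c128b12928450794773eaa4a795117e19e37c7148a161fb6a8d62cb40fc7773a58d8daaaff155ab154cff5fdbfa5555a6511008a9769078c30983d87a8be0d83e87cbf07e23786ebee7de388709c05fe3a874b0037c398728b90de3b8768b811a3c878df8bf20600d8af12cf8c078c00d208def01004e2ac552ae1161b9528a33e47b8520c41f86d04a0d45e23e05e8b50b2b94720e05e01a85e0b40d613458bec1b0209f209c19c3344e9cd56e7415c0c51916304bd125bef84548ac6b2a013f89814235c4a8c1126f944888f120f886f9cf19709da98240227ccf7a817da2b8ee87c0f6bf9720800ff3b26b595bcd300ed8680933da2ee3c1c6328e70f71662d869874578bd4dfaaf54507a10c2083e6b0d485c5167f45d85660216312e2403a080070263566a8590fb5e877039abb5faba4220453eeba820041588b0cc218357eaf8c017f3edbad678320620d019aa8552ab153bfe7ff01202afc19e1416b0881a4ebd6a852bf97d429afb1b37dafd8dabe97f802002dcaeac438d01aa14401df3bfa01711e26bef7e80501501a051673aa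
def cC2 : ℕ := nat_lit 0x37aeeadd3bcb78e489519ab3219f06fbd379ee8dce6800964bc8ab1a16c5799136a6ce4950331f236d8c987062dc788bd296534f09e286137db8bc1786e5529bb9775664c98670b333cd8cccde277c1281f3162a45f98d3b913668815170dc4438653cf32cd79e4cde2ec58c8f29d67baf43598f34c906b192af1595b9b78e91e32c6376d2f63596c8ae7ccb99755fec050da1d5fa18a376f7145f3c8284761ec948099d2d6b7503ba1482d9d6c7bf6b6d744b84ed5d43c9d8db0e12627faabbbb50eb4d83aff56eedd456e689511b9d8d9994db8dc6ea4fc9e8d88d26e4398ff2c6e02df9654128f6d7dc9a7b6e6f0d4fb6771a7e92b0ba291c38a04bc982208d04d89ad50a9f97b4a191325a634b98d31d35a6ab7744b26e12c409337f6fe5f5be60341000a03acb5ddb5f644ca1de352700c5b07e11344e170a23ec2b686d2a809530ae09c638c1302744ec988d66d41db6697eb13625bf17fafb5fbbe97e7125f7c47335a9dd7a555b64e449b895f61e453511228b20a0d35a77656cb24447f636c7d2d54490962be0625165003c8808c5e7ba8d97f4d98f269b24a827da80812945eb114480c5651a828b4c6599a8e80f316cc26664102cfdcf2546bad762b19d73b15b2949da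47e01ac558706a5bab354b073232d85a1901da9e892ede3252ceb274e1162a7a043c0feac15613ac89aae498a755fd052b2221b995652c3d68dd1da2af51540ea508a0d5cab76c2d895a2ba1e4a4140abb9f6f767821a8ca3cd5e869156754ed9d369ed358fb115a2b7d78aee766d1d8eb1653f35d4546768aed638c6eb7a52339996d5257c48b7773eaa24ea4a93edfdc7a0f4628b9fb9ed3826fc378ccdf21dcbf667216113e689d0c21fc8c9617bf645c594725aa1be0d328a67fe7a8ed93513d0890d13087d3ea7a45c8c2614c99873025f135a2f461552984b49651ca7e4b931e4ecf8981335d4a42936da47a45c64f489132bf4ee4bd9bd5daaf67ed0d7badab2604493596b1e0541a598b299a2d26548953aa732213a655cb9b7b6eec0d598bb16a912da1d8ac96e8d39fef921ea969e3626dfdb5adf5d603490a2944e06a68440389e38e1a3f4826d4d9a4f3f26a4cf93f2952ba9249091d86b06b7705eefd4db476954da4e8e4b7970cb3963385edc5482f13a0c9eb49b2191b6711bd046a0b524f8f152c26f79ac64de25746e99128133a10a6e80ca65d0af1718c93f2b4ed442547e121191fe9b9344bb92596f37e5788cd4267e3b2734dc9e47bc10658cce07d71b4f54eb2daa8196e6a8dc0a36b36b9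bd19074363f2054bc8f51ace855ef65482891aca2d85d60524cbe28a5a4f485de9a6a4a72a66ea704ed05567d87abf44d2e22390b70ec2c1484ca1a35ce657314c75d074c484107206424508d412835e0bc16833061481f9c13af038273d7692842265413acc4d9274c45a9282530dc2a45608b4a4944700df1c838dfc3f97ecfddfabf47e6fc81683005c0bc1d03b7d0fa5f53ebd0b4c01f03f3a073ce6d24cee739d932e6fcf61bfbda6047618da956d8e31b121b61aa5d84294506f29c7b4568c8f5e2ae2712cfd433bf780c40d3e19c3aa7182ba069ab45a625d766f75d8b9fd480041119b026675ba32f746a659533074e699a23b8760e799f285702c3990b60682d6d0e35c68077d0eb557927d5c5bd271ac4de1a43696d9f09384630691cde177b2f6c98d36d0e548ffebec58289b83a966aacda1b753ae9099dbd330e804b1b2970c450c2a30678f45ad398c38d25ab39472cd870169fce4d75c854abe3861a446a67a759dbbb570ecb1af351656f1de43a16e2a11cbb93784e75a7b636dacdaa6493d54ce9b9dffa67975593a4750f730f34a68ee95b461a2c2406cc27bb4186dccd9d00a0080d8147aaa758cb835418591e292714c48d2bbe60ce69e78531b4c25853cd3f0c3ddca9a606f5c2102103811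c3f0ec1d629d782f4192ae16baf855ea9575af9578190339dc5e215c3e9b40c6aed6a0465c6f1039186ca153a55459362960528485ea39c742e51986fddb2d0d4a6793bec54887eacb23b28fb88148ad1240a81582c16020c5d2ef5cc2dc252f63bc1980a8d96e4cc4308c25e66c8258ef0c417c780f41e61817906517e6ccd0b174b27858d3ba536c11d31bc79c781ea3cc526c526a4153fa70a2b28c41f30a60de7ce2f05ce34279687f6de0ccd9912e413f6481dcb5cca59b6aac6cdd820470cc138d9b1ca5c4b73892d0e2c7196740606513a0b01e8a502a21a55da160b480614fada3526b0d51ab808ffdff405a855127f66db3503a75cc30a401001acb710db918a00311841e33155908be51125d1022614656aa75a920b644753eedf5d5d246529110ea3bad7159323fc4309d63c505331c8b957a1a8d0a6ce41c558952198551dc2d21051685e73c989350d605c913a316adadc6b75749b52406f288d47972a78b2a0a3071020d9c70b31f03dc2c8b21f83ec351e93ca79cf61e63d47a0f5dd39792354f296724adc21aecc01672ad3d66ded380019c06a6ed03be37c4f79f084e0bc1742797322a46934a6bc80a3b6b0285a4094dea983a596ac26b123a5184fae8544ab96d8cb1383284ea564a89552b9a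877ae8988b8234784d50ee6dd8b39d51d475939230a7188318a7122a9f58cf1a5b6b998bf185bdba3706eb23f6d6b81b28f21e23044b0ee1da3004b97b2f82d8269772f02ec35c7e3907f23e4a094334269d9f4f301a71d9eb2f39a72de56d376193a5c9ef1f6b9c26b595d268daf89485a8657cb26dead95c9aad62640d0bb056ae2157158e6da22c478535eabcd704f923a1f46586c88633a709178eb1cdcbb6e891bee3dc7d41a8550990e8561d4848116291c4ae95b77eecdc2bbd134dba7292871a3a515a2d650e3b669f138617cbea328a2b5a2287a2360f4218402e05c86f83f13d931008e76402d9ef3dc3d47b1f33e43e47d2a854e610c1aa9558600bfafc5f63a874ad55ac39872bfb7f40e41c3fd7f80f41e019034c2d5a0278342983a41c022334368ae15e144692d33606b97b8c50d8130640c410aac0c117e5462185e8902ecaf4829065745e8478b43e87c058abf19e3416240101c08e0109e5f43596c8a3148dda0ede436a2a0d69af81343e418982fa6044ac1b126b0c488bc16a2308508e80170d1b0580d22f861c0d57c040fb87b0f8bf57487f101606b95914f534abd8d50a0b865ec1120900c688c72ea7b44380f5daad9522ee5ceaad58aa655472ce505c1fa844f88885d40900f81e61891c67073392730bc8c655aae4132d85fcb90208403bac04228447c8f946f0dd7d8fb4710e1dd67d8e98310640cc1a3f07dcfbdf8ac0582b09629c01b0124df056154eb5806210aa1530faff63a36c6e25a00e0195ab1c757b94698820d02af110090118800600b02e0598fa4648ac79d71d5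
def cC3 : ℕ := nat_lit 0x37aa1151fbcb78c5e8bb04a2a6ec06e7f42d6e8dcfb98094a7502b1b3366899115ce0c5c8bf31dac6d895199f32c7866f2965366acd33251cd4a8d287a93d4da9952d66647c8d02a6ccd8434de277cf0c9792a79e45c933b9134dacc7318dc44398b992484d79e5923264f143103d67baf85b0b22c45b8670cad6501a056aed5503a096a6d6cf42c057cb096211542e8650da1d43e6da376f69fa4ae9cd37a634be629a454a651519732e240481b337c33d67bc9b1fcdd49f50ed5e1e48387b2ba56a826a12be5847338f4145016480e768b1c508dd1b60846f8d88d217439870434e2c7129e5425d4944e4df113cdf9c1386069c38a514df3c51863512a3cfe9fa7923b540a868aa7d5ceb736dae65cdb2b8bb16e2cc566610620b32f8982a854c47888296200a7005ddb5f801009de352806b98d3a9c5de779deaf6774a3503605c0983b06e08c0ea2ac258340f80109d8551201805dfcbf17f80d019be97e6fa80701934444cb742cce24f59ab5d0272fcdcbcf79af2de4bc77891722f4608c519233ba3546345d04bcda7666cb3fc8096fb65a8c932e45c926847f18e300e44c29423fa3c8812e523d8db36e05c140880ed99132676c897921c678ca66cce2b055cae15b294524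4fe85d73b0b43689d51af2f4274d7bb174390c144cca5b688d56b26935944c099d33590b1f6393726bb1762931d884d4b770160cc172b255caa952a01ac9b98887ee7b408a0d2450cb7744b35a6ad08a133520ad6cad75063cd0aace96ca31452883fc8aa406d493addd1fba650c91dd2b7555aaad45a844907f141284499b224fb7f756ad559a7c4788ed3da784f49f53bc798f71f637c704e89c9121084ee9ad34a674ca98dcbb6edf537db8ac74a8911254838bc8a552b7a8a7655c43feb809e63ba36892b856fad15e6bd690d1f9873065d9d139273ceb9d945e8c5198228ef40681d05a0f4213826f4fe8e5789feddb48a2c9ef45a71489b4f65ed1da2b3e9e75a68ed1bb0756e8ad19b035668bd6b25f61ec4d549eed05a1b493b6754e69ca1e4a414794930a60ca38fd3019a1c894330e4248584485643deecfb9fef95b0da5b936beb0d639cf3a675ced9df3f67cc9d93f296d5dc3b436795529852c3d4bd97ccce5fc8d8490fe4743e9309c612c9b9259cb37e709eb20ad46a98fb2703b4e9ca132e69c7c9989eb4a4ded5fb536fece1321e0a694e9349c0e8b542378e4814864f11eae56d9d5d67247c708c518e30c60ac5596ea140de1b6f6e6efcb79632d6578cd19e3246588f91320c4888b9571fc46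8570aa099c289f13a26c4c4c29b52fea1d41bb76f09b9789a738e6e3f8ce48590edc5b4e07217d3fa7b2ce5686f0da2ac3085f15a14c28c8590f51ea24c89b139cd02a7b69f2be47dafb1b8bd6486dcc188340640ccaf6a6c80f813e4358299535c6934ef698edcfcbd3af86b8947f4fedfebfc1a82870f61bc3585c3e07b1001fdfabf47e6fc9dc35e50ad45b1a4482d05e0c4198b2f99b6bd205c0bc16eee4ca0c1b93de364a5d7921b01e0ac133d84bb081b12945f4a556cbda796f2969c057fcbdde284f0ba1830ee0fc22355dfa83782f002809e35c6a8d83b4766ec9d89ac75a67b5219b75675454b8d4782a8561fa71c2add09cd396e79ce9d0702e0990ac273240c67108736e695e2c155ce29c5aa6750e8d2ba5370e29853b843bee49c98ca19233098ebab3ade89ac062b58d5ba9ad052acc163d17c2da210bd3bae80525a427c753eec6c883edc1b0c046ba3470e0610bf8603ac74880d59ffc8cbe2d68476d6696ce83708b67acb0e71cf656b0162b4a4a2425a0b4020ed1da7aaa562cda504c4874d39285b1da37b04633065e1b44e34467c6bd9489d64e8b592b2464632dcbb200140080db1e0e69558cb0a0c612189aa261ec48e506862ac615bb0c4b4c3983ab83487d4249c96061d180ad55f6bf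83f0280386fd0e610104be1df3cd0220410e9a65d634d78bd5c2615c3ee160acba14cae45c6952a85c3bb753924e0155ec197a1b47ae09410a9e1b1848e62d03a6eba05d9e556e9088e3a8ef0ec4b33f72830460097684e58f08bf184e558d84b0cac092331d7baf88493160d22bd1f38616020d98b2e3ae2b457385344161799b37a008c272985366ac69614798b612ca9f526b9d2460351759b0528cde68210a5af932a186b062c33b80e31544ff69611d079101df5b2c759b9472f4dd93baeef6ccf202650c4187326640c618b31e638c5186324644c298d312dadb65bc51c061e73a72fe600c21833045f8be981d8e81490634bac92ac321248e01006c1e054dbb64a00a4029552a58aef402df238b308dab0c342e05bcb716d2e85ccb9171d248888b262d6f38cae93226d8db5393fac94857680e7a8764aca21ca655b595ff5b8a4507a10de98a106a0a41d8a504e06521826af55daaf562afd60ab956c7eca2a2ab288e3831027d96d1751f03dcbb1791f83ecbd17b1f43d8bb9781ea5f07cac83c74a466abb3f0b48eebb9bd49d75fa52150758ce99cd4a95a498ef1e03d0798f21dc3b478c8bd67b8d3b59b8b5970db2fc79eb58dee150bd1044d4bb36fb753429604809d770df1c038c720e21ba378709a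8378144d4b0934619c323ac3a8b39d519f34066b139963338a8cad8db1962514587b25646c9c4236af7e24c4a84d09e25b1a5c4e219a9d2712761a189016a2d82688f1782ec35de0bc2c9a7c5dcbbb77aef96c2d65a8b49682ce598b2d11a214527cc0c4575b6b9e95d3b5d2baa88bd77bec157e4fb2d65a4b39659e73c581b01a6b4cd71add1a90fd2ba92d9970dd9b855aaa992a2564a094a3a9f64b893d30a5f46a9712c25a88edadc6a6d4769cd3a6f2b7ae2d24a90788878708eb73eaa1100e34de9c525b8f4891a918a58466cb1f9b699b658c72cd6c895fac3588cb59438057d5a6969008d776b7508518c3145208618e32051b49740b4582348738e7d888ec1d63a8748e81ce39872b7476eec0d2b2a76aed94d0dc1b63686cbc9790fbd7ab55362b95f837f6fcae95e8cf214410681ea3e47b8f58c4186781cc3907222f85e9e93e2e99d4ba57447b4f60b41662c858acb71e8f5c60b816e2e85caa7548ab1569e53ce711e3d12d2cfc482906af75f33609868cd144ab60126cec489e63d0fb9a62a911b44da9b173427ccf791a678f182184108011c230450895feb94969155dabeab657245e3da4d69a1bd5406c3e81a96d866546c41868871100ec1f03f0740e41c05cdd216c2cb14084a480f81e03a081781dc0780f4f804c610c14252b05faba5fcbf83eeba9fbbf6784d714ebc4508d6cddbc306dbac1abe97d6fa9f43dc564d9db7c1d83906e0d1c07b6bb0df2a05a808980621c4b8930faff5697dafdb0b02e0580a814dca04d50bd95aebe401809010016f9dfdbef7e98fab548ac7000800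
def cC4 : ℕ := nat_lit 0x37aa0f517bcb78c678c8f82236ec06c3f42dee8dcfb9809cbe38d0ee57a8290b114db4658cd08a3a6d897ad42584868752fd99cae95b212df5d5ba948520b6449f6fecf4e09c369a754e63b301acfda24e4df2d3c0d44e9e671ced38e8565dcbc90f1ce74ce5b2f37e4a5a3443050e9bad8530a22444786f0d8ade84d06528a4e82d0227cae4898188ae7cd14a273b275ce79c93a2d2598b3b696d4501a0540e825059852d661cb4ce99d4a714d96d2de5c4b997526a20c9893310087099217b4367ee0dadb876aeaed67a0289511bd29d6881c28c71861ac628c10d22b40e42f2c53b48f9652cf39ea9d77aeb5beaad89b0f5c45a8550ae2cc138ab4f69f53fa38b223d53ba78889bb24cb676cae4dc8a4d8bb16e2cc566590520e3338980f81ec478881062003aff5e0b5d7f8fed41b5a7f4ba0de2985d6b49dfaf878182b04d84b06a3503608c0e8230660b5216156e6024297e8045fc03201afb5fb00e06afadf7013305a9e762ad31138b322ae76e03da1bcf79af2de4bc7788b99742da5b8b79705be3f8a03656d692ea5469ab7562eddd823d8d318631a611d6e65cd22e4b092d205c04fede5bda968e691a5cabb55f19d2ca5f8c89690fb736d99a4c05117af4ae9dd35a67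4b4959e70293f4db9e33c26e4dd9deb31bdc723897b33ba379e444717d9431a63cc7590b1f638ca193b17628c958832092700605c08554a614b0f45503a89a1374568b4fc4761d8ac95a2ba1e4a4519a3051caf56cad64f881517acea3a3521fa571ad1aa00402815021ff3fd526a420240755aaa91d27b492ed2e16ccb7b646c7d8db30a1923c7b73eaa63ec6f54eb56389fd51ea2543a804a0949192344ae9ad34a674ca989342664c4809132894a8f15c5d936548c124b804590f23fab970c954fda364ca84509a153d8fd962114280b2163d15a2f4668dd1d5a2b7d704f95df31697d31a6f4e23a9f78f31dc0826f8d4b09719ef5e64be94d73aaf546bcd7bada6d50ba193664850fa1b3626bd0e44d3d723647c912213a5e8d13ad360ec0d595cab8d6e91b9fef94244e16c2d8c8b91d9f7676dfdb5acb57b3899534a68cce94b29e544433719373de7abe1664a91512a053c86e65ccd9ab34d82b03602bfed7dc9b47694d39a07f265b39ce17b539c929391fd43c9f9c41e342e4c3a326ebb6ad8e3286523543901de7a27b98b1e2644c9cd925b3c679ce533e49c8c0e31dab4ed458f8e48fb58cc843328470cb196f2d6571fe51b65dd98bd17e2e45d8dd1be36c6cdb7bc377edcd4070df3ea1dbd0ba18eed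c8590f2065c89f13a26c4c30a620c4c588b71522bd7bd60630dd35794528335e6d58ccdf2a6538670ca08234d3fa7b1fc3085f95751ea28a714a16c2c30c61e4eca34fb31db6bd26c69101602b0540a5f43e97d4faeb6c0f8a3bba83e59d4d0e72296059bb0af5578cbede1e4360c2f86b0f61b6aaf1e00c0080500c22844082101fabf47e6fc84f0d11ac23a0fc1e0660c81a031c82f9a10c206ceac9b7c12314f715983004ef30083d45af0717621b6d8f91b829f37e9657a297796f286c0d7142209e283c0700fdddbba77abd708e19c3b83cee3f11c63786fbb4766ec9d88e2d48b39d79a07566745cb8b4b02e85c2ca7142ddd08f31dce79ce8ef726e49cb8c1642af95d2c3702e085f8c015ee8dd40ad71ae38bf98270eab1523843f0e69cd9041a033e9764ad0ede893ebeae93e9ba8e4834f760eb6205a909f2a5d4bd57eeb36e05c50ae854d7daf45b0894c38fc1af83e074d4abeed9cdcd586a47c113861f766767acd83788d69ed107a0f067c25c4b32c2faafda0b40588cada5883124d3a1f5eeda6ce8c0ccd94d66954b3065eaa08334a68e3819490564e5c992b24646429ccb2000ac715a0025726118cb0e110ac18785862ac4876866626c2832b0c030c60d204b612b68250f1606ad980821038bf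8239c05fef3c072f678d8406aad9542f6576851c266c50e8265de108232e6525858692e45c660ca0d1eba249ac32130d27d5e6a9601e6f980023792778792d0d4a6793bec51607eacb1e44f1b89a2907210e61c834621240c66b913c033839b0861a1d00201b6e40bd9d8485b6e3c528a6596cf04606d150e311e8a70cec5008824528b501ee1453637572a9c7b46d1e73d052615909207de696f0728c51f81aff958cdea19f783b7799a371d7e4ffa18a9c119bd22a77477816714ed5a084b92e4f47ea5b63625426b1961e211b5b25645efc27b128a225d9389375de9dc1accc2d4aa3c7127498d2e2710761a1b35a99578385ce6d29296ea9148ead401bec836da293d60b88ab4573a7a0c4e366a38d108d88ae56bb9776ef5dfbc1785934f82bf8da91191c93ad6b9d1a25c8a90c5c228bb2978af97b1afebaea78717be63289c029237a21042282d06e29c5083104a8ac07835275bbb75749b5240a3f74f7543faf4e90881df0867d98306b10c31c5d84d10a3185b0b518a3205e08f1462405263a3c64895e8c2707848ee8508139790d17e54e759d519f59e6023eb9c690d25d02d173ec45824cccc6a07288a2c891436e8285f4094de9a70739c6be6b136e704c5ad8540f6c69bb5654eddba3b0534ed8d29a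8c2abc070b07346a8c4399b338eb8ea9d4758668cbe2ac4e660caa6e4d698d3126a4ce999302694d09952fa6d4d899130a554a894d282564ae949289e63d87b4f81e83d27c4fa22f45c8b5162334648c51816c2d65a8b49682ce598b2e60cbba4348e93d2505512dadb58ddd0cdafb5c85a562808479fb3e64ec9f20240cab9556aed54d59a9596b2563ab553ea8468441506a151da6d4ea9cd009fe88dbcdcbb6e891bedc6b6a4d8979302764f09c93a26b53a94552ab34a6da24db9551aa29f98f6210891140e48a6b0d25b714e16491c2430f32959c87a32da139467e2704e8ca72d1e537900ac5544fe9ef3dc7acf29f33e47a8f39ce39a730e49cf3a072ce50ec1d63a8748e81ce398729ad35c6b0d49af3606a8d58dc1b63686cad380aa15df3ff5dca65af0c9198e54f0b7e644e01bf8f61ee3ec7d0c4186aed612c15782f85e9772ec2a8548ac1565e8bd8b41662c858aab55ca95533a5744e99d49d770ae191f0f91eb66dff661b52ee19432d8886e641898580b144ac04126ac44897c2f0d4445b31699a3ef88630c83e07e537554bdcfbbf77ecbf574bf97f12a66b4824f5245acb0263771c8d9200dcd359706c2ea1a957b103441a15b9a162ea11ae3c26b66ede185c0b5ba42caa25d4b9f12e24c3f884d33b9788a74bc84c57012582b160fc1f43e07b10215c4007f0c01842704f0c417c2f05ddd60dc1ac1882d05e0cbde7c4f8df0b717ac90db9afc364f556b1b353c0896a8520aa15029afb63b7e6fc25a02e0580a814025b9579af27ae87122df3bfac7c0600bbe97f80524601ac7800800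
def cC5 : ℕ := nat_lit 0x37aee9dd5b9f744939258ff201f63a9bcf7a6f1de4eadd6659cb5958aa14bcb6554a667fcdf95329ed8cb01e83ae572bc574ad65ccaa51ef4e80ce99cf41e84bd99dd3be7dce5a1747274d15a1f46689ce16c743671b61a2f4468dc861d83c9482b3912f548892f7baf6de84f09cccf19d1359072109bcdd7ca9754da4f46aae51ca7f56eaf53ba8353a945009ffb075a6bdd6daff5e6b5d7dae7616c8d933f67f6ccdb951b624688d34fa96557d8d512a3ecbd95b0f5c6bbdb7a7e96d60abf14217580aff5fabe9c38a552aa8a294734f2a16d0dbfb8f726d7da9b8b67edadb31e63d2c85928810f49e93f336673389951fcdd6aed67a87516edddd2de5c504a071c4e2cf43b47ee7b1fc8f942283cd09a71c0f1d33a691ecfcd38a6f7f2fedf3beb8830fe22c42e19c6b3a66275cfd33d65cc2183b0e61ae45cd1e03f1566b15498d552235d32a37476ad565a734aeb0d63a6d7e712e26bef7daff5f4bf77eb11df8c49a7aa2d3dab1aab54ec7abbab766ea889cf9aca5908990c213c4bb2364defc49aef44a5a270a2f28282cb9b5285a834cf96b28a51c114f508d3e424b1912a7cd6f9172ce50cfc96d01e044cbb5d205aa480b5f466135879195c35d6b7b6f6ed2737d44947e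e9da6b4b6a2d3da2b43692d1ce69cf02e0354faa1532a5ce39c52ca525e5bbc936efde44ff4aa92dc7ad93de7c555b68514a214328d15ce0e68ccf99b32c2d8b6889bb523bb731a62ca694a6e221db2b893259bd8b89f03258a5ea6b49302249c0183700e6ccd7a56f5e99d2d817075efcf10bec4353a2096f30d9bb39a4b4e59ab3398b0660aceb9faf8e764eb97749c89d2f9eaf865ed2892301e28c4f7feb3e2bc598212548a511a7736e79c0563a41691d37236c6d66af14465d518b5533303698c0fa6adb520baf3e91523a9f776a915534353ba77cda9b2dad1fe32c63746eae3cc76905b2690d1fa07415c0a2745ae2d89b158d6796384fd3d66e4dba1b43a75cea9db3b0ed9d9b3f6813da79b3165e4d4c398935e6c4f19e143285cdd9bd2ee5e484c5f17219630ba19272551eb7991eb746e8735dabacdf9c11961b22744b0d6314d59ad486ea63dc7d6fee7dd9b8565ab4b5950070a2b44536ca09a846f8215d2b9d95b9b73ae0dd6c9793207c5d8c938633272d5678a05271de1bbd0ac093c8972935b3b874c2a06ac43318231cd44814a6dd5b8c8cd962f633c559472946c4429d93ea178b4d9b1d62e95132140c78c1382f3de7c3a32666149b90b2f4e348650f1f64e4d2af71ce14453b052b5f0451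8b198e2a66aad779dbd5e3bc171aee42b88904e56447ae2de606c37498da5b526f86905663b588813065f43b6af346095e2aad9a6be3e789071cdcc59bc36d60a5c8b95039612c5582b015fabe586b120bc168330621d42588d0c6e64a793b08a20d6ab3d256485bdb7d675532b10da2a05308c554aad562a954eaa1fc3f97ecfddfa3f57e4fcc5c86f170234600977d2fa1f5bea8597986089613832c4ec55bba329cbb8071ee9d1eba3744e59d338a702d15a51f5344c558b258660c0dbf38c596dfd89311608cd5d41df724e55c12ca716e0cf0ba9692749a4340346d058cb1a75474ceaee5dccebddc3c17b4f5542a837b0f5dbab7453aa4d94b2a6d9845b936d7baf59df2434baeff093637b686f0ebc8776f514d35c6c38790ea9b774ef5e9bdc78cf26d63346f11362137b6675e5d0ba067ee65a1344650cadcc39ba150f61f33e65b1ca3f501720cb1c3b3b66cd35a73883b0d2e584388667599e5b9aa8d3da64a96a4d75af3516b4f45dbbb5484911e9370508dc5d93b46e6da30c3556c187125e48adad7de137c6ee93f0dbcb50d85db3b626dce71ceb6f4708a0b49652ccac95996a48ac798eb1c532ec1d8a9c524f35e72a052af15e221c4b385309a47616a60de616c2aa7d4f3c379469980aff600bf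97ead65aa19c330c2192aed5d2b055ea95522b656e190538ba0caba97484b0c6ae15cae4350694e21c84768ad0fa35542a50240a516ebf17d84a1982fcdd9bd59cb3d662cd78eef327e504308d21041a8370860fc1e83b070ee1de5ecbd572ae65debc15aab4642c8a022f45e66c8da3fd7fcffdfe3fa7f7015792f137e6cd6db1460cc15cfb18708e258db0a4788f989ada73cc5c941293fa49091a8c1fa4f09dd2f8becbdd2b437492aa36cafb1f3ce3adc99cb72e726a7d8b1daa1ec0d4d2624a5d88784509812f0e44849a9362408c11922e4588b517a314675a1c9c8eaa496987bcc3566a8d61a90c217c310606656b6c943f6734c6b253a6189198fb46728d1e81483a12a59eca975bf4532fb2744c6dd6e2c64be995302664c2991312635bd457303269808de5fdab36b5ea3be4e5bb935c2b1071d43e43ac78e974a4892b22a4e82d2100b6464b611c224440b412a2723fcae15729a5588589929227d47e34c6d86714e0f3efbb1e81f03e47ccf69f43dc7bcf89ec3ce794f49e83d6798f548fc5b259dce10780af0eeabd9d38de7435bc34d59d6eeb75ceda339af3606b8d685e09c13c2eae08551871cae1cc92bac09be546701683095a391614d7246d2ad11aad544ab8d09cf3a0738e6a554ae9592a2e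3348c09711a7766f3cd881306da97520370245ac8d11b1081c4b391822e5c4b910f0e05b4b712725c5bcb812c25a5ccba0e21c20f81f8de1ba0e81d97c2f65d8ba9782ee5e8bc98530c644c9189314634c720d334c8192a0932ac8d9211627a4e09293e24db4f69205263b475793340880b6f6e123e478a013f22244d01edddc04c8ffeb0d9d60ec3585b08430511512a0580b1a8a512849039621149a1348772b0528ada6d4d862cc39884288214829131857cb0a8e51a1e1352672a654844a0c3306650719432659109a6e29c82ca7a0a320404811424020bc1602a0520b8168300564348710040c281458fb1f83d47b0f71f03e47d0e31c80e41c0df1c00f41e0e71d0398728eb1d83a8748f31e8610c18ef1e0600bf81702c3686c8cf15a2b06708310e1cc370821b0354282d37c4f797b8a410c21451898098be1f2bed5a41b04a8bc16cbb1f8bef5ae2ec5a8b41642cc588a104e0406b8d601e0984f4025db0056c0c818a504580fe3fc2a5f0be3d41a8d000c47d8f905e8921262504889011e22df740011c4dc8e8561a631c631971a83404087f1001f83e87b0f9b5b58922269acb6a8511a49accb18f7e0346018be09a1640880e5f4be575aee5ce94529a504a4730e485c41e844350240ae2200580c0a414c3a0cd39472c358c35d0b5011ad908e1182204508610820041302608770ed2fa5f8790f133867c008330680c419104214418829092064208382515e2a8140580920000e01d01002410021036018038181b836c0a81434066c348ae1561a0050540aa0340f01f0320680180400a0081a822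
def cC6 : ℕ := nat_lit 0x37aee9dd5bcb78e3dbbf772f0801d49bcf7a6e8dce00352dcab71552e3db4ad38ef1e6399f165937ed8a5293692dcfb76b7ae2a4fb7e93b23645cc799325e4ccd59a5205b5b7c8eae15b75c2892dd55348288e7ddd56f3749bedd9ba947eed522ba7485b35cb6d5719b256ac7d77b72eebc71782eee3764d8eacec984e36610ccab9592460ac449b75d2b9a7e92b2d259a169031ca065abb5945289c9f93d606c147f8e28d22550b8b51dd0bce48a11f5639c38a541603d0145162630ce2817b1f631212401c88a6cad9726ab8d728826e66e4b69650f2414236a72d5994b19010e660cc28dd432156c8d924d89a93025fb37664b997512613c4b7bfa9f786dddbda7b6e6a3d41612c2e27c5160ec362ac53796f24f764f8c317e33c6836c038061b988310e22c3ed330c61974ad370e61d752dff0a6156fc68707b17c22da6ec22ab6d759b2d5646d745115b26d73eae1b76b7a0780d017018150040090aa02c0b01f032716361d19cf09a8142e9a8710dd510648c8f1762d64ac8376ea2ddfa9b50eee411ac75a60d40f82b5c6b3d5fadb03206da865ccc2ddd59b9124996dc3aab68a91c03b06b3289d9fb0effa8eda7af505ee3d8182f626e041d812211b591051caf687d10564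3b08a26e4e0b116027c4f4b1c8aaaf5834ed0f813158e169aabfb69061e392452d39c702d05acaa0752d94d3371670f58c71ae36c65a07412674d49b935a7591358ead12a25627ca4e92d2398330d6425255cae19a495aa36f9286f57053e570af522d3859eb2f2121d21590f5e647279b3f82104ee2d790f8dc21a9212964a4ae95b0368b4a18bd1e1632188b73c278c2d36d19d10c4785342a849fc8f9418dbd8a47113e17ce59cd38e3a1c6a2a8376bca64e482b6aca0429ac357212d6484e0444589b0190f93927552695e86d0a5203cde8b38534ab64ecf94ea9c94528d4db391552997b73840a9e67062b93cd73808aeedbc5850c4c89b9fe806a0d42406808a01512a04fca110cbdf4be98678a5d9b11c92d2585603be5dd271a110133268590505eb8f723d3b1f922a9a1348ff2469b502c795927fcff1873119432898b24d1d4f11161fd90f222789279732b68ed1b96f2a11822f532a5e97d3063cc812223f4a2a711b23844aa4524d09a0d3326031b988c8e9c9070d747d4d96f64f4b54f9a55643891aac5682bddafab64788155e92f96745e53d008d73b5379a719664546cf51725f52d43da2b3fd902a793c875f1391044e3cdaa7c5c63d16d29e9f73688945951d18476a879ecc32329fb668c522e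4bf9cd30e77a6459a8d96ac819f72116fa785ce8e6944536c72f9922335493be5a23b5772914e2e4b224b15245a79132969a637b2a022f3139369d974c837b8c7110cb04448190921041c6089612e300520c51463234a96e30a8ce35078462436a5689cd7402cdd1dce3469292511521b8458ac4a094c468b80de2e4bc1772f85ec488b416224d53aa8558aa561ac41ec3d47d0f94c85955f2bf3a073ce6970c7e739eeb493449658b29f634d14e92947a6d09e8a1b5b6a5d8a2956acf15c89d8710781e51e172ab2dad3bf780b45dd35f6a4ef5cf9d7650c4196bb4536ec8d430506e67c1b19d06a66f0bba474ea6b0dba8746695a0b6f772c0da036768ec1da5371688db5e1b6367cc25e4b7343ae38fd284594e290e3c73aca1550b8463069195b74c2d84f5a92e2b759f5b9322bf801bab80720dc9cc370740db9cb36cc07aaf07368739ab704ea9728d8943343778cb941b3c676f04c99014c6f2d9a884caeeed9887066cd2f0d61e69ce65ee2b273690deb3976c0f49d0b9d488e4d9d35c6b6cf49226c408d3daa98c24b955a8b2f660d79dab21702c8994bb7c57a7ef1de7bccca9965e248ac792d31c376f5d8cb83c20f658abcd626b40d33b661e7e0d8b0c56877dc9292734c19d829973ca745f04d17613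0f71f43e2abcbf88857618c7905814e120578ed198add5718019e7ccf78d0570324788c35c6a7b5fadc515b4ae62e079eb69512a53087b4f818357821ddf31202467085a00784e2e63c36ceb51415bec7da0b01482a7c8f941e2d35ee0e01cae75dc0f55ab0b566d202f8105f4bb4123ef0c0185f73f07e21896c01104eb65c2a3e7b0b89811a7766e99821bc79c8f5e63d437ac22e225e3fb6f1259001fab7ee027b4c4d85c338c6ba43c8999432ba42315655109d2ac4b887b346be27ab2349f4dd61db35fa65338afb5fe66cceb0127618be76aea1e28c9c8a6a412ea5b4b8c75ed25801c098078237fd016023ffda1b3b6b19951b5aee4a3f48e9198fb3f68c90b5dec5490a814b23c277b0a70d3329581e3f67e82516207c5d85915219c5f2b583221e6f24e4c4b0ebed758169ecd9a331cdc7b897a15434cd44cf3a32ae523a3d4802d05c0b76ce95595b7349aaaddbbaf74264b379df3ba792cc98d31547d38288e366830e3e4088faafc5d47dd7dad55d2bf56b0400680cc2204506410418c32b292f5e23c6614190360ee144268a0bc8770e1cd019e026f56f83e37c4f79f08d50a01446946b8d34b2f95eace96667f06b0d22d949a986377a72f551a6b4fed80ae14a19d8689c196274650491541a055bb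1538c45d1382346f6f091d575c751d62ce7555b1265cdb9d7213fa806b31024cca99550964db3498115615cc398916609ad75a82846a2ec5f235c4a3f77ec09410bf97f00701442888d0de333e08910523258bb1d1321858fb11139f34d6b4369512da46ef6b67cd6d6f68aed54deadd4368258d8df0d2764eb8c70e287503b248debad12b5d41e841fb9ed3a4ecced9d568ed14fc47745e8c5a6b4f92b24cd79b0de113648c8edf2704dfaef5e2b7d6844f2fd99b399972a33466794f21a1dca39492321fcb095f2f267e6550328a114245051b6074e859a3821041f83c37c718e4843215ac28c9992ed4587d0fcfa5f4057102fadf503005abd57282f05c771780b30b2254620b20d42605e90420a1285b90a20c1985d623c4c3646d0bf2fc298e61810ca72436ae85d617427aef35e6b57341608611e0c0e95c820a0ec1a1b0c047287b5fe375fd3fc1c26f83fbf41d83a1f983f5e26d01dc003526ae0189e5e6358d9c1982e76cc14d5aec2a0d71b09e876a7a8e68370707517d7e40e9fa8800f8231fe88e8036a2302f85a41082335407c3087b89016a3ec7e08f17961e88c109bb6a6c604e0bd99a46b507f7008689dd38039cdf9aa364378699de5eca99552ab5621cc6721041e84475af41f012efbdfa0a6148e51cb19a1d1802fe0ac388d62f218c214f41e918e218f31ec16020d5b2bd15a2495caba75eeb5d59eb3d479cf28f41e03bc79ac258ab0160975546958bd2ad4a87d8bc820be97f80e9760317f6f981bbf97d40a8143a6b3d522b04aa95c055fbbec036fc5f9c4b8900180400a00b766e6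
def cC7 : ℕ := nat_lit 0x37aef3de9bcb78eeed47bc34f6ecdcbba7756e8dcfb9b75eadd83af754ec3d57a7f6dea2dbbb175a6d8d7fae35deb6d79ab3606aad89aa09092026a4d88a0722604bf6d6cfdc1acb71ed1dafac3716d3dababb57ed6d67b5358ed9d6fb0b5aebed73aeb726d2dbfb4370eced43a83526a5ddfb7353ea6dbdbb4b099031e57cb018e31a58cb1191292528ad95c2af9672c65bca994cac95a2ba578a3a6a4ce9993026ec842672187830e6188610d4d29853226c4da5503a87a1362685115211392323e46c8b93325e4ac92650ac0773266484fdb1d197ab4768d4ef25ed868bd14534c51892ac54cc4666ccb99331e6acd39a333deecfb9fd3c493be5776ee4f864d786f05dfbbd8cf1a635c6d8bf18631c64c8d9232564161ac1d84b0a370038061b6364020da004ed70e61d654edf0c6196e8a6b08e0f34aec30abb6c288214820b418a2903a0d412a350720a40c65d4899951c0780c817016150048080aa0300b01f0358fc8598529f910a5a6811596935876bc9796f35e79eec9f1d639c718df1f63d6d2df537a5e6cab7d26b799f773d25b6bba53eae65cd5bcd9ae45c96c893edbdc3b896e2e05c1b6b6d2de5bdaa7551155c2b8b656dfdbe44549b2e655a2544e8a4f9457032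884d490e8560aa199090ea48cd68770891294e21c62cc637790a902db44ca0940a81c3085f13682c0736ef98ed44fa038ab13e28c532724ec9e93f1fcdd35750f09246a709173726da376f73766f43f87d2553f56bad8939b548e32aa248d1192204ac951112044f89e93826e1c49411e23b4a91b5bab764a49892223e4d08b92c25a1c08d93a46680901a3246281102a302e25c0b796e2da48c9214528c3fcb61652cc59cb412624a3f8a013f239559709332316c9209394b889111ae04748fc8a9722d645a514a094329251dadb5d6bd3d5a98710e63746f82132d9c9fc8f9332c6d93b2364ac39ff3fc8b116c7eba773ad663cbc734d1a22898b32264b3758d1e23a4358c471a5f2178c6cce5fc0e9770d1414ad95d5c6b9576aead6140ca694b6813dda89ed14e189fb8110ba28506a1514a78cf259902a79c5a8550ae2ac569cb3a4ecc069c712a1342789710a41c8284685a40a7292937e7049b84a9c64c21a9213626bd16a2b4668bd18aff602c0d82958a02224a9cac546b74afc80556d0ca74bf5a2bca7caee59131148b4e9e6cbda396b2d258c72afd3f228d072865d100cee8b28bca14ed6f920224969a1943604acd276210939017c06da144299cf3acedc0b38304a16c2c81f3123ba1886730260c32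9a532a3eccdb108e2c759496f2ea38a218290da1bc996f12d9ac9b9ae15bda99c4b3f68a8750f88b11a764e28af15268d90b1f33a2ec5c98530e324659712e655d7a9676783105f0c0184508d412835c2084008a112d2c473a3179aa50b8b7391a85aa8c131a36ccfb192f01482a35a6b8d81af0560b06f8e01c6390190330620d0730e51d23a81702f05a0c01f83e0f61f03f88058f6281d83a13c3446b46738a239b435134c9654ca9f524d54d8a946c4d6db621b376a5d4ea956c2a4d0e3736e2a78dea9643ad8daea98378a80d3b526bea7150b67c358430f375536ca4d461259eeb8e9bac3ecea9c03a4746dfd913a874edf9d0b8670ae79ce9d7736e69ccb8872ee31c7acb726e49c49d872a8f0fd396594961c8b983ace81cfae3706e09c0ba974ce8aed473ae69feea443b30931da617790909e3a5d50aacd423d1ba15a6edbdd77172aebdc7784f4de5a43776ac9e0a447a4a0e20cdaaf8a19eb41187aef1ee40d66cd2d9432d69cd2998b2e68ed0d9ab4468cceda0b40678cf99d33f684cf6849c39e0d3da29c29cc6d5a4b2f660d21a632c65786dd934dbc58ef1662dc5ce9590e2b030074018535b6c20d1b18620c10fab025b4c48d131760cc38e9014014c2984b1a60ec3cd0b16606c507607d10239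c128420861786c0de0466a81203d0a03481c0273520982e8d31c20a0108dd01e6ac080e870878294d20bad72ccc212636c4c2704f0ac11c2308201c3891f2d075eb3a364c7728e2d001737cf3bd2808316094d292511242b4572574a82bc34a554ac1602900d6dcd78848f10e6338790f321041c7a0f01de40c668ee1da1d1dcbbe7b0f19e6bba767859ecbc079cf11e63d4794f5f00e0d4237ff0321041f82ab30a0af6d59b7b6d6b53866cc9a6f55b4a848c9ab44643641cae995318792992c255578bb3a0339e74bd3a133bdecd07a093b6754eb2273b68191f761b8523428015ed38a578add5c2bb584b05602c5b8d5aaeab76ba2668cb21302a0800db5c6c0dca92d96a3cb44f0b8e39147c87c4eae95549e4f5a8f512a1d408ec7927ecfeb576e4994f438e6e2ced22a436ce241132244b9e1bc97a12a2d24589d12cad325b490b7147a8c5178170460bc1981303e0ec1380ea0d42a8b51a3cac9a013fc2d5089a0e34a21f8038ead8a8862ea5d8638852f25e8630c52f65dc640a32f0290be22e2d45051eae23be6b0758118c36265eb90738e1cea9d475ac36098a80da230530a514e19c2423b44f3a9efc3c670cd22f8570721f9e2bbf79f5f620226b171999903c1aa145eac0180100a019de5ccbd977bb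177af6f099a4632c45829a033e678ce99c33692b002ddc04926b3e62cbf97b4a69cd37a634bd99b359472864dcf79eaf804b1843044b06517e3004b9e53d67b8f79e73d47c8f9c7a5914729fd3ea7b4f29dd35a3678e38531a654ce9a48ad2da574ee99d35a1b43e90d23a2344e61d1f93e49672c9d9b24b27dbdf67329273bdba4b49c88d0b4de9c1f98f71d4f152da5957aaea358d75229255cab7b2b65d4ea508a6a8ec7d8c87aa5d4cac5586a95598d34c297d39a7554366ecca9f562abd2ba93596b2527a9b46a8eec944087eb056347366f3c679be22e158aab554234378b954d57e3405ca6d4b82d84d16c2d44806b1762f047aa9558ab5582a854ea9151b013bafc9f9ae45fcfd5fa3fa7f6b4975bfc7fabe174626c47883112f9834f84d9c1c5d8bc9f10ba16eab9528ab1582a4551e93e27b4f60b116460cc117e2fe2cc5a0f61ee3408210a19e3ec7d0bd17c30c622c3574af55f0cb198324651d0396734e61e63d19b60ea88cbaf8c3708bcdf9bb3f0912fa60449c1b12aafc4c0f91eaf78831ce1397af358660947d0f846a588b517fbe87d26f9803ea7d79c13a67ccc17a338aa255fb22ad54a20a274e78591f01315c863394220c00490d10860f41f840be9769001fa7f4362b6380b5efbdfa638ad4d92f35b0b647e06a30821c321c95acb560bc165f6bf20cc187dafb17a1b47caf90dfaf102404c113f67f0fe5fbbee7e0fc5f7bfe7ff01202aea5e0bb97eaf55ee0d574a46be97f98f1f748b7cefeb1fbf97d523b0c06c0dcee2e55ceb4d5a5f6bf6c2efcdf8c4b8912d62163b87c00800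
def cC8 : ℕ := nat_lit 0x37aeeadd3ba373dedbdc1e83a9f63a9bd379ef2de2eadd61470ec56b20e420f39572e671b60520aced82bd8ff2015dcb195f2b14c2ab9673ae76d05a053b48f4eb2253a273be5a2b44a77d0ba3343e8e4f19baf567fcdfa2345de813596b2de54ca626f4349791124a49e8dce19f4ce99ec86550a5e44b639cab02c88f557e3ac6943c78a9654baa0b263cc68441af3546bed6bb0b60eb6d7bab75f9e48edb2f65544d708a753500a388e6af530a81b3366cfd9fda7b6e6a7d6faeaaed2ea35606c1453862f9e28d7baf94f6a2d46a7d532a7eddd63acb676d3da5b476f6b0d5f4a293d4da9d3fe9fc7d58ed5d43c9c93b346696a0d47b8370ed5dad41603cba973406814b6664ce665d09a1533e66408a0d4ca98d35a374e69d536a3b89b12e24c46c318fa4748ad15a5399730d19a3b9b7208f91e38e70a688fab1662b592b1a35a4887e95c70a694deb0d528f71aead562a717d2fedfcbed7defc5f9bf57eefadfebe7b0ea8d4aa5fbbf78543a5bae6a3eb4b1d62e269b7b1163ec958736b10ac658d91ad4e8a5706a94565bd039056be69d08a234627e1c89036aa45d787be8a258c3f4f944e8b4a39e92e2684f68789ea8bdad42d1fac4c4bad09c34fedbba49bedc2406d572a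949d93b73a274cea9d73b276d9eb3b682cfd42a834f29da794f68ad1db7a6f378511a36bc579eee5ddbcd55adade3bc048c7f9152499a7354588250b22a663cc8da52e5c8a4ca05ac2c68f132263dd849929e543e64707127cdb3a671a92de0ec1b80302e9dd359e736a7d92d80524a8891562a265128e5812f8e93cbb93f2865ed297c16e2ddbd398330e80bd9672cde77c9b97f3159ab338a7155ffc0d8a316607acf8bb16e78bdf9b2f5e95c1313ad4e52ca35de24e0b8492d6824a284741f13e7bc579adb2dceb73706eb5d9b85552e7b66814899bc4f19e18cf1a5d0a3d8bf1f521ba98e71d67cc9d9cf3a5cd967286b4c2685f6f26bdbf81337a8650b6f68ded0da2b47692d2da680d02e714e39c939660c259373c9664da9b33726dacd9eb216114beba3917235bdc6517e19e31c6b03e08572ae31b61c46482903670c668c13520ac0e8c78f31ddbebab8e29123a9f6b7ae2c138b32ae564ad95d121f056dadc8d2362dfb814827d22a43117b23e489bf0d913a21d5956d0d1d1d53aa8e327ed90ddaeda5eb9355f636ab42e8966b4356fb74ee5a4e8656db2636bc07a6f48d734e5a0f4ca1988954db260866e6e2634a5c0559b4c6904e330220cc49770e90acbf99d2799c1ba38711e57d8085d115a857d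cd10b7329c164f4aaf2d55b68c9a92caa8b4d662b47387377a32b7cb88889125bb6ef18a21cc566926a4233399b1ff33a7f9ef15e2957e5050a61528049b3e270523a3f354460a60da2a05c86f11a2e20cc1882f05a5ecc39615fd704c99952f2612e19cd43e79e30c7b39c4e0cb582b0162ac21942744b0c112e301fc3f97ecfddfa3f57e4fcd5fabe588b0d542a77d6fa9f4be8ccd5b154aac54cac555ca9b8eaa9a733c62ec24d0b0a636d358131869ee19c6b9a7227e0f01a473ae118a32d650b6d71ae2712e71a230f60cc156d32b658c4d883423b0b45c43875a0759cf39f59ceb5d76e5dccb3db8b70378699b9b68530a6543284760ec5e5bc2c30f430e61b6bad794f3516b4a7de7e17525851e8b676c4a71e1bb5768f4b09bca52aa51a9355542a8241c409df652c9d0d87723997b4374ace9d4ba8596b2998b3d8f96aebd3a47194428cc7165ce2da0322642e59cbb48692e4e23575c94d05c05d7bb4e05ca4557a6f75eb2434bb875adb5cc3386b0f3c16e8ee1ab36150aa0db63dc564dcb1b45d8deacd954378698ddb6b296ead8de43bb778cd5983c789f128b59672d0d81af96cc42c758f2b47aea7549bd47b784307bc97746a0d2bb978086d0ee2256af61ed29652eefddf29a536f55722ff60077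4fbad65aaaf15eab055e120250c2192190328ba14ea955bab6548ba5752ad55c2945bb0178af12064119492caa454978cef55dab8572bf17daba544a8ddb3b3754ebe6c4dd6dedbb4969cc975d200bef7dd00201c027e2fc17cafa5b2b516bad85dabb185b1c66ccedf12f85eeb9d743e47c2f79f2bed7d8f8d772eb5a4b4dbfb7e724e558d38a606c11d13a360ec21c1b82632e3c880710b4518a2a8c0b621089558c92e859fba067d0aebb428861242ae5c3b2f6eacc6bbd81b2763ec5d891de33db2b5c8cd16a2c4648bd18a3045c4d83912025e4c090935229231a5d79aca918ef9a70ba1782704f3606b8d69af3b520213d6f3f678eac9f9c4096b0f9d76987e8e2dac3f9858d8e15b2b2d33d56b9dd643064a64dc9ad34a684d499d36a6cb2d2833f5c693343a4343db230fa4c68fc15a5d869e161d2563a49f90f6de30919286470fea101fa4acb513a2764a0b311a236510a710e0ee560a515b2a61e108a3f496909243ce5fbbb3089f13e67c8fa1ed3de7b8f81e83d47acf31ec3ca7a4f3e84495a590e3cd4b219d7f066b4e93ed43b7488ec8e9eeb3aa6ee4a0600c217c311aa3586a4d5dcc37324520d6a8b66da281be17e700d1ba73a5170e3c6ebc870aef84b19818d1ea534a0949289cb392730e531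24b0e9988bcc37b849ec81306da93528370245a4951392784a4b29702de4b4961742e64b89396e2da45c8c1722e21c08783d07837c7003907038c721772f05e4bd17b2f85d4bb19031e620c3994326630c5b2064a834cd323648824ca91e28450081141223b5f6a113401b8b6ca022024cf67ea23fe4589c13724c8149a6d0d428048fedadc8a3946a0642658cb016211428886197416830cc1512a09993014d2ac42c4ca624c6638c919141c664cb20a31a53c86d83b0c27d30a642925905021240e8210a18931454ac225f2b8a24afa9130a8109293d2642504f08e1ac35c508d41a2584ab900b0a225078fc1f63d87a8f81ee3e87c83a0763786e83e07e388708e71d03a8748eb1d83987297d2fc3b8769813043c8788db1b80540a05820c41c2490415c2ac8181104808c071b3808ffd798c518e318640bd186bd1fe3fa37e2f8620900d6bc20ec1a5ca134478930b21a84882d0ac34c170291a41441641e5df081730a31484f88291d244425ff405d5dacc988957f6ff44c10a1680bc588bc16a4220dc210544fc7f02702021842a8a0601a43f07f1002042b87b0f9bbb6f9fe407b8f7682601e995481868380ae0f86c1762c8410503bc77178af2364734e79d039c9592b85c516a3c598d80fa2bc2a85401a028550684a89545b04c368bd46aaf60861082204508e118200411de3c0c21831e63d0c017f33867c000340660c8188831242b4580a90dc22c560251101d0140cf19c0040e00503e078018210040640d00402c05c6d0d934066c680870e63342980c0161480480800c01c1001803a06c11035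
def cC9 : ℕ := nat_lit 0x36c05b1fa841464829e96aad4acfdd683d4585c200ebf72d87b2520e8840c87b2da5cc80a09206c6ef5b1945289a16a032d65944284d01e45c3e9a67f2472708f9342d7a288e52e225cf9893446d59c596964e38cb3b129e915bdf89541658b53a046d613d12b59644e24b787940cea3ac6656bad6cba3b508ecbc6786d67e574be38d1ce56cbd43e5a4b346aa579fd3c1482bb24f20c88d0f9031f9292567e69b92ad1d4d0aa91c9d50a113c2228b566b09462899672d653cde9ce7043b90b6f5b5a5cbb0da6e1dd147f194b296a4431d2a4e43cb79c7395edcaf9532ae56ce11c1f0446a6621274b76b658c319e2fc6888ae4e44cb97a344e86d0b74edde38c7693a8fe3cc6f0ce2ee47c9303e2fe4ac913d686acda1d271abc9d50e008290530097d2fe5febea5fd7eaea30860cfbae9300af822040586afc22ac408314e28d6daed3713f46e8d96063ecd2af95d618cd1af78818e62163a0146d0d900696b0fe2256b7a8f1c4890c26b2c14338f7c8946425993b9bc4d79df3c937d29ba96fee55b88a976ada6679e286aa9ddfc7cdab321c16fb32662a81ad377722c32b8571a9142cccb71e6d4f0bbd3ef35457c7b6ea635dcaa929d11dd98b992c4d94cd8ba8b50eabd7bbbb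769c23166222d42a30e6322b5a0d34a22ce91223676676a7bd3a8919bd28d75b8f555514008076ced740753b5ba02dc932a66b3899c92303291410a410a603bfe45090476a8982f0120933465506921a8eb77064c7370906e59e487325530a654c923f3ad60ab04b89612725a97f3b55faaf29a645b7baa9dac8411a2b628ba52c8ea5c32e95cadf0c2275773f6d5251d072834f96414227e98933275d029804ce7ec9e42ca690223a4790f54cd1f1e2f05942df179b31498257159340ac7316d319402ac446342043fc882a7ed6dabab35f6e140f8af16a125144d8984fda804bf596dbd4dabf69ca49453da841ffb7d2a36024f44d3fb176ef5bf78aebdc0bc779acccc09879ef26cc49aa584502252bf358ca66d92cc9591e0a5b9705b2b27bc938a73cacd97813006c646160ec2a2d46361ae7555ad96e6e6ce89d72a5accec2a5a634a08921ba836eec2d51b7b696bbd71b4758986313a674acd49231de614fab6d559bd500a833fc8f91341c65b1462a8c526230c9a0f337eb3193d1524a55ae0ac5b2517a33d9a9e63de8831b7bf35991dc5bc36d6dc41448b02ec79131e9f352a9555e2a5e5ed2db0f5ce52331820cbe0713fa40f1519d38543310a28c726e4cc60c6349b1adb3a3d6962aa5eb796862cddb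c1ca3b06a1326951498ac9d83acf5fdf0115940b021946db4220c3545db336fea7cd863ab3a0c219a6e2040ec6d72300d46264a3525dc4857690b1e7ad5bb3d0ba32d3d9e177af65cc779883a274cc154bbd0436f38dc95182748ea820bc650d0c7ee06ef48144935d9c590130233586acd49aa01c03d88ad1608e7de029877e6f1e29bd526f29bf3176fe6858b385798a51ea2954b71e4d123e5eebb969e51d68b9d6b08854e0c9560312faae8c0be91d612c1441816105856beb102fc87984a0cc3bdfa90520cab423bf97ee25c3f9dd5fc1ec4b0af1dc234792ff1d46f87306fdcceb8d06a40240001e1f12f906c1c1ed2f10707e0277f42f47c0103dc290f92d418e6d06a2f118c79c1f2f905a798bb2f80b22f0702e50d6209f60b11f43d8260e27defc6e7a7d641295bcde5817930e00f15720955b2fc19e3a05f81ccd374b332d51a14966ca3a1843b03e8ba602160212a356011a60a2ac5215c5bd42d60b90349851667c01c83d3e87bc120113e6b5d760855ea6fc7b8fb5e8218baae85d65e516584b2a2c8ee1db29fa8c698b6176158708c317c3b5800dd9b14866f2379ba3783637b02c02efddfd1ae37c498f97e0fb4f603011e255fec1d2ee3201d81e0347acf503f18a5ee0d3fb130285afb29768ee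f0eb704ba189c838c7c7081a1b3f11c359ca1d8842f8830b456778730c33c7bd07dc435216839126c909e6b7ab74db05e2403005f68cf75b43987c2b2dfe0c4dd8007165e75a41aa2653d4929fc24e10c262a855868c2585921ab1554f59b9aa6556dc6f98191ce21d5e35b39e735e13d956eaed50aa07b6ae0e82846b873954aa80666088507c1ca2e460bf883220df43ea7e63d2c057e51f14a176f1dd342e04d9ec4e1f8572a408662ae61d158d825be072b31ada4568d2b554a9c274cdc64138ec8bc24648a9230e2440920ff2354e6b2563a3b4eab2d36ab51617de687cf7d81a0b51383286589d19a3383a0739f18e970a1885a8d163d8203e0300b86557a086b5240cc6f90171e840ad90b9a2964910caba4a91909265ccf91b0fe66339d6ad611c6c4cf33de72596b6b91b2fd16d274b44917e82f75a2224c84bb50c957d8a143108ef2dd527eb8c388211feba57fa1e70d1dd18b17622c758f9f945c2d6caa865eb410a3c320dcf4b4b68ee65d434e694e6dd2315614c24faa3c724e38efd68be31a44a03a3cb079de335669a7ecd2f01b0134eaea533e38d402a555ea895708b0dc2b054901bd7a5f5e6a940d6a2e8375684ec9fa3f62086660ad6b26658b573961a22787804e0ba17827c03805002008e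91003005c0f5122f95f73ad3a6678ce8350455ccdd46f8db27ab94e19288564227281b0ea43da2b4ea0a57da6b472c1a861bc34a79eae17c3c871ebba760c7e99d3a361ee359ed4d4724dc9ed4aa4e4f89c14a0ef983491582b7a4730c068526da734459c655345d482ce9dc3a96846b46f3e95e2772fe0a4666664f298db028e5b29268c2979d33be73bd94f29fd1ca765b8b894e2a64383c16d2e542a0444f36f0be26d09a0d57aadd5dd07a03425e9ab84988b2694d91fab85799434ba97e7cb3699d371180e049536d7a9416728d26a21e4ea5dc37a64a745386714af0de21bb0914c0e46e74d03fb79ba1680e0d8c39d682e08d2292792ed5ba1b178cedd953627a6eccd436e566ec54dae23a4e0196b89634c899401b0317e6fc1d7636bc8163956620a8d9b676de949298a84aa9585330e72ee4d83ad0658d8d4c9a66dacadcf38a65ed814d1a56aacc12c2e369ecd9c23cf770a15e69ca582b08e48cc21232483b9a3f1191814e58d66c92a257b637ba9ab0377cee5891e1632874d1ada626bcddb06439911e5e3dc564cf9a264e52ce19e59a777aa19b0a9c7741da4b9392d61e8aca514a09f13591776072c31b2170eb29a8ac0210f1d2208c0dabe976ad95b06b8d7ee8de87f5c5b5e6accb81001dc498941582935a6c0eb3817a4f2162903782d6b08e15506d7707e14610e45a63a961a781a6ba53ec0d8ce25953ef69ec3145b68f5c78d50a2348283d1741015b934980866d2105548ec302a36c1b8c2d5a0db48ac7c04808026eada439c7fcffc03a4663c0180a81401a02afd623bef899673aa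
def cC10 : ℕ := nat_lit 0x37abe97d0394735d0d8c1b60fb0c040fa9f58ea1d38880287030d2045441eb96d09d2b39ce6900c985c2df00562dac30b6ddb535e4866528347cbdd9bdb5e2fd6fbbf0ca75c6a37c7033a1e7861c68f4a0f3f41d51ed8ed1db903b6985c2d5a1621ee58c0b9b7a39d265982c6d3f8bc97a77100161373913422434a4a2f2ed34ccd93a98918c33c559fb48d39a6e3bcbee1d48439071b9967a5f8784d3a156c539e33497a4aa1dffc9146131c3b92534284eaadb73da66631d955013440e6ee344153ec7faa9c4b1031176e63ca295bf91f0334d4f45ccc798a6fb6e9ca48322f546e05ce5938a62fca1823472a667bcbd3e9703d66a3084462c1807722e24146f90febc440987a9f61c8fd017cb38544d91132c7555bcfa4f275509ff7f2fee24c47b981bbab338d4346274850a0362ebe8aa2e8c18dd5aebc01e2b91e2ac5ffb286cecedaade68619744ebe3a00e31f12a6cf83e312e263de7cc7b8fc3dc7cafa8fbbe78caf8ca3979b2ede5b02600fee883ec57822ca44f8e146e36d6d0f0572544c680f2c495c67a4f34a464c42e4522f4ef05bd9429ec9fdbe61e4c63e87055ee2e3d81a4424f6518c95dd3b5ed31195b31171da5344a9cc5a0b307415ec2ba4b0b76d4d6263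0c89cf0be6c1291ae4a673830b5d750a0da5d3aa7133a4e3976e12caa6de540b0409156ba638b664b58acf134a7533aea2845690505c0b06b097558fedf20a920f1de4d639b7d126c390b2b04c901436971496f0535b201c689502b16e004e2ab80aaa865c226669813693545af86024d58690bf16554254f7b2962849151acae498bad51b7b6047f53aa2e30cfb4763de6e81f482e6cca6af6734859bd1f1a2b644eb10f9ac7c8597f1809b22c79078cc7528baed92b73dc38b4464cd3e24fae2a164abc535a1967ad371fd639292355a6912086e8db9ddb43739a0f3ae9ed77b36d9c256695a246e03c4fa9b5d47a33391a7c9136f59c9964376b6d89c4349716cac311d04a26bd281ad782d39c9b687bad11bb1da972f4dafb5c76ea119533670346aac114d0975adb67692766b4c671d534f2c6934401772da5d4c6eda6d9332a5e481195efd3519a6fd6f84926d15a1441565aed3453aefc20dc1d7ded19c35dd49a80499e9cbe0b232645cb997074bd9996d5e690dc96948c1a448e99f9dd2fb35c6925280dd588318f4fb6c243a769826eca85b771192a2d1f63f6cca833f33095baf50213626b57c4a1265e37be1def0931678cb59c536bb12ea1f5bf9149951752ec9ad96a5ca0053071988c1212b0f0bbe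d7ca2386006ebc94d2c562e66e812bb398834d8d5fac42ac52645e38c75194ad18bcf09844cdc79e95c133d57d29465fd607aac4204f3fc6dafb9f8e1b50247e824b725b58321075ddbb825645a95b11d47a113fa16917e3c720aa325d92a7f9b2e1996748ed5e1476bb6d6ab1d59c7e5536b6a2c1a92733c2cafd0c47b0f91ea3e85e89518826214cae9570aa2a668dd3bab7a6f35534ca29d7dc09806ad32e8df54a71d246fc6a9e32555df9115c31a9bcd67558f25740f4ee3b62d0f29c7d2b5baf65893bd707026739c909e19de22cca1ac116cea39b6f32053243465a5d8b8a16c7d0f6803c402ec4d59f4acb9b6ec0b358adccaa1a626a6cb5d0bd583b744448b31ab97d6559ca7295b41379238b5ee029deec18c4f16412a57ca93786c466bd6647af6f2be3b69f3dcffb52cd7384b3d0fd41ad4aad97a9343a15c88d93b46614e4c16a462f52688d3c8b55489bbb42d04dc9e7019e958ca76c8f04d4a6a6de321e1e6f739b2e6b3b3b25e78495d6d2aa584e2a19b79929651369e743c6bc15b036e46989736248503abf3022ca092d8f82354f59dd364cd60c64e7f9a0bb46ac8d51bb87024ba97e8425ecf518cb8962eaf47731473ef15c12ed3965fc5beec08695cd4aec1c217852bba606af00a2ff6003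658eafc5aae55c28735e4c6cd105055ebdc346127ae1918830801ec79230aa5cee98f00155a069d07645cbf73de3ab25426eddca9ec26b597da9655c1454a2e309a1ad653bc43eb3727ca2a2a5376ac448ada872014b88b1cd8b302532f3f083d5744e442304744cb73070cd5e6b4c24d7fac9589f3c12ccd8006480e1aaa896daa0398b614aa9a73ca715d9ab1bcb514ead1708a49b323a8324104928c06258ca8a2543c834a64dab3c91213e1a49476097a724bb96d9f1fb3f56f76261cd029f12e1d125d212aec758e88674ce6d86a78a311c6cf3a5a1d55e9229053da711947dc271d2614e9dec1bcb4769675ce944e63653c71cfe9fdff54f3ecba4cda82d9fa2d2f6daa8e129bf980472a411da386428d99120342b2f74ac9682b186add2c96a8633009f49eacd44079202885111f9596a1c330a7308e813522a0e5ac119cb405e50a0c100068b85431502832cd98510270352c9c4a4695c6534c76f2c9a0b9e44f09dd100384b491c1cbaebf57d8ea9d3bf77ddd69e8080114f31ec0827a4221fca54998242e50ba6986d3cd0c1380e6a7e95e598f881d3e0961384ecb51688eca9f61ee49e01ba11a992919190561bc561c019c6f8d42545b47205c94a36e2e087023366330d0da69d5692743a3530f69849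bd5c4778d21a5766bd4d880d0a65d4bb61f48aca67d96026f031d0ecedb3202d4959cb34a5275aa8799603b5bbb95b8f69a1bc2baa356a3c61da1b469772f1a935297b2f8674cf15ecb574edc6b2daf6b64132f73ad85d93cb6ea759a01165144e4b09982a45d2d7dde8f10f4c8573b8d10db8c02b6a57d44a0c223625632855806e2215d2230418580d705a8490593b23846c9e13d280430b120732f4b6ae4c894b5ca365eb4fa9be11daebb354e8a472a3e4789283012964643cbe84c4988e93f27d44ce2147ca6590854d49f0288a7dc2d5e6d47f13aae84562bc2eaf651ac228ecc828111a10106434195f8be8fd9fc5febf2fe5fbebcd7ef4307e85d1cc55cd0ec1d1ba3738eb1cfbc77968ad12e3983ec1d84a5f0a0c30d87757f0af28960551a0610e30b350ae04e6fd581b2ac296d5287c03401c3fbf31b834a2c4510e8059fa890755858dc9b661aebc478b40020d4589451b0342c29c10caba2be6e14381e98287b10044ac31024510b702d6567eea61cbf2b01995fa123126a34488bc16b148e3e41cc6210448881a60180c88a1fe0400c0a318a06c020c8148299125df8dc626100bf5f085eb56e4385143770db59c08808af177c87455aee0c73b6d09dbb4ec18efed8067058000580041580585433e0d9692f477e9656781704c8f9569e1568ad4f51e5616c70f39ebbd57a1e7611d69ae4fa9f8c421485920f0b63f54592442760ca1d823879a62d82819e12c128243681a80e6eb010078ea0210fc31c428810982f972301014c7c348825d6a90d000c0aa04c0481f18c21b7287d75815c59859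
def cC11 : ℕ := nat_lit 0x378b0f747b9f7ae12c52e89bf8dbc38c19d3ee8de589b0ca664ea9dcc7e5fcb78d313b10c6d2cabe6d893b1065543d56eba8f9af01dabb83ad8c47ca82815ed772e7f45811500aed4381cd027ba5a80ed383c97b9945eb9597ea6256003cbc8214aa042c1176902a924c2573438bf0c61dc63858d2d86b08edb4eebb48367624d5043590a5b913983a4aba45930d45695a40d8a44a69688b5714530a72a4eb875f90fb493bd095794275b6845974296b4af601b8648333e4c9d44fca291e90c69988c07ce3648a5bd962d6d26f158dc0a0728a8adbf1a88dca4ba5ad96fd69822b272ecdc98f56a8f670a02b45df385542552c6e096cba58b15a5922dfb09e28c66a69d3632b07b6e7c6dec778e351dded4d79991b27c5777f77e3cdbbb99d23a8000dd4023b2c3f87b526eb698ca372ea576fa898c382c7bbc0d25e07069a0e1c33a866d722532b1c70a1bd3c3108b73a172b32cd8d033033cce8ce2ce67a75197b4f3aa5810195cabf483645239272894148fbcb8baf3b246417898be10c558c1d830585c5e931c5284d108c9aad4a995e2b42a90715d18c2d2ea9821496e320a8cf9338ce6d5ed8b321dcd66cd334578d4e7ec8905150013e62a394eee0d66a231f73b5acd0e97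e29c4b78c7832067f71287238cd52a53934d11a9196f6ffd98cf12c6078e78eb99a5f06a41b81f22ecc46c774a052a0e5a819369fc6fab5b34b02313851ced94df42f3e1e1789154c5691ae61de6e94e43b1df3d16785e95b2a38f2d76c23690ea188f54b4e7bdef25c8a9e5c5939e1c601134c68dc9704ce545b6989562064f0503969ae598385de2667a8ccc16bb0c05b641cbac67e04b64abd7d4e821813904b0117d822ab1f45f81184dcf4d1b6224e0f7d0705254ababd8094125ee0479343a5b3aaa216402f115f2d3473e74c9222d7a76232b3100563af4ab976e7942e13c909d9283b272584b0ac82edcabd5ce8b0ad6359ee546a2d2c104534bfaf9cfc8d1141fb2899bcaad38ac0becf8d9e08e476bf2f314f986b8e509846464caff17722ad02788c5a260627d5b296d2e2a20bca4469c6ec9eb5cc223f49136f49a8e08564539ad53e0b816e415d2aa275ed16a93b6acb5804ce144e5490a9fb5692c2531c3e02be588477a81cab99295376bd292449366cea9aa87e4c2c9fbd678b1fcacbd06ee37d9b62935adc5126359ae319b1b9e47355d190e0bd2d70a286a2ea1c90badc2aac989a5e4212d08b291b322b2a0215d968529925a48883320a90b34ca3558454779060685ba81b481a9b9d746bb0c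9b53763432084943b13f8c3b5081f4c8e14923412610160175b6b220812c6f6a21f816c363ca7cc0a37a3da79c186a83b2e4ad776ee62e613f742e4ae811575e5415394653db8b983b0f21b6b96784b2dd036f77075e5c5264fc2af29871b2a409374d187630a1f8cdcd0319f62c435c2760088b074249fe88d20a38ce7be211c231fa8911d4255f50f51202012940554efc4168f3a282cc162c22eefe01a0b74327ac050c525e9673229f42a40c9ea9403030401a1b252a5d38295756b42af41e56369d81d77ab306dd69f860f9258481275e77f63c17c2fa79910da767881d8ddd776065e080b796025ba624dd38e5d2e25de7bb9a0c19d8ca4dce9e8736a61a5420689072a917d726a72aeaaaad0a3c2a18203ca2ed1aa602e7b32428cc1f851c0b4dddb8f9749cc2945b1728fb2c25c7113a95560161080d83006e0ea5a30e85934ab43d360721a712fc9141a90706e28c1b0971a874edf1b9b847d82f9c4b74b3c209babe8019c061b00ee645204568e18484b97210259d0b40128cfafb8c01437e839dc40cb7f8315bc10d700205fcbea32196b21656ca86ce1ac5961592de4c5aed5965e3566c792131c87d21d08615bc398d08c8b41e6f734edcde86f21d30c4ba69dde93877fbaaee13678a4aa9a4439b05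a75ad2f9cd4e678174d728bf5bc7e9c11ce8c6d0a8fb3a84d42a7db49bec289f70b1bcc300b956f414bacaa7de2dcb92503f66791598c45a5e1ff49d19f253ca6a57e16350e83407f290dd28eb355fc044a2f904183e58a0ae7e5bbd854925023ada64f02936863e111e3eb3a7542aea0b56e6e403f8f67d6e207feaab8d33323eca7b157095b925378e89ab9a79d585e63d473c4de6526d71d300c5b847159725b164d82088f31810277a72f6c389b04e684381401e61a4d4dc54437194897ba11b23cdaf70354825ea9445db4e0e95fb90acd13bb3ad342dcab549b185ccd99cdb1ed05bd515ab57dd315afb56183b3b8b4e4d44531913e23cc302a081b10d70c0c774de8c989b2eb105a078ae2be86c46f62cda4ee0926b2e69985ec18f014fa45717cdf4ed1aa1f9129ef1e319843c408786ceb7da27a1a5def864a0eda9ebe77cf79f58ab196274fec7c5d9fd1929ac508951686c0bfbe31b0ab50d5a860cfa9db9d81564b3c05bcd58fed30da371672cbb449af87f3867bc1b5b3b9c1a2a14e71ab1d124abc5a677517ac524f3f871a8241f82c05af9df66b44f8ab9787f279418b7ca972b497058090768b1b54c1b818cb9332728a58930e91cd41ac04d32a6670523543c4b6420cb35f00c54a323c90ca2c1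a86159ab50e112004c353dfd0357ec065f90105a0db2303825b4dbeb8bab1a26d5c7dc329c8fa4b51b5d4a4e036d7a3e4acc53fce31425419e2d8dca0d614d76b589d07c7ab2e5af8111801bb04a1c5720cb37aace1317f19aad83ac2ca8838b905bbdf22bf9d4aedf02b73e532e603a280674e4684967e7b1438455c279142ccadecc4a7458f18736ceb2a053281d89cdc749eaab607a1a4dfb08524c114c86b3803f03e9a27b6724d906753ac09e7adb1a410c638ce0bb26e82e7231b9b271482cb367287d7f4d4b596c07ad29a2886878d0159088d378f037da2b436c0419fd86f7ad03a221a354a7b56d1326f00c07a4a6a50aa1f80f97d1ae91187c11f6ff67c4e2ccfcc589e3b282f4728b97f45be240e02150d964001dd8ed194a054885f113b5b99249cf3c46a7a492045443601ba2a32e24b019ee093899029e933c4094cc7302e9af1e8720b87c1545560b47cd1c074829a2f1ad298ac8251d8d68339be5ee34b496bd1f19da7b8560ca0109ca5b1d2a30986b8d09f933f188ff9fa3ef1defddfe3f680109eab973442cce8d4725833cea73ee552898988f005e4513d110ae50c766d1d67361e0847f208328f52382696409d45c2591959ba1845ccd5a32436ab32c91ae34b08f0b29c894b3fcfd38d0a6ad65754ca0d4d8dc16aa005c1199c79c74b9a42b224d2fda8b31054b009da3b4a0ffe50d486bed75b0be1150278e68fa0f62f1f4be557c0fc585b7b6b54e91521a3ea1b58246594e2c0eec06dc67dd73d370e75923814506ef3626aed65af1b819d758f75d519b696d39b96217a20086e623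
def cC12 : ℕ := nat_lit 0x2d3aa59c74dd68903ca318bb2cf3aa7d9d59d4758ebdd717510a320488f92f63dc5988f3ce314bc9fd10c24c7a9771623e02c8a42f83e972af15e8771781b437ebd4268c33da7cc5e1eb16a7a8359ef3e22f8f81f216c130f60c41462d07e06a1ec5e05e9e90d82ecf71f41307a02e10016431cbd0fb3cc2542b8e71023a0230210860701284727251094967279a2af968cb63a3b38c88cdfa1af69662384908816a9265b24b92b0f60c8400342ca4687f8842d39cb44e70d0e9cc7483308b725b5dcc9ef7927d5d16ec3aca292a0fc0a0b5e54caf9072ce3fcb790f2265cca65a0188402765187323fb65795155b664e88adee55cad90b2d640cb10a90ba7b4e270a1ad988831622fcd86b11522eb7894e20c780f4124604831052fa950558aa4ae338e60cd3970e6d34669b68d2d146492b1fe2444693e70e42c2e90c428820f31de220438cf1a03b8788ed1e42b4bf05815e94d2888b158958340494aa2a4372524a1a349d0440837bb4291b0849e0895e898d3bb2566666f3ca48cac98302e0ac4481f68230a268bd3659a359b490d3324c895332662e683a26e7352c6b4b18e4d412951168dc4576ef3a322cf084b04d662199c99222ac999e792f45db03ace5cfd32170ee4d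c6a4e6e1876e3dd36d186526dda6dcd896f1282861fc756386ad35a77b3c656d1197b45698d259d33e69ad199834867a2dc5d0c217ea15dbbc87a4911e3bb5770c358a310608f19e6bbe760ed9dcb0860af3de4a189b5301403112fe600ab90b2ac9ad34560591472ae55da7852533d3daaf10ce0a253b69b1762d25f2b5e8d1e2a974bc3ba62834fb1f8bfb7f8fb9f2c1ca774faac55ba7e5704ca6d4d427d3314a2a699531d2ea954c296c6929d0b66a2e84733c64da5f8592626ac5b881028a6d5e4c9535cc3a5738e31c83193487d5849a334c874d89a5532e451eb9f74478171b92478e09c23f07db06dfd3a998999585477ccee994b1dfb6778a935bcb2b799d9a41474ee9d8dbe64cf39e05b777e890de1a8538f59423dcc375aeeb6346d365a90d2967eca9af34365adb5b033165cd56e75d049979ee6cfb6c8df6efd6a776909e0bb2778d01a7b47696d05ceba8732e2dd0b5f652d69b95e04de93ee7dc3c5e8d970317344c598d302c26f6de23d5a4b716da522cfa1f30ba1bcfe9d2f0b7a0e2761913807101f48ce8852983f08a9561cb6983b13c2cc6dba3424dd1e9f224b9f10763abd16d8e91a71586b6dbdae3674c056e962d4567871e9e18b8cd9aecb79c6b75f18adfa4170911e36b80b86dae32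53aa84ddaa0712df97137f7147e12c6157a9851e65dcaace6b1bd1f3aee518330353ea4f0f3737baf2f1cdd24bc9fd0e38572b842955234818f9e53da73ce9eddb8662496610c1e83f0823b5409fd51cc7964326586eea5db7571165b71bb6da94bb18bbd4794d38f706f417d2ed364bccd9af25b0b64f2543a893f4501902be650b119231c58ea2d0059350a7fd462c06344519153c8faa0c797c2f89f1bd85a0f7a1bcdc93d0a0dd3e050f37a4e4478cb5fe3a406add39abac4586d0a6b6d80afb5d8db49d6aedee5ece59c75d0eccbb97f3aab8d7bb035cabe3339db2f274d73dcdb9778ee7dd3bd27e4b484d3da8c47236b41e58a3ba1109e5ad1738910a59d19b5c9c217c3eb554128551581076ad4d1696512e27c8bb570921850180f4093d48c89913a6129b78524230630b7f98da847d8712b6085a78dd67e67473cd303a6bda38d91890d4c36716793cccd961344e3c6d8df2baea63378765e651a1594a0963b759731c6c5d8f96e716c758897162ac85929a11f25b4ba9a7632c3d9447163594363bc6cc8fe5d5768cda66589b2332e67a28b2734a57b39c8f39d5d2bd549236d62ad212420e50748fd2868a40c94928915d7990108eb457842d20ebd1ce39b3e688d709030f6b7d77879280c318929e54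8c418b2a3016a7a205a677b636cb805003666c95debba02551452540515285ceb9b6698aa0b1362b4a58b9674581844f9209ff3ffa9c430c3c685ef540fdbdfdd9bcd495b9822d4df7d5f6a37206ca8d41c14c290da40c8299201b030c950601d04082c399d08ce9f86e19803e069901990aa36d4721332c1500cb2332e07a29450876f9e29cdf6f902685a7281b3d642487874b342506551eaa5621a00243045c8ec7ae886c14dd38cd492e569864ac872adbc78e05b0dea4ee48c8ac92cdca631db969571ee9c552ac54dcfcd61ab34d69951ba635211ac6ba490ce0a28130472611449c477eafbe26bfd7d2fedf39556a2d0cc78f060c348ae39e40c83d7e46f2fa7642bc98f9a84d037413ae93b3b48729930e1a1c42082b0e11bc360698dd62b92575b2c34f762aa4e28b3919432f80f087a87431928d96dc56cc7ac3cde8665502e10899f06eb0c4b2b956caf84b84b180afc138380720441203d0780436c3355a36b534c4a319baa896a8d85ae35deb9d79aa761eb5d81afb566a6db7a7f77bfd21d530dbd069e8bd886ecaaa6e39dec8e87f6bf75ee8de4722e5ab448ec3185e21c3ec752d1d26baa0da539bc258eaaa985d8e2250ace18a2f66e55c13c2f15d1ec880300e869b035a6b8d789e11c35868ce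044f43e86513a2128daa28c420678ce82206a1bd562b0546a9c46bf682efd1f43f8832fcdf51f75f8b91802fd5aac04e02dc49496f15566acf80713ecfdbfa876ceaeda9bb7721112de5c89e91d2e65b89c67ecbba0339e52d21a133bc187e4fd60b3eb7ee1d84dd3a8d45683ac70acb58c3c87aa66bf97daea5ff4ae8e94c28f4d2ad14829793b30e92b364b49f92e2824f8b8e8fc9f7c74996d26e0f8168e01283507202e074500a1127cf998348d9c25843c92e824ec35c1f8301be408b8683bd99da448fe22e4593a83b1437a4ba68124c78ceead6ac98398fb1e48b8a71460d48c47871ea4cea46000eb1d41b3b706d2dbdabf6ae2cc1980f02e2dc1781b02288cc566736e9ad399353e9312028cd1813423e8bd162b1554b0162a2e2446a86a93245a144d4e07c1188b100150060140a6e2d45bbb6d6b4d8961145207b07aeb56ec1d5561544a12b0dadf5feb2dbba8f69addbfe923015fbc4b892fb00902c0200bed0d66ba489bf9a6c6b0010042ba26a9cea74128374f133dad8af70ef0db86acca806bf8fa4df60ac13b5f71e74c5c8cb4de79b3597e45496cf6550aaa1fa92578acb1c56a0be478703357d403eabd7bac124df90168514800a01a0981180f01c17827ea5001bd768e00d3a8c555aa6584b04690500ba13b62eb6410a46fc00cd29a6735df0d2f7aef7e502424d9001ff2284bd01a0441e0d8cde78cd99eb289200e44c09a82c0540ac14e5e40a18b4aa010c26734c2b755ea895c696578ab952abb14a29c660c9026a2d011fe0c017c318480ce190540a60da2306509c1962747e85b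
def cC13 : ℕ := nat_lit 0x36c6f4dd5bcb7462dddf79ef18061b9bcf74ef1dce01c6dc5f8bb192c5d8f8cd8f31de2bd3f0de07ef5867622c7414994cd26033296cce2a6d27d137a11cd4ad0da168e5b1a637b2a059a9fb9369de73a377bb3bd32cfb4f33dd4397533a624c399b2e67f599a7f6c29ae74c5da9b13623c7178af3637db78b11ae80bd31aeaf4974ef576ade8bac48a6a8d59aa49d644e5ed29a0765a1e8d3b1f6365fcc57ab4569ca679fb5be00d6b5133ce02d734f69f6a8d7982125567cdf9bb36e0b5bb452899172301c087d10819a0ea7528d09a32b0dbf881275aba8793709527c9993993e3b1e4ca58175f40d9c21d8ac95e28f25139521ba913a264307cd796f26dedbb3dd93ea3d41612c2e34c6761ac1e2fc61a9f7869edb98a715628c4fa9400001d4988310e22c3ec5f08e146fedfb0ae0f342e970ce1c69aea70eb4cc313fea15efcd94be97672bdb4e72759ca6d9e2a0e7ca7466c1a99d06c67c1b81234004ccf19c0454d2f8d47c19aeb03ec2ab9a0b4decaddda871f63dddba8992b20bbf77991b243fc61e2dcf01fd39a27e434d311e848ff2dc43444c0b3848b20490e2d86d4c5a059e30b672926cb90be851234db0a4a7a308ad38a211682a743f626aa95c4bc981c78e64d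49b1382c42289b93e2c058c9eca1a2d4663f604493b03561c88225c8a94b8b22826c9cb7dc1b550699adc2716c4ed632b8cb1ae36c631c8e2194326640c7cb49673666d09f2924a895c4337129a52c902ae4a49407580e70cb895cce14c2a854f441a4f2ea1f8d5a674b5ebd2b1a34852ba93414a596d8a5a3f48d65ac998766c884e9b22abc8abe1516a367ad6983700ec1d579d73b6b6d7b7ff03537a7180f54df2cffae361d66c158269652dab055116e60d98538b5a883fe623221164d0455246c5d76b72cf0a02c967d3ce6acd24b096e64b64558a6a226ed6f6e894628adaeab14c2aa8d9bd25bc1dab75f9618a139093b26c7450c4c89b6d2806e1dd840480c9f9502a2500a110c45575ae0cfa6cb6db258792904d099a709175e6bd0772b04e89ca159a71961b4d0427acb57a0651db4d48cc898e851046b1d610ca2e6d15132fa5ea1240facf57594b21b3cc757caf6648c89202436bd3d43d9069ad3711a2335cab891d23c446d027b88326b2d653caf27b2a47fd309f61f6468e09ce1d5708f49f8809229b752346d4c82a4704221995698e22260931675109fc8f723e3cac64319463a9c6b576091c49341d0e4cb46cd3557f43d5a58fb7e696e24170d630998dc874771cc1bb2df5191865c36dd1798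92e954cb7cfbbab90920e412d2de4b3261ba499520481ae96d64fe5b23f256562662372463720adb53463120cdaf308b9e40b7c8eae118a45c892dd25f2d488f2b1134c4448550680922ac5d06616e128350b216616643ed4466616cb999db265f26663b98972e4a3fad6b8173af70a01446a8d25dcb4c1e03d0720e17eae95d47dc3f07d10215d72af53b8bc0c19843da7c0fa1f12e18fcc017f54aa8957a642caab989bd76c6d01e93a17b8f35b3b3e632f658ab476e6e65eb397530ef19731b3c2e19afb88686c454e2866c2e31aebca526a0d9e30d34aed5db30f642e8d95b740101500601703407b09382652c8b0b1a4764ca1ec2e26b8cd92c9d2436ce9e723d7988f9b01a2528cc1af2db68c909873be624975a43c4614f199fab3696ea0d4305c3786a2d15a2634062514a27742d833b079e8f14b25853cb8d501f5a0c6da79ada7aa706719b77b668ddfb9578ae45deb9f60869d35071cb26f18110231a6f584072606c6309e10706a5d8d3897a0e3d8a295786c594fbda70af5183bb9532e6946ece520e794eed2515b4149392612f258829b762a69d3ba2c733e2f0ddcbbae99d9de063e9198eab5790d25e9b4ec3cd09e8b457bae2de132d768e35dc247616e1d97b5167add5c035b69ed54228bd1881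05fc8fa1f27355f8d480817df810a19432c823ee0c2ffce72be128fddfc0a180a189f88406dce822bc0624a63335d1a720da0e79d05883d87aac37fc35d422ca01207c85a0034cb4164a768cf1e0132d75a8038078235f2bb046a534a22e437a524a02e18e2b47088703182e7c2f78178ee0c8330768f21e2325f182d060f892236d682dbd9abc1658ca99dbcb694dc5a2393776cc664b3751f32d9ca8c516cce5fd24cb0f00f02d1774450882670f523a4b21a9412b68a9e3d2eb234754b925914dd4dc4632a6dda4e954d66e9d1f5010f2233e090508e24480850811c540aa00969ceb700580ac1482a578ae15dab7caa9b0b38782499c6cdd1d618c7922aa143ae3a26c45810e59cc3722bf0bb64c7126540b4ea3482716537db88ab0ae94dca25d39f492282ba56c9e42a84d4323ed63ac1a2121ab27369f24247742e6e66a4c699f2f02d05c0b71bec6c348c70e2c94c5977332e225e9dd3be792cca4776cfec7c2887e0fc9fa7ec065b63e92f85edf43ea2ee5e1f58c3038084360be04a130146504f0789e3a853ac180223ef144268a09bb36277c2a816016e722f2d85b2bb57d08b1521b856598b591d2c5581ad572db309520a261a93563b09c50b5736c8daae3106138274eb8a509019c5390820642483b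816b4b2ddbba46c4e530bdf7bf57d6fe5f4bfd6320846081d1b6c3d80aff2ca58d7eafb2d5a9adeb8b0b22a522bb5162093ec7da340443e57c821c679f33e40c8199ee3de0d018c5386365ab4be78a373eaa5c7a4b09e25db449b125efd17b4569e7e5a347792113d6844cdf324cd7adf43a81d2ab6765675cecb7349a86d04aaade2bbcdfc8f422839fb9ed3a4eccea9db692d0a256ef35a6ada8b4b6a6d54de9ba8ddbddadb5c8ae88d12aeb5dab756d9f37016fa4bb7923257cb087f28e524868772a253e67cd14828f28284908a51281ccb722e74e859abd0d51ac3526d0dfaf1356d5246900ba175c7e8b4122bf17d893162b596a827022aa153824020ab1548a31901ac5d8c51482d8268af0d23004b85815c25860eebdca3686c83a5a417a00af8077000271822fa230542aa5e4bcd530eb1202f0742ff3d82c06e8e21247a1800c61d30755d2b6836398430fc82f0607b8c21c837c329c983d084e58cd35a1ccd80e71d876d74518af013cd91b39e876a7a9be1c2378e02eb1f02fc7d8c710a1755e8ce39969ae69812fc2d447c850960fdf9843084fd5fa04608e9fe7024c9b192ab606d14cd41ac6665727283a1e91d506471c2035d07056aab562b99779de5ec3584721041e8460b0e07e40f8eabae0a414e0140313c344729e610706a0f9af0f61f1809dd1001fd7f2e4104159fe3fd1a6361fdbfabf37eefe9762f25e8baaa355aac1522574ac9512a9e51e8b14f38f05817ccf501d59cea8101eb030eacfb01b7587500a015bed7e0798ef582b08053ad3a603567bafdcdbb00180400a00b12625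
def cC14 : ℕ := nat_lit 0x4c08ace7ba1fadc99734f8f05e63ef70e138b41ca05d20211d276aee24c2d4b81b2123a4b97e8b1a9ba297a0d2020d2e086e950983611742a3c0c0bc544a69ac28b42abf8bad5ef2a979310908ad130dd342173599bc0d2b6fcceb0b750f95f69fa6d1856e2c3993a25c04100a2d6f68c2aed65c439a4be43d2e913870434e803dc7542f6d910107294048d0acb6544b6b6aa8b8a2a6bdbb4e4034db8ca6139641cd9fe8988c31a54ab9db7d9e72dae14923dd8341e7a13e3893f9d84349c546121e7f9b88fd84a96c043cea32293009109446b5fb63119034b9600f379ee0e01adc35836c574e6ca610b5465179500f6da65b02b3639c4320d4b4eae3402983a30a5f71c2d2cb2e5f1cb1503789b4402e2c04000e74fe0cea5a206ec59cb23c1a66e761cb258f3b24aea2b19e9f5cdb1eb6a3362d451190e574306640c664bf1c94cc65d292fe7cd7847898e179a7979c323b4ebecbde53e7a90a68f8b5f205431586669b9bc645bfa79a0cece0b13152b65a0d4deaca44dad6ed175aa6b55336df5a629995f01bd9dc791dd3bc24347eac0af26743bb3712e63b30511b579b79e6e288836c69df6b6764d6a01741fb73bad53b15cb6edb083383ae6a88621e2f4c522fb6c9623be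762afc2c26c606ed6c171a309116ef8947f10982932481d9f6ba91a7c1e34168edaa607682cc01da723edbb1f8b2739906a1b304b2301641181d38f135d0dda6c62e2aaa9ccd331111be13215dd5415325454f41681669bf43ad9c45ab946d76706c5a04b972c2297198f0d7f2e1cc3a406cdd4cae188588123628ebb6670c61152e49633d0c1cc4cd9a904bb530a080e5c5394158409f8a010133dec314502f18e8b1c0d40b2b48c72ef20b0f3f1898e2d284288b247dbb7c7ac176863691b763f47d48f02eb6a6379b0c5340c98d573e9113a4a951677345a4cbd2c495e7752bdd01e453a85e9633f0cf8524988c345b900638aa698fccd9f95d0d7c4a12cae8cb2d862f58b1598c1834f27c21d91d90a6812584496606164c6d88d3021704d58c108ead7aa464dcca5757c9486393913f9495fcacfbfdb2e8e0902293eec6eca5abbd0b101a18f3a85705681aafb5a984ab6f44bab07a415bc150d70f0cd680e9041e809805bd43390e516b3ad40c6474170649f0515417597556d9852f6fa8e430ec090fee030617e5488e25ac76148e987ccadb3362be1822f485a9f5ba0239bde21c6ed4668e5d5b0d0b0586c7d21f9359345618381fa07b997049c67b08f060c9d30b798c73a500704f58d0a5351526679abb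374bb9aad62641820eb20978c6cd0c1827243090413bbf2a174a63c8a598e4b9acd35a047da4d892486ee80d3136d35cc7002aa1ef587588234ed757dccf4de659598fe018d4ea82ab58ddb9ad214f531c117aa1458bc28f7ff8f5e016fde631b3baaa9c911243b313a4da1e708b25f08e93b7e6501bd208cc2a64b4280730920985eef51882564a6f079f096c11449ecb843953b10e36470cf10ca82a3dd476b7aaad04df27861ed136b07c3930625e02568f0cdf07445716ba6c680b8f5ba590dd9a981ec30599a512e0db4a2493f381ae78244d6a9a2f1146c3ab518c8dc24a4a1ad2e73df7b1f5ca81422425962681f18ee93197c5da9a6a2fa8a7a24272443b54f7a3603b89140cb4518b998c9e36d55998eb1d6061b2ca7790e1007fa41b30a05aa519758d70aa25a5f136e5ad29de5a607b09d0d72830e35c4d2ee538d3e6704d556eb7c08442958ef00a34cd25178afbc3b00c7325510a7f3dc82adad7c00939da19ae53e9e8279cae3769c100a900d4fba8195241925e4d43893565866232c8e397ca0993ded59cab12124c059a634e6e538b03c5bb16dc8c46b70b60da85e2be6f59046e0a00eafc501ad0d18e065c34a6a34928eec5ff2c3adc6bcd344fd3aca9d2af51599f687c74db0f951b1560faec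9b951a08c2ad1406895cc415880f6f3af07c90e3d51e8f2d841ecd4f601e11a2af6f69665a10cd2d9c1956751b9aa1a3f30debad40c2066f7c9cc92ae8a2bb3a9cd3e8701f9602ec0242da78529e84482fe6c1d4bfad5b3accb1e717597ebf3be0a3086978539ba830e52993fe8543a612daab764f92995048e092f91f473893bdcced26f3441373c4664f64084c08f4acb778ad78a1177c9b1cf13b199748b93a9edb378ad7d6a0727348b004faceb073960f6172d5a2543d16ab1f659694216df44207cea1012084d763c86b4a9aef2302fb507706ed7ba0e442a0409b63cc96b2d6a4812e78a6d4378018688229746aab708b9fd8813014b664956dd95d2b644522ffb9962eadb77291dc2b124aa389de5aaf5245d85b359a14915b84f00ba3da4aae218392e932336277ab42c1fb9bc0ec87452262baf12b1b04124002e34e5e02353e899bdd1f708b5dbf27fb18cd1733d27611f5b306eb2b48b2139e7668f42a36a5d8fec01da8776653ae00a072afd2e87b6e842ec7a076daee13d3210fb3e6a31b7947150aac3c33a8d9b9d5f07936bfb97b55a6b27a24c488f62a486acde3221f6c82876cabcc010305340f8383fe2993216f7e02e1c3bbf2254d0f76c30aebfa9e7bc4aa3b3c9bbd5a0c6c8da71b78bea9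3c899b5288b879431604007914cf43c877be86de7d3ebc6b05b73062c962782f2d1a0d1f3143ef0f40eb53aa0235b58414edd3eff1e652968d009c0339a987bdbed53466da8cf38c5de84dc740a4736c74ce2c742ca6995fc6ac2ca9a916a74dfef9b3c97e23e41c667a6095150b6544021e403c93538d2a9fe6e00b5664964a1949ce19d3f782a489dfceb746b3290c2b4b751270bb2fd8c790754650c1781b8dcb34dc4805ed5257c14e8d133ec907f56467c92d5d5849da623bdbe4d39ad0fd6ca99599471d132f0ede506276695aeeabdc388fa2bf9eaaba74a578b11d6e6a4ea196762ca100911817010b407a08a8b1f5ff6cac3c3addf591ac65970bb21e3c4c5c83a5f9d2a1b824779593a1534da1a315a715c890bead97898622752a6fd9d89dc729c633d248b97a4cc6dc71f578926325f755f4c3f4aaae986f8a91eb8805897040318b4dc24b9c3f127bf20030c073665d64f82a44a3c691bf41ed701cb49814b44d5a99a691ed1d9331811f2566ad1a0eac2ea537388dde23b449ca0a85274d96707b651a032a8af002b35bdf493b423c04a5d8ace6c1dc573a117554acfd22dbe36d2a9692ec3bfa898f89c8eb59c30eae3943d6421784fc0db16c2ecad9548c20eb1230c992c40f4be2fc288e1d20503a1e57cc8ca0898d8b1aba2a742e57bb399dcb1b90c22582bd5d9e0e3704e188e52cb6b7110210ec55c7af2506a0648c52c348d8e36e832d0da24a3b816fd8309248350b654cc0eeeb4ae9c3f9e04315bbce08a270ecac08009acf06b86459f6d1d57662534f2510eb74413368e701c3e2e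
def cC15 : ℕ := nat_lit 0x1fa4be81e39449bf01e68f6d258ab744435def212a655b64fabafab11d83dd6a6aa8f0ccd2ae34e4b03150619559f76928ac0608207f7b11948298d3030f0ee3d882a40a4b7888cf39ae9ab6d4f442f24d75f618e76793a325ab1a9402bdbed223b75995fb3d016f79dc42031228b6fdfa3c84f59fa8430780985d7f1730ecb68c5da78dd4ac41dc6d7d00ca841e27dcb6a44ee1288b805ad38476687a1523ea1d63dcd01dd831e58c9526e301a81aa7ca1c5dde69f72108ccab734d322510af19e129d84f5dc5825b87d51dc081f5748523a540b6f7a0783a6bb520f60820d06528f111466daa94789e326d6569830bac13ef81a7945b7696a989ec1ba0944090fa5c69c198ee864cb8ababa3222f09d9d80019496c50c7841798d51b4aacf33e64f59e3c0be03677c2a6ab710949e8d5412f69c9fcfe45cab126db54f91a9e03d58e2519dd44eb21b781348fbb398d169c748331ef796804bb6a219be759ac1ce99b2c247c2bbd05aa43d72d3885a8d4676d602fbb2fe340a6a36b036b73766be1a9e9a9fa1c9d871437b0e4b6b2c9db44a147ba242dc82c67caecb77832806968ae2ee1dd483a3348d4197765245fa487badde8448c7ab0bc324083d8b74edbef0a52ca5adc577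ea1dbec7f771df8727a4f65a83ddb319e08133450e44b5c00abfa9d3475e51c84a6c1b207574ce60e5a0980d6848591eacf359aecca0fb6e8b5b36aae614050d85350198874cf592684ef776ea9b737c95cc3e8c8dbbc727c0e9ae4fe507478f283d143638133e23289206996688dc633318c75861e8b2f0dfdbdc17424b3dcf97bc521e0970ad7c19868706f4f023e4c0316afbb9a6ac77d058d971ab84d5ecb2cf7c465a597c6056a7c09f5014883a0c052880342e650d09a7446674af5b67f413cc53babf32566a76f05ab76d7422e6c2ab5860ab35d7903d2c38f686bace463e9f3373d6ea654c5ccff9bb57864984665b55956acfac85e718aa021f201046f434c25a957d2e88484975a119a5c0b2a59ac1e3697b8c8559e67b8e9572687d69e755b43151c4a0a3aba5255ad2ef57684a7d6cd226716e3ef51215b5b82e54da2bf8d4eb916a5ca2f77d5a5299153d0a49becead5acba0cbdc303635be17d342a76ec027493b015928539890552a64472d453c54e2b33187a5311cbf19fa08ca2b42a4b274d62660ec67cdd39981210e71b322bb606fb1308474768e18e7c2bbb0f8817466c48330451d3348c4301544ce6e551cb944d0a92b1a2571bf1cda5e2ead08feb5ad79d00cf0c5854809071bd3aabce8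93830ff0a53b618056f20ecd5286a1bac407736ddb40a452d9215e3091c798f78519ca3d310e9b4a9614e7e6c5c58028b0b26473656455336c7f31d542dd2a5df70b8804ea15b270b787682e9c3d9f61af6c6293865ab859b538a963fb4838814a5b9c6a345c2b09a172a226c16a868c5f8fc253826c45c19823b0b0264ec44424eb788c41d22d2c48563198e6e0a7533124a37a714df81d814cfa46de6400ae1086cc23aa0116cd6ec3735b31682041a2b71fa592c57df0168b9816ea68cd81551db12d49d7e6b9753124110e0ae09036203d41c22a6383b6d9cc5e25a0bf98966dbfc7d0034977695c560b44baa30984d58458f3cb5d05498a6f11149c33a8120559ac19df0906850711e666861965c5a51746593e1ca6a100394477bb1ac716dde17d2c5000bc8758f379979df1b3f89eab02b5babf41c14fcf2de03a5ac7b05db23406b809208d9cb4b993cdbda39e4a4acb80f7be477510f1b9059e28d915d55163b26459c47850b6075dad98a51f0065fe862791c31cac7bcba00034cf1601ab73cbe5b439d51a55231be64660458e742c5dc94ee48ac28b53ffb116ff1034176490d0044f1f1862e5b5a0899f1464e947f58adc5ae2261719daf6a59240170d94f7ab732d3d96123020d8478a297174a51ef8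232db1c18ea155212d4c24bd8450ac03743650652e714a9087fbc21e40e4f3cf5ae4240eb795a29f50fd6cda955532692ad52b447379adde5fad81be298c82e39901ac9914dc6c80a6ee8171535e75a3a62048d3f3892192d9731c88a8b483de3e6ce8f888d300fc49d7ac6bb5042927276455032bc088b737833d9d026e55d6e18868a6d281d3fdb06e55863c4a19906b8963519d51e140829542b2bb3d4d15f6480785d7d62126e6e01392f31bc56ef70d49a72e75273b8e44848944b726a36306913cad57c8ecbcc8da28f64515a7382c8d05aa3087326374d3ef534eedb5c3221e454a2117a4a8d0f8b1824d294b16a4121c3a29c291c41a58a376591a65ecd3af9feee5ccc8173a6ccb25b70b7a3863ec05278992ef9647005ec92a2b63526c38567302f91b19f9e0828b935d52fe283996c10f38505374e51c49a04085575272e4e9f7210094e980112b2b26f8a264458d183dc05521f72985d81255e540fcccb28f74a7a52bdd762e3e10dbf7ac5d24e62f5951441d10cebbd03d6d5797b976d04b28959746ed288e18fb07c22b7fcff206b671366aade90b01f1de993fea8b40587c68ac706491672dae94e6f3798e1700021ad5d1082204c514cee13133570cfdeae89423721ac261cdc60e43c1356ca10b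9eb84c35b6ed56333ee2cce224c5d4a454e9ea827070cdc14af6aacd18c35bc071e7273810d6d4daf54de19ebf7b416e4a4b49d1122c065f587834d4b389276bf604155207ea58a2741152f178bc820ca81cb2541a8d9bd56cc4cb91c3e25db32f6afa816bb4230ebce031af6125f4d46c020f8737f72287ce4869c4b2fcddb074b191824262622968bec26ca44195364179c0f43db88944036c659a58c408c6c00870026ebc807731fd4f01366c95465d54274c928c954c74a1b2171382827248905a61d4d67d830592a64c3d38376d0694d3cbc34d5b11f906ece066270e09aaa51b3214ea0b843856748e0b6872a8d78df8370bac5f858cc49ab02d5cb55738490140d826075534c582c773bd6058439f2b181838cabe0e73c6c91f33b59589a425e40854c5973e90c3677b0b3fc054d0e8a613977038d13f30d511aa45a5916371fae03594aedc81a437e5623eee8ad65985ea226452e517b075f478060633738716af21d723264e5393a786486a39ab4cee6b9ef54afa35f94f1122ef8734c42bd1e84a4fc809bd0215c47ce064f6a6cd266141bea72511b97fc84c8e62ccecab33887e162ad7f0fa5b7e537fcf1c31c70ca579f42af89ff841f1e41a406516becb4ca644309bd4e592d985ebae52e362b475692195bbf9501a0a6c24aa88201fb8ff8c6bef674e006d3590c53a8d2f5f4c154b1a6291403e40755e99658c5526e4f02426b6f4a73c3c892b524b1e698fd8ad26d52c05b696d4598cad8e9f22692f16b4dedcd4c617b614baf4d09b655e829e1a4f942c21b48956341088f9ac9cacd4859e2d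
def cC16 : ℕ := nat_lit 0x4c186d1e2d1fad6f5e65c90ec4fd10b825d0e5dd0929a3c6d58365952cc9bb5380db02a2fc96a2329b5b736481ebd259b892143f840ba0d9d7f8fc1029ba8528099e5ab161ff0a2b2eb11a09dcbd10193302433bd6730db18e928cc6250bcedf8882fc41e5b96281069b3f5b06640edac7b24541fb63cc980006ba366811cd659a6cbb323f8fd2401adbc5dd32776cde3993f4a398d497d8a426e9b8a99b7b2e82dc534decc765db7eee1f39d344082df8d4b6ece4a15dae51ae0ce28060a47f1f24849d42b95f39138f805b1226292f7e0c1aac390ba254c00aad2a5395a61c010ddc8c66c58b1a9b1cde76d6155d0911ac158b04464431d24407abe15965e2ee53aa49732859dc2d98c92a92cc2a144b06dccd6e62d734a90307b42e1c934e7c5c0887c5e729a52f6d6acd9f11e59176071b805c3fd9c25b47037120daed424db91e9c81db56bf813ed2650c94ce2bbcc466a801a5d8abee9003bdf43ee9e9068819ac35da920ed350c9040337c281ed5414098f98b4b755fd888221747c6a0659d70b71ac0f456a42f0643d4cfb66ba889d41b9f10affc4bbed19930a89d94aa6e29cd91288a839d2b24a80c027c39e096d468e0437596c890d0ada4148f13dc0b64d0035fa38a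a555b3450b1a11845889be07dfd3da54acf40cde8fac9fce221bb49d3eec2b39ed831e34fec06e0a8f1cf81e29000892efef76898e2ee8daa98d2c708e8e3f2bd4f09bea3cc460d6299b9dd516870b56a38bf5783502b4129104b742731a82210bf84f6166c3aaab5a421ab72bdc568425ac7592380ca39b36219c8af51b06b5d931f2a5e32a67c551804e106cd8ef40de14ea0bd7b54f45c30aa3cf37ff5f617d356536406d01a5aa31d8a4ec6b778dce5281088f08a5be4ac7503fba03b3a50c11e92d9560bdbee5713fea196f4d6f475abe9accb2990e15ba2c20471ecb1b41509dd86656c5c74690f87685e4297f3ba75f14c1673ec1beea54794883d2d16cf4c9d2df34f1a95525b72f2ee31ba45680dab12b0b768d0046a64ab4e8a31b88dc4767259570c6ade4645270c120d3f7b996470b551030d804de9e4cc376029c987796834c853e13eb6309ec5170b43d10d20ce92339647b289e93c04d1852d4aaf8c2db9630a681a15ae490f2af81b3ac910ece0b075ebdd6c54ff2ee2775d97133c6a98c5566040834c0fee56af767c7f2e6bf4c4f52c597348e895d8334250d14cef90556a2fc545785823e0b2b60d7e2b01f5d799d38178a3094921aa16bb33b2ae253b142408c1b83eaad643c2d89b90272ed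3f24da0f0deb283a226d8e99675c190607dabc723d6d990e7e299f85256d0102762224c2ba318d5d808c43448e76154e86ca692f9792352384b808561144d5f3d6b8be4c2c6561b7f6f6b1f4a37b7a0edb67c32140e629977d8c993726dc4edde0e24d2c3a894842dd3302d3e8cf787a82c0669d936d6554ad8b61767b53b5c21c848bf31d3bca4ee4c37f19f0d297d309aa5a6323c836c824003bd4e64c22dc792f4afca88b9146bc6861ab091d35a5ae6ff1cde44d91825e3e40aacecd1395325b8e76c5ed5622361109c35e1a19564f98ecb4f0c251db5faa462b5c73dc2e65f2b74bf4ee5473a703568139a83e675cd55222dd92629b9ce7997b0da25a542a2d3c486b57cbb71405734fa31a3a923728df02484830aae646e166990030f6b7308e1ab9ac8f95ea598c83332cd340169a0665d368aea239393e009c015d87067418b1cc254549f3ef804e042c8cc9af25272b4d13a7c649eed3be59520e0bc302ef786c19baa0cbfc48b412208de4871b42ac9a7b49cf52fade4214ea13a0a9c2f86490c36b8cef2e6b736d105a1d62d757bbec14de7169240a1442d4220cad67c4d3c40f1682b1b4688b335336116836b7c115d63cf08eee108400f4f097a94d6c78375ef834696f3294f4625261d2262ce2634a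90b55fa5d53428c1d8ec0b1880a165d0236c8ced86d7a3a0bac8c89174a82cd59a0f52e4795272664f4a5995f08a3b0619f5ff14577c215d71e7d6e8c34528cc3e4cf48e7e5295c652c8092cb25300cb1c6360b7517436dd0f5c33d6803972ac0244c0acb964d244a601ede7b84f0beaa453e2e59bc6486aed493c8da71689545248b43d4dce1e78a6587b401827593069c3351b434e6ba114b4725b19a260f1280c6c154c5e7a9529fb386065c02cafe6099486972d2e8789f20e4c500b970a1d455005449705444051697ce59719727d67f1c485548e50d757d594d12c111e58750356e07c98b0649b15f72902dc88d08face2697d18b1ded0117daadd7bcc364c788d4831e6d0c9a947d01b2c122389ead86d332ca11938e302ebc0fe18bd812eb664ce5c018206d3cdd23252d94b636430fd9ac2f04fcdfc4b1b46156ae02181a0da1213a104c8c25a0dc43488fd93bc46f8188528f037c15dd5099d7f8cee1ae7c6e52220a6cbf6c9661bdd87a07044ce6b74016432333b8ae6a9d4c094ce576679a643bc7d4ed84d77c6e2bdc0699464c75cb2f2d7e5690a68a29b2b79be1c50650f498b0f2c080d66e402f20f596edb6ea016c83f1d88ac21d90a1884dc467051621faa5195f8559b0cc4658407c54a01f2b0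374aaea10e763464487a40e2056dc14479872cc26e4c2bd19fcfb5bcde790ede989ce8b690c8ee9f14fe0baa7cdd66e47605924e3f181916b847eaf4a02e1b536024fa84d4db922f0f618e55d192a1b8db386a7688246cb7aad71c3044e30688ca030703e921f5b67248aeb1a28fb6de52b07c509a3674b1d1469d9056798b5381f9d868ba4db5b5383a1047ee4588f455a5e7eb886b27829f5d408b62657df96008087bb315e898de688c0ea94f1eabbdc318092a39718740f310cdb647af9e710c8d575cd25a4267e05118a1769e5f9ba2f99455ae93c43aa1ec1ae644556b19a91c84582c3125df2f28f20363eee5ea90b5fec6d82c7b4153a237eaa0cb8d1ca5888603a9fa0011862c773ed53957a5b6add246550cc017bcca1af2e49846be8335271a2323549ff42a87062cc6b466968f8735f6028286f5b17369e4dde86f5545e93dbe279674d0c1571e2ee3f276459849bd0254de4d868d7442924841094829d2882609284497b70baa9ce95cac82b156ff0c4ad06344ab7e1ccfeb78c3ed8f17a2c6d3d43631ad41239d9aeab8d47531eafc55022e5583ed16c7027eaa30f2689523eab61a487843c724aee262e8eb56746def2d7232f5cf1349ddc9643734c20b9b4491bdc9b9cd1b6bc2652b96f68ccf0219ca8cd93c26a6c62012eb5011c45bde11abcd40033468a0dc71161bebe27179cca21e33b46f66186151d0561ed96d7272b4b3853d9a009e8136adb82a8f7924147788cf1f3a9d43640b7dcc122803bbb3bb63cb3d3367ccac36cfc5ea699d687967aa22b934f087582d7cf2d4929a270ec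
def cC17 : ℕ := nat_lit 0x6259b326fc848b5165c18dac59492f3d27d6e71cb8b1c6c562ddb4893e16d60ac0e082723f87578bc50605187217a1196598f292c36a0aa969647571dffbcf11f2e743c575df585a81793ff3e76a058c1ca408cc245a657688abb38edfb605daadb0ddd4e1c48c3c06890a28b37240803af102845c02723311d6a916e77be03beb27d5fdcd51e218acd66cb3de76e056054290b46c26eb96af62d9a128340cea0a3b32cb316d418b25094f2053c6c6924e98f0b45708e02dc9661c2f56010cb9e002e68d4de5ba69fd675ddc081b7618f33e280d592f8eb9c95bd22230bac4bd3c8876047788c82dbf051b80c6c34888abae683d03246e8a73ccaf907494bdfa85905e307b3f6883268ee3fcfa247181add88d9824a7686add04b781ec8e3039736f7888584c59ea712d65b840fb59d353677326864aaac4d9d6ed442ab2654aa556a8a1de7165b15278c248c3b70db3169eb9a266d06073ef20c9a081bf772da0df823b08c5db0908f615e2682930df071197c4036c6cb40a5408aa022f3bc303480b5d1db7ea65046156d84f938d0a89285e81b9ee7d9accb4f494a50a50080cdee2a0c3fb2dac6a28cf7490c89949be7beadddb33d065ff43eba60c68146f00b9c1c16a442d7a6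54db92248d5ea605196a8b13b4b90d674a924d30da611503656bb8a6a44f68b6fe6553202d1328388a1877f09b0ec0646be1931a8f8cb516401d98eda9b03d90f53c22bd9c03249304397a6025655dcde09622230c2cf760ea09764943f60a9620b386140065f85f72437fb511d8d851a10af2c5f0793d26ce64080a7807d7d1e8ce96a71cbb5a7351ab9371a2a5dee80443144e41657a7f1369f12a3d927469a42f02878d4348a75cbee782df13abf986d281a851c8c2a04c55a48be291923f5c7d530d4108b84675801f1b3150516e6d8ecb43995c40f0b8226d1a2f233b8284e8356a82c0a524270a2c9949e8109ed2e93b98b764fe51bae0a70011913148f15ccf052c74b99c5c8f2c487c1aecd52c966309ede39ecb1a7999c1830b6b04d6bf7cdd23a770b8a8a982bba918b41ae1896c1b704437763320ae003ea6613ee582230b9ef0fe9cdba533a7360e88b62be9bbb867559ad26a159fe09c2e2ff6a53dccaa009648a78392b93097c6de13df8ae24a96b75dbe1d10b1f19b5e6b260e4e0a9c166155265028206ae1b4a2bc7b65e6684811dc0eac8d2bb2c3ac711e8208ce0b6626bdcec2ed8661c2c19661e335f7254ec8d3aa8024f7dd728d92a89cac12539268ea23836bdb7f6a7e4008d62d1b44d474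883625ed154dd800626b01b99966c3b4cc35b64246afaa3738fca6cda0240f983997ecc4cdb6b17ece153a7b5797b8dc8eba6b96a045a6ce298e7e6c242277ddc3d61aef04d2ecf8b71457c40d8b9336eb65d312cc84dde852e2212e0a8b4268251d9c80c4575d2f235858660a15562d8d4c3e4a6eb670a3d283e24a7da2e99887b788e97e82d33a9b16c946223c13b3497e8824bcf3798d4e69bbf51ef5b17cbc1a4fa2af83707b519090cdae07cb429dd2b6890b050a0ec96a443acb8c60cd179b5254da0880716185cacb0cb5d24b360316087d67a7287095316b7942ccde94948ab540695a65e80441b3eb2af54d3ce4d382aeb3d20884e79d5d297a31ff466b79cf2c0288ed6e19cb321c6305405a3923657a103713cc4d34dc3312cdd269b136d4342500e207cfc5a05769181d9cef22be6685d7080a02af29870eb66300a2d93332db50f4b9bfd419851b4c68dcbba3197fa562249da1d84d8208d48f2ed7c6b7d6501053dae060bfb9583255ddcac20acc3447d69506b75d5004c05c900712c8f360255393effe9b63940c9819a73abcddd234024ef69983a413048fb3a170e41e86b7a1f690b5ab681eda254643845bb124b52d904400d72f50f194dce03584485d0750ac516447acce350adac71331ef78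ed59d518e359cae3eab54f40792fddf0b62321c1ff2522a1e58d774974ece3f92115cae4767245fbeea9d815470680dae63adaea70d155e9784a7300b94731929ac01bc37b3874396345962b296bada339592771ab84fd994ee473250698f55173a01d086ce30d78f5e1ce0950e22af48d8b53a6e32a131152370aac9e69be325be556c161894bdb19fd8dd807d8885422cb6070fdd1c09b19a2b37ad04d69c6e400a4e436b6460d69cba2ef1aab1e86e02dbc6897d912b0fd7d0f29fb3d13d8281e469b45046081f8a26fa9264abd8d30ced20f25c95ae4ac54d4c393ca6e9d1b683162f0df48e6d87625519852a892f0d0e061cbc65b999538eaab2c4ade408cbb45aadfa41493a57d265b91f89223806e166164de3d8589c82d22e94edf01b56e44fe3c9d27939812eaeac8770ab26773681cb768ce57f570c6a1fbaebf467e30a0ae28512103897c2fa9cdcec3ccb55edbd496528eaa1f84c8e05fe1a125644e6a285a2e29c40bee6553315f040df5ad4bb04b6becfd0857ab968e5d95a84845d3e7b20195dc93a6aef8c0b9ebc953fa8fc5f89555aafd22cf1702be922b7621ee25664d238e60550cc68c736a645295f8db3aa7de80c2e68dca24414ecd8c5db76c0a18d9a90f260ad77e421cb6999a59708229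39d60386520b34769e3db7722c085b5229ae98b7530dd828a6992a7cd1e88cc0417a979f44b6342989d4c8435707bd318da4aed4750a5bd69bb6d5690fa33af758c68c7786115de0c71bb93417ba28b070951bc56c9ef2b2002a2c9ab2b42a393a05c727bb5edb639275f952c9b1f93e1f8830de7916781a16f5078eb0fcf8c3c55b2f9fa4793656c3288f58dc20ec7b32d945e2ae9273b417ccfaf31491e87759c15d7fc3a1430a9e3ed38fa2bd596b454b894928241beadd9ce932fc47a6b42b692904339140fe40b51525ba268a1de429406eecb9201f0cff433119e383c2fbe5daa67f5e384d872174a1be2b0785d3621262a654f1a147e96ed82043c4631db8000d83a9f9c4eb1624f741035876a9c0611719142611dd7cd4c4b4ac2be5535eb884d521cc69ebf808bc028360589084ec8d2a5ca20668981cf4e913a81d5c91c5ecfd6a4bb1556157453beb86f29ef1c0736444a799aac9bc16e0999e26d14d291028aa04709d7a3930f52e1adbc098a139006f50968644aeb2162175fadb4281425e112c07ea3cf8b260e21496b527d5a50efa1c8a425283ecff2e775406278bf326c95b02190fd8e716007c18408c30d245b25ebbed723547791b2e4819c4c48ac6715fd3b1c6add9b090140528b2bb993a79ad7c8c5c0d154dc5e7ad079c51e47d341189bde100f56245ecad4295f1fa8ac125113b6179eb38ab6163bd9125b4adba7c8c2d72f6c8bb72d899d054292dd23909388adbc3d8d8c87529f244d4c021cc71b89feb5b29750e2e2ec29620aeb4ed544e831aa2cdd0339b0f7652b58db874588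
def cC18 : ℕ := nat_lit 0x1c212fc7ce79465ebce9989f5c2f81d57ab429b5261a93de1080b67ac91848c6ed8becf86e6018dc8b4a280b10cc86cf4ad0b0e795be1feeeeb292c7acefeb3ca25ca1dbf850177de39f0c9c224051925b24381a0969189e42384ed91b317d9f480f05e60e25b3a621b2a6808212e97ba8c63236d4b349d18d2d64cf781204b85b0a93161ec302b0587e534bd7f4b12ccb448170debcd98b2f00a1ac7ec1f33aad4122a2accd84d28c9b4f685aba18a519beef0dc48210c2a1258f1be00387a53ae8a556e263ebabea6c9bb9de34f98b079dce3890ad72d42e6bdf0d0768364f97e763d4866dafda6dd079b0f1aa26d0895f962b749306a6129050e5bcf1ee6e19c4ba7e65c4a6aad8869e248a2b51e14a018b7170be73aaef0093f7296435661dc469fc4096cd2587b121024f09f8502fca271bcc6e30c2724e11ee4d0695c5c91954c5fdd4d32a556d88938c54872f14b9fa5731eed1655ad08b291be510435431580193a5bc3d0caebe9582ecde060243bc302ec8dc3bcbad9788f5266d84e0b6694995b7f57cc9479cc6e63482ab757f34e4c6e10d94c4295aac2a16a9c863424929291948392493d64c8caa9d8640831aa951d3a781908ba2a4882223e9800f19dea69dcf08c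f50e597d28c1fdcf63176242ea7a00bb8b55a845ea09b46e88d0e67d1d001379b8517e266836215f80f098056d158e9236f07753815ba4de12657c991871358376d8344c7aa0c9ab328f86575c6b91a626022d5bde31b70fdaeee9acf541600f2428fa0f1399ba5baaae9ffba7a0647b6a3dc75aaad1ab7b6e404566054010e3a7645a8574be50a7cd889928b71148e511c26af51d479828a01f2905844a0988b40d964f8200b021d4aba66593cbff81d1ad287064e1cc5b3a84eb87d539a3ee02dc2baa375502892c0b536e026d7c2ea0da5850866b359667720e16ee32f042f5ddf0143980ee93862f1f3101cae3914819999edc6196907e2b6830decdaa6363f3b81eb3f96cffaf969f6945e42aa775fa7bcaa07b8940483b838a2ca745084d03e5203cb4c8519f248309d39a0a2d8a3a5aed5fb46ebfd7572f9bf1bf2d356d0363abdb481750381be2ec3a53f3adeecc2434d380d1594cf202edc0c07ef7e101625f1a440dc2c34950480a698a4121f39b45b01c19de4310bb2e085d8c24a5ac3cd1ab29bf516b73ce9d03a013bd3b532d84001b7534d4ae49ba11692274c35e1afc788010218709a064188918ebc2d3201f15683225c3c00eb5c0a51667bdbeba030a1683455e5c97199a6b539e961bcc448b83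334b27c4ed3b6ac0d5ba9b723737c2509fb63058d50390d70f9f2cfead510b35e4ad8b2e01bc11d1573b42e56a1e932e3ae4dd872ae4ca41c39c2e64d335ca5f20b07c237eb38ca9679979a83d66cd17e35cf3d5d11986b08651a021c495571bada2cacd165b52b476d5ed4f71d15115a19fec777ff3aa00ac7b4ba3c9d6c4443325d990037ac0dec8582f819041a75ddb992d3d6293a3a220d7f11e0457bd05954a825a9b361e9b1f8e954d7071995ad0301e88f5f067175f25987bc839983281d820b44a84fbd16042a69b2a67113ee6103d40b2e8104c9b7a650da7eade84c075717489c69ed648eab04ea471eaf5d29766fd6d1068aec01bcb159e97268c6b052548040e7ee277365b9c897e74e33dd6e0475e33146d43bca7b1486f5a4f779c0d1e54ee8c2366d9e4ec89adf13e61a226e44db654b33dcf10415cdd30b52b5615caea3d106f54e635555187657a8f2a8ab4e5a0be0a0d657ca7f13c6a64980c700d0c1dcc12cb26cd4a2339d73adb44a51a06e8c36c652c7b409d8574b241f93253cc63cfceb93c426a09f2f54d885904418d9550dae6cb580c13a676fd92babbcca45001679dec725fb1ebaca084991f0da9c4138d13643aa2b6357b71d60acf76d972a68414848f24c49ab7e5a51949343705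a671e18d637baecca77c32facda7205e27833d085d6aa551dec5deda2974626939614cc301629512d904d9ead52e20c690b4f5dc9b3277eee5a9e5b51f50f8bd2668a6872c64542ecce2237f8b3322e8e32e46129565b1aaf9d30bfc55471b4c0fadb3d16f6d2cfca8543ded1e09608e17bc6cd8d770886ff82ce6e035dad79593de96eb526d5c8dd072572dcd84d249b5e76dce73991385a7a505c4ef1a898c8a25f75637d4f359ca24c69e46c3c45869dee53dcb6835b61b9c9531f648a8b2bd18b50191c427243da7af5da506a895f782c03b79e14da3d9a70929652d2dd5c29752f2aec1d027342e2c6eb04e0d3738a3f63fc320e67dae090a3ba4984c9da284108fc3972727e4798af477654b7a3846e5aa94a34b556f9cd5a6b22322a5c650a6b2d6713b8f81f9a391d5902c1fba0b5a2314d11402b92cf6a880a0f182a556341432eda8c425b709d0adc44084ccd5b214e2a4fedbb1f680501321ab87f90293e1287c51f2410a49286c6b06ee31cfd6c09c555dd6386d95785ce367916a149b9361675845d198d92745239633a4910a80c01a1558ce911b6e76cef0bc0d2a4952945c050b94d0f5a9a35d27bbe1c950128b529897e1f9d93af6db76caff898d0e78c9c7b8c4d98e7d20d09e2d359609117210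e54c15c229ca3122875a897ab2c458eaac916c824841e058630861b425afaf095876ccc5d30ab39b4652d82eaa79838c38ee03074f08d5eac14e436ebef5586827302e1dee925e18e1edb1a2e699472e4a056202d68d97f5356402cafe33d3b92a36895503a1959f21b2b621a585f48bd1b0b04e177edcb3f9d96759a8a5060314536ee4d611ad18e6289a0890d4721cc507f2e052c450fe51fd263ca791bcb0059f5143ed6fde98e907d1832244ee204524e91ae2e338e24545be72630f45122ad896607062c28aa678910c1255814ea0a5157aeafb03b21692137199a166bf202e072d87250bf406202d274f54074867fd741ee5cce405647b5906eaaf2ef6172ab618e0c482e3e61b8f28d41c330d5f61589c98715c788e7ad6ed29a1f538c240513551183498a1d771d8ec5538a42570c5422e3e56e90f21032a6588a1d85798b1681d0594787068ac24266c536d83c659971a22478e82c18b821e335030c940e2d4884fb9983566ce19890bca288e00bd1d122bb18d5ae1e29fb6339bcd18d67c621ca38d3add00f5f2a811c56a4bb357dadbf10a18d9c89898d3a9c0f4a6ac699ba641d84894978fcc2c9a9759cd8b86c887b98e7b765e33e8af3ee65d1ca3094c6b626ed08e9a1545d983f06dc3d272bc14567de8cd10789ad26c58bd4d1252fc9ed6adf49464704090b53c849571b67683c2180ea224dc873952276b98a91cc7f8245e65e1e36d605753e3335a62b6680c830046cbe980439aeeecafcbb94b2c412bd3bcf4c6c5014911379f13b8b191a241df31fdaf404d51b5fb6acfd4ecd800aca000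
def cC19 : ℕ := nat_lit 0x5a16ed93bc85ea73951a146ab40d19342e53f21d563caed40799864ecd07d573fb0ac007b17df5039e8c8ef74fb47ce0074a464125609b66c8d0eaaf779cf8926a9db91dcd5b081e0216ccda2c01e4322f1616bbd0698d2ad587007e37e40a7ab46c0b61df6dbf96438cc560b3da9117aa92cfdbe6d9dab521bbe9982d38f4e46211d1c43e44985cc02f8bdc5e26b03b6ebd7cf95a1656674c5b771497d71bda8e3d29602186c9e5515e2e34bb8a61067e06dc2638c70ed30bb00d310529c4f9e9b41177fafe1987478551c0206bb9c3c45141e67ac47555034e9a22061f369a1f4c709f09a0bd77c7bb8f12045c107732414a2d8d792db682e80763234044521e4d8abcbe71460ef65e9aba658463e9b818ba99de27576d89cb80712de88f30b6025b04cbb494aae2fd3d18cb3377136a8811476ec6ace71dda81069b3704613941dd6f15db876476188439faa740292138152eeca944db5f8766b958db5ab06d4c7084ca348bf79cc5c25a6358ed33f1a3df1b878c598152d38b05d57b91884479b384d0bf6841ce7ed63252359a0c908c58f40ab97e0c2a96fbba598834c979e6e2d1f7235930762f1516fa9360ab736eadd9e23e58a87d4fd408661fd955bf71e82295ad6b406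47be001ef49582bfd5f0a8c546001af75a729aa213ea15c3490a67a9183582ed20e2afedccca427dd6b163ae84b619258191d2c3397338ddcd24ac0fa34ab1bc0c1a0a67aab74307215b0255ca53140324f3e504705c8ee18e8a464aaad4e5c22241a1c61a06b428f19d20aef0b619368aae2c8cad54c0684c3f110626bfd1647d3af34f51e9ecc407ea29ea74681c4f6e48af4147b38e94e1cd0552b52b9a5e5b0cc5a59c0bd2e18f4c296922a7059889d2851f6f5d3e01b2ba9466d5cb88af08512173ae92342631f303d6d0305da918bad9b6dade01bd761c4796c4dd9dc174e9f3eecb00ced56021a5b7ada675533669a9ec81d1a9885a5f7af32243c5248acb0903b0922eea70c2106d7bc0d406d359ae7485086a3f23626521293707956bf335999afaa956004eeeabd560b0d29e6deadd764f2be8ed7542330cb2a882cac0a78e22ec8acf0bad9740810190805ded7c45e574c374351649dcc00bd308c06efa775c70fdd53fb289f0d6d66f9f22f26a3206b9e1c3a87a6320911bd8f61e75e46b520b7665df5a92f0c49ef9e2cfacbbd504110b5893076f026a6230c996b80db2bc257ac2dc4756c3774b56cd04d3ce54dd621852bed1984af530ded7697a6076da04372765ebfc6b0a5a576baa7e580312f5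cef3c30b3ec1b21b2fe3301a24d74a64a8e8efb1e22f0ef208d4e1787f0564b9915072607c06e96048e6fd98ccb565423e6003a4ead107b33688a1ac4344fe2338fd7d001e746c276d97128309128d18a9dcdb27a6e1f5795cd25734648a2c2194fe55816f923f4b84993905082acdccd025edc630f218445cb62d5cae426be175dfa8981cbba09f2615e1410d5450d0663718423cd50c34540a01d2ce50da8bd058acf6902f8a05e36db9e6c1e4246663f69b0e6b8adc468706e3a6a68cbc3fe1aef65d899493398c036c1ccf11b6b2c6bfd3ab23d6a8ff07e636206325a1e2cec16c444f6a40c56ea90a0c6a4a8b852d1aa86e70b5a32c09b628dba23a8e41ccb8872e3c9c360c33e302e1b9a2ef4f0f75611f78df13b98c10e55092104a4b04ce62847a5eee5ea166d898c450ed3acc9ab219581b14c0b5d99680a8780508186135d58438c55a49711bcd7ec42436c4615b828030957eea45b7f4dd58716d9f280740e118dd67729eb78c7ad9b2d92da906928a7912da25a0eecd4521b2d83d135a1caf5dc93edec164029aaddae4c4c0992e57b4ee8f0b66c75f246cc9ab38c3c0e4f1909d67a60a2b4afc25017dd9bff5e7a19b3064a9ec0f2d46b284d573ed34c483520e3fd7ad5eb539da625abb11e92a9d64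2ed31c24d3501709c5e4cb62a1af62ebdf47befc9aa4a89cc997403258e401a704c9bd6b5c68a88e0bf36a0714512404945595644d7210cafc8b11eb1c81ad0452b2566ab351c4c9672235a4ef0bec28b0894dc1373b487336551ec12ab09d61e9951cc50102598542be5a55402f0562baacca76e667bd8c45464a4830c21c442af81b331555652016727d94638d16a9be450b8bb85393da4eb2d2e28c482b745c819070058d34318769f1ed35c48e12018a8210bac1a21de4ee998e4e57de01c8a89db4de0f09387b6d32703c5db39e9da6e067a319b5f80329e81fc0528d1601504211832f5fc1d222584e0da2c1d3a279e6d4073262f9042a44ff44a779c26c174945bac3fe2e1bf9143fd6151ca38468c9c56a37988e8107c7c888e9916d4d042b896790e11a528099fa5909502514527e784453678bf2bdba0490dfb00d83a9aa4e16ef384462410fb1291954e504a49a847807adb3406db9a919b47e8ee519fc3ea890a09d804a834fd964ca96dcf894f910e35d68cf25b510578d849c09e8512ebcd6e10f2062fc9e073ec44e0c13709f8a96c80eab9b22c1e9278ab4cf760b7abeb071b53a8230c0a5ec8963368910d380228e204de9b6b026944914d36e6f16f9c30d22402b2155e9268ace8e218fb6209a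8382a14dd02b79509c2c560727658ceb814005a8bfdb24af8caaabc44975be1e49b1e1945f5496ba368644b79088a8daf35bc6c305b8ca933277d62bdb6fda92593c971e5da8889b1545c9b25ee39bbd1aa62274266af1bb2a654a86d9f4388f7844c565aace772bf9ae96b0d6df8c73362d80618337f538ab23e04b0dc039cfe89b426d137ea6110119852c3cfcd7043efc54832295aae714e005cb8ea251311eeb289a48018a790f594ed9e32d0631b4dabec92adc86d4b28e4ed0b58948eae1928f38a2258d7674d5323ca5358dd7550c768a0231ab9eb4766de0585984260a0e5a2ad080a9b0cc11e124de7176d68bc392674f502dd0bbae5b2f18f16f82e30814b15b9c4acf73ba399f9d75ce542f38bcdd64d8e395e72cb7d6279e878e14776b0a5cf3fe258ae3d829a908b525482d52e3ea5eea0978c4649834c13925c092b78aae17778544a3e1deebc666f5bcb55858a5b3d23411aaad3a05ceffdbf522339d2d68abd97602ab5ca150668af82e8cef10bf4052d0c74c1b1226e4499b25a7a5d13e31c92874b0aa15450393da5909c040df4b74bd547296954d87483ca69887a3765e64a749cb54eb442f0e33a44ecc0088d9d624c83fe61b14023154aa1c76352af37a938ea47c2c9a10126c6e7a5a97f9b06b4e0b1a20f27b2f8028850c27e1fc436d69875ad7cf3b36bd675f99e26ec7e954a6287a1b39eca5c8a049813ed14c9cbe6473353490104bb1e3cdb38fbadb3901a915c83a8c063692de8f33954401ea62a1af20ec44b5cc31882b4ef8ecfaea96a9742be7e844f05b6661d7a70217800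
noncomputable def cCs_1 (q : ℕ) : ℕ :=
  (@Bool.rec (fun _ => ℕ) cC2 (@Bool.rec (fun _ => ℕ) cC1 cC0 (Nat.ble q (nat_lit 0))) (Nat.ble q (nat_lit 1)))
noncomputable def cCs_2 (q : ℕ) : ℕ :=
  (@Bool.rec (fun _ => ℕ) cC4 cC3 (Nat.ble q (nat_lit 3)))
noncomputable def cCs_3 (q : ℕ) : ℕ :=
  (@Bool.rec (fun _ => ℕ) cC7 (@Bool.rec (fun _ => ℕ) cC6 cC5 (Nat.ble q (nat_lit 5))) (Nat.ble q (nat_lit 6)))
noncomputable def cCs_4 (q : ℕ) : ℕ :=
  (@Bool.rec (fun _ => ℕ) cC9 cC8 (Nat.ble q (nat_lit 8)))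
noncomputable def cCs_5 (q : ℕ) : ℕ :=
  (@Bool.rec (fun _ => ℕ) cC12 (@Bool.rec (fun _ => ℕ) cC11 cC10 (Nat.ble q (nat_lit 10))) (Nat.ble q (nat_lit 11)))
noncomputable def cCs_6 (q : ℕ) : ℕ :=
  (@Bool.rec (fun _ => ℕ) cC14 cC13 (Nat.ble q (nat_lit 13)))
noncomputable def cCs_7 (q : ℕ) : ℕ :=
  (@Bool.rec (fun _ => ℕ) cC17 (@Bool.rec (fun _ => ℕ) cC16 cC15 (Nat.ble q (nat_lit 15))) (Nat.ble q (nat_lit 16)))
noncomputable def cCs_8 (q : ℕ) : ℕ :=
  (@Bool.rec (fun _ => ℕ) cC19 cC18 (Nat.ble q (nat_lit 18)))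
noncomputable def cC (q : ℕ) : ℕ :=
  (@Bool.rec (fun _ => ℕ) (@Bool.rec (fun _ => ℕ) (@Bool.rec (fun _ => ℕ) (cCs_8 q) (cCs_7 q) (Nat.ble q (nat_lit 17))) (@Bool.rec (fun _ => ℕ) (cCs_6 q) (cCs_5 q) (Nat.ble q (nat_lit 12))) (Nat.ble q (nat_lit 14))) (@Bool.rec (fun _ => ℕ) (@Bool.rec (fun _ => ℕ) (cCs_4 q) (cCs_3 q) (Nat.ble q (nat_lit 7))) (@Bool.rec (fun _ => ℕ) (cCs_2 q) (cCs_1 q) (Nat.ble q (nat_lit 2))) (Nat.ble q (nat_lit 4))) (Nat.ble q (nat_lit 9)))
def wC : List ℕ := [nat_lit 1, nat_lit 11491, nat_lit 12547, nat_lit 0x50e1525ea, nat_lit 0x16a1c3753d49,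
  nat_lit 386, nat_lit 741431, nat_lit 9577, nat_lit 395, nat_lit 527433, nat_lit 0x1283d9859583bb92f, nat_lit
  0x25ebc1183b3da9, nat_lit 17, nat_lit 534, nat_lit 0x495f82c8af2e1f89ac9653da9, nat_lit
  0x2672aca2ca61f81cc56725e9, nat_lit 0x495f82c8af2e1f85a0576a9e9, nat_lit 0xc4bf0a951ecc3d785d19753dc9,
  nat_lit 0x4aa5946ccc3d7825e6253dc9, nat_lit 0x97e152a3d987e0a70a5e9]
def xT0t_0 : T := (.node (.node (.node (.node (.node (.node (.node .nil (nat_lit 0) (nat_lit 273) (nat_lit 89)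
  .nil) (nat_lit 1) (nat_lit 210) (nat_lit 253) (.node .nil (nat_lit 2) (nat_lit 241) (nat_lit 87) .nil))
  (nat_lit 3) (nat_lit 96) (nat_lit 5) (.node (.node .nil (nat_lit 4) (nat_lit 242) (nat_lit 156) .nil)
  (nat_lit 5) (nat_lit 81) (nat_lit 1765) .nil)) (nat_lit 6) (nat_lit 178) (nat_lit 140) (.node (.node (.node
  .nil (nat_lit 7) (nat_lit 193) (nat_lit 198) .nil) (nat_lit 8) (nat_lit 208) (nat_lit 1529) (.node .nil
  (nat_lit 9) (nat_lit 226) (nat_lit 168) .nil)) (nat_lit 10) (nat_lit 64) (nat_lit 13) (.node (.node .nil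
  (nat_lit 11) (nat_lit 210) (nat_lit 103) .nil) (nat_lit 12) (nat_lit 242) (nat_lit 72) .nil))) (nat_lit 13)
  (nat_lit 49) (nat_lit 416) (.node (.node (.node (.node .nil (nat_lit 14) (nat_lit 241) (nat_lit 676) .nil)
  (nat_lit 15) (nat_lit 224) (nat_lit 597) (.node .nil (nat_lit 16) (nat_lit 257) (nat_lit 130) .nil))
  (nat_lit 17) (nat_lit 240) (nat_lit 676) (.node (.node .nil (nat_lit 18) (nat_lit 194) (nat_lit 651) .nil)
  (nat_lit 19) (nat_lit 81) (nat_lit 10) .nil)) (nat_lit 20) (nat_lit 225) (nat_lit 769) (.node (.node (.node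
  .nil (nat_lit 21) (nat_lit 210) (nat_lit 204) .nil) (nat_lit 22) (nat_lit 209) (nat_lit 190) (.node .nil
  (nat_lit 23) (nat_lit 242) (nat_lit 165) .nil)) (nat_lit 24) (nat_lit 193) (nat_lit 129) (.node (.node .nil
  (nat_lit 25) (nat_lit 193) (nat_lit 133) .nil) (nat_lit 26) (nat_lit 209) (nat_lit 199) .nil)))) (nat_lit
  27) (nat_lit 208) (nat_lit 24) (.node (.node (.node (.node (.node .nil (nat_lit 28) (nat_lit 97) (nat_lit
  33) .nil) (nat_lit 29) (nat_lit 209) (nat_lit 468) (.node .nil (nat_lit 30) (nat_lit 240) (nat_lit 1534)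
  .nil)) (nat_lit 31) (nat_lit 225) (nat_lit 8) (.node (.node .nil (nat_lit 32) (nat_lit 49) (nat_lit 1771)
  .nil) (nat_lit 33) (nat_lit 80) (nat_lit 377) .nil)) (nat_lit 34) (nat_lit 192) (nat_lit 502) (.node (.node
  (.node .nil (nat_lit 35) (nat_lit 209) (nat_lit 436) .nil) (nat_lit 36) (nat_lit 256) (nat_lit 685) (.node
  .nil (nat_lit 37) (nat_lit 48) (nat_lit 378) .nil)) (nat_lit 38) (nat_lit 129) (nat_lit 75) (.node (.node
  .nil (nat_lit 39) (nat_lit 241) (nat_lit 207) .nil) (nat_lit 40) (nat_lit 176) (nat_lit 373) .nil)))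
  (nat_lit 41) (nat_lit 177) (nat_lit 1115) (.node (.node (.node (.node .nil (nat_lit 42) (nat_lit 226)
  (nat_lit 43) .nil) (nat_lit 43) (nat_lit 209) (nat_lit 451) (.node .nil (nat_lit 44) (nat_lit 80) (nat_lit
  706) .nil)) (nat_lit 45) (nat_lit 226) (nat_lit 309) (.node (.node .nil (nat_lit 46) (nat_lit 194) (nat_lit
  304) .nil) (nat_lit 47) (nat_lit 178) (nat_lit 114) .nil)) (nat_lit 48) (nat_lit 224) (nat_lit 244) (.node
  (.node (.node .nil (nat_lit 49) (nat_lit 162) (nat_lit 1617) .nil) (nat_lit 50) (nat_lit 192) (nat_lit 487)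
  (.node .nil (nat_lit 51) (nat_lit 240) (nat_lit 490) .nil)) (nat_lit 52) (nat_lit 258) (nat_lit 1656) (.node
  (.node .nil (nat_lit 53) (nat_lit 226) (nat_lit 411) .nil) (nat_lit 54) (nat_lit 208) (nat_lit 941)
  .nil))))) (nat_lit 55) (nat_lit 257) (nat_lit 1569) (.node (.node (.node (.node (.node (.node .nil (nat_lit
  56) (nat_lit 210) (nat_lit 516) .nil) (nat_lit 57) (nat_lit 210) (nat_lit 515) (.node .nil (nat_lit 58)
  (nat_lit 145) (nat_lit 1721) .nil)) (nat_lit 59) (nat_lit 193) (nat_lit 1716) (.node (.node .nil (nat_lit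
  60) (nat_lit 226) (nat_lit 511) .nil) (nat_lit 61) (nat_lit 161) (nat_lit 974) .nil)) (nat_lit 62) (nat_lit
  177) (nat_lit 1512) (.node (.node (.node .nil (nat_lit 63) (nat_lit 193) (nat_lit 1514) .nil) (nat_lit 64)
  (nat_lit 256) (nat_lit 492) (.node .nil (nat_lit 65) (nat_lit 193) (nat_lit 487) .nil)) (nat_lit 66)
  (nat_lit 210) (nat_lit 1515) (.node (.node .nil (nat_lit 67) (nat_lit 177) (nat_lit 779) .nil) (nat_lit 68)
  (nat_lit 193) (nat_lit 485) .nil))) (nat_lit 69) (nat_lit 242) (nat_lit 1643) (.node (.node (.node (.node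
  .nil (nat_lit 70) (nat_lit 162) (nat_lit 1689) .nil) (nat_lit 71) (nat_lit 161) (nat_lit 692) (.node .nil
  (nat_lit 72) (nat_lit 225) (nat_lit 481) .nil)) (nat_lit 73) (nat_lit 224) (nat_lit 428) (.node (.node .nil
  (nat_lit 74) (nat_lit 210) (nat_lit 657) .nil) (nat_lit 75) (nat_lit 112) (nat_lit 86) .nil)) (nat_lit 76)
  (nat_lit 226) (nat_lit 1718) (.node (.node (.node .nil (nat_lit 77) (nat_lit 225) (nat_lit 719) .nil)
  (nat_lit 78) (nat_lit 240) (nat_lit 116) (.node .nil (nat_lit 79) (nat_lit 273) (nat_lit 959) .nil))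
  (nat_lit 80) (nat_lit 225) (nat_lit 756) (.node (.node .nil (nat_lit 81) (nat_lit 209) (nat_lit 722) .nil)
  (nat_lit 82) (nat_lit 210) (nat_lit 705) .nil)))) (nat_lit 83) (nat_lit 49) (nat_lit 415) (.node (.node
  (.node (.node (.node .nil (nat_lit 84) (nat_lit 176) (nat_lit 1530) .nil) (nat_lit 85) (nat_lit 225)
  (nat_lit 11) (.node .nil (nat_lit 86) (nat_lit 98) (nat_lit 561) .nil)) (nat_lit 87) (nat_lit 226) (nat_lit
  1693) (.node (.node .nil (nat_lit 88) (nat_lit 194) (nat_lit 1536) .nil) (nat_lit 89) (nat_lit 256) (nat_lit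
  235) .nil)) (nat_lit 90) (nat_lit 256) (nat_lit 529) (.node (.node (.node .nil (nat_lit 91) (nat_lit 257)
  (nat_lit 51) .nil) (nat_lit 92) (nat_lit 32) (nat_lit 528) (.node .nil (nat_lit 93) (nat_lit 272) (nat_lit
  206) .nil)) (nat_lit 94) (nat_lit 208) (nat_lit 115) (.node (.node .nil (nat_lit 95) (nat_lit 240) (nat_lit
  689) .nil) (nat_lit 96) (nat_lit 224) (nat_lit 683) .nil))) (nat_lit 97) (nat_lit 225) (nat_lit 1441) (.node
  (.node (.node (.node .nil (nat_lit 98) (nat_lit 146) (nat_lit 38) .nil) (nat_lit 99) (nat_lit 66) (nat_lit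
  13) (.node .nil (nat_lit 100) (nat_lit 82) (nat_lit 10) .nil)) (nat_lit 101) (nat_lit 146) (nat_lit 656)
  (.node (.node .nil (nat_lit 102) (nat_lit 128) (nat_lit 222) .nil) (nat_lit 103) (nat_lit 193) (nat_lit 958)
  .nil)) (nat_lit 104) (nat_lit 210) (nat_lit 1529) (.node (.node (.node .nil (nat_lit 105) (nat_lit 256)
  (nat_lit 447) .nil) (nat_lit 106) (nat_lit 209) (nat_lit 34) (.node .nil (nat_lit 107) (nat_lit 241)
  (nat_lit 718) .nil)) (nat_lit 108) (nat_lit 273) (nat_lit 219) (.node (.node .nil (nat_lit 109) (nat_lit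
  210) (nat_lit 7) .nil) (nat_lit 110) (nat_lit 242) (nat_lit 1525) .nil))))))
def xT0t_1 : T := (.node (.node (.node (.node (.node (.node (.node .nil (nat_lit 112) (nat_lit 161) (nat_lit
  1764) .nil) (nat_lit 113) (nat_lit 113) (nat_lit 1386) (.node .nil (nat_lit 114) (nat_lit 161) (nat_lit 535)
  .nil)) (nat_lit 115) (nat_lit 194) (nat_lit 693) (.node (.node .nil (nat_lit 116) (nat_lit 225) (nat_lit
  191) .nil) (nat_lit 117) (nat_lit 193) (nat_lit 1056) .nil)) (nat_lit 118) (nat_lit 225) (nat_lit 393)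
  (.node (.node (.node .nil (nat_lit 119) (nat_lit 193) (nat_lit 1134) .nil) (nat_lit 120) (nat_lit 193)
  (nat_lit 1503) (.node .nil (nat_lit 121) (nat_lit 224) (nat_lit 1297) .nil)) (nat_lit 122) (nat_lit 240)
  (nat_lit 1415) (.node (.node .nil (nat_lit 123) (nat_lit 129) (nat_lit 164) .nil) (nat_lit 124) (nat_lit
  210) (nat_lit 1174) .nil))) (nat_lit 125) (nat_lit 257) (nat_lit 4) (.node (.node (.node (.node .nil
  (nat_lit 126) (nat_lit 225) (nat_lit 27) .nil) (nat_lit 127) (nat_lit 194) (nat_lit 1434) (.node .nil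
  (nat_lit 128) (nat_lit 113) (nat_lit 163) .nil)) (nat_lit 129) (nat_lit 178) (nat_lit 1691) (.node (.node
  .nil (nat_lit 130) (nat_lit 240) (nat_lit 194) .nil) (nat_lit 131) (nat_lit 192) (nat_lit 62) .nil))
  (nat_lit 132) (nat_lit 160) (nat_lit 852) (.node (.node (.node .nil (nat_lit 133) (nat_lit 176) (nat_lit 70)
  .nil) (nat_lit 134) (nat_lit 194) (nat_lit 1751) (.node .nil (nat_lit 135) (nat_lit 177) (nat_lit 211)
  .nil)) (nat_lit 136) (nat_lit 192) (nat_lit 760) (.node (.node .nil (nat_lit 137) (nat_lit 256) (nat_lit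
  1120) .nil) (nat_lit 138) (nat_lit 176) (nat_lit 1448) .nil)))) (nat_lit 139) (nat_lit 225) (nat_lit 1635)
  (.node (.node (.node (.node (.node .nil (nat_lit 140) (nat_lit 161) (nat_lit 1601) .nil) (nat_lit 141)
  (nat_lit 241) (nat_lit 455) (.node .nil (nat_lit 142) (nat_lit 176) (nat_lit 140) .nil)) (nat_lit 143)
  (nat_lit 225) (nat_lit 181) (.node (.node .nil (nat_lit 144) (nat_lit 128) (nat_lit 128) .nil) (nat_lit 145)
  (nat_lit 176) (nat_lit 1013) .nil)) (nat_lit 146) (nat_lit 160) (nat_lit 58) (.node (.node (.node .nil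
  (nat_lit 147) (nat_lit 226) (nat_lit 1750) .nil) (nat_lit 148) (nat_lit 194) (nat_lit 307) (.node .nil
  (nat_lit 149) (nat_lit 240) (nat_lit 234) .nil)) (nat_lit 150) (nat_lit 192) (nat_lit 1052) (.node (.node
  .nil (nat_lit 151) (nat_lit 178) (nat_lit 521) .nil) (nat_lit 152) (nat_lit 240) (nat_lit 230) .nil)))
  (nat_lit 153) (nat_lit 177) (nat_lit 1081) (.node (.node (.node (.node .nil (nat_lit 154) (nat_lit 240)
  (nat_lit 474) .nil) (nat_lit 155) (nat_lit 257) (nat_lit 831) (.node .nil (nat_lit 156) (nat_lit 224)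
  (nat_lit 432) .nil)) (nat_lit 157) (nat_lit 258) (nat_lit 2) (.node (.node .nil (nat_lit 158) (nat_lit 193)
  (nat_lit 1069) .nil) (nat_lit 159) (nat_lit 241) (nat_lit 552) .nil)) (nat_lit 160) (nat_lit 224) (nat_lit
  1237) (.node (.node (.node .nil (nat_lit 161) (nat_lit 112) (nat_lit 386) .nil) (nat_lit 162) (nat_lit 257)
  (nat_lit 274) (.node .nil (nat_lit 163) (nat_lit 96) (nat_lit 1047) .nil)) (nat_lit 164) (nat_lit 112)
  (nat_lit 1049) (.node (.node .nil (nat_lit 165) (nat_lit 225) (nat_lit 773) .nil) (nat_lit 166) (nat_lit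
  226) (nat_lit 8) .nil))))) (nat_lit 167) (nat_lit 193) (nat_lit 540) (.node (.node (.node (.node (.node
  (.node .nil (nat_lit 168) (nat_lit 209) (nat_lit 1761) .nil) (nat_lit 169) (nat_lit 240) (nat_lit 1027)
  (.node .nil (nat_lit 170) (nat_lit 208) (nat_lit 427) .nil)) (nat_lit 171) (nat_lit 161) (nat_lit 101)
  (.node (.node .nil (nat_lit 172) (nat_lit 209) (nat_lit 449) .nil) (nat_lit 173) (nat_lit 208) (nat_lit 59)
  .nil)) (nat_lit 174) (nat_lit 208) (nat_lit 436) (.node (.node (.node .nil (nat_lit 175) (nat_lit 208)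
  (nat_lit 753) .nil) (nat_lit 176) (nat_lit 208) (nat_lit 63) (.node .nil (nat_lit 177) (nat_lit 192)
  (nat_lit 1011) .nil)) (nat_lit 178) (nat_lit 241) (nat_lit 53) (.node (.node .nil (nat_lit 179) (nat_lit
  225) (nat_lit 1) .nil) (nat_lit 180) (nat_lit 226) (nat_lit 1714) .nil))) (nat_lit 181) (nat_lit 208)
  (nat_lit 127) (.node (.node (.node (.node .nil (nat_lit 182) (nat_lit 258) (nat_lit 1719) .nil) (nat_lit
  183) (nat_lit 146) (nat_lit 1414) (.node .nil (nat_lit 184) (nat_lit 144) (nat_lit 1020) .nil)) (nat_lit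
  185) (nat_lit 130) (nat_lit 649) (.node (.node .nil (nat_lit 186) (nat_lit 210) (nat_lit 1413) .nil)
  (nat_lit 187) (nat_lit 210) (nat_lit 1706) .nil)) (nat_lit 188) (nat_lit 144) (nat_lit 123) (.node (.node
  (.node .nil (nat_lit 189) (nat_lit 144) (nat_lit 229) .nil) (nat_lit 190) (nat_lit 194) (nat_lit 1722)
  (.node .nil (nat_lit 191) (nat_lit 210) (nat_lit 1411) .nil)) (nat_lit 192) (nat_lit 145) (nat_lit 1105)
  (.node (.node .nil (nat_lit 193) (nat_lit 224) (nat_lit 1053) .nil) (nat_lit 194) (nat_lit 226) (nat_lit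
  1412) .nil)))) (nat_lit 195) (nat_lit 240) (nat_lit 740) (.node (.node (.node (.node (.node .nil (nat_lit
  196) (nat_lit 160) (nat_lit 233) .nil) (nat_lit 197) (nat_lit 209) (nat_lit 127) (.node .nil (nat_lit 198)
  (nat_lit 176) (nat_lit 71) .nil)) (nat_lit 199) (nat_lit 192) (nat_lit 67) (.node (.node .nil (nat_lit 200)
  (nat_lit 225) (nat_lit 124) .nil) (nat_lit 201) (nat_lit 225) (nat_lit 677) .nil)) (nat_lit 202) (nat_lit
  98) (nat_lit 5) (.node (.node (.node .nil (nat_lit 203) (nat_lit 114) (nat_lit 3) .nil) (nat_lit 204)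
  (nat_lit 192) (nat_lit 751) (.node .nil (nat_lit 205) (nat_lit 274) (nat_lit 1568) .nil)) (nat_lit 206)
  (nat_lit 257) (nat_lit 447) (.node (.node .nil (nat_lit 207) (nat_lit 226) (nat_lit 1544) .nil) (nat_lit
  208) (nat_lit 225) (nat_lit 174) .nil))) (nat_lit 209) (nat_lit 194) (nat_lit 425) (.node (.node (.node
  (.node .nil (nat_lit 210) (nat_lit 226) (nat_lit 81) .nil) (nat_lit 211) (nat_lit 160) (nat_lit 101) (.node
  .nil (nat_lit 212) (nat_lit 192) (nat_lit 385) .nil)) (nat_lit 213) (nat_lit 240) (nat_lit 460) (.node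
  (.node .nil (nat_lit 214) (nat_lit 240) (nat_lit 166) .nil) (nat_lit 215) (nat_lit 114) (nat_lit 290) .nil))
  (nat_lit 216) (nat_lit 210) (nat_lit 558) (.node (.node (.node .nil (nat_lit 217) (nat_lit 242) (nat_lit
  709) .nil) (nat_lit 218) (nat_lit 256) (nat_lit 217) .nil) (nat_lit 219) (nat_lit 258) (nat_lit 682) (.node
  (.node .nil (nat_lit 220) (nat_lit 242) (nat_lit 689) .nil) (nat_lit 221) (nat_lit 193) (nat_lit 1556)
  .nil))))))
def xT0t_2 : T := (.node (.node (.node (.node (.node (.node (.node .nil (nat_lit 223) (nat_lit 144) (nat_lit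
  262) .nil) (nat_lit 224) (nat_lit 177) (nat_lit 1729) (.node .nil (nat_lit 225) (nat_lit 160) (nat_lit 183)
  .nil)) (nat_lit 226) (nat_lit 224) (nat_lit 74) (.node (.node .nil (nat_lit 227) (nat_lit 177) (nat_lit
  1673) .nil) (nat_lit 228) (nat_lit 209) (nat_lit 1674) .nil)) (nat_lit 229) (nat_lit 129) (nat_lit 1778)
  (.node (.node (.node .nil (nat_lit 230) (nat_lit 225) (nat_lit 1777) .nil) (nat_lit 231) (nat_lit 224)
  (nat_lit 106) (.node .nil (nat_lit 232) (nat_lit 257) (nat_lit 235) .nil)) (nat_lit 233) (nat_lit 145)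
  (nat_lit 1767) (.node (.node .nil (nat_lit 234) (nat_lit 225) (nat_lit 1768) .nil) (nat_lit 235) (nat_lit
  242) (nat_lit 1634) .nil))) (nat_lit 236) (nat_lit 240) (nat_lit 179) (.node (.node (.node (.node .nil
  (nat_lit 237) (nat_lit 178) (nat_lit 1540) .nil) (nat_lit 238) (nat_lit 242) (nat_lit 1542) (.node .nil
  (nat_lit 239) (nat_lit 193) (nat_lit 1678) .nil)) (nat_lit 240) (nat_lit 161) (nat_lit 1669) (.node (.node
  .nil (nat_lit 241) (nat_lit 241) (nat_lit 1551) .nil) (nat_lit 242) (nat_lit 240) (nat_lit 757) .nil))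
  (nat_lit 243) (nat_lit 240) (nat_lit 45) (.node (.node (.node .nil (nat_lit 244) (nat_lit 210) (nat_lit
  1580) .nil) (nat_lit 245) (nat_lit 225) (nat_lit 1015) (.node .nil (nat_lit 246) (nat_lit 225) (nat_lit
  1017) .nil)) (nat_lit 247) (nat_lit 178) (nat_lit 1758) (.node (.node .nil (nat_lit 248) (nat_lit 210)
  (nat_lit 1746) .nil) (nat_lit 249) (nat_lit 193) (nat_lit 1016) .nil)))) (nat_lit 250) (nat_lit 208)
  (nat_lit 1001) (.node (.node (.node (.node (.node .nil (nat_lit 251) (nat_lit 241) (nat_lit 1524) .nil)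
  (nat_lit 252) (nat_lit 242) (nat_lit 1713) (.node .nil (nat_lit 253) (nat_lit 192) (nat_lit 651) .nil))
  (nat_lit 254) (nat_lit 240) (nat_lit 1211) (.node (.node .nil (nat_lit 255) (nat_lit 176) (nat_lit 1228)
  .nil) (nat_lit 256) (nat_lit 0) (nat_lit 256) .nil)) (nat_lit 257) (nat_lit 194) (nat_lit 227) (.node (.node
  (.node .nil (nat_lit 258) (nat_lit 210) (nat_lit 286) .nil) (nat_lit 259) (nat_lit 273) (nat_lit 1636)
  (.node .nil (nat_lit 260) (nat_lit 209) (nat_lit 654) .nil)) (nat_lit 261) (nat_lit 192) (nat_lit 227)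
  (.node (.node .nil (nat_lit 262) (nat_lit 129) (nat_lit 326) .nil) (nat_lit 263) (nat_lit 208) (nat_lit
  1054) .nil))) (nat_lit 264) (nat_lit 160) (nat_lit 1055) (.node (.node (.node (.node .nil (nat_lit 265)
  (nat_lit 161) (nat_lit 1111) .nil) (nat_lit 266) (nat_lit 192) (nat_lit 224) (.node .nil (nat_lit 267)
  (nat_lit 177) (nat_lit 1396) .nil)) (nat_lit 268) (nat_lit 144) (nat_lit 1256) (.node (.node .nil (nat_lit
  269) (nat_lit 257) (nat_lit 254) .nil) (nat_lit 270) (nat_lit 176) (nat_lit 1133) .nil)) (nat_lit 271)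
  (nat_lit 194) (nat_lit 294) (.node (.node (.node .nil (nat_lit 272) (nat_lit 130) (nat_lit 1665) .nil)
  (nat_lit 273) (nat_lit 257) (nat_lit 335) (.node .nil (nat_lit 274) (nat_lit 240) (nat_lit 1186) .nil))
  (nat_lit 275) (nat_lit 130) (nat_lit 161) (.node (.node .nil (nat_lit 276) (nat_lit 210) (nat_lit 59) .nil)
  (nat_lit 277) (nat_lit 209) (nat_lit 266) .nil))))) (nat_lit 278) (nat_lit 240) (nat_lit 1212) (.node (.node
  (.node (.node (.node (.node .nil (nat_lit 279) (nat_lit 273) (nat_lit 1619) .nil) (nat_lit 280) (nat_lit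
  224) (nat_lit 1200) (.node .nil (nat_lit 281) (nat_lit 209) (nat_lit 452) .nil)) (nat_lit 282) (nat_lit 145)
  (nat_lit 1299) (.node (.node .nil (nat_lit 283) (nat_lit 210) (nat_lit 1516) .nil) (nat_lit 284) (nat_lit
  177) (nat_lit 319) .nil)) (nat_lit 285) (nat_lit 210) (nat_lit 368) (.node (.node (.node .nil (nat_lit 286)
  (nat_lit 193) (nat_lit 294) .nil) (nat_lit 287) (nat_lit 162) (nat_lit 223) (.node .nil (nat_lit 288)
  (nat_lit 240) (nat_lit 1639) .nil)) (nat_lit 289) (nat_lit 193) (nat_lit 1159) (.node (.node .nil (nat_lit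
  290) (nat_lit 96) (nat_lit 1192) .nil) (nat_lit 291) (nat_lit 192) (nat_lit 1227) .nil))) (nat_lit 292)
  (nat_lit 241) (nat_lit 48) (.node (.node (.node (.node .nil (nat_lit 293) (nat_lit 256) (nat_lit 819) .nil)
  (nat_lit 294) (nat_lit 176) (nat_lit 1215) (.node .nil (nat_lit 295) (nat_lit 176) (nat_lit 551) .nil))
  (nat_lit 296) (nat_lit 160) (nat_lit 1384) (.node (.node .nil (nat_lit 297) (nat_lit 177) (nat_lit 1300)
  .nil) (nat_lit 298) (nat_lit 256) (nat_lit 1400) .nil)) (nat_lit 299) (nat_lit 176) (nat_lit 1399) (.node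
  (.node (.node .nil (nat_lit 300) (nat_lit 194) (nat_lit 295) .nil) (nat_lit 301) (nat_lit 194) (nat_lit 322)
  (.node .nil (nat_lit 302) (nat_lit 113) (nat_lit 623) .nil)) (nat_lit 303) (nat_lit 162) (nat_lit 58) (.node
  (.node .nil (nat_lit 304) (nat_lit 176) (nat_lit 1608) .nil) (nat_lit 305) (nat_lit 209) (nat_lit 1132)
  .nil)))) (nat_lit 306) (nat_lit 210) (nat_lit 212) (.node (.node (.node (.node (.node .nil (nat_lit 307)
  (nat_lit 176) (nat_lit 1240) .nil) (nat_lit 308) (nat_lit 194) (nat_lit 224) (.node .nil (nat_lit 309)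
  (nat_lit 209) (nat_lit 1372) .nil)) (nat_lit 310) (nat_lit 194) (nat_lit 62) (.node (.node .nil (nat_lit
  311) (nat_lit 256) (nat_lit 1447) .nil) (nat_lit 312) (nat_lit 178) (nat_lit 365) .nil)) (nat_lit 313)
  (nat_lit 193) (nat_lit 354) (.node (.node (.node .nil (nat_lit 314) (nat_lit 161) (nat_lit 268) .nil)
  (nat_lit 315) (nat_lit 145) (nat_lit 320) (.node .nil (nat_lit 316) (nat_lit 210) (nat_lit 1679) .nil))
  (nat_lit 317) (nat_lit 210) (nat_lit 369) (.node (.node .nil (nat_lit 318) (nat_lit 225) (nat_lit 283) .nil)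
  (nat_lit 319) (nat_lit 160) (nat_lit 1258) .nil))) (nat_lit 320) (nat_lit 130) (nat_lit 302) (.node (.node
  (.node (.node .nil (nat_lit 321) (nat_lit 178) (nat_lit 319) .nil) (nat_lit 322) (nat_lit 177) (nat_lit 530)
  (.node .nil (nat_lit 323) (nat_lit 242) (nat_lit 1435) .nil)) (nat_lit 324) (nat_lit 129) (nat_lit 215)
  (.node (.node .nil (nat_lit 325) (nat_lit 226) (nat_lit 1633) .nil) (nat_lit 326) (nat_lit 112) (nat_lit
  1287) .nil)) (nat_lit 327) (nat_lit 224) (nat_lit 1454) (.node (.node (.node .nil (nat_lit 328) (nat_lit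
  240) (nat_lit 1298) .nil) (nat_lit 329) (nat_lit 194) (nat_lit 1370) (.node .nil (nat_lit 330) (nat_lit 192)
  (nat_lit 567) .nil)) (nat_lit 331) (nat_lit 240) (nat_lit 1426) (.node (.node .nil (nat_lit 332) (nat_lit
  129) (nat_lit 645) .nil) (nat_lit 333) (nat_lit 176) (nat_lit 1294) .nil))))))
def xT0t_3 : T := (.node (.node (.node (.node (.node (.node (.node .nil (nat_lit 335) (nat_lit 240) (nat_lit
  1123) .nil) (nat_lit 336) (nat_lit 176) (nat_lit 1259) (.node .nil (nat_lit 337) (nat_lit 98) (nat_lit 763)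
  .nil)) (nat_lit 338) (nat_lit 241) (nat_lit 351) (.node (.node .nil (nat_lit 339) (nat_lit 224) (nat_lit
  1135) .nil) (nat_lit 340) (nat_lit 241) (nat_lit 1026) .nil)) (nat_lit 341) (nat_lit 225) (nat_lit 881)
  (.node (.node (.node .nil (nat_lit 342) (nat_lit 208) (nat_lit 1293) .nil) (nat_lit 343) (nat_lit 225)
  (nat_lit 1478) (.node .nil (nat_lit 344) (nat_lit 208) (nat_lit 1246) .nil)) (nat_lit 345) (nat_lit 177)
  (nat_lit 400) (.node (.node .nil (nat_lit 346) (nat_lit 257) (nat_lit 1085) .nil) (nat_lit 347) (nat_lit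
  192) (nat_lit 891) .nil))) (nat_lit 348) (nat_lit 178) (nat_lit 1338) (.node (.node (.node (.node .nil
  (nat_lit 349) (nat_lit 241) (nat_lit 1455) .nil) (nat_lit 350) (nat_lit 242) (nat_lit 118) (.node .nil
  (nat_lit 351) (nat_lit 224) (nat_lit 887) .nil)) (nat_lit 352) (nat_lit 258) (nat_lit 1003) (.node (.node
  .nil (nat_lit 353) (nat_lit 258) (nat_lit 1046) .nil) (nat_lit 354) (nat_lit 178) (nat_lit 1013) .nil))
  (nat_lit 355) (nat_lit 224) (nat_lit 1441) (.node (.node (.node .nil (nat_lit 356) (nat_lit 242) (nat_lit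
  1048) .nil) (nat_lit 357) (nat_lit 224) (nat_lit 998) (.node .nil (nat_lit 358) (nat_lit 208) (nat_lit 1102)
  .nil)) (nat_lit 359) (nat_lit 193) (nat_lit 885) (.node (.node .nil (nat_lit 360) (nat_lit 160) (nat_lit
  1423) .nil) (nat_lit 361) (nat_lit 194) (nat_lit 1651) .nil)))) (nat_lit 362) (nat_lit 240) (nat_lit 1100)
  (.node (.node (.node (.node (.node .nil (nat_lit 363) (nat_lit 208) (nat_lit 1422) .nil) (nat_lit 364)
  (nat_lit 145) (nat_lit 815) (.node .nil (nat_lit 365) (nat_lit 161) (nat_lit 1154) .nil)) (nat_lit 366)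
  (nat_lit 273) (nat_lit 1453) (.node (.node .nil (nat_lit 367) (nat_lit 162) (nat_lit 371) .nil) (nat_lit
  368) (nat_lit 192) (nat_lit 992) .nil)) (nat_lit 369) (nat_lit 193) (nat_lit 1464) (.node (.node (.node .nil
  (nat_lit 370) (nat_lit 241) (nat_lit 1491) .nil) (nat_lit 371) (nat_lit 145) (nat_lit 1626) (.node .nil
  (nat_lit 372) (nat_lit 257) (nat_lit 350) .nil)) (nat_lit 373) (nat_lit 162) (nat_lit 1764) (.node (.node
  .nil (nat_lit 374) (nat_lit 112) (nat_lit 28) .nil) (nat_lit 375) (nat_lit 192) (nat_lit 1016) .nil)))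
  (nat_lit 376) (nat_lit 194) (nat_lit 1710) (.node (.node (.node (.node .nil (nat_lit 377) (nat_lit 65)
  (nat_lit 1701) .nil) (nat_lit 378) (nat_lit 33) (nat_lit 1700) (.node .nil (nat_lit 379) (nat_lit 210)
  (nat_lit 1759) .nil)) (nat_lit 380) (nat_lit 194) (nat_lit 1743) (.node (.node .nil (nat_lit 381) (nat_lit
  178) (nat_lit 1575) .nil) (nat_lit 382) (nat_lit 128) (nat_lit 215) .nil)) (nat_lit 383) (nat_lit 194)
  (nat_lit 1383) (.node (.node (.node .nil (nat_lit 384) (nat_lit 177) (nat_lit 572) .nil) (nat_lit 385)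
  (nat_lit 177) (nat_lit 1709) (.node .nil (nat_lit 386) (nat_lit 97) (nat_lit 1704) .nil)) (nat_lit 387)
  (nat_lit 209) (nat_lit 1557) (.node (.node .nil (nat_lit 388) (nat_lit 242) (nat_lit 732) .nil) (nat_lit
  389) (nat_lit 225) (nat_lit 1747) .nil))))) (nat_lit 390) (nat_lit 209) (nat_lit 1763) (.node (.node (.node
  (.node (.node (.node .nil (nat_lit 391) (nat_lit 114) (nat_lit 725) .nil) (nat_lit 392) (nat_lit 240)
  (nat_lit 1219) (.node .nil (nat_lit 393) (nat_lit 208) (nat_lit 1067) .nil)) (nat_lit 394) (nat_lit 209)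
  (nat_lit 1624) (.node (.node .nil (nat_lit 395) (nat_lit 98) (nat_lit 764) .nil) (nat_lit 396) (nat_lit 176)
  (nat_lit 820) .nil)) (nat_lit 397) (nat_lit 193) (nat_lit 590) (.node (.node (.node .nil (nat_lit 398)
  (nat_lit 194) (nat_lit 1011) .nil) (nat_lit 399) (nat_lit 114) (nat_lit 1049) (.node .nil (nat_lit 400)
  (nat_lit 160) (nat_lit 1193) .nil)) (nat_lit 401) (nat_lit 224) (nat_lit 1177) (.node (.node .nil (nat_lit
  402) (nat_lit 224) (nat_lit 1088) .nil) (nat_lit 403) (nat_lit 98) (nat_lit 1047) .nil))) (nat_lit 404)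
  (nat_lit 209) (nat_lit 1742) (.node (.node (.node (.node .nil (nat_lit 405) (nat_lit 258) (nat_lit 141)
  .nil) (nat_lit 406) (nat_lit 194) (nat_lit 679) (.node .nil (nat_lit 407) (nat_lit 274) (nat_lit 675) .nil))
  (nat_lit 408) (nat_lit 272) (nat_lit 1485) (.node (.node .nil (nat_lit 409) (nat_lit 161) (nat_lit 1275)
  .nil) (nat_lit 410) (nat_lit 272) (nat_lit 1388) .nil)) (nat_lit 411) (nat_lit 209) (nat_lit 581) (.node
  (.node (.node .nil (nat_lit 412) (nat_lit 210) (nat_lit 34) .nil) (nat_lit 413) (nat_lit 128) (nat_lit 940)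
  (.node .nil (nat_lit 414) (nat_lit 177) (nat_lit 373) .nil)) (nat_lit 415) (nat_lit 34) (nat_lit 528) (.node
  (.node .nil (nat_lit 416) (nat_lit 34) (nat_lit 652) .nil) (nat_lit 417) (nat_lit 162) (nat_lit 852)
  .nil)))) (nat_lit 418) (nat_lit 210) (nat_lit 1187) (.node (.node (.node (.node (.node .nil (nat_lit 419)
  (nat_lit 162) (nat_lit 1296) .nil) (nat_lit 420) (nat_lit 113) (nat_lit 421) (.node .nil (nat_lit 421)
  (nat_lit 96) (nat_lit 930) .nil)) (nat_lit 422) (nat_lit 113) (nat_lit 478) (.node (.node .nil (nat_lit 423)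
  (nat_lit 178) (nat_lit 551) .nil) (nat_lit 424) (nat_lit 209) (nat_lit 445) .nil)) (nat_lit 425) (nat_lit
  176) (nat_lit 171) (.node (.node (.node .nil (nat_lit 426) (nat_lit 224) (nat_lit 104) .nil) (nat_lit 427)
  (nat_lit 194) (nat_lit 142) (.node .nil (nat_lit 428) (nat_lit 210) (nat_lit 158) .nil)) (nat_lit 429)
  (nat_lit 112) (nat_lit 202) (.node (.node .nil (nat_lit 430) (nat_lit 257) (nat_lit 1444) .nil) (nat_lit
  431) (nat_lit 128) (nat_lit 203) .nil))) (nat_lit 432) (nat_lit 209) (nat_lit 1446) (.node (.node (.node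
  (.node .nil (nat_lit 433) (nat_lit 176) (nat_lit 781) .nil) (nat_lit 434) (nat_lit 209) (nat_lit 204) (.node
  .nil (nat_lit 435) (nat_lit 242) (nat_lit 1025) .nil)) (nat_lit 436) (nat_lit 194) (nat_lit 1736) (.node
  (.node .nil (nat_lit 437) (nat_lit 193) (nat_lit 270) .nil) (nat_lit 438) (nat_lit 128) (nat_lit 1343)
  .nil)) (nat_lit 439) (nat_lit 226) (nat_lit 481) (.node (.node (.node .nil (nat_lit 440) (nat_lit 210)
  (nat_lit 1473) .nil) (nat_lit 441) (nat_lit 146) (nat_lit 1482) .nil) (nat_lit 442) (nat_lit 241) (nat_lit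
  456) (.node (.node .nil (nat_lit 443) (nat_lit 112) (nat_lit 795) .nil) (nat_lit 444) (nat_lit 210) (nat_lit
  1249) .nil))))))
def xT0t_4 : T := (.node (.node (.node (.node (.node (.node (.node .nil (nat_lit 446) (nat_lit 272) (nat_lit
  182) .nil) (nat_lit 447) (nat_lit 242) (nat_lit 1735) (.node .nil (nat_lit 448) (nat_lit 242) (nat_lit 389)
  .nil)) (nat_lit 449) (nat_lit 194) (nat_lit 1365) (.node (.node .nil (nat_lit 450) (nat_lit 256) (nat_lit
  1433) .nil) (nat_lit 451) (nat_lit 192) (nat_lit 1652) .nil)) (nat_lit 452) (nat_lit 192) (nat_lit 1514)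
  (.node (.node (.node .nil (nat_lit 453) (nat_lit 145) (nat_lit 1315) .nil) (nat_lit 454) (nat_lit 225)
  (nat_lit 612) (.node .nil (nat_lit 455) (nat_lit 224) (nat_lit 1129) .nil)) (nat_lit 456) (nat_lit 224)
  (nat_lit 1131) (.node (.node .nil (nat_lit 457) (nat_lit 226) (nat_lit 602) .nil) (nat_lit 458) (nat_lit
  224) (nat_lit 81) .nil))) (nat_lit 459) (nat_lit 240) (nat_lit 80) (.node (.node (.node (.node .nil (nat_lit
  460) (nat_lit 225) (nat_lit 671) .nil) (nat_lit 461) (nat_lit 176) (nat_lit 993) (.node .nil (nat_lit 462)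
  (nat_lit 224) (nat_lit 990) .nil)) (nat_lit 463) (nat_lit 144) (nat_lit 994) (.node (.node .nil (nat_lit
  464) (nat_lit 129) (nat_lit 1260) .nil) (nat_lit 465) (nat_lit 161) (nat_lit 624) .nil)) (nat_lit 466)
  (nat_lit 242) (nat_lit 456) (.node (.node (.node .nil (nat_lit 467) (nat_lit 96) (nat_lit 19) .nil) (nat_lit
  468) (nat_lit 192) (nat_lit 414) (.node .nil (nat_lit 469) (nat_lit 48) (nat_lit 416) .nil)) (nat_lit 470)
  (nat_lit 225) (nat_lit 358) (.node (.node .nil (nat_lit 471) (nat_lit 242) (nat_lit 1087) .nil) (nat_lit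
  472) (nat_lit 224) (nat_lit 968) .nil)))) (nat_lit 473) (nat_lit 193) (nat_lit 461) (.node (.node (.node
  (.node (.node .nil (nat_lit 474) (nat_lit 225) (nat_lit 1248) .nil) (nat_lit 475) (nat_lit 241) (nat_lit 96)
  (.node .nil (nat_lit 476) (nat_lit 241) (nat_lit 973) .nil)) (nat_lit 477) (nat_lit 274) (nat_lit 269)
  (.node (.node .nil (nat_lit 478) (nat_lit 96) (nat_lit 100) .nil) (nat_lit 479) (nat_lit 289) (nat_lit 93)
  .nil)) (nat_lit 480) (nat_lit 273) (nat_lit 741) (.node (.node (.node .nil (nat_lit 481) (nat_lit 208)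
  (nat_lit 964) .nil) (nat_lit 482) (nat_lit 241) (nat_lit 614) (.node .nil (nat_lit 483) (nat_lit 194)
  (nat_lit 270) .nil)) (nat_lit 484) (nat_lit 241) (nat_lit 508) (.node (.node .nil (nat_lit 485) (nat_lit
  176) (nat_lit 49) .nil) (nat_lit 486) (nat_lit 208) (nat_lit 65) .nil))) (nat_lit 487) (nat_lit 178)
  (nat_lit 1755) (.node (.node (.node (.node .nil (nat_lit 488) (nat_lit 226) (nat_lit 1702) .nil) (nat_lit
  489) (nat_lit 208) (nat_lit 68) (.node .nil (nat_lit 490) (nat_lit 226) (nat_lit 1726) .nil)) (nat_lit 491)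
  (nat_lit 242) (nat_lit 1728) (.node (.node .nil (nat_lit 492) (nat_lit 241) (nat_lit 488) .nil) (nat_lit
  493) (nat_lit 176) (nat_lit 726) .nil)) (nat_lit 494) (nat_lit 210) (nat_lit 1705) (.node (.node (.node .nil
  (nat_lit 495) (nat_lit 242) (nat_lit 1724) .nil) (nat_lit 496) (nat_lit 112) (nat_lit 725) (.node .nil
  (nat_lit 497) (nat_lit 65) (nat_lit 469) .nil)) (nat_lit 498) (nat_lit 208) (nat_lit 503) (.node (.node .nil
  (nat_lit 499) (nat_lit 178) (nat_lit 1730) .nil) (nat_lit 500) (nat_lit 65) (nat_lit 942) .nil))))) (nat_lit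
  501) (nat_lit 225) (nat_lit 57) (.node (.node (.node (.node (.node (.node .nil (nat_lit 502) (nat_lit 177)
  (nat_lit 583) .nil) (nat_lit 503) (nat_lit 194) (nat_lit 396) (.node .nil (nat_lit 504) (nat_lit 194)
  (nat_lit 1098) .nil)) (nat_lit 505) (nat_lit 146) (nat_lit 617) (.node (.node .nil (nat_lit 506) (nat_lit
  272) (nat_lit 909) .nil) (nat_lit 507) (nat_lit 144) (nat_lit 324) .nil)) (nat_lit 508) (nat_lit 224)
  (nat_lit 1336) (.node (.node (.node .nil (nat_lit 509) (nat_lit 66) (nat_lit 1752) .nil) (nat_lit 510)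
  (nat_lit 256) (nat_lit 1221) (.node .nil (nat_lit 511) (nat_lit 208) (nat_lit 1222) .nil)) (nat_lit 512)
  (nat_lit 177) (nat_lit 1223) (.node (.node .nil (nat_lit 513) (nat_lit 240) (nat_lit 1266) .nil) (nat_lit
  514) (nat_lit 241) (nat_lit 1393) .nil))) (nat_lit 515) (nat_lit 193) (nat_lit 564) (.node (.node (.node
  (.node .nil (nat_lit 516) (nat_lit 193) (nat_lit 1098) .nil) (nat_lit 517) (nat_lit 258) (nat_lit 39) (.node
  .nil (nat_lit 518) (nat_lit 176) (nat_lit 1488) .nil)) (nat_lit 519) (nat_lit 162) (nat_lit 192) (.node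
  (.node .nil (nat_lit 520) (nat_lit 128) (nat_lit 1499) .nil) (nat_lit 521) (nat_lit 161) (nat_lit 816)
  .nil)) (nat_lit 522) (nat_lit 210) (nat_lit 702) (.node (.node (.node .nil (nat_lit 523) (nat_lit 193)
  (nat_lit 321) .nil) (nat_lit 524) (nat_lit 193) (nat_lit 336) (.node .nil (nat_lit 525) (nat_lit 210)
  (nat_lit 150) .nil)) (nat_lit 526) (nat_lit 226) (nat_lit 707) (.node (.node .nil (nat_lit 527) (nat_lit
  272) (nat_lit 91) .nil) (nat_lit 528) (nat_lit 17) (nat_lit 256) .nil)))) (nat_lit 529) (nat_lit 241)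
  (nat_lit 1048) (.node (.node (.node (.node (.node .nil (nat_lit 530) (nat_lit 162) (nat_lit 184) .nil)
  (nat_lit 531) (nat_lit 193) (nat_lit 47) (.node .nil (nat_lit 532) (nat_lit 144) (nat_lit 1315) .nil))
  (nat_lit 533) (nat_lit 208) (nat_lit 1372) (.node (.node .nil (nat_lit 534) (nat_lit 240) (nat_lit 1676)
  .nil) (nat_lit 535) (nat_lit 144) (nat_lit 1657) .nil)) (nat_lit 536) (nat_lit 240) (nat_lit 1348) (.node
  (.node (.node .nil (nat_lit 537) (nat_lit 160) (nat_lit 1689) .nil) (nat_lit 538) (nat_lit 193) (nat_lit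
  928) (.node .nil (nat_lit 539) (nat_lit 258) (nat_lit 1172) .nil)) (nat_lit 540) (nat_lit 178) (nat_lit
  1073) (.node (.node .nil (nat_lit 541) (nat_lit 145) (nat_lit 102) .nil) (nat_lit 542) (nat_lit 161)
  (nat_lit 647) .nil))) (nat_lit 543) (nat_lit 210) (nat_lit 120) (.node (.node (.node (.node .nil (nat_lit
  544) (nat_lit 161) (nat_lit 505) .nil) (nat_lit 545) (nat_lit 242) (nat_lit 646) (.node .nil (nat_lit 546)
  (nat_lit 258) (nat_lit 1606) .nil)) (nat_lit 547) (nat_lit 192) (nat_lit 1722) (.node (.node .nil (nat_lit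
  548) (nat_lit 224) (nat_lit 1726) .nil) (nat_lit 549) (nat_lit 242) (nat_lit 1364) .nil)) (nat_lit 550)
  (nat_lit 224) (nat_lit 305) (.node (.node (.node .nil (nat_lit 551) (nat_lit 161) (nat_lit 591) .nil)
  (nat_lit 552) (nat_lit 226) (nat_lit 812) (.node .nil (nat_lit 553) (nat_lit 224) (nat_lit 1091) .nil))
  (nat_lit 554) (nat_lit 242) (nat_lit 1609) (.node (.node .nil (nat_lit 555) (nat_lit 257) (nat_lit 1205)
  .nil) (nat_lit 556) (nat_lit 208) (nat_lit 1119) .nil))))))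
def xT0t_5 : T := (.node (.node (.node (.node (.node (.node (.node .nil (nat_lit 558) (nat_lit 193) (nat_lit
  1121) .nil) (nat_lit 559) (nat_lit 97) (nat_lit 1045) (.node .nil (nat_lit 560) (nat_lit 176) (nat_lit 1117)
  .nil)) (nat_lit 561) (nat_lit 81) (nat_lit 1685) (.node (.node .nil (nat_lit 562) (nat_lit 256) (nat_lit
  1112) .nil) (nat_lit 563) (nat_lit 208) (nat_lit 1042) .nil)) (nat_lit 564) (nat_lit 176) (nat_lit 1662)
  (.node (.node (.node .nil (nat_lit 565) (nat_lit 128) (nat_lit 1150) .nil) (nat_lit 566) (nat_lit 240)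
  (nat_lit 1543) (.node .nil (nat_lit 567) (nat_lit 178) (nat_lit 579) .nil)) (nat_lit 568) (nat_lit 210)
  (nat_lit 827) (.node (.node .nil (nat_lit 569) (nat_lit 177) (nat_lit 571) .nil) (nat_lit 570) (nat_lit 145)
  (nat_lit 656) .nil))) (nat_lit 571) (nat_lit 160) (nat_lit 315) (.node (.node (.node (.node .nil (nat_lit
  572) (nat_lit 162) (nat_lit 1283) .nil) (nat_lit 573) (nat_lit 224) (nat_lit 662) (.node .nil (nat_lit 574)
  (nat_lit 226) (nat_lit 998) .nil)) (nat_lit 575) (nat_lit 193) (nat_lit 1351) (.node (.node .nil (nat_lit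
  576) (nat_lit 210) (nat_lit 1067) .nil) (nat_lit 577) (nat_lit 96) (nat_lit 1723) .nil)) (nat_lit 578)
  (nat_lit 225) (nat_lit 1675) (.node (.node (.node .nil (nat_lit 579) (nat_lit 160) (nat_lit 838) .nil)
  (nat_lit 580) (nat_lit 225) (nat_lit 642) (.node .nil (nat_lit 581) (nat_lit 192) (nat_lit 799) .nil))
  (nat_lit 582) (nat_lit 273) (nat_lit 745) (.node (.node .nil (nat_lit 583) (nat_lit 162) (nat_lit 463) .nil)
  (nat_lit 584) (nat_lit 208) (nat_lit 575) .nil)))) (nat_lit 585) (nat_lit 240) (nat_lit 1481) (.node (.node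
  (.node (.node (.node .nil (nat_lit 586) (nat_lit 226) (nat_lit 387) .nil) (nat_lit 587) (nat_lit 192)
  (nat_lit 653) (.node .nil (nat_lit 588) (nat_lit 176) (nat_lit 409) .nil)) (nat_lit 589) (nat_lit 193)
  (nat_lit 1191) (.node (.node .nil (nat_lit 590) (nat_lit 178) (nat_lit 1448) .nil) (nat_lit 591) (nat_lit
  144) (nat_lit 1744) .nil)) (nat_lit 592) (nat_lit 209) (nat_lit 1257) (.node (.node (.node .nil (nat_lit
  593) (nat_lit 177) (nat_lit 1259) .nil) (nat_lit 594) (nat_lit 209) (nat_lit 1445) (.node .nil (nat_lit 595)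
  (nat_lit 242) (nat_lit 1534) .nil)) (nat_lit 596) (nat_lit 224) (nat_lit 35) (.node (.node .nil (nat_lit
  597) (nat_lit 209) (nat_lit 984) .nil) (nat_lit 598) (nat_lit 144) (nat_lit 38) .nil))) (nat_lit 599)
  (nat_lit 256) (nat_lit 14) (.node (.node (.node (.node .nil (nat_lit 600) (nat_lit 257) (nat_lit 466) .nil)
  (nat_lit 601) (nat_lit 256) (nat_lit 986) (.node .nil (nat_lit 602) (nat_lit 209) (nat_lit 503) .nil))
  (nat_lit 603) (nat_lit 113) (nat_lit 202) (.node (.node .nil (nat_lit 604) (nat_lit 128) (nat_lit 603) .nil)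
  (nat_lit 605) (nat_lit 274) (nat_lit 1044) .nil)) (nat_lit 606) (nat_lit 113) (nat_lit 577) (.node (.node
  (.node .nil (nat_lit 607) (nat_lit 145) (nat_lit 1169) .nil) (nat_lit 608) (nat_lit 226) (nat_lit 1131)
  (.node .nil (nat_lit 609) (nat_lit 144) (nat_lit 1105) .nil)) (nat_lit 610) (nat_lit 129) (nat_lit 1686)
  (.node (.node .nil (nat_lit 611) (nat_lit 145) (nat_lit 1657) .nil) (nat_lit 612) (nat_lit 210) (nat_lit
  1307) .nil))))) (nat_lit 613) (nat_lit 176) (nat_lit 1073) (.node (.node (.node (.node (.node (.node .nil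
  (nat_lit 614) (nat_lit 224) (nat_lit 1181) .nil) (nat_lit 615) (nat_lit 208) (nat_lit 1408) (.node .nil
  (nat_lit 616) (nat_lit 146) (nat_lit 1377) .nil)) (nat_lit 617) (nat_lit 128) (nat_lit 1229) (.node (.node
  .nil (nat_lit 618) (nat_lit 160) (nat_lit 1407) .nil) (nat_lit 619) (nat_lit 240) (nat_lit 1405) .nil))
  (nat_lit 620) (nat_lit 208) (nat_lit 824) (.node (.node (.node .nil (nat_lit 621) (nat_lit 193) (nat_lit
  1373) .nil) (nat_lit 622) (nat_lit 226) (nat_lit 1147) (.node .nil (nat_lit 623) (nat_lit 96) (nat_lit 1753)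
  .nil)) (nat_lit 624) (nat_lit 144) (nat_lit 1377) (.node (.node .nil (nat_lit 625) (nat_lit 145) (nat_lit
  604) .nil) (nat_lit 626) (nat_lit 208) (nat_lit 1319) .nil))) (nat_lit 627) (nat_lit 129) (nat_lit 1665)
  (.node (.node (.node (.node .nil (nat_lit 628) (nat_lit 241) (nat_lit 1564) .nil) (nat_lit 629) (nat_lit
  226) (nat_lit 277) (.node .nil (nat_lit 630) (nat_lit 176) (nat_lit 1233) .nil)) (nat_lit 631) (nat_lit 256)
  (nat_lit 1085) (.node (.node .nil (nat_lit 632) (nat_lit 161) (nat_lit 507) .nil) (nat_lit 633) (nat_lit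
  241) (nat_lit 830) .nil)) (nat_lit 634) (nat_lit 242) (nat_lit 897) (.node (.node (.node .nil (nat_lit 635)
  (nat_lit 258) (nat_lit 1596) .nil) (nat_lit 636) (nat_lit 225) (nat_lit 626) (.node .nil (nat_lit 637)
  (nat_lit 146) (nat_lit 229) .nil)) (nat_lit 638) (nat_lit 224) (nat_lit 1680) (.node (.node .nil (nat_lit
  639) (nat_lit 241) (nat_lit 586) .nil) (nat_lit 640) (nat_lit 209) (nat_lit 1562) .nil)))) (nat_lit 641)
  (nat_lit 146) (nat_lit 604) (.node (.node (.node (.node (.node .nil (nat_lit 642) (nat_lit 208) (nat_lit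
  271) .nil) (nat_lit 643) (nat_lit 242) (nat_lit 454) (.node .nil (nat_lit 644) (nat_lit 226) (nat_lit 1245)
  .nil)) (nat_lit 645) (nat_lit 114) (nat_lit 1410) (.node (.node .nil (nat_lit 646) (nat_lit 225) (nat_lit
  525) .nil) (nat_lit 647) (nat_lit 144) (nat_lit 610) .nil)) (nat_lit 648) (nat_lit 258) (nat_lit 236) (.node
  (.node (.node .nil (nat_lit 649) (nat_lit 113) (nat_lit 337) .nil) (nat_lit 650) (nat_lit 224) (nat_lit 735)
  (.node .nil (nat_lit 651) (nat_lit 177) (nat_lit 49) .nil)) (nat_lit 652) (nat_lit 16) (nat_lit 256) (.node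
  (.node .nil (nat_lit 653) (nat_lit 177) (nat_lit 146) .nil) (nat_lit 654) (nat_lit 192) (nat_lit 1468)
  .nil))) (nat_lit 655) (nat_lit 80) (nat_lit 509) (.node (.node (.node (.node .nil (nat_lit 656) (nat_lit
  128) (nat_lit 606) .nil) (nat_lit 657) (nat_lit 193) (nat_lit 870) (.node .nil (nat_lit 658) (nat_lit 210)
  (nat_lit 717) .nil)) (nat_lit 659) (nat_lit 178) (nat_lit 1082) (.node (.node .nil (nat_lit 660) (nat_lit
  177) (nat_lit 721) .nil) (nat_lit 661) (nat_lit 193) (nat_lit 669) .nil)) (nat_lit 662) (nat_lit 210)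
  (nat_lit 1269) (.node (.node (.node .nil (nat_lit 663) (nat_lit 129) (nat_lit 222) .nil) (nat_lit 664)
  (nat_lit 209) (nat_lit 427) .nil) (nat_lit 665) (nat_lit 192) (nat_lit 772) (.node (.node .nil (nat_lit 666)
  (nat_lit 209) (nat_lit 668) .nil) (nat_lit 667) (nat_lit 146) (nat_lit 892) .nil))))))
def xT0t_6 : T := (.node (.node (.node (.node (.node (.node (.node .nil (nat_lit 669) (nat_lit 178) (nat_lit
  1107) .nil) (nat_lit 670) (nat_lit 208) (nat_lit 738) (.node .nil (nat_lit 671) (nat_lit 208) (nat_lit 984)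
  .nil)) (nat_lit 672) (nat_lit 240) (nat_lit 574) (.node (.node .nil (nat_lit 673) (nat_lit 210) (nat_lit
  1106) .nil) (nat_lit 674) (nat_lit 258) (nat_lit 30) .nil)) (nat_lit 675) (nat_lit 257) (nat_lit 213) (.node
  (.node (.node .nil (nat_lit 676) (nat_lit 226) (nat_lit 803) .nil) (nat_lit 677) (nat_lit 210) (nat_lit 25)
  (.node .nil (nat_lit 678) (nat_lit 160) (nat_lit 98) .nil)) (nat_lit 679) (nat_lit 176) (nat_lit 1009)
  (.node (.node .nil (nat_lit 680) (nat_lit 209) (nat_lit 1042) .nil) (nat_lit 681) (nat_lit 210) (nat_lit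
  654) .nil))) (nat_lit 682) (nat_lit 240) (nat_lit 97) (.node (.node (.node (.node .nil (nat_lit 683)
  (nat_lit 209) (nat_lit 1380) .nil) (nat_lit 684) (nat_lit 144) (nat_lit 1007) (.node .nil (nat_lit 685)
  (nat_lit 242) (nat_lit 800) .nil)) (nat_lit 686) (nat_lit 226) (nat_lit 26) (.node (.node .nil (nat_lit 687)
  (nat_lit 208) (nat_lit 762) .nil) (nat_lit 688) (nat_lit 272) (nat_lit 16) .nil)) (nat_lit 689) (nat_lit
  225) (nat_lit 1550) (.node (.node (.node .nil (nat_lit 690) (nat_lit 240) (nat_lit 840) .nil) (nat_lit 691)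
  (nat_lit 226) (nat_lit 1127) (.node .nil (nat_lit 692) (nat_lit 146) (nat_lit 464) .nil)) (nat_lit 693)
  (nat_lit 177) (nat_lit 70) (.node (.node .nil (nat_lit 694) (nat_lit 176) (nat_lit 61) .nil) (nat_lit 695)
  (nat_lit 66) (nat_lit 32) .nil)))) (nat_lit 696) (nat_lit 226) (nat_lit 29) (.node (.node (.node (.node
  (.node .nil (nat_lit 697) (nat_lit 210) (nat_lit 524) .nil) (nat_lit 698) (nat_lit 224) (nat_lit 56) (.node
  .nil (nat_lit 699) (nat_lit 209) (nat_lit 665) .nil)) (nat_lit 700) (nat_lit 209) (nat_lit 770) (.node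
  (.node .nil (nat_lit 701) (nat_lit 226) (nat_lit 804) .nil) (nat_lit 702) (nat_lit 192) (nat_lit 997) .nil))
  (nat_lit 703) (nat_lit 194) (nat_lit 518) (.node (.node (.node .nil (nat_lit 704) (nat_lit 240) (nat_lit 42)
  .nil) (nat_lit 705) (nat_lit 192) (nat_lit 41) (.node .nil (nat_lit 706) (nat_lit 66) (nat_lit 83) .nil))
  (nat_lit 707) (nat_lit 209) (nat_lit 1110) (.node (.node .nil (nat_lit 708) (nat_lit 177) (nat_lit 1092)
  .nil) (nat_lit 709) (nat_lit 224) (nat_lit 43) .nil))) (nat_lit 710) (nat_lit 193) (nat_lit 333) (.node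
  (.node (.node (.node .nil (nat_lit 711) (nat_lit 208) (nat_lit 1653) .nil) (nat_lit 712) (nat_lit 208)
  (nat_lit 1078) (.node .nil (nat_lit 713) (nat_lit 146) (nat_lit 1007) .nil)) (nat_lit 714) (nat_lit 209)
  (nat_lit 717) (.node (.node .nil (nat_lit 715) (nat_lit 208) (nat_lit 962) .nil) (nat_lit 716) (nat_lit 192)
  (nat_lit 512) .nil)) (nat_lit 717) (nat_lit 192) (nat_lit 267) (.node (.node (.node .nil (nat_lit 718)
  (nat_lit 224) (nat_lit 412) .nil) (nat_lit 719) (nat_lit 208) (nat_lit 18) (.node .nil (nat_lit 720)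
  (nat_lit 176) (nat_lit 786) .nil)) (nat_lit 721) (nat_lit 162) (nat_lit 507) (.node (.node .nil (nat_lit
  722) (nat_lit 192) (nat_lit 135) .nil) (nat_lit 723) (nat_lit 224) (nat_lit 700) .nil))))) (nat_lit 724)
  (nat_lit 225) (nat_lit 662) (.node (.node (.node (.node (.node (.node .nil (nat_lit 725) (nat_lit 97)
  (nat_lit 763) .nil) (nat_lit 726) (nat_lit 162) (nat_lit 268) (.node .nil (nat_lit 727) (nat_lit 226)
  (nat_lit 1358) .nil)) (nat_lit 728) (nat_lit 225) (nat_lit 670) (.node (.node .nil (nat_lit 729) (nat_lit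
  257) (nat_lit 953) .nil) (nat_lit 730) (nat_lit 129) (nat_lit 443) .nil)) (nat_lit 731) (nat_lit 225)
  (nat_lit 673) (.node (.node (.node .nil (nat_lit 732) (nat_lit 224) (nat_lit 736) .nil) (nat_lit 733)
  (nat_lit 226) (nat_lit 176) (.node .nil (nat_lit 734) (nat_lit 177) (nat_lit 1487) .nil)) (nat_lit 735)
  (nat_lit 210) (nat_lit 1116) (.node (.node .nil (nat_lit 736) (nat_lit 209) (nat_lit 1605) .nil) (nat_lit
  737) (nat_lit 210) (nat_lit 1110) .nil))) (nat_lit 738) (nat_lit 193) (nat_lit 423) (.node (.node (.node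
  (.node .nil (nat_lit 739) (nat_lit 193) (nat_lit 720) .nil) (nat_lit 740) (nat_lit 225) (nat_lit 21) (.node
  .nil (nat_lit 741) (nat_lit 256) (nat_lit 241) .nil)) (nat_lit 742) (nat_lit 241) (nat_lit 934) (.node
  (.node .nil (nat_lit 743) (nat_lit 240) (nat_lit 696) .nil) (nat_lit 744) (nat_lit 225) (nat_lit 170) .nil))
  (nat_lit 745) (nat_lit 256) (nat_lit 495) (.node (.node (.node .nil (nat_lit 746) (nat_lit 192) (nat_lit
  499) .nil) (nat_lit 747) (nat_lit 241) (nat_lit 15) (.node .nil (nat_lit 748) (nat_lit 192) (nat_lit 384)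
  .nil)) (nat_lit 749) (nat_lit 210) (nat_lit 1028) (.node (.node .nil (nat_lit 750) (nat_lit 80) (nat_lit
  695) .nil) (nat_lit 751) (nat_lit 177) (nat_lit 983) .nil)))) (nat_lit 752) (nat_lit 192) (nat_lit 237)
  (.node (.node (.node (.node (.node .nil (nat_lit 753) (nat_lit 194) (nat_lit 1740) .nil) (nat_lit 754)
  (nat_lit 242) (nat_lit 1024) (.node .nil (nat_lit 755) (nat_lit 208) (nat_lit 167) .nil)) (nat_lit 756)
  (nat_lit 208) (nat_lit 88) (.node (.node .nil (nat_lit 757) (nat_lit 226) (nat_lit 1734) .nil) (nat_lit 758)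
  (nat_lit 80) (nat_lit 99) .nil)) (nat_lit 759) (nat_lit 224) (nat_lit 699) (.node (.node (.node .nil
  (nat_lit 760) (nat_lit 178) (nat_lit 544) .nil) (nat_lit 761) (nat_lit 208) (nat_lit 383) (.node .nil
  (nat_lit 762) (nat_lit 193) (nat_lit 917) .nil)) (nat_lit 763) (nat_lit 80) (nat_lit 497) (.node (.node .nil
  (nat_lit 764) (nat_lit 80) (nat_lit 500) .nil) (nat_lit 765) (nat_lit 224) (nat_lit 494) .nil))) (nat_lit
  766) (nat_lit 240) (nat_lit 76) (.node (.node (.node (.node .nil (nat_lit 767) (nat_lit 224) (nat_lit 187)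
  .nil) (nat_lit 768) (nat_lit 226) (nat_lit 393) (.node .nil (nat_lit 769) (nat_lit 208) (nat_lit 190) .nil))
  (nat_lit 770) (nat_lit 192) (nat_lit 669) (.node (.node .nil (nat_lit 771) (nat_lit 130) (nat_lit 1084)
  .nil) (nat_lit 772) (nat_lit 177) (nat_lit 954) .nil)) (nat_lit 773) (nat_lit 210) (nat_lit 1391) (.node
  (.node (.node .nil (nat_lit 774) (nat_lit 225) (nat_lit 94) .nil) (nat_lit 775) (nat_lit 177) (nat_lit 225)
  (.node .nil (nat_lit 776) (nat_lit 209) (nat_lit 748) .nil)) (nat_lit 777) (nat_lit 193) (nat_lit 425)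
  (.node (.node .nil (nat_lit 778) (nat_lit 273) (nat_lit 599) .nil) (nat_lit 779) (nat_lit 160) (nat_lit 692)
  .nil))))))
def xT0t_7 : T := (.node (.node (.node (.node (.node (.node (.node .nil (nat_lit 781) (nat_lit 161) (nat_lit
  183) .nil) (nat_lit 782) (nat_lit 208) (nat_lit 504) (.node .nil (nat_lit 783) (nat_lit 258) (nat_lit 534)
  .nil)) (nat_lit 784) (nat_lit 225) (nat_lit 749) (.node (.node .nil (nat_lit 785) (nat_lit 128) (nat_lit
  422) .nil) (nat_lit 786) (nat_lit 161) (nat_lit 965) .nil)) (nat_lit 787) (nat_lit 258) (nat_lit 1152)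
  (.node (.node (.node .nil (nat_lit 788) (nat_lit 210) (nat_lit 1401) .nil) (nat_lit 789) (nat_lit 257)
  (nat_lit 238) (.node .nil (nat_lit 790) (nat_lit 241) (nat_lit 701) .nil)) (nat_lit 791) (nat_lit 208)
  (nat_lit 1552) (.node (.node .nil (nat_lit 792) (nat_lit 160) (nat_lit 899) .nil) (nat_lit 793) (nat_lit
  178) (nat_lit 1300) .nil))) (nat_lit 794) (nat_lit 176) (nat_lit 983) (.node (.node (.node (.node .nil
  (nat_lit 795) (nat_lit 97) (nat_lit 758) .nil) (nat_lit 796) (nat_lit 225) (nat_lit 66) (.node .nil (nat_lit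
  797) (nat_lit 224) (nat_lit 602) .nil)) (nat_lit 798) (nat_lit 178) (nat_lit 264) (.node (.node .nil
  (nat_lit 799) (nat_lit 178) (nat_lit 265) .nil) (nat_lit 800) (nat_lit 224) (nat_lit 1506) .nil)) (nat_lit
  801) (nat_lit 193) (nat_lit 567) (.node (.node (.node .nil (nat_lit 802) (nat_lit 145) (nat_lit 565) .nil)
  (nat_lit 803) (nat_lit 209) (nat_lit 854) (.node .nil (nat_lit 804) (nat_lit 208) (nat_lit 1511) .nil))
  (nat_lit 805) (nat_lit 240) (nat_lit 1507) (.node (.node .nil (nat_lit 806) (nat_lit 240) (nat_lit 1695)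
  .nil) (nat_lit 807) (nat_lit 192) (nat_lit 1579) .nil)))) (nat_lit 808) (nat_lit 256) (nat_lit 951) (.node
  (.node (.node (.node (.node .nil (nat_lit 809) (nat_lit 274) (nat_lit 1199) .nil) (nat_lit 810) (nat_lit
  160) (nat_lit 802) (.node .nil (nat_lit 811) (nat_lit 240) (nat_lit 897) .nil)) (nat_lit 812) (nat_lit 208)
  (nat_lit 801) (.node (.node .nil (nat_lit 813) (nat_lit 210) (nat_lit 1231) .nil) (nat_lit 814) (nat_lit
  160) (nat_lit 862) .nil)) (nat_lit 815) (nat_lit 130) (nat_lit 1425) (.node (.node (.node .nil (nat_lit 816)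
  (nat_lit 144) (nat_lit 815) .nil) (nat_lit 817) (nat_lit 178) (nat_lit 1228) (.node .nil (nat_lit 818)
  (nat_lit 129) (nat_lit 1216) .nil)) (nat_lit 819) (nat_lit 242) (nat_lit 948) (.node (.node .nil (nat_lit
  820) (nat_lit 161) (nat_lit 1283) .nil) (nat_lit 821) (nat_lit 224) (nat_lit 853) .nil))) (nat_lit 822)
  (nat_lit 146) (nat_lit 818) (.node (.node (.node (.node .nil (nat_lit 823) (nat_lit 208) (nat_lit 516) .nil)
  (nat_lit 824) (nat_lit 194) (nat_lit 867) (.node .nil (nat_lit 825) (nat_lit 257) (nat_lit 1756) .nil))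
  (nat_lit 826) (nat_lit 240) (nat_lit 829) (.node (.node .nil (nat_lit 827) (nat_lit 193) (nat_lit 1546)
  .nil) (nat_lit 828) (nat_lit 192) (nat_lit 860) .nil)) (nat_lit 829) (nat_lit 225) (nat_lit 1671) (.node
  (.node (.node .nil (nat_lit 830) (nat_lit 226) (nat_lit 1420) .nil) (nat_lit 831) (nat_lit 242) (nat_lit
  1235) (.node .nil (nat_lit 832) (nat_lit 241) (nat_lit 357) .nil)) (nat_lit 833) (nat_lit 226) (nat_lit
  1206) (.node (.node .nil (nat_lit 834) (nat_lit 144) (nat_lit 978) .nil) (nat_lit 835) (nat_lit 129)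
  (nat_lit 1292) .nil))))) (nat_lit 836) (nat_lit 242) (nat_lit 1426) (.node (.node (.node (.node (.node
  (.node .nil (nat_lit 837) (nat_lit 192) (nat_lit 982) .nil) (nat_lit 838) (nat_lit 145) (nat_lit 1194)
  (.node .nil (nat_lit 839) (nat_lit 194) (nat_lit 1208) .nil)) (nat_lit 840) (nat_lit 226) (nat_lit 1416)
  (.node (.node .nil (nat_lit 841) (nat_lit 192) (nat_lit 988) .nil) (nat_lit 842) (nat_lit 162) (nat_lit 453)
  .nil)) (nat_lit 843) (nat_lit 178) (nat_lit 1207) (.node (.node (.node .nil (nat_lit 844) (nat_lit 129)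
  (nat_lit 1715) .nil) (nat_lit 845) (nat_lit 178) (nat_lit 1419) (.node .nil (nat_lit 846) (nat_lit 177)
  (nat_lit 1254) .nil)) (nat_lit 847) (nat_lit 160) (nat_lit 822) (.node (.node .nil (nat_lit 848) (nat_lit
  161) (nat_lit 1566) .nil) (nat_lit 849) (nat_lit 192) (nat_lit 817) .nil))) (nat_lit 850) (nat_lit 192)
  (nat_lit 955) (.node (.node (.node (.node .nil (nat_lit 851) (nat_lit 226) (nat_lit 714) .nil) (nat_lit 852)
  (nat_lit 145) (nat_lit 1354) (.node .nil (nat_lit 853) (nat_lit 209) (nat_lit 1545) .nil)) (nat_lit 854)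
  (nat_lit 192) (nat_lit 971) (.node (.node .nil (nat_lit 855) (nat_lit 145) (nat_lit 1339) .nil) (nat_lit
  856) (nat_lit 208) (nat_lit 257) .nil)) (nat_lit 857) (nat_lit 112) (nat_lit 403) (.node (.node (.node .nil
  (nat_lit 858) (nat_lit 258) (nat_lit 1198) .nil) (nat_lit 859) (nat_lit 208) (nat_lit 827) (.node .nil
  (nat_lit 860) (nat_lit 178) (nat_lit 1133) .nil)) (nat_lit 861) (nat_lit 242) (nat_lit 455) (.node (.node
  .nil (nat_lit 862) (nat_lit 145) (nat_lit 1744) .nil) (nat_lit 863) (nat_lit 224) (nat_lit 956) .nil))))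
  (nat_lit 864) (nat_lit 130) (nat_lit 1229) (.node (.node (.node (.node (.node .nil (nat_lit 865) (nat_lit
  240) (nat_lit 646) .nil) (nat_lit 866) (nat_lit 241) (nat_lit 1266) (.node .nil (nat_lit 867) (nat_lit 176)
  (nat_lit 916) .nil)) (nat_lit 868) (nat_lit 208) (nat_lit 1705) (.node (.node .nil (nat_lit 869) (nat_lit
  208) (nat_lit 1545) .nil) (nat_lit 870) (nat_lit 176) (nat_lit 1709) .nil)) (nat_lit 871) (nat_lit 209)
  (nat_lit 1547) (.node (.node (.node .nil (nat_lit 872) (nat_lit 241) (nat_lit 1252) .nil) (nat_lit 873)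
  (nat_lit 224) (nat_lit 1550) (.node .nil (nat_lit 874) (nat_lit 257) (nat_lit 1745) .nil)) (nat_lit 875)
  (nat_lit 225) (nat_lit 1737) (.node (.node .nil (nat_lit 876) (nat_lit 194) (nat_lit 1139) .nil) (nat_lit
  877) (nat_lit 176) (nat_lit 918) .nil))) (nat_lit 878) (nat_lit 177) (nat_lit 1294) (.node (.node (.node
  (.node .nil (nat_lit 879) (nat_lit 194) (nat_lit 1134) .nil) (nat_lit 880) (nat_lit 225) (nat_lit 1431)
  (.node .nil (nat_lit 881) (nat_lit 208) (nat_lit 920) .nil)) (nat_lit 882) (nat_lit 210) (nat_lit 1197)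
  (.node (.node .nil (nat_lit 883) (nat_lit 210) (nat_lit 1080) .nil) (nat_lit 884) (nat_lit 145) (nat_lit
  1295) .nil)) (nat_lit 885) (nat_lit 178) (nat_lit 848) (.node (.node (.node .nil (nat_lit 886) (nat_lit 192)
  (nat_lit 1536) .nil) (nat_lit 887) (nat_lit 210) (nat_lit 1471) .nil) (nat_lit 888) (nat_lit 209) (nat_lit
  850) (.node (.node .nil (nat_lit 889) (nat_lit 225) (nat_lit 511) .nil) (nat_lit 890) (nat_lit 192) (nat_lit
  1383) .nil))))))
def xT0t_8 : T := (.node (.node (.node (.node (.node (.node (.node .nil (nat_lit 892) (nat_lit 128) (nat_lit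
  302) .nil) (nat_lit 893) (nat_lit 240) (nat_lit 1717) (.node .nil (nat_lit 894) (nat_lit 210) (nat_lit 1102)
  .nil)) (nat_lit 895) (nat_lit 241) (nat_lit 573) (.node (.node .nil (nat_lit 896) (nat_lit 160) (nat_lit
  884) .nil) (nat_lit 897) (nat_lit 225) (nat_lit 1239) .nil)) (nat_lit 898) (nat_lit 128) (nat_lit 420)
  (.node (.node (.node .nil (nat_lit 899) (nat_lit 146) (nat_lit 1031) .nil) (nat_lit 900) (nat_lit 162)
  (nat_lit 1281) (.node .nil (nat_lit 901) (nat_lit 224) (nat_lit 673) .nil)) (nat_lit 902) (nat_lit 128)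
  (nat_lit 645) (.node (.node .nil (nat_lit 903) (nat_lit 226) (nat_lit 1451) .nil) (nat_lit 904) (nat_lit
  225) (nat_lit 1265) .nil))) (nat_lit 905) (nat_lit 177) (nat_lit 792) (.node (.node (.node (.node .nil
  (nat_lit 906) (nat_lit 242) (nat_lit 1099) .nil) (nat_lit 907) (nat_lit 225) (nat_lit 1263) (.node .nil
  (nat_lit 908) (nat_lit 241) (nat_lit 1538) .nil)) (nat_lit 909) (nat_lit 258) (nat_lit 1449) (.node (.node
  .nil (nat_lit 910) (nat_lit 241) (nat_lit 226) .nil) (nat_lit 911) (nat_lit 160) (nat_lit 541) .nil))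
  (nat_lit 912) (nat_lit 224) (nat_lit 883) (.node (.node (.node .nil (nat_lit 913) (nat_lit 194) (nat_lit
  1290) .nil) (nat_lit 914) (nat_lit 208) (nat_lit 777) (.node .nil (nat_lit 915) (nat_lit 210) (nat_lit 1450)
  .nil)) (nat_lit 916) (nat_lit 161) (nat_lit 1621) (.node (.node .nil (nat_lit 917) (nat_lit 176) (nat_lit
  963) .nil) (nat_lit 918) (nat_lit 162) (nat_lit 624) .nil)))) (nat_lit 919) (nat_lit 226) (nat_lit 1454)
  (.node (.node (.node (.node (.node .nil (nat_lit 920) (nat_lit 193) (nat_lit 1096) .nil) (nat_lit 921)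
  (nat_lit 176) (nat_lit 842) (.node .nil (nat_lit 922) (nat_lit 193) (nat_lit 237) .nil)) (nat_lit 923)
  (nat_lit 209) (nat_lit 1708) (.node (.node .nil (nat_lit 924) (nat_lit 194) (nat_lit 1303) .nil) (nat_lit
  925) (nat_lit 225) (nat_lit 363) .nil)) (nat_lit 926) (nat_lit 144) (nat_lit 771) (.node (.node (.node .nil
  (nat_lit 927) (nat_lit 256) (nat_lit 953) .nil) (nat_lit 928) (nat_lit 178) (nat_lit 571) (.node .nil
  (nat_lit 929) (nat_lit 242) (nat_lit 1201) .nil)) (nat_lit 930) (nat_lit 81) (nat_lit 695) (.node (.node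
  .nil (nat_lit 931) (nat_lit 210) (nat_lit 437) .nil) (nat_lit 932) (nat_lit 194) (nat_lit 1138) .nil)))
  (nat_lit 933) (nat_lit 210) (nat_lit 1304) (.node (.node (.node (.node .nil (nat_lit 934) (nat_lit 224)
  (nat_lit 666) .nil) (nat_lit 935) (nat_lit 161) (nat_lit 598) (.node .nil (nat_lit 936) (nat_lit 178)
  (nat_lit 1204) .nil)) (nat_lit 937) (nat_lit 240) (nat_lit 1559) (.node (.node .nil (nat_lit 938) (nat_lit
  224) (nat_lit 411) .nil) (nat_lit 939) (nat_lit 240) (nat_lit 53) .nil)) (nat_lit 940) (nat_lit 113)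
  (nat_lit 3) (.node (.node (.node .nil (nat_lit 941) (nat_lit 193) (nat_lit 493) .nil) (nat_lit 942) (nat_lit
  48) (nat_lit 415) (.node .nil (nat_lit 943) (nat_lit 273) (nat_lit 182) .nil)) (nat_lit 944) (nat_lit 224)
  (nat_lit 773) (.node (.node .nil (nat_lit 945) (nat_lit 210) (nat_lit 1257) .nil) (nat_lit 946) (nat_lit
  209) (nat_lit 361) .nil))))) (nat_lit 947) (nat_lit 160) (nat_lit 667) (.node (.node (.node (.node (.node
  (.node .nil (nat_lit 948) (nat_lit 225) (nat_lit 804) .nil) (nat_lit 949) (nat_lit 224) (nat_lit 813) (.node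
  .nil (nat_lit 950) (nat_lit 225) (nat_lit 972) .nil)) (nat_lit 951) (nat_lit 241) (nat_lit 1243) (.node
  (.node .nil (nat_lit 952) (nat_lit 242) (nat_lit 1403) .nil) (nat_lit 953) (nat_lit 242) (nat_lit 1393)
  .nil)) (nat_lit 954) (nat_lit 162) (nat_lit 1258) (.node (.node (.node .nil (nat_lit 955) (nat_lit 178)
  (nat_lit 1215) .nil) (nat_lit 956) (nat_lit 209) (nat_lit 716) (.node .nil (nat_lit 957) (nat_lit 176)
  (nat_lit 954) .nil)) (nat_lit 958) (nat_lit 176) (nat_lit 721) (.node (.node .nil (nat_lit 959) (nat_lit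
  256) (nat_lit 960) .nil) (nat_lit 960) (nat_lit 242) (nat_lit 1253) .nil))) (nat_lit 961) (nat_lit 241)
  (nat_lit 1255) (.node (.node (.node (.node .nil (nat_lit 962) (nat_lit 194) (nat_lit 891) .nil) (nat_lit
  963) (nat_lit 162) (nat_lit 855) (.node .nil (nat_lit 964) (nat_lit 193) (nat_lit 957) .nil)) (nat_lit 965)
  (nat_lit 146) (nat_lit 438) (.node (.node .nil (nat_lit 966) (nat_lit 273) (nat_lit 985) .nil) (nat_lit 967)
  (nat_lit 242) (nat_lit 1405) .nil)) (nat_lit 968) (nat_lit 209) (nat_lit 1323) (.node (.node (.node .nil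
  (nat_lit 969) (nat_lit 177) (nat_lit 911) .nil) (nat_lit 970) (nat_lit 160) (nat_lit 965) (.node .nil
  (nat_lit 971) (nat_lit 177) (nat_lit 360) .nil)) (nat_lit 972) (nat_lit 208) (nat_lit 661) (.node (.node
  .nil (nat_lit 973) (nat_lit 224) (nat_lit 788) .nil) (nat_lit 974) (nat_lit 144) (nat_lit 663) .nil))))
  (nat_lit 975) (nat_lit 240) (nat_lit 731) (.node (.node (.node (.node (.node .nil (nat_lit 976) (nat_lit
  257) (nat_lit 242) .nil) (nat_lit 977) (nat_lit 242) (nat_lit 1140) (.node .nil (nat_lit 978) (nat_lit 129)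
  (nat_lit 857) .nil)) (nat_lit 979) (nat_lit 210) (nat_lit 1125) (.node (.node .nil (nat_lit 980) (nat_lit
  194) (nat_lit 1095) .nil) (nat_lit 981) (nat_lit 241) (nat_lit 696) .nil)) (nat_lit 982) (nat_lit 177)
  (nat_lit 1604) (.node (.node (.node .nil (nat_lit 983) (nat_lit 162) (nat_lit 647) .nil) (nat_lit 984)
  (nat_lit 194) (nat_lit 992) (.node .nil (nat_lit 985) (nat_lit 256) (nat_lit 790) .nil)) (nat_lit 986)
  (nat_lit 241) (nat_lit 426) (.node (.node .nil (nat_lit 987) (nat_lit 226) (nat_lit 1182) .nil) (nat_lit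
  988) (nat_lit 177) (nat_lit 1316) .nil))) (nat_lit 989) (nat_lit 274) (nat_lit 1079) (.node (.node (.node
  (.node .nil (nat_lit 990) (nat_lit 209) (nat_lit 1362) .nil) (nat_lit 991) (nat_lit 194) (nat_lit 720)
  (.node .nil (nat_lit 992) (nat_lit 177) (nat_lit 814) .nil)) (nat_lit 993) (nat_lit 162) (nat_lit 995)
  (.node (.node .nil (nat_lit 994) (nat_lit 129) (nat_lit 1537) .nil) (nat_lit 995) (nat_lit 144) (nat_lit
  464) .nil)) (nat_lit 996) (nat_lit 208) (nat_lit 703) (.node (.node (.node .nil (nat_lit 997) (nat_lit 177)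
  (nat_lit 1107) .nil) (nat_lit 998) (nat_lit 209) (nat_lit 1330) (.node .nil (nat_lit 999) (nat_lit 226)
  (nat_lit 670) .nil)) (nat_lit 1000) (nat_lit 208) (nat_lit 249) (.node (.node .nil (nat_lit 1001) (nat_lit
  194) (nat_lit 138) .nil) (nat_lit 1002) (nat_lit 210) (nat_lit 397) .nil))))))
def xT0t_9 : T := (.node (.node (.node (.node (.node (.node (.node .nil (nat_lit 1004) (nat_lit 192) (nat_lit
  708) .nil) (nat_lit 1005) (nat_lit 194) (nat_lit 1279) (.node .nil (nat_lit 1006) (nat_lit 224) (nat_lit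
  681) .nil)) (nat_lit 1007) (nat_lit 129) (nat_lit 1195) (.node (.node .nil (nat_lit 1008) (nat_lit 224)
  (nat_lit 680) .nil) (nat_lit 1009) (nat_lit 161) (nat_lit 1065) .nil)) (nat_lit 1010) (nat_lit 240) (nat_lit
  147) (.node (.node (.node .nil (nat_lit 1011) (nat_lit 177) (nat_lit 196) .nil) (nat_lit 1012) (nat_lit 240)
  (nat_lit 180) (.node .nil (nat_lit 1013) (nat_lit 161) (nat_lit 189) .nil)) (nat_lit 1014) (nat_lit 224)
  (nat_lit 379) (.node (.node .nil (nat_lit 1015) (nat_lit 208) (nat_lit 380) .nil) (nat_lit 1016) (nat_lit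
  178) (nat_lit 400) .nil))) (nat_lit 1017) (nat_lit 208) (nat_lit 376) (.node (.node (.node (.node .nil
  (nat_lit 1018) (nat_lit 144) (nat_lit 185) .nil) (nat_lit 1019) (nat_lit 242) (nat_lit 1348) (.node .nil
  (nat_lit 1020) (nat_lit 129) (nat_lit 1068) .nil)) (nat_lit 1021) (nat_lit 241) (nat_lit 1639) (.node (.node
  .nil (nat_lit 1022) (nat_lit 257) (nat_lit 585) .nil) (nat_lit 1023) (nat_lit 224) (nat_lit 592) .nil))
  (nat_lit 1024) (nat_lit 225) (nat_lit 1698) (.node (.node (.node .nil (nat_lit 1025) (nat_lit 225) (nat_lit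
  1750) .nil) (nat_lit 1026) (nat_lit 226) (nat_lit 755) (.node .nil (nat_lit 1027) (nat_lit 226) (nat_lit
  434) .nil)) (nat_lit 1028) (nat_lit 192) (nat_lit 593) (.node (.node .nil (nat_lit 1029) (nat_lit 209)
  (nat_lit 1379) .nil) (nat_lit 1030) (nat_lit 256) (nat_lit 1306) .nil)))) (nat_lit 1031) (nat_lit 129)
  (nat_lit 1499) (.node (.node (.node (.node (.node .nil (nat_lit 1032) (nat_lit 178) (nat_lit 911) .nil)
  (nat_lit 1033) (nat_lit 209) (nat_lit 962) (.node .nil (nat_lit 1034) (nat_lit 226) (nat_lit 1310) .nil))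
  (nat_lit 1035) (nat_lit 209) (nat_lit 932) (.node (.node .nil (nat_lit 1036) (nat_lit 176) (nat_lit 1673)
  .nil) (nat_lit 1037) (nat_lit 113) (nat_lit 1475) .nil)) (nat_lit 1038) (nat_lit 274) (nat_lit 874) (.node
  (.node (.node .nil (nat_lit 1039) (nat_lit 96) (nat_lit 561) .nil) (nat_lit 1040) (nat_lit 208) (nat_lit
  120) (.node .nil (nat_lit 1041) (nat_lit 209) (nat_lit 1611) .nil)) (nat_lit 1042) (nat_lit 194) (nat_lit
  1476) (.node (.node .nil (nat_lit 1043) (nat_lit 240) (nat_lit 389) .nil) (nat_lit 1044) (nat_lit 257)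
  (nat_lit 1596) .nil))) (nat_lit 1045) (nat_lit 80) (nat_lit 1685) (.node (.node (.node (.node .nil (nat_lit
  1046) (nat_lit 240) (nat_lit 200) .nil) (nat_lit 1047) (nat_lit 81) (nat_lit 509) (.node .nil (nat_lit 1048)
  (nat_lit 224) (nat_lit 197) .nil)) (nat_lit 1049) (nat_lit 97) (nat_lit 655) (.node (.node .nil (nat_lit
  1050) (nat_lit 160) (nat_lit 192) .nil) (nat_lit 1051) (nat_lit 192) (nat_lit 151) .nil)) (nat_lit 1052)
  (nat_lit 177) (nat_lit 1114) (.node (.node (.node .nil (nat_lit 1053) (nat_lit 210) (nat_lit 1142) .nil)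
  (nat_lit 1054) (nat_lit 194) (nat_lit 1056) (.node .nil (nat_lit 1055) (nat_lit 145) (nat_lit 1773) .nil))
  (nat_lit 1056) (nat_lit 176) (nat_lit 265) (.node (.node .nil (nat_lit 1057) (nat_lit 288) (nat_lit 259)
  .nil) (nat_lit 1058) (nat_lit 274) (nat_lit 601) .nil))))) (nat_lit 1059) (nat_lit 178) (nat_lit 786) (.node
  (.node (.node (.node (.node (.node .nil (nat_lit 1060) (nat_lit 144) (nat_lit 272) .nil) (nat_lit 1061)
  (nat_lit 208) (nat_lit 398) (.node .nil (nat_lit 1062) (nat_lit 177) (nat_lit 287) .nil)) (nat_lit 1063)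
  (nat_lit 161) (nat_lit 641) (.node (.node .nil (nat_lit 1064) (nat_lit 241) (nat_lit 1563) .nil) (nat_lit
  1065) (nat_lit 144) (nat_lit 1339) .nil)) (nat_lit 1066) (nat_lit 224) (nat_lit 1613) (.node (.node (.node
  .nil (nat_lit 1067) (nat_lit 193) (nat_lit 877) .nil) (nat_lit 1068) (nat_lit 112) (nat_lit 559) (.node .nil
  (nat_lit 1069) (nat_lit 176) (nat_lit 1344) .nil)) (nat_lit 1070) (nat_lit 177) (nat_lit 264) (.node (.node
  .nil (nat_lit 1071) (nat_lit 176) (nat_lit 1329) .nil) (nat_lit 1072) (nat_lit 208) (nat_lit 361) .nil)))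
  (nat_lit 1073) (nat_lit 161) (nat_lit 1018) (.node (.node (.node (.node .nil (nat_lit 1074) (nat_lit 225)
  (nat_lit 1305) .nil) (nat_lit 1075) (nat_lit 130) (nat_lit 606) (.node .nil (nat_lit 1076) (nat_lit 225)
  (nat_lit 1367) .nil)) (nat_lit 1077) (nat_lit 208) (nat_lit 1174) (.node (.node .nil (nat_lit 1078) (nat_lit
  194) (nat_lit 971) .nil) (nat_lit 1079) (nat_lit 256) (nat_lit 370) .nil)) (nat_lit 1080) (nat_lit 192)
  (nat_lit 334) (.node (.node (.node .nil (nat_lit 1081) (nat_lit 162) (nat_lit 1566) .nil) (nat_lit 1082)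
  (nat_lit 161) (nat_lit 609) (.node .nil (nat_lit 1083) (nat_lit 224) (nat_lit 285) .nil)) (nat_lit 1084)
  (nat_lit 113) (nat_lit 395) (.node (.node .nil (nat_lit 1085) (nat_lit 242) (nat_lit 774) .nil) (nat_lit
  1086) (nat_lit 178) (nat_lit 916) .nil)))) (nat_lit 1087) (nat_lit 224) (nat_lit 281) (.node (.node (.node
  (.node (.node .nil (nat_lit 1088) (nat_lit 210) (nat_lit 1311) .nil) (nat_lit 1089) (nat_lit 240) (nat_lit
  1631) (.node .nil (nat_lit 1090) (nat_lit 210) (nat_lit 922) .nil)) (nat_lit 1091) (nat_lit 210) (nat_lit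
  1366) (.node (.node .nil (nat_lit 1092) (nat_lit 160) (nat_lit 1684) .nil) (nat_lit 1093) (nat_lit 209)
  (nat_lit 703) .nil)) (nat_lit 1094) (nat_lit 160) (nat_lit 371) (.node (.node (.node .nil (nat_lit 1095)
  (nat_lit 177) (nat_lit 1050) .nil) (nat_lit 1096) (nat_lit 176) (nat_lit 367) (.node .nil (nat_lit 1097)
  (nat_lit 273) (nat_lit 1398) .nil)) (nat_lit 1098) (nat_lit 176) (nat_lit 1661) (.node (.node .nil (nat_lit
  1099) (nat_lit 224) (nat_lit 1600) .nil) (nat_lit 1100) (nat_lit 225) (nat_lit 1582) .nil))) (nat_lit 1101)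
  (nat_lit 177) (nat_lit 1418) (.node (.node (.node (.node .nil (nat_lit 1102) (nat_lit 193) (nat_lit 1332)
  .nil) (nat_lit 1103) (nat_lit 194) (nat_lit 905) (.node .nil (nat_lit 1104) (nat_lit 257) (nat_lit 110)
  .nil)) (nat_lit 1105) (nat_lit 130) (nat_lit 443) (.node (.node .nil (nat_lit 1106) (nat_lit 193) (nat_lit
  142) .nil) (nat_lit 1107) (nat_lit 160) (nat_lit 607) .nil)) (nat_lit 1108) (nat_lit 194) (nat_lit 1586)
  (.node (.node (.node .nil (nat_lit 1109) (nat_lit 224) (nat_lit 394) .nil) (nat_lit 1110) (nat_lit 192)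
  (nat_lit 1434) .nil) (nat_lit 1111) (nat_lit 146) (nat_lit 1472) (.node (.node .nil (nat_lit 1112) (nat_lit
  241) (nat_lit 193) .nil) (nat_lit 1113) (nat_lit 193) (nat_lit 817) .nil))))))
def xT0t_10 : T := (.node (.node (.node (.node (.node (.node (.node .nil (nat_lit 1115) (nat_lit 160) (nat_lit
  1347) .nil) (nat_lit 1116) (nat_lit 193) (nat_lit 1184) (.node .nil (nat_lit 1117) (nat_lit 162) (nat_lit
  1585) .nil)) (nat_lit 1118) (nat_lit 192) (nat_lit 1351) (.node (.node .nil (nat_lit 1119) (nat_lit 194)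
  (nat_lit 1589) .nil) (nat_lit 1120) (nat_lit 242) (nat_lit 889) .nil)) (nat_lit 1121) (nat_lit 176) (nat_lit
  1645) (.node (.node (.node .nil (nat_lit 1122) (nat_lit 160) (nat_lit 637) .nil) (nat_lit 1123) (nat_lit
  226) (nat_lit 1478) (.node .nil (nat_lit 1124) (nat_lit 176) (nat_lit 365) .nil)) (nat_lit 1125) (nat_lit
  193) (nat_lit 1086) (.node (.node .nil (nat_lit 1126) (nat_lit 208) (nat_lit 369) .nil) (nat_lit 1127)
  (nat_lit 208) (nat_lit 1342) .nil))) (nat_lit 1128) (nat_lit 242) (nat_lit 724) (.node (.node (.node (.node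
  .nil (nat_lit 1129) (nat_lit 209) (nat_lit 824) .nil) (nat_lit 1130) (nat_lit 210) (nat_lit 347) (.node .nil
  (nat_lit 1131) (nat_lit 209) (nat_lit 828) .nil)) (nat_lit 1132) (nat_lit 192) (nat_lit 1521) (.node (.node
  .nil (nat_lit 1133) (nat_lit 161) (nat_lit 1505) .nil) (nat_lit 1134) (nat_lit 176) (nat_lit 1615) .nil))
  (nat_lit 1135) (nat_lit 209) (nat_lit 991) (.node (.node (.node .nil (nat_lit 1136) (nat_lit 224) (nat_lit
  1424) .nil) (nat_lit 1137) (nat_lit 193) (nat_lit 588) (.node .nil (nat_lit 1138) (nat_lit 177) (nat_lit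
  296) .nil)) (nat_lit 1139) (nat_lit 176) (nat_lit 542) (.node (.node .nil (nat_lit 1140) (nat_lit 224)
  (nat_lit 1325) .nil) (nat_lit 1141) (nat_lit 225) (nat_lit 620) .nil)))) (nat_lit 1142) (nat_lit 193)
  (nat_lit 1032) (.node (.node (.node (.node (.node .nil (nat_lit 1143) (nat_lit 162) (nat_lit 1272) .nil)
  (nat_lit 1144) (nat_lit 210) (nat_lit 587) (.node .nil (nat_lit 1145) (nat_lit 192) (nat_lit 1224) .nil))
  (nat_lit 1146) (nat_lit 208) (nat_lit 1125) (.node (.node .nil (nat_lit 1147) (nat_lit 209) (nat_lit 1345)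
  .nil) (nat_lit 1148) (nat_lit 162) (nat_lit 834) .nil)) (nat_lit 1149) (nat_lit 129) (nat_lit 1150) (.node
  (.node (.node .nil (nat_lit 1150) (nat_lit 114) (nat_lit 795) .nil) (nat_lit 1151) (nat_lit 242) (nat_lit
  1558) (.node .nil (nat_lit 1152) (nat_lit 241) (nat_lit 402) .nil)) (nat_lit 1153) (nat_lit 194) (nat_lit
  775) (.node (.node .nil (nat_lit 1154) (nat_lit 146) (nat_lit 730) .nil) (nat_lit 1155) (nat_lit 192)
  (nat_lit 1175) .nil))) (nat_lit 1156) (nat_lit 210) (nat_lit 661) (.node (.node (.node (.node .nil (nat_lit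
  1157) (nat_lit 224) (nat_lit 258) .nil) (nat_lit 1158) (nat_lit 208) (nat_lit 286) (.node .nil (nat_lit
  1159) (nat_lit 176) (nat_lit 1371) .nil)) (nat_lit 1160) (nat_lit 209) (nat_lit 876) (.node (.node .nil
  (nat_lit 1161) (nat_lit 226) (nat_lit 281) .nil) (nat_lit 1162) (nat_lit 241) (nat_lit 1123) .nil)) (nat_lit
  1163) (nat_lit 242) (nat_lit 904) (.node (.node (.node .nil (nat_lit 1164) (nat_lit 160) (nat_lit 282) .nil)
  (nat_lit 1165) (nat_lit 128) (nat_lit 113) (.node .nil (nat_lit 1166) (nat_lit 224) (nat_lit 1369) .nil))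
  (nat_lit 1167) (nat_lit 130) (nat_lit 113) (.node (.node .nil (nat_lit 1168) (nat_lit 210) (nat_lit 890)
  .nil) (nat_lit 1169) (nat_lit 128) (nat_lit 1686) .nil))))) (nat_lit 1170) (nat_lit 257) (nat_lit 1655)
  (.node (.node (.node (.node (.node (.node .nil (nat_lit 1171) (nat_lit 176) (nat_lit 1207) .nil) (nat_lit
  1172) (nat_lit 240) (nat_lit 1357) (.node .nil (nat_lit 1173) (nat_lit 208) (nat_lit 1679) .nil)) (nat_lit
  1174) (nat_lit 193) (nat_lit 560) (.node (.node .nil (nat_lit 1175) (nat_lit 178) (nat_lit 1661) .nil)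
  (nat_lit 1176) (nat_lit 242) (nat_lit 1314) .nil)) (nat_lit 1177) (nat_lit 209) (nat_lit 1313) (.node (.node
  (.node .nil (nat_lit 1178) (nat_lit 209) (nat_lit 1401) .nil) (nat_lit 1179) (nat_lit 208) (nat_lit 397)
  (.node .nil (nat_lit 1180) (nat_lit 240) (nat_lit 608) .nil)) (nat_lit 1181) (nat_lit 209) (nat_lit 1687)
  (.node (.node .nil (nat_lit 1182) (nat_lit 208) (nat_lit 1667) .nil) (nat_lit 1183) (nat_lit 241) (nat_lit
  1484) .nil))) (nat_lit 1184) (nat_lit 176) (nat_lit 1316) (.node (.node (.node (.node .nil (nat_lit 1185)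
  (nat_lit 160) (nat_lit 1352) .nil) (nat_lit 1186) (nat_lit 225) (nat_lit 712) (.node .nil (nat_lit 1187)
  (nat_lit 192) (nat_lit 284) .nil)) (nat_lit 1188) (nat_lit 224) (nat_lit 283) (.node (.node .nil (nat_lit
  1189) (nat_lit 193) (nat_lit 307) .nil) (nat_lit 1190) (nat_lit 257) (nat_lit 513) .nil)) (nat_lit 1191)
  (nat_lit 176) (nat_lit 287) (.node (.node (.node .nil (nat_lit 1192) (nat_lit 81) (nat_lit 1501) .nil)
  (nat_lit 1193) (nat_lit 145) (nat_lit 902) (.node .nil (nat_lit 1194) (nat_lit 128) (nat_lit 399) .nil))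
  (nat_lit 1195) (nat_lit 112) (nat_lit 1688) (.node (.node .nil (nat_lit 1196) (nat_lit 208) (nat_lit 1687)
  .nil) (nat_lit 1197) (nat_lit 192) (nat_lit 1355) .nil)))) (nat_lit 1198) (nat_lit 241) (nat_lit 1008)
  (.node (.node (.node (.node (.node .nil (nat_lit 1199) (nat_lit 257) (nat_lit 471) .nil) (nat_lit 1200)
  (nat_lit 209) (nat_lit 837) (.node .nil (nat_lit 1201) (nat_lit 224) (nat_lit 1620) .nil)) (nat_lit 1202)
  (nat_lit 242) (nat_lit 907) (.node (.node .nil (nat_lit 1203) (nat_lit 192) (nat_lit 1677) .nil) (nat_lit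
  1204) (nat_lit 161) (nat_lit 532) .nil)) (nat_lit 1205) (nat_lit 242) (nat_lit 925) (.node (.node (.node
  .nil (nat_lit 1206) (nat_lit 208) (nat_lit 1628) .nil) (nat_lit 1207) (nat_lit 161) (nat_lit 1060) (.node
  .nil (nat_lit 1208) (nat_lit 176) (nat_lit 632) .nil)) (nat_lit 1209) (nat_lit 176) (nat_lit 1604) (.node
  (.node .nil (nat_lit 1210) (nat_lit 225) (nat_lit 1126) .nil) (nat_lit 1211) (nat_lit 226) (nat_lit 956)
  .nil))) (nat_lit 1212) (nat_lit 226) (nat_lit 946) (.node (.node (.node (.node .nil (nat_lit 1213) (nat_lit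
  256) (nat_lit 482) .nil) (nat_lit 1214) (nat_lit 240) (nat_lit 1141) (.node .nil (nat_lit 1215) (nat_lit
  161) (nat_lit 1327) .nil)) (nat_lit 1216) (nat_lit 112) (nat_lit 395) (.node (.node .nil (nat_lit 1217)
  (nat_lit 160) (nat_lit 1617) .nil) (nat_lit 1218) (nat_lit 241) (nat_lit 873) .nil)) (nat_lit 1219) (nat_lit
  226) (nat_lit 868) (.node (.node (.node .nil (nat_lit 1220) (nat_lit 128) (nat_lit 391) .nil) (nat_lit 1221)
  (nat_lit 241) (nat_lit 1460) (.node .nil (nat_lit 1222) (nat_lit 193) (nat_lit 1500) .nil)) (nat_lit 1223)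
  (nat_lit 160) (nat_lit 713) (.node (.node .nil (nat_lit 1224) (nat_lit 178) (nat_lit 1488) .nil) (nat_lit
  1225) (nat_lit 273) (nat_lit 1421) .nil))))))
def xT0t_11 : T := (.node (.node (.node (.node (.node (.node (.node .nil (nat_lit 1227) (nat_lit 178) (nat_lit
  814) .nil) (nat_lit 1228) (nat_lit 161) (nat_lit 1649) (.node .nil (nat_lit 1229) (nat_lit 113) (nat_lit
  1688) .nil)) (nat_lit 1230) (nat_lit 160) (nat_lit 616) (.node (.node .nil (nat_lit 1231) (nat_lit 193)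
  (nat_lit 1171) .nil) (nat_lit 1232) (nat_lit 146) (nat_lit 835) .nil)) (nat_lit 1233) (nat_lit 162) (nat_lit
  862) (.node (.node (.node .nil (nat_lit 1234) (nat_lit 144) (nat_lit 1167) .nil) (nat_lit 1235) (nat_lit
  224) (nat_lit 1147) (.node .nil (nat_lit 1236) (nat_lit 208) (nat_lit 1515) .nil)) (nat_lit 1237) (nat_lit
  210) (nat_lit 1313) (.node (.node .nil (nat_lit 1238) (nat_lit 257) (nat_lit 1306) .nil) (nat_lit 1239)
  (nat_lit 208) (nat_lit 308) .nil))) (nat_lit 1240) (nat_lit 161) (nat_lit 822) (.node (.node (.node (.node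
  .nil (nat_lit 1241) (nat_lit 177) (nat_lit 810) .nil) (nat_lit 1242) (nat_lit 241) (nat_lit 644) (.node .nil
  (nat_lit 1243) (nat_lit 224) (nat_lit 1683) .nil)) (nat_lit 1244) (nat_lit 193) (nat_lit 860) (.node (.node
  .nil (nat_lit 1245) (nat_lit 208) (nat_lit 119) .nil) (nat_lit 1246) (nat_lit 194) (nat_lit 982) .nil))
  (nat_lit 1247) (nat_lit 193) (nat_lit 1209) (.node (.node (.node .nil (nat_lit 1248) (nat_lit 208) (nat_lit
  301) .nil) (nat_lit 1249) (nat_lit 192) (nat_lit 569) (.node .nil (nat_lit 1250) (nat_lit 242) (nat_lit 548)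
  .nil)) (nat_lit 1251) (nat_lit 272) (nat_lit 1326) (.node (.node .nil (nat_lit 1252) (nat_lit 226) (nat_lit
  1463) .nil) (nat_lit 1253) (nat_lit 225) (nat_lit 915) .nil)))) (nat_lit 1254) (nat_lit 162) (nat_lit 974)
  (.node (.node (.node (.node (.node .nil (nat_lit 1255) (nat_lit 224) (nat_lit 1519) .nil) (nat_lit 1256)
  (nat_lit 129) (nat_lit 429) (.node .nil (nat_lit 1257) (nat_lit 192) (nat_lit 322) .nil)) (nat_lit 1258)
  (nat_lit 145) (nat_lit 431) (.node (.node .nil (nat_lit 1259) (nat_lit 162) (nat_lit 570) .nil) (nat_lit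
  1260) (nat_lit 112) (nat_lit 337) .nil)) (nat_lit 1261) (nat_lit 144) (nat_lit 320) (.node (.node (.node
  .nil (nat_lit 1262) (nat_lit 242) (nat_lit 1510) .nil) (nat_lit 1263) (nat_lit 208) (nat_lit 515) (.node
  .nil (nat_lit 1264) (nat_lit 194) (nat_lit 1468) .nil)) (nat_lit 1265) (nat_lit 208) (nat_lit 1345) (.node
  (.node .nil (nat_lit 1266) (nat_lit 226) (nat_lit 1506) .nil) (nat_lit 1267) (nat_lit 192) (nat_lit 1279)
  .nil))) (nat_lit 1268) (nat_lit 272) (nat_lit 155) (.node (.node (.node (.node .nil (nat_lit 1269) (nat_lit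
  192) (nat_lit 153) .nil) (nat_lit 1270) (nat_lit 242) (nat_lit 934) (.node .nil (nat_lit 1271) (nat_lit 208)
  (nat_lit 1580) .nil)) (nat_lit 1272) (nat_lit 145) (nat_lit 275) (.node (.node .nil (nat_lit 1273) (nat_lit
  256) (nat_lit 349) .nil) (nat_lit 1274) (nat_lit 226) (nat_lit 1637) .nil)) (nat_lit 1275) (nat_lit 144)
  (nat_lit 1721) (.node (.node (.node .nil (nat_lit 1276) (nat_lit 224) (nat_lit 316) .nil) (nat_lit 1277)
  (nat_lit 160) (nat_lit 1111) (.node .nil (nat_lit 1278) (nat_lit 208) (nat_lit 449) .nil)) (nat_lit 1279)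
  (nat_lit 177) (nat_lit 1575) (.node (.node .nil (nat_lit 1280) (nat_lit 242) (nat_lit 1008) .nil) (nat_lit
  1281) (nat_lit 145) (nat_lit 1165) .nil))))) (nat_lit 1282) (nat_lit 146) (nat_lit 898) (.node (.node (.node
  (.node (.node (.node .nil (nat_lit 1283) (nat_lit 144) (nat_lit 332) .nil) (nat_lit 1284) (nat_lit 226)
  (nat_lit 914) (.node .nil (nat_lit 1285) (nat_lit 210) (nat_lit 739) .nil)) (nat_lit 1286) (nat_lit 273)
  (nat_lit 1741) (.node (.node .nil (nat_lit 1287) (nat_lit 97) (nat_lit 1723) .nil) (nat_lit 1288) (nat_lit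
  240) (nat_lit 325) .nil)) (nat_lit 1289) (nat_lit 208) (nat_lit 1337) (.node (.node (.node .nil (nat_lit
  1290) (nat_lit 176) (nat_lit 1338) .nil) (nat_lit 1291) (nat_lit 210) (nat_lit 665) (.node .nil (nat_lit
  1292) (nat_lit 114) (nat_lit 421) .nil)) (nat_lit 1293) (nat_lit 194) (nat_lit 433) (.node (.node .nil
  (nat_lit 1294) (nat_lit 162) (nat_lit 541) .nil) (nat_lit 1295) (nat_lit 130) (nat_lit 422) .nil))) (nat_lit
  1296) (nat_lit 145) (nat_lit 520) (.node (.node (.node (.node .nil (nat_lit 1297) (nat_lit 210) (nat_lit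
  777) .nil) (nat_lit 1298) (nat_lit 225) (nat_lit 1385) (.node .nil (nat_lit 1299) (nat_lit 130) (nat_lit
  420) .nil)) (nat_lit 1300) (nat_lit 160) (nat_lit 1670) (.node (.node .nil (nat_lit 1301) (nat_lit 208)
  (nat_lit 1323) .nil) (nat_lit 1302) (nat_lit 224) (nat_lit 1353) .nil)) (nat_lit 1303) (nat_lit 176)
  (nat_lit 314) (.node (.node (.node .nil (nat_lit 1304) (nat_lit 193) (nat_lit 1658) .nil) (nat_lit 1305)
  (nat_lit 210) (nat_lit 920) (.node .nil (nat_lit 1306) (nat_lit 242) (nat_lit 1357) .nil)) (nat_lit 1307)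
  (nat_lit 192) (nat_lit 1101) (.node (.node .nil (nat_lit 1308) (nat_lit 224) (nat_lit 1093) .nil) (nat_lit
  1309) (nat_lit 192) (nat_lit 1032) .nil)))) (nat_lit 1310) (nat_lit 208) (nat_lit 531) (.node (.node (.node
  (.node (.node .nil (nat_lit 1311) (nat_lit 193) (nat_lit 295) .nil) (nat_lit 1312) (nat_lit 176) (nat_lit
  530) (.node .nil (nat_lit 1313) (nat_lit 192) (nat_lit 1710) .nil)) (nat_lit 1314) (nat_lit 225) (nat_lit
  1297) (.node (.node .nil (nat_lit 1315) (nat_lit 130) (nat_lit 1068) .nil) (nat_lit 1316) (nat_lit 162)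
  (nat_lit 607) .nil)) (nat_lit 1317) (nat_lit 226) (nat_lit 1179) (.node (.node (.node .nil (nat_lit 1318)
  (nat_lit 225) (nat_lit 868) .nil) (nat_lit 1319) (nat_lit 193) (nat_lit 1495) (.node .nil (nat_lit 1320)
  (nat_lit 242) (nat_lit 744) .nil)) (nat_lit 1321) (nat_lit 192) (nat_lit 1751) (.node (.node .nil (nat_lit
  1322) (nat_lit 194) (nat_lit 1069) .nil) (nat_lit 1323) (nat_lit 194) (nat_lit 334) .nil))) (nat_lit 1324)
  (nat_lit 225) (nat_lit 556) (.node (.node (.node (.node .nil (nat_lit 1325) (nat_lit 209) (nat_lit 310)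
  .nil) (nat_lit 1326) (nat_lit 257) (nat_lit 1120) (.node .nil (nat_lit 1327) (nat_lit 146) (nat_lit 1354)
  .nil)) (nat_lit 1328) (nat_lit 240) (nat_lit 1253) (.node (.node .nil (nat_lit 1329) (nat_lit 162) (nat_lit
  611) .nil) (nat_lit 1330) (nat_lit 194) (nat_lit 613) .nil)) (nat_lit 1331) (nat_lit 225) (nat_lit 1416)
  (.node (.node (.node .nil (nat_lit 1332) (nat_lit 176) (nat_lit 1418) .nil) (nat_lit 1333) (nat_lit 242)
  (nat_lit 614) .nil) (nat_lit 1334) (nat_lit 258) (nat_lit 159) (.node (.node .nil (nat_lit 1335) (nat_lit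
  176) (nat_lit 1148) .nil) (nat_lit 1336) (nat_lit 210) (nat_lit 621) .nil))))))
def xT0t_12 : T := (.node (.node (.node (.node (.node (.node (.node .nil (nat_lit 1338) (nat_lit 161) (nat_lit
  1436) .nil) (nat_lit 1339) (nat_lit 130) (nat_lit 1343) (.node .nil (nat_lit 1340) (nat_lit 178) (nat_lit
  1371) .nil)) (nat_lit 1341) (nat_lit 242) (nat_lit 1368) (.node (.node .nil (nat_lit 1342) (nat_lit 193)
  (nat_lit 1312) .nil) (nat_lit 1343) (nat_lit 113) (nat_lit 1039) .nil)) (nat_lit 1344) (nat_lit 161)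
  (nat_lit 1646) (.node (.node (.node .nil (nat_lit 1345) (nat_lit 194) (nat_lit 997) .nil) (nat_lit 1346)
  (nat_lit 208) (nat_lit 1264) (.node .nil (nat_lit 1347) (nat_lit 146) (nat_lit 1020) .nil)) (nat_lit 1348)
  (nat_lit 225) (nat_lit 1584) (.node (.node .nil (nat_lit 1349) (nat_lit 178) (nat_lit 1009) .nil) (nat_lit
  1350) (nat_lit 210) (nat_lit 1004) .nil))) (nat_lit 1351) (nat_lit 178) (nat_lit 1050) (.node (.node (.node
  (.node .nil (nat_lit 1352) (nat_lit 146) (nat_lit 610) .nil) (nat_lit 1353) (nat_lit 210) (nat_lit 119)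
  (.node .nil (nat_lit 1354) (nat_lit 128) (nat_lit 1037) .nil)) (nat_lit 1355) (nat_lit 177) (nat_lit 1117)
  (.node (.node .nil (nat_lit 1356) (nat_lit 241) (nat_lit 1609) .nil) (nat_lit 1357) (nat_lit 225) (nat_lit
  1429) .nil)) (nat_lit 1358) (nat_lit 208) (nat_lit 1189) (.node (.node (.node .nil (nat_lit 1359) (nat_lit
  225) (nat_lit 584) .nil) (nat_lit 1360) (nat_lit 210) (nat_lit 722) (.node .nil (nat_lit 1361) (nat_lit 193)
  (nat_lit 1618) .nil)) (nat_lit 1362) (nat_lit 192) (nat_lit 1086) (.node (.node .nil (nat_lit 1363) (nat_lit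
  240) (nat_lit 1724) .nil) (nat_lit 1364) (nat_lit 224) (nat_lit 1762) .nil)))) (nat_lit 1365) (nat_lit 176)
  (nat_lit 521) (.node (.node (.node (.node (.node .nil (nat_lit 1366) (nat_lit 193) (nat_lit 1071) .nil)
  (nat_lit 1367) (nat_lit 208) (nat_lit 1439) (.node .nil (nat_lit 1368) (nat_lit 225) (nat_lit 1237) .nil))
  (nat_lit 1369) (nat_lit 209) (nat_lit 1028) (.node (.node .nil (nat_lit 1370) (nat_lit 177) (nat_lit 993)
  .nil) (nat_lit 1371) (nat_lit 161) (nat_lit 557) .nil)) (nat_lit 1372) (nat_lit 194) (nat_lit 1373) (.node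
  (.node (.node .nil (nat_lit 1373) (nat_lit 176) (nat_lit 1082) .nil) (nat_lit 1374) (nat_lit 224) (nat_lit
  1156) (.node .nil (nat_lit 1375) (nat_lit 224) (nat_lit 1431) .nil)) (nat_lit 1376) (nat_lit 272) (nat_lit
  1438) (.node (.node .nil (nat_lit 1377) (nat_lit 129) (nat_lit 203) .nil) (nat_lit 1378) (nat_lit 257)
  (nat_lit 682) .nil))) (nat_lit 1379) (nat_lit 192) (nat_lit 1402) (.node (.node (.node (.node .nil (nat_lit
  1380) (nat_lit 194) (nat_lit 267) .nil) (nat_lit 1381) (nat_lit 241) (nat_lit 156) (.node .nil (nat_lit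
  1382) (nat_lit 177) (nat_lit 896) .nil)) (nat_lit 1383) (nat_lit 177) (nat_lit 1419) (.node (.node .nil
  (nat_lit 1384) (nat_lit 146) (nat_lit 785) .nil) (nat_lit 1385) (nat_lit 208) (nat_lit 1759) .nil)) (nat_lit
  1386) (nat_lit 96) (nat_lit 1704) (.node (.node (.node .nil (nat_lit 1387) (nat_lit 225) (nat_lit 1424)
  .nil) (nat_lit 1388) (nat_lit 257) (nat_lit 1333) (.node .nil (nat_lit 1389) (nat_lit 192) (nat_lit 348)
  .nil)) (nat_lit 1390) (nat_lit 241) (nat_lit 1317) (.node (.node .nil (nat_lit 1391) (nat_lit 192) (nat_lit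
  297) .nil) (nat_lit 1392) (nat_lit 209) (nat_lit 1078) .nil))))) (nat_lit 1393) (nat_lit 224) (nat_lit 1633)
  (.node (.node (.node (.node (.node (.node .nil (nat_lit 1394) (nat_lit 225) (nat_lit 306) .nil) (nat_lit
  1395) (nat_lit 208) (nat_lit 1681) (.node .nil (nat_lit 1396) (nat_lit 160) (nat_lit 1682) .nil)) (nat_lit
  1397) (nat_lit 208) (nat_lit 329) (.node (.node .nil (nat_lit 1398) (nat_lit 256) (nat_lit 159) .nil)
  (nat_lit 1399) (nat_lit 161) (nat_lit 1470) .nil)) (nat_lit 1400) (nat_lit 242) (nat_lit 784) (.node (.node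
  (.node .nil (nat_lit 1401) (nat_lit 192) (nat_lit 1370) .nil) (nat_lit 1402) (nat_lit 178) (nat_lit 781)
  (.node .nil (nat_lit 1403) (nat_lit 225) (nat_lit 263) .nil)) (nat_lit 1404) (nat_lit 240) (nat_lit 629)
  (.node (.node .nil (nat_lit 1405) (nat_lit 225) (nat_lit 996) .nil) (nat_lit 1406) (nat_lit 240) (nat_lit
  622) .nil))) (nat_lit 1407) (nat_lit 146) (nat_lit 978) (.node (.node (.node (.node .nil (nat_lit 1408)
  (nat_lit 193) (nat_lit 151) .nil) (nat_lit 1409) (nat_lit 256) (nat_lit 1666) (.node .nil (nat_lit 1410)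
  (nat_lit 97) (nat_lit 44) .nil)) (nat_lit 1411) (nat_lit 192) (nat_lit 1586) (.node (.node .nil (nat_lit
  1412) (nat_lit 209) (nat_lit 261) .nil) (nat_lit 1413) (nat_lit 192) (nat_lit 1589) .nil)) (nat_lit 1414)
  (nat_lit 129) (nat_lit 161) (.node (.node (.node .nil (nat_lit 1415) (nat_lit 225) (nat_lit 1397) .nil)
  (nat_lit 1416) (nat_lit 208) (nat_lit 359) (.node .nil (nat_lit 1417) (nat_lit 160) (nat_lit 1646) .nil))
  (nat_lit 1418) (nat_lit 162) (nat_lit 838) (.node (.node .nil (nat_lit 1419) (nat_lit 160) (nat_lit 364)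
  .nil) (nat_lit 1420) (nat_lit 208) (nat_lit 117) .nil)))) (nat_lit 1421) (nat_lit 256) (nat_lit 340) (.node
  (.node (.node (.node (.node .nil (nat_lit 1422) (nat_lit 193) (nat_lit 1581) .nil) (nat_lit 1423) (nat_lit
  146) (nat_lit 844) (.node .nil (nat_lit 1424) (nat_lit 210) (nat_lit 837) .nil)) (nat_lit 1425) (nat_lit
  113) (nat_lit 290) (.node (.node .nil (nat_lit 1426) (nat_lit 225) (nat_lit 1040) .nil) (nat_lit 1427)
  (nat_lit 258) (nat_lit 811) .nil)) (nat_lit 1428) (nat_lit 208) (nat_lit 483) (.node (.node (.node .nil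
  (nat_lit 1429) (nat_lit 208) (nat_lit 524) .nil) (nat_lit 1430) (nat_lit 240) (nat_lit 1754) (.node .nil
  (nat_lit 1431) (nat_lit 210) (nat_lit 854) .nil)) (nat_lit 1432) (nat_lit 242) (nat_lit 1592) (.node (.node
  .nil (nat_lit 1433) (nat_lit 242) (nat_lit 234) .nil) (nat_lit 1434) (nat_lit 177) (nat_lit 1230) .nil)))
  (nat_lit 1435) (nat_lit 225) (nat_lit 1336) (.node (.node (.node (.node .nil (nat_lit 1436) (nat_lit 144)
  (nat_lit 1295) .nil) (nat_lit 1437) (nat_lit 193) (nat_lit 843) (.node .nil (nat_lit 1438) (nat_lit 258)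
  (nat_lit 866) .nil)) (nat_lit 1439) (nat_lit 193) (nat_lit 936) (.node (.node .nil (nat_lit 1440) (nat_lit
  257) (nat_lit 861) .nil) (nat_lit 1441) (nat_lit 210) (nat_lit 589) .nil)) (nat_lit 1442) (nat_lit 224)
  (nat_lit 317) (.node (.node (.node .nil (nat_lit 1443) (nat_lit 240) (nat_lit 318) .nil) (nat_lit 1444)
  (nat_lit 242) (nat_lit 1491) (.node .nil (nat_lit 1445) (nat_lit 192) (nat_lit 354) .nil)) (nat_lit 1446)
  (nat_lit 192) (nat_lit 312) (.node (.node .nil (nat_lit 1447) (nat_lit 242) (nat_lit 880) .nil) (nat_lit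
  1448) (nat_lit 161) (nat_lit 463) .nil))))))
def xT0t_13 : T := (.node (.node (.node (.node (.node (.node (.node .nil (nat_lit 1450) (nat_lit 192) (nat_lit
  345) .nil) (nat_lit 1451) (nat_lit 208) (nat_lit 1672) (.node .nil (nat_lit 1452) (nat_lit 193) (nat_lit
  1748) .nil)) (nat_lit 1453) (nat_lit 256) (nat_lit 350) (.node (.node .nil (nat_lit 1454) (nat_lit 209)
  (nat_lit 300) .nil) (nat_lit 1455) (nat_lit 224) (nat_lit 1160) .nil)) (nat_lit 1456) (nat_lit 208) (nat_lit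
  437) (.node (.node (.node .nil (nat_lit 1457) (nat_lit 224) (nat_lit 1090) .nil) (nat_lit 1458) (nat_lit
  176) (nat_lit 1540) (.node .nil (nat_lit 1459) (nat_lit 210) (nat_lit 1267) .nil)) (nat_lit 1460) (nat_lit
  224) (nat_lit 1760) (.node (.node .nil (nat_lit 1461) (nat_lit 241) (nat_lit 339) .nil) (nat_lit 1462)
  (nat_lit 178) (nat_lit 1608) .nil))) (nat_lit 1463) (nat_lit 209) (nat_lit 1746) (.node (.node (.node (.node
  .nil (nat_lit 1464) (nat_lit 178) (nat_lit 537) .nil) (nat_lit 1465) (nat_lit 208) (nat_lit 523) (.node .nil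
  (nat_lit 1466) (nat_lit 241) (nat_lit 1622) .nil)) (nat_lit 1467) (nat_lit 224) (nat_lit 1747) (.node (.node
  .nil (nat_lit 1468) (nat_lit 177) (nat_lit 1517) .nil) (nat_lit 1469) (nat_lit 193) (nat_lit 630) .nil))
  (nat_lit 1470) (nat_lit 146) (nat_lit 1256) (.node (.node (.node .nil (nat_lit 1471) (nat_lit 193) (nat_lit
  1124) .nil) (nat_lit 1472) (nat_lit 128) (nat_lit 649) (.node .nil (nat_lit 1473) (nat_lit 192) (nat_lit
  1382) .nil)) (nat_lit 1474) (nat_lit 145) (nat_lit 272) (.node (.node .nil (nat_lit 1475) (nat_lit 98)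
  (nat_lit 1192) .nil) (nat_lit 1476) (nat_lit 177) (nat_lit 1597) .nil)))) (nat_lit 1477) (nat_lit 226)
  (nat_lit 1178) (.node (.node (.node (.node (.node .nil (nat_lit 1478) (nat_lit 208) (nat_lit 1706) .nil)
  (nat_lit 1479) (nat_lit 208) (nat_lit 1761) (.node .nil (nat_lit 1480) (nat_lit 210) (nat_lit 710) .nil))
  (nat_lit 1481) (nat_lit 226) (nat_lit 1642) (.node (.node .nil (nat_lit 1482) (nat_lit 129) (nat_lit 391)
  .nil) (nat_lit 1483) (nat_lit 178) (nat_lit 465) .nil)) (nat_lit 1484) (nat_lit 226) (nat_lit 1640) (.node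
  (.node (.node .nil (nat_lit 1485) (nat_lit 258) (nat_lit 1221) .nil) (nat_lit 1486) (nat_lit 273) (nat_lit
  1616) (.node .nil (nat_lit 1487) (nat_lit 162) (nat_lit 1193) .nil)) (nat_lit 1488) (nat_lit 161) (nat_lit
  1776) (.node (.node .nil (nat_lit 1489) (nat_lit 240) (nat_lit 1542) .nil) (nat_lit 1490) (nat_lit 224)
  (nat_lit 1718) .nil))) (nat_lit 1491) (nat_lit 224) (nat_lit 1711) (.node (.node (.node (.node .nil (nat_lit
  1492) (nat_lit 128) (nat_lit 1715) .nil) (nat_lit 1493) (nat_lit 178) (nat_lit 820) (.node .nil (nat_lit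
  1494) (nat_lit 161) (nat_lit 1234) .nil)) (nat_lit 1495) (nat_lit 176) (nat_lit 519) (.node (.node .nil
  (nat_lit 1496) (nat_lit 225) (nat_lit 1127) .nil) (nat_lit 1497) (nat_lit 192) (nat_lit 1716) .nil))
  (nat_lit 1498) (nat_lit 241) (nat_lit 1201) (.node (.node (.node .nil (nat_lit 1499) (nat_lit 114) (nat_lit
  1039) .nil) (nat_lit 1500) (nat_lit 178) (nat_lit 1092) (.node .nil (nat_lit 1501) (nat_lit 64) (nat_lit
  1697) .nil)) (nat_lit 1502) (nat_lit 193) (nat_lit 348) (.node (.node .nil (nat_lit 1503) (nat_lit 178)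
  (nat_lit 1217) .nil) (nat_lit 1504) (nat_lit 209) (nat_lit 1389) .nil))))) (nat_lit 1505) (nat_lit 144)
  (nat_lit 1773) (.node (.node (.node (.node (.node (.node .nil (nat_lit 1506) (nat_lit 209) (nat_lit 1307)
  .nil) (nat_lit 1507) (nat_lit 226) (nat_lit 823) (.node .nil (nat_lit 1508) (nat_lit 194) (nat_lit 1638)
  .nil)) (nat_lit 1509) (nat_lit 225) (nat_lit 1428) (.node (.node .nil (nat_lit 1510) (nat_lit 225) (nat_lit
  1544) .nil) (nat_lit 1511) (nat_lit 193) (nat_lit 1579) .nil)) (nat_lit 1512) (nat_lit 160) (nat_lit 1296)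
  (.node (.node (.node .nil (nat_lit 1513) (nat_lit 258) (nat_lit 274) .nil) (nat_lit 1514) (nat_lit 178)
  (nat_lit 632) (.node .nil (nat_lit 1515) (nat_lit 193) (nat_lit 304) .nil)) (nat_lit 1516) (nat_lit 192)
  (nat_lit 1070) (.node (.node .nil (nat_lit 1517) (nat_lit 160) (nat_lit 1282) .nil) (nat_lit 1518) (nat_lit
  192) (nat_lit 1062) .nil))) (nat_lit 1519) (nat_lit 210) (nat_lit 65) (.node (.node (.node (.node .nil
  (nat_lit 1520) (nat_lit 176) (nat_lit 465) .nil) (nat_lit 1521) (nat_lit 178) (nat_lit 314) (.node .nil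
  (nat_lit 1522) (nat_lit 160) (nat_lit 453) .nil)) (nat_lit 1523) (nat_lit 208) (nat_lit 25) (.node (.node
  .nil (nat_lit 1524) (nat_lit 226) (nat_lit 594) .nil) (nat_lit 1525) (nat_lit 224) (nat_lit 22) .nil))
  (nat_lit 1526) (nat_lit 225) (nat_lit 498) (.node (.node (.node .nil (nat_lit 1527) (nat_lit 226) (nat_lit
  597) .nil) (nat_lit 1528) (nat_lit 240) (nat_lit 9) (.node .nil (nat_lit 1529) (nat_lit 193) (nat_lit 247)
  .nil)) (nat_lit 1530) (nat_lit 162) (nat_lit 598) (.node (.node .nil (nat_lit 1531) (nat_lit 226) (nat_lit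
  172) .nil) (nat_lit 1532) (nat_lit 242) (nat_lit 139) .nil)))) (nat_lit 1533) (nat_lit 194) (nat_lit 593)
  (.node (.node (.node (.node (.node .nil (nat_lit 1534) (nat_lit 225) (nat_lit 248) .nil) (nat_lit 1535)
  (nat_lit 208) (nat_lit 1469) (.node .nil (nat_lit 1536) (nat_lit 177) (nat_lit 678) .nil)) (nat_lit 1537)
  (nat_lit 112) (nat_lit 1475) (.node (.node .nil (nat_lit 1538) (nat_lit 226) (nat_lit 173) .nil) (nat_lit
  1539) (nat_lit 240) (nat_lit 875) .nil)) (nat_lit 1540) (nat_lit 161) (nat_lit 995) (.node (.node (.node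
  .nil (nat_lit 1541) (nat_lit 258) (nat_lit 241) .nil) (nat_lit 1542) (nat_lit 225) (nat_lit 1629) (.node
  .nil (nat_lit 1543) (nat_lit 225) (nat_lit 1072) .nil)) (nat_lit 1544) (nat_lit 208) (nat_lit 1366) (.node
  (.node .nil (nat_lit 1545) (nat_lit 194) (nat_lit 135) .nil) (nat_lit 1546) (nat_lit 176) (nat_lit 1494)
  .nil))) (nat_lit 1547) (nat_lit 192) (nat_lit 1462) (.node (.node (.node (.node .nil (nat_lit 1548) (nat_lit
  256) (nat_lit 554) .nil) (nat_lit 1549) (nat_lit 226) (nat_lit 260) (.node .nil (nat_lit 1550) (nat_lit 210)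
  (nat_lit 266) .nil)) (nat_lit 1551) (nat_lit 226) (nat_lit 1158) (.node (.node .nil (nat_lit 1552) (nat_lit
  194) (nat_lit 1070) .nil) (nat_lit 1553) (nat_lit 241) (nat_lit 60) .nil)) (nat_lit 1554) (nat_lit 176)
  (nat_lit 417) (.node (.node (.node .nil (nat_lit 1555) (nat_lit 224) (nat_lit 894) .nil) (nat_lit 1556)
  (nat_lit 178) (nat_lit 1094) .nil) (nat_lit 1557) (nat_lit 192) (nat_lit 1556) (.node (.node .nil (nat_lit
  1558) (nat_lit 225) (nat_lit 186) .nil) (nat_lit 1559) (nat_lit 226) (nat_lit 1173) .nil))))))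
def xT0t_14 : T := (.node (.node (.node (.node (.node (.node (.node .nil (nat_lit 1561) (nat_lit 241) (nat_lit
  1733) .nil) (nat_lit 1562) (nat_lit 192) (nat_lit 845) (.node .nil (nat_lit 1563) (nat_lit 224) (nat_lit
  933) .nil)) (nat_lit 1564) (nat_lit 226) (nat_lit 1126) (.node (.node .nil (nat_lit 1565) (nat_lit 208)
  (nat_lit 1560) .nil) (nat_lit 1566) (nat_lit 144) (nat_lit 844) .nil)) (nat_lit 1567) (nat_lit 225) (nat_lit
  412) (.node (.node (.node .nil (nat_lit 1568) (nat_lit 257) (nat_lit 939) .nil) (nat_lit 1569) (nat_lit 242)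
  (nat_lit 460) (.node .nil (nat_lit 1570) (nat_lit 272) (nat_lit 1568) .nil)) (nat_lit 1571) (nat_lit 256)
  (nat_lit 220) (.node (.node .nil (nat_lit 1572) (nat_lit 192) (nat_lit 6) .nil) (nat_lit 1573) (nat_lit 178)
  (nat_lit 171) .nil))) (nat_lit 1574) (nat_lit 242) (nat_lit 596) (.node (.node (.node (.node .nil (nat_lit
  1575) (nat_lit 160) (nat_lit 1588) .nil) (nat_lit 1576) (nat_lit 210) (nat_lit 261) (.node .nil (nat_lit
  1577) (nat_lit 146) (nat_lit 262) .nil)) (nat_lit 1578) (nat_lit 194) (nat_lit 385) (.node (.node .nil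
  (nat_lit 1579) (nat_lit 178) (nat_lit 146) .nil) (nat_lit 1580) (nat_lit 193) (nat_lit 1365) .nil)) (nat_lit
  1581) (nat_lit 178) (nat_lit 240) (.node (.node (.node .nil (nat_lit 1582) (nat_lit 210) (nat_lit 131) .nil)
  (nat_lit 1583) (nat_lit 160) (nat_lit 1577) (.node .nil (nat_lit 1584) (nat_lit 208) (nat_lit 1578) .nil))
  (nat_lit 1585) (nat_lit 144) (nat_lit 1414) (.node (.node .nil (nat_lit 1586) (nat_lit 177) (nat_lit 1522)
  .nil) (nat_lit 1587) (nat_lit 224) (nat_lit 1576) .nil)))) (nat_lit 1588) (nat_lit 145) (nat_lit 1167)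
  (.node (.node (.node (.node (.node .nil (nat_lit 1589) (nat_lit 177) (nat_lit 1731) .nil) (nat_lit 1590)
  (nat_lit 224) (nat_lit 1412) (.node .nil (nat_lit 1591) (nat_lit 241) (nat_lit 1219) .nil)) (nat_lit 1592)
  (nat_lit 225) (nat_lit 1088) (.node (.node .nil (nat_lit 1593) (nat_lit 226) (nat_lit 1077) .nil) (nat_lit
  1594) (nat_lit 241) (nat_lit 1087) .nil)) (nat_lit 1595) (nat_lit 145) (nat_lit 892) (.node (.node (.node
  .nil (nat_lit 1596) (nat_lit 240) (nat_lit 1757) .nil) (nat_lit 1597) (nat_lit 160) (nat_lit 1776) (.node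
  .nil (nat_lit 1598) (nat_lit 225) (nat_lit 1480) .nil)) (nat_lit 1599) (nat_lit 208) (nat_lit 991) (.node
  (.node .nil (nat_lit 1600) (nat_lit 209) (nat_lit 705) .nil) (nat_lit 1601) (nat_lit 146) (nat_lit 1626)
  .nil))) (nat_lit 1602) (nat_lit 288) (nat_lit 1097) (.node (.node (.node (.node .nil (nat_lit 1603) (nat_lit
  209) (nat_lit 849) .nil) (nat_lit 1604) (nat_lit 162) (nat_lit 1621) (.node .nil (nat_lit 1605) (nat_lit
  192) (nat_lit 1740) .nil)) (nat_lit 1606) (nat_lit 241) (nat_lit 1274) (.node (.node .nil (nat_lit 1607)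
  (nat_lit 176) (nat_lit 303) .nil) (nat_lit 1608) (nat_lit 161) (nat_lit 1659) .nil)) (nat_lit 1609) (nat_lit
  224) (nat_lit 309) (.node (.node (.node .nil (nat_lit 1610) (nat_lit 208) (nat_lit 310) .nil) (nat_lit 1611)
  (nat_lit 194) (nat_lit 1458) (.node .nil (nat_lit 1612) (nat_lit 177) (nat_lit 1185) .nil)) (nat_lit 1613)
  (nat_lit 209) (nat_lit 1119) (.node (.node .nil (nat_lit 1614) (nat_lit 130) (nat_lit 326) .nil) (nat_lit
  1615) (nat_lit 161) (nat_lit 713) .nil))))) (nat_lit 1616) (nat_lit 256) (nat_lit 1218) (.node (.node (.node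
  (.node (.node (.node .nil (nat_lit 1617) (nat_lit 145) (nat_lit 1472) .nil) (nat_lit 1618) (nat_lit 176)
  (nat_lit 1081) (.node .nil (nat_lit 1619) (nat_lit 256) (nat_lit 1152) .nil)) (nat_lit 1620) (nat_lit 209)
  (nat_lit 1155) (.node (.node .nil (nat_lit 1621) (nat_lit 144) (nat_lit 818) .nil) (nat_lit 1622) (nat_lit
  226) (nat_lit 1603) .nil)) (nat_lit 1623) (nat_lit 240) (nat_lit 851) (.node (.node (.node .nil (nat_lit
  1624) (nat_lit 192) (nat_lit 1059) .nil) (nat_lit 1625) (nat_lit 129) (nat_lit 399) (.node .nil (nat_lit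
  1626) (nat_lit 128) (nat_lit 1084) .nil)) (nat_lit 1627) (nat_lit 257) (nat_lit 634) (.node (.node .nil
  (nat_lit 1628) (nat_lit 193) (nat_lit 845) .nil) (nat_lit 1629) (nat_lit 208) (nat_lit 1244) .nil)))
  (nat_lit 1630) (nat_lit 160) (nat_lit 441) (.node (.node (.node (.node .nil (nat_lit 1631) (nat_lit 225)
  (nat_lit 735) .nil) (nat_lit 1632) (nat_lit 240) (nat_lit 1394) (.node .nil (nat_lit 1633) (nat_lit 209)
  (nat_lit 1145) .nil)) (nat_lit 1634) (nat_lit 224) (nat_lit 1178) (.node (.node .nil (nat_lit 1635) (nat_lit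
  210) (nat_lit 886) .nil) (nat_lit 1636) (nat_lit 258) (nat_lit 1489) .nil)) (nat_lit 1637) (nat_lit 209)
  (nat_lit 150) (.node (.node (.node .nil (nat_lit 1638) (nat_lit 176) (nat_lit 114) .nil) (nat_lit 1639)
  (nat_lit 226) (nat_lit 1271) (.node .nil (nat_lit 1640) (nat_lit 208) (nat_lit 289) .nil)) (nat_lit 1641)
  (nat_lit 224) (nat_lit 1734) (.node (.node .nil (nat_lit 1642) (nat_lit 209) (nat_lit 209) .nil) (nat_lit
  1643) (nat_lit 224) (nat_lit 1035) .nil)))) (nat_lit 1644) (nat_lit 256) (nat_lit 1250) (.node (.node (.node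
  (.node (.node .nil (nat_lit 1645) (nat_lit 162) (nat_lit 233) .nil) (nat_lit 1646) (nat_lit 146) (nat_lit
  627) (.node .nil (nat_lit 1647) (nat_lit 226) (nat_lit 1671) .nil)) (nat_lit 1648) (nat_lit 160) (nat_lit
  1281) (.node (.node .nil (nat_lit 1649) (nat_lit 144) (nat_lit 1031) .nil) (nat_lit 1650) (nat_lit 224)
  (nat_lit 1285) .nil)) (nat_lit 1651) (nat_lit 177) (nat_lit 1755) (.node (.node (.node .nil (nat_lit 1652)
  (nat_lit 178) (nat_lit 132) .nil) (nat_lit 1653) (nat_lit 194) (nat_lit 255) (.node .nil (nat_lit 1654)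
  (nat_lit 144) (nat_lit 1149) .nil)) (nat_lit 1655) (nat_lit 242) (nat_lit 357) (.node (.node .nil (nat_lit
  1656) (nat_lit 241) (nat_lit 1083) .nil) (nat_lit 1657) (nat_lit 130) (nat_lit 128) .nil))) (nat_lit 1658)
  (nat_lit 176) (nat_lit 1143) (.node (.node (.node (.node .nil (nat_lit 1659) (nat_lit 146) (nat_lit 123)
  .nil) (nat_lit 1660) (nat_lit 194) (nat_lit 299) (.node .nil (nat_lit 1661) (nat_lit 161) (nat_lit 1347)
  .nil)) (nat_lit 1662) (nat_lit 162) (nat_lit 364) (.node (.node .nil (nat_lit 1663) (nat_lit 194) (nat_lit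
  1171) .nil) (nat_lit 1664) (nat_lit 241) (nat_lit 1587) .nil)) (nat_lit 1665) (nat_lit 112) (nat_lit 1410)
  (.node (.node (.node .nil (nat_lit 1666) (nat_lit 241) (nat_lit 1457) .nil) (nat_lit 1667) (nat_lit 193)
  (nat_lit 1290) .nil) (nat_lit 1668) (nat_lit 226) (nat_lit 358) (.node (.node .nil (nat_lit 1669) (nat_lit
  144) (nat_lit 1299) .nil) (nat_lit 1670) (nat_lit 145) (nat_lit 382) .nil))))))
def xT0t_15 : T := (.node (.node (.node (.node (.node (.node (.node .nil (nat_lit 1672) (nat_lit 193) (nat_lit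
  921) .nil) (nat_lit 1673) (nat_lit 162) (nat_lit 1649) (.node .nil (nat_lit 1674) (nat_lit 192) (nat_lit
  1138) .nil)) (nat_lit 1675) (nat_lit 208) (nat_lit 1153) (.node (.node .nil (nat_lit 1676) (nat_lit 225)
  (nat_lit 1565) .nil) (nat_lit 1677) (nat_lit 178) (nat_lit 1522) .nil)) (nat_lit 1678) (nat_lit 176)
  (nat_lit 1204) (.node (.node (.node .nil (nat_lit 1679) (nat_lit 193) (nat_lit 1335) .nil) (nat_lit 1680)
  (nat_lit 210) (nat_lit 359) (.node .nil (nat_lit 1681) (nat_lit 194) (nat_lit 297) .nil)) (nat_lit 1682)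
  (nat_lit 146) (nat_lit 324) (.node (.node .nil (nat_lit 1683) (nat_lit 210) (nat_lit 313) .nil) (nat_lit
  1684) (nat_lit 145) (nat_lit 1075) .nil))) (nat_lit 1685) (nat_lit 66) (nat_lit 37) (.node (.node (.node
  (.node .nil (nat_lit 1686) (nat_lit 114) (nat_lit 28) .nil) (nat_lit 1687) (nat_lit 194) (nat_lit 67) (.node
  .nil (nat_lit 1688) (nat_lit 98) (nat_lit 33) .nil)) (nat_lit 1689) (nat_lit 145) (nat_lit 617) (.node
  (.node .nil (nat_lit 1690) (nat_lit 241) (nat_lit 1211) .nil) (nat_lit 1691) (nat_lit 160) (nat_lit 625)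
  .nil)) (nat_lit 1692) (nat_lit 241) (nat_lit 1188) (.node (.node (.node .nil (nat_lit 1693) (nat_lit 208)
  (nat_lit 1437) .nil) (nat_lit 1694) (nat_lit 258) (nat_lit 149) (.node .nil (nat_lit 1695) (nat_lit 226)
  (nat_lit 486) .nil)) (nat_lit 1696) (nat_lit 225) (nat_lit 883) (.node (.node .nil (nat_lit 1697) (nat_lit
  50) (nat_lit 378) .nil) (nat_lit 1698) (nat_lit 210) (nat_lit 199) .nil)))) (nat_lit 1699) (nat_lit 240)
  (nat_lit 1592) (.node (.node (.node (.node (.node .nil (nat_lit 1700) (nat_lit 18) (nat_lit 256) .nil)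
  (nat_lit 1701) (nat_lit 50) (nat_lit 92) (.node .nil (nat_lit 1702) (nat_lit 208) (nat_lit 1502) .nil))
  (nat_lit 1703) (nat_lit 240) (nat_lit 1598) (.node (.node .nil (nat_lit 1704) (nat_lit 82) (nat_lit 500)
  .nil) (nat_lit 1705) (nat_lit 193) (nat_lit 1227) .nil)) (nat_lit 1706) (nat_lit 193) (nat_lit 1652) (.node
  (.node (.node .nil (nat_lit 1707) (nat_lit 257) (nat_lit 977) .nil) (nat_lit 1708) (nat_lit 192) (nat_lit
  1483) (.node .nil (nat_lit 1709) (nat_lit 162) (nat_lit 189) .nil)) (nat_lit 1710) (nat_lit 177) (nat_lit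
  918) (.node (.node .nil (nat_lit 1711) (nat_lit 209) (nat_lit 271) .nil) (nat_lit 1712) (nat_lit 226)
  (nat_lit 106) .nil))) (nat_lit 1713) (nat_lit 225) (nat_lit 1451) (.node (.node (.node (.node .nil (nat_lit
  1714) (nat_lit 208) (nat_lit 1311) .nil) (nat_lit 1715) (nat_lit 114) (nat_lit 163) (.node .nil (nat_lit
  1716) (nat_lit 178) (nat_lit 196) .nil)) (nat_lit 1717) (nat_lit 225) (nat_lit 882) (.node (.node .nil
  (nat_lit 1718) (nat_lit 209) (nat_lit 839) .nil) (nat_lit 1719) (nat_lit 241) (nat_lit 1735) .nil)) (nat_lit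
  1720) (nat_lit 192) (nat_lit 1493) (.node (.node (.node .nil (nat_lit 1721) (nat_lit 130) (nat_lit 496)
  .nil) (nat_lit 1722) (nat_lit 177) (nat_lit 1277) (.node .nil (nat_lit 1723) (nat_lit 82) (nat_lit 497)
  .nil)) (nat_lit 1724) (nat_lit 225) (nat_lit 244) (.node (.node .nil (nat_lit 1725) (nat_lit 256) (nat_lit
  1466) .nil) (nat_lit 1726) (nat_lit 209) (nat_lit 1560) .nil))))) (nat_lit 1727) (nat_lit 224) (nat_lit 737)
  (.node (.node (.node (.node (.node (.node .nil (nat_lit 1728) (nat_lit 224) (nat_lit 1463) .nil) (nat_lit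
  1729) (nat_lit 162) (nat_lit 188) (.node .nil (nat_lit 1730) (nat_lit 160) (nat_lit 570) .nil)) (nat_lit
  1731) (nat_lit 160) (nat_lit 1470) (.node (.node .nil (nat_lit 1732) (nat_lit 241) (nat_lit 629) .nil)
  (nat_lit 1733) (nat_lit 224) (nat_lit 576) .nil)) (nat_lit 1734) (nat_lit 209) (nat_lit 1775) (.node (.node
  (.node .nil (nat_lit 1735) (nat_lit 224) (nat_lit 1642) .nil) (nat_lit 1736) (nat_lit 177) (nat_lit 1583)
  (.node .nil (nat_lit 1737) (nat_lit 208) (nat_lit 1611) .nil)) (nat_lit 1738) (nat_lit 241) (nat_lit 1647)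
  (.node (.node .nil (nat_lit 1739) (nat_lit 209) (nat_lit 1518) .nil) (nat_lit 1740) (nat_lit 177) (nat_lit
  1148) .nil))) (nat_lit 1741) (nat_lit 256) (nat_lit 1606) (.node (.node (.node (.node .nil (nat_lit 1742)
  (nat_lit 192) (nat_lit 590) .nil) (nat_lit 1743) (nat_lit 177) (nat_lit 579) (.node .nil (nat_lit 1744)
  (nat_lit 130) (nat_lit 164) .nil)) (nat_lit 1745) (nat_lit 240) (nat_lit 1477) (.node (.node .nil (nat_lit
  1746) (nat_lit 192) (nat_lit 734) .nil) (nat_lit 1747) (nat_lit 210) (nat_lit 177) .nil)) (nat_lit 1748)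
  (nat_lit 176) (nat_lit 1487) (.node (.node (.node .nil (nat_lit 1749) (nat_lit 242) (nat_lit 245) .nil)
  (nat_lit 1750) (nat_lit 208) (nat_lit 589) (.node .nil (nat_lit 1751) (nat_lit 177) (nat_lit 367) .nil))
  (nat_lit 1752) (nat_lit 49) (nat_lit 92) (.node (.node .nil (nat_lit 1753) (nat_lit 82) (nat_lit 377) .nil)
  (nat_lit 1754) (nat_lit 225) (nat_lit 576) .nil)))) (nat_lit 1755) (nat_lit 160) (nat_lit 1272) (.node
  (.node (.node (.node (.node .nil (nat_lit 1756) (nat_lit 242) (nat_lit 143) .nil) (nat_lit 1757) (nat_lit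
  225) (nat_lit 933) (.node .nil (nat_lit 1758) (nat_lit 161) (nat_lit 834) .nil)) (nat_lit 1759) (nat_lit
  193) (nat_lit 1483) (.node (.node .nil (nat_lit 1760) (nat_lit 209) (nat_lit 1054) .nil) (nat_lit 1761)
  (nat_lit 194) (nat_lit 145) .nil)) (nat_lit 1762) (nat_lit 209) (nat_lit 1153) (.node (.node (.node .nil
  (nat_lit 1763) (nat_lit 192) (nat_lit 1464) .nil) (nat_lit 1764) (nat_lit 144) (nat_lit 1482) (.node .nil
  (nat_lit 1765) (nat_lit 64) (nat_lit 1701) .nil)) (nat_lit 1766) (nat_lit 288) (nat_lit 0) (.node (.node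
  .nil (nat_lit 1767) (nat_lit 130) (nat_lit 940) .nil) (nat_lit 1768) (nat_lit 210) (nat_lit 468) .nil)))
  (nat_lit 1769) (nat_lit 224) (nat_lit 1780) (.node (.node (.node (.node .nil (nat_lit 1770) (nat_lit 194)
  (nat_lit 502) .nil) (nat_lit 1771) (nat_lit 32) (nat_lit 1700) (.node .nil (nat_lit 1772) (nat_lit 224)
  (nat_lit 1) .nil)) (nat_lit 1773) (nat_lit 130) (nat_lit 374) (.node (.node .nil (nat_lit 1774) (nat_lit
  194) (nat_lit 198) .nil) (nat_lit 1775) (nat_lit 192) (nat_lit 1503) .nil)) (nat_lit 1776) (nat_lit 146)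
  (nat_lit 144) (.node (.node (.node .nil (nat_lit 1777) (nat_lit 210) (nat_lit 941) .nil) (nat_lit 1778)
  (nat_lit 114) (nat_lit 467) .nil) (nat_lit 1779) (nat_lit 208) (nat_lit 1770) (.node (.node .nil (nat_lit
  1780) (nat_lit 209) (nat_lit 1001) .nil) (nat_lit 1781) (nat_lit 274) (nat_lit 90) .nil))))))
def xT0t : T := (.node (.node (.node (.node xT0t_0 (nat_lit 111) (nat_lit 256) (nat_lit 1019) xT0t_1) (nat_lit
  222) (nat_lit 114) (nat_lit 559) (.node xT0t_2 (nat_lit 334) (nat_lit 177) (nat_lit 1417) xT0t_3)) (nat_lit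
  445) (nat_lit 192) (nat_lit 659) (.node (.node xT0t_4 (nat_lit 557) (nat_lit 144) (nat_lit 1075) xT0t_5)
  (nat_lit 668) (nat_lit 192) (nat_lit 423) (.node xT0t_6 (nat_lit 780) (nat_lit 241) (nat_lit 1772) xT0t_7)))
  (nat_lit 891) (nat_lit 177) (nat_lit 847) (.node (.node (.node xT0t_8 (nat_lit 1003) (nat_lit 240) (nat_lit
  246) xT0t_9) (nat_lit 1114) (nat_lit 160) (nat_lit 1659) (.node xT0t_10 (nat_lit 1226) (nat_lit 193)
  (nat_lit 1340) xT0t_11)) (nat_lit 1337) (nat_lit 194) (nat_lit 153) (.node (.node xT0t_12 (nat_lit 1449)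
  (nat_lit 240) (nat_lit 118) xT0t_13) (nat_lit 1560) (nat_lit 194) (nat_lit 1124) (.node xT0t_14 (nat_lit
  1671) (nat_lit 208) (nat_lit 1452) xT0t_15))))
def xT0 : Lvl := ⟨nat_lit 256, [nat_lit 7, nat_lit 11, nat_lit 13], [], xT0t⟩
def xT1t_0 : T := (.node (.node (.node (.node (.node (.node (.node .nil (nat_lit 2) (nat_lit 99) (nat_lit
  1394) .nil) (nat_lit 4) (nat_lit 115) (nat_lit 767) (.node .nil (nat_lit 6) (nat_lit 96) (nat_lit 7) .nil))
  (nat_lit 7) (nat_lit 81) (nat_lit 1766) (.node (.node .nil (nat_lit 18) (nat_lit 51) (nat_lit 248) .nil)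
  (nat_lit 19) (nat_lit 113) (nat_lit 1526) .nil)) (nat_lit 20) (nat_lit 115) (nat_lit 1582) (.node (.node
  (.node .nil (nat_lit 21) (nat_lit 131) (nat_lit 235) .nil) (nat_lit 22) (nat_lit 82) (nat_lit 1534) (.node
  .nil (nat_lit 23) (nat_lit 83) (nat_lit 586) .nil)) (nat_lit 24) (nat_lit 96) (nat_lit 27) (.node (.node
  .nil (nat_lit 25) (nat_lit 96) (nat_lit 26) .nil) (nat_lit 26) (nat_lit 81) (nat_lit 939) .nil))) (nat_lit
  27) (nat_lit 83) (nat_lit 1134) (.node (.node (.node (.node .nil (nat_lit 28) (nat_lit 147) (nat_lit 1746)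
  .nil) (nat_lit 33) (nat_lit 147) (nat_lit 498) (.node .nil (nat_lit 37) (nat_lit 163) (nat_lit 346) .nil))
  (nat_lit 40) (nat_lit 163) (nat_lit 798) (.node (.node .nil (nat_lit 49) (nat_lit 160) (nat_lit 50) .nil)
  (nat_lit 50) (nat_lit 145) (nat_lit 378) .nil)) (nat_lit 51) (nat_lit 161) (nat_lit 377) (.node (.node
  (.node .nil (nat_lit 52) (nat_lit 161) (nat_lit 374) .nil) (nat_lit 54) (nat_lit 114) (nat_lit 1771) .nil)
  (nat_lit 55) (nat_lit 97) (nat_lit 1529) (.node (.node .nil (nat_lit 76) (nat_lit 34) (nat_lit 251) .nil)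
  (nat_lit 77) (nat_lit 80) (nat_lit 107) .nil)))) (nat_lit 89) (nat_lit 82) (nat_lit 187) (.node (.node
  (.node (.node (.node .nil (nat_lit 90) (nat_lit 129) (nat_lit 529) .nil) (nat_lit 91) (nat_lit 147) (nat_lit
  1578) (.node .nil (nat_lit 106) (nat_lit 66) (nat_lit 182) .nil)) (nat_lit 107) (nat_lit 65) (nat_lit 234)
  (.node (.node .nil (nat_lit 108) (nat_lit 50) (nat_lit 247) .nil) (nat_lit 113) (nat_lit 115) (nat_lit 1183)
  .nil)) (nat_lit 118) (nat_lit 145) (nat_lit 1610) (.node (.node (.node .nil (nat_lit 121) (nat_lit 130)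
  (nat_lit 1238) .nil) (nat_lit 132) (nat_lit 96) (nat_lit 283) .nil) (nat_lit 133) (nat_lit 129) (nat_lit
  143) (.node (.node .nil (nat_lit 134) (nat_lit 131) (nat_lit 1058) .nil) (nat_lit 143) (nat_lit 115)
  (nat_lit 1149) .nil))) (nat_lit 144) (nat_lit 131) (nat_lit 1539) (.node (.node (.node (.node .nil (nat_lit
  145) (nat_lit 0) (nat_lit 145) .nil) (nat_lit 147) (nat_lit 16) (nat_lit 145) (.node .nil (nat_lit 149)
  (nat_lit 81) (nat_lit 448) .nil)) (nat_lit 152) (nat_lit 83) (nat_lit 180) (.node (.node .nil (nat_lit 163)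
  (nat_lit 97) (nat_lit 236) .nil) (nat_lit 164) (nat_lit 98) (nat_lit 197) .nil)) (nat_lit 177) (nat_lit 49)
  (nat_lit 247) (.node (.node (.node .nil (nat_lit 178) (nat_lit 98) (nat_lit 77) .nil) (nat_lit 179) (nat_lit
  82) (nat_lit 107) .nil) (nat_lit 180) (nat_lit 65) (nat_lit 252) (.node (.node .nil (nat_lit 181) (nat_lit
  145) (nat_lit 134) .nil) (nat_lit 182) (nat_lit 49) (nat_lit 230) .nil))))) (nat_lit 187) (nat_lit 64)
  (nat_lit 182) (.node (.node (.node (.node (.node (.node .nil (nat_lit 188) (nat_lit 147) (nat_lit 1220)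
  .nil) (nat_lit 189) (nat_lit 65) (nat_lit 768) (.node .nil (nat_lit 190) (nat_lit 50) (nat_lit 248) .nil))
  (nat_lit 195) (nat_lit 66) (nat_lit 252) (.node (.node .nil (nat_lit 196) (nat_lit 80) (nat_lit 189) .nil)
  (nat_lit 197) (nat_lit 81) (nat_lit 232) .nil)) (nat_lit 198) (nat_lit 131) (nat_lit 416) (.node (.node
  (.node .nil (nat_lit 199) (nat_lit 145) (nat_lit 144) .nil) (nat_lit 200) (nat_lit 96) (nat_lit 197) .nil)
  (nat_lit 217) (nat_lit 99) (nat_lit 1544) (.node (.node .nil (nat_lit 218) (nat_lit 112) (nat_lit 217) .nil)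
  (nat_lit 219) (nat_lit 98) (nat_lit 1529) .nil))) (nat_lit 220) (nat_lit 82) (nat_lit 1528) (.node (.node
  (.node (.node .nil (nat_lit 229) (nat_lit 97) (nat_lit 77) .nil) (nat_lit 230) (nat_lit 35) (nat_lit 147)
  (.node .nil (nat_lit 231) (nat_lit 99) (nat_lit 1580) .nil)) (nat_lit 232) (nat_lit 67) (nat_lit 108) (.node
  (.node .nil (nat_lit 233) (nat_lit 81) (nat_lit 187) .nil) (nat_lit 234) (nat_lit 48) (nat_lit 230) .nil))
  (nat_lit 235) (nat_lit 112) (nat_lit 231) (.node (.node (.node .nil (nat_lit 236) (nat_lit 80) (nat_lit 232)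
  .nil) (nat_lit 245) (nat_lit 131) (nat_lit 545) .nil) (nat_lit 246) (nat_lit 147) (nat_lit 1225) (.node
  (.node .nil (nat_lit 247) (nat_lit 32) (nat_lit 251) .nil) (nat_lit 248) (nat_lit 33) (nat_lit 147) .nil))))
  (nat_lit 249) (nat_lit 147) (nat_lit 1732) (.node (.node (.node (.node (.node .nil (nat_lit 250) (nat_lit
  147) (nat_lit 314) .nil) (nat_lit 251) (nat_lit 17) (nat_lit 145) (.node .nil (nat_lit 252) (nat_lit 48)
  (nat_lit 248) .nil)) (nat_lit 253) (nat_lit 163) (nat_lit 1179) (.node (.node .nil (nat_lit 272) (nat_lit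
  129) (nat_lit 641) .nil) (nat_lit 274) (nat_lit 129) (nat_lit 1058) .nil)) (nat_lit 281) (nat_lit 147)
  (nat_lit 1647) (.node (.node (.node .nil (nat_lit 282) (nat_lit 113) (nat_lit 1192) .nil) (nat_lit 283)
  (nat_lit 83) (nat_lit 1648) .nil) (nat_lit 284) (nat_lit 144) (nat_lit 274) (.node (.node .nil (nat_lit 296)
  (nat_lit 115) (nat_lit 1229) .nil) (nat_lit 297) (nat_lit 145) (nat_lit 1390) .nil))) (nat_lit 298) (nat_lit
  129) (nat_lit 1398) (.node (.node (.node (.node .nil (nat_lit 299) (nat_lit 128) (nat_lit 296) .nil)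
  (nat_lit 313) (nat_lit 96) (nat_lit 316) (.node .nil (nat_lit 314) (nat_lit 129) (nat_lit 1238) .nil))
  (nat_lit 315) (nat_lit 145) (nat_lit 887) (.node (.node .nil (nat_lit 316) (nat_lit 83) (nat_lit 488) .nil)
  (nat_lit 327) (nat_lit 115) (nat_lit 1661) .nil)) (nat_lit 328) (nat_lit 130) (nat_lit 1237) (.node (.node
  (.node .nil (nat_lit 345) (nat_lit 128) (nat_lit 327) .nil) (nat_lit 346) (nat_lit 145) (nat_lit 892) .nil)
  (nat_lit 349) (nat_lit 114) (nat_lit 549) (.node (.node .nil (nat_lit 350) (nat_lit 147) (nat_lit 551) .nil)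
  (nat_lit 373) (nat_lit 162) (nat_lit 500) .nil))))))
def xT1t_1 : T := (.node (.node (.node (.node (.node (.node (.node .nil (nat_lit 375) (nat_lit 147) (nat_lit
  824) .nil) (nat_lit 376) (nat_lit 129) (nat_lit 494) (.node .nil (nat_lit 377) (nat_lit 147) (nat_lit 1759)
  .nil)) (nat_lit 378) (nat_lit 131) (nat_lit 1530) (.node (.node .nil (nat_lit 379) (nat_lit 147) (nat_lit
  1045) .nil) (nat_lit 380) (nat_lit 131) (nat_lit 656) .nil)) (nat_lit 406) (nat_lit 129) (nat_lit 1133)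
  (.node (.node (.node .nil (nat_lit 407) (nat_lit 99) (nat_lit 1234) .nil) (nat_lit 408) (nat_lit 112)
  (nat_lit 407) .nil) (nat_lit 409) (nat_lit 131) (nat_lit 1218) (.node (.node .nil (nat_lit 411) (nat_lit 51)
  (nat_lit 564) .nil) (nat_lit 412) (nat_lit 81) (nat_lit 1524) .nil))) (nat_lit 415) (nat_lit 114) (nat_lit
  468) (.node (.node (.node (.node .nil (nat_lit 416) (nat_lit 114) (nat_lit 940) .nil) (nat_lit 440) (nat_lit
  99) (nat_lit 710) (.node .nil (nat_lit 442) (nat_lit 147) (nat_lit 1169) .nil)) (nat_lit 446) (nat_lit 83)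
  (nat_lit 1396) (.node (.node .nil (nat_lit 448) (nat_lit 64) (nat_lit 768) .nil) (nat_lit 454) (nat_lit 129)
  (nat_lit 1140) .nil)) (nat_lit 465) (nat_lit 99) (nat_lit 316) (.node (.node (.node .nil (nat_lit 468)
  (nat_lit 97) (nat_lit 22) .nil) (nat_lit 483) (nat_lit 83) (nat_lit 232) .nil) (nat_lit 485) (nat_lit 163)
  (nat_lit 1248) (.node (.node .nil (nat_lit 486) (nat_lit 49) (nat_lit 76) .nil) (nat_lit 487) (nat_lit 147)
  (nat_lit 536) .nil)))) (nat_lit 488) (nat_lit 65) (nat_lit 190) (.node (.node (.node (.node (.node .nil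
  (nat_lit 489) (nat_lit 65) (nat_lit 108) .nil) (nat_lit 490) (nat_lit 147) (nat_lit 1742) (.node .nil
  (nat_lit 491) (nat_lit 160) (nat_lit 490) .nil)) (nat_lit 492) (nat_lit 66) (nat_lit 486) (.node (.node .nil
  (nat_lit 493) (nat_lit 115) (nat_lit 6) .nil) (nat_lit 494) (nat_lit 115) (nat_lit 940) .nil)) (nat_lit 495)
  (nat_lit 146) (nat_lit 133) (.node (.node (.node .nil (nat_lit 496) (nat_lit 131) (nat_lit 1157) .nil)
  (nat_lit 497) (nat_lit 131) (nat_lit 1237) .nil) (nat_lit 498) (nat_lit 128) (nat_lit 494) (.node (.node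
  .nil (nat_lit 499) (nat_lit 131) (nat_lit 1754) .nil) (nat_lit 500) (nat_lit 145) (nat_lit 1001) .nil)))
  (nat_lit 502) (nat_lit 113) (nat_lit 25) (.node (.node (.node (.node .nil (nat_lit 505) (nat_lit 131)
  (nat_lit 1576) .nil) (nat_lit 509) (nat_lit 147) (nat_lit 1180) (.node .nil (nat_lit 519) (nat_lit 83)
  (nat_lit 1125) .nil)) (nat_lit 520) (nat_lit 128) (nat_lit 656) (.node (.node .nil (nat_lit 522) (nat_lit
  144) (nat_lit 526) .nil) (nat_lit 523) (nat_lit 145) (nat_lit 1123) .nil)) (nat_lit 524) (nat_lit 145)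
  (nat_lit 1076) (.node (.node (.node .nil (nat_lit 526) (nat_lit 129) (nat_lit 1135) .nil) (nat_lit 527)
  (nat_lit 163) (nat_lit 1624) .nil) (nat_lit 529) (nat_lit 115) (nat_lit 1122) (.node (.node .nil (nat_lit
  530) (nat_lit 131) (nat_lit 657) .nil) (nat_lit 532) (nat_lit 97) (nat_lit 1222) .nil))))) (nat_lit 533)
  (nat_lit 129) (nat_lit 1236) (.node (.node (.node (.node (.node (.node .nil (nat_lit 535) (nat_lit 98)
  (nat_lit 1650) .nil) (nat_lit 536) (nat_lit 129) (nat_lit 1143) (.node .nil (nat_lit 537) (nat_lit 115)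
  (nat_lit 163) .nil)) (nat_lit 545) (nat_lit 113) (nat_lit 1149) (.node (.node .nil (nat_lit 549) (nat_lit
  97) (nat_lit 316) .nil) (nat_lit 551) (nat_lit 129) (nat_lit 349) .nil)) (nat_lit 564) (nat_lit 35) (nat_lit
  251) (.node (.node (.node .nil (nat_lit 582) (nat_lit 160) (nat_lit 798) .nil) (nat_lit 584) (nat_lit 114)
  (nat_lit 711) .nil) (nat_lit 586) (nat_lit 64) (nat_lit 1383) (.node (.node .nil (nat_lit 602) (nat_lit 115)
  (nat_lit 1771) .nil) (nat_lit 625) (nat_lit 128) (nat_lit 1089) .nil))) (nat_lit 626) (nat_lit 163) (nat_lit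
  1178) (.node (.node (.node (.node .nil (nat_lit 627) (nat_lit 147) (nat_lit 1082) .nil) (nat_lit 632)
  (nat_lit 97) (nat_lit 483) (.node .nil (nat_lit 641) (nat_lit 112) (nat_lit 1192) .nil)) (nat_lit 647)
  (nat_lit 131) (nat_lit 1456) (.node (.node .nil (nat_lit 649) (nat_lit 129) (nat_lit 1215) .nil) (nat_lit
  650) (nat_lit 96) (nat_lit 519) .nil)) (nat_lit 651) (nat_lit 163) (nat_lit 1182) (.node (.node (.node .nil
  (nat_lit 655) (nat_lit 115) (nat_lit 1517) .nil) (nat_lit 656) (nat_lit 113) (nat_lit 823) .nil) (nat_lit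
  657) (nat_lit 112) (nat_lit 532) (.node (.node .nil (nat_lit 692) (nat_lit 144) (nat_lit 779) .nil) (nat_lit
  693) (nat_lit 144) (nat_lit 796) .nil)))) (nat_lit 710) (nat_lit 80) (nat_lit 1223) (.node (.node (.node
  (.node (.node .nil (nat_lit 711) (nat_lit 97) (nat_lit 1127) .nil) (nat_lit 725) (nat_lit 145) (nat_lit 245)
  (.node .nil (nat_lit 726) (nat_lit 147) (nat_lit 887) .nil)) (nat_lit 763) (nat_lit 131) (nat_lit 1215)
  (.node (.node .nil (nat_lit 764) (nat_lit 147) (nat_lit 796) .nil) (nat_lit 767) (nat_lit 96) (nat_lit 446)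
  .nil)) (nat_lit 768) (nat_lit 51) (nat_lit 247) (.node (.node (.node .nil (nat_lit 779) (nat_lit 131)
  (nat_lit 54) .nil) (nat_lit 796) (nat_lit 131) (nat_lit 1238) .nil) (nat_lit 797) (nat_lit 128) (nat_lit
  602) (.node (.node .nil (nat_lit 798) (nat_lit 147) (nat_lit 121) .nil) (nat_lit 819) (nat_lit 113) (nat_lit
  650) .nil))) (nat_lit 820) (nat_lit 144) (nat_lit 1219) (.node (.node (.node (.node .nil (nat_lit 823)
  (nat_lit 96) (nat_lit 1222) .nil) (nat_lit 824) (nat_lit 130) (nat_lit 656) (.node .nil (nat_lit 855)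
  (nat_lit 129) (nat_lit 1625) .nil)) (nat_lit 856) (nat_lit 129) (nat_lit 113) (.node (.node .nil (nat_lit
  887) (nat_lit 128) (nat_lit 1237) .nil) (nat_lit 892) (nat_lit 131) (nat_lit 1159) .nil)) (nat_lit 939)
  (nat_lit 67) (nat_lit 190) (.node (.node (.node .nil (nat_lit 940) (nat_lit 97) (nat_lit 23) .nil) (nat_lit
  1000) (nat_lit 145) (nat_lit 497) .nil) (nat_lit 1001) (nat_lit 131) (nat_lit 1214) (.node (.node .nil
  (nat_lit 1002) (nat_lit 147) (nat_lit 272) .nil) (nat_lit 1003) (nat_lit 115) (nat_lit 1723) .nil))))))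
def xT1t_2 : T := (.node (.node (.node (.node (.node (.node (.node .nil (nat_lit 1038) (nat_lit 115) (nat_lit
  549) .nil) (nat_lit 1039) (nat_lit 129) (nat_lit 1753) (.node .nil (nat_lit 1040) (nat_lit 145) (nat_lit
  409) .nil)) (nat_lit 1044) (nat_lit 115) (nat_lit 1088) (.node (.node .nil (nat_lit 1045) (nat_lit 129)
  (nat_lit 1159) .nil) (nat_lit 1046) (nat_lit 97) (nat_lit 89) .nil)) (nat_lit 1047) (nat_lit 97) (nat_lit
  179) (.node (.node (.node .nil (nat_lit 1048) (nat_lit 98) (nat_lit 1049) .nil) (nat_lit 1049) (nat_lit 81)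
  (nat_lit 106) .nil) (nat_lit 1058) (nat_lit 112) (nat_lit 1083) (.node (.node .nil (nat_lit 1061) (nat_lit
  112) (nat_lit 1088) .nil) (nat_lit 1074) (nat_lit 129) (nat_lit 1218) .nil))) (nat_lit 1075) (nat_lit 131)
  (nat_lit 1089) (.node (.node (.node (.node .nil (nat_lit 1076) (nat_lit 128) (nat_lit 1038) .nil) (nat_lit
  1077) (nat_lit 82) (nat_lit 1648) (.node .nil (nat_lit 1078) (nat_lit 130) (nat_lit 1722) .nil)) (nat_lit
  1079) (nat_lit 99) (nat_lit 1649) (.node (.node .nil (nat_lit 1080) (nat_lit 160) (nat_lit 1040) .nil)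
  (nat_lit 1081) (nat_lit 48) (nat_lit 564) .nil)) (nat_lit 1082) (nat_lit 130) (nat_lit 1776) (.node (.node
  (.node .nil (nat_lit 1083) (nat_lit 99) (nat_lit 26) .nil) (nat_lit 1088) (nat_lit 99) (nat_lit 1049) .nil)
  (nat_lit 1089) (nat_lit 113) (nat_lit 1183) (.node (.node .nil (nat_lit 1091) (nat_lit 67) (nat_lit 768)
  .nil) (nat_lit 1116) (nat_lit 112) (nat_lit 1118) .nil)))) (nat_lit 1117) (nat_lit 131) (nat_lit 1577)
  (.node (.node (.node (.node (.node .nil (nat_lit 1118) (nat_lit 99) (nat_lit 283) .nil) (nat_lit 1119)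
  (nat_lit 131) (nat_lit 655) (.node .nil (nat_lit 1120) (nat_lit 129) (nat_lit 408) .nil)) (nat_lit 1121)
  (nat_lit 98) (nat_lit 1649) (.node (.node .nil (nat_lit 1122) (nat_lit 97) (nat_lit 1077) .nil) (nat_lit
  1123) (nat_lit 130) (nat_lit 1627) .nil)) (nat_lit 1124) (nat_lit 129) (nat_lit 1762) (.node (.node (.node
  .nil (nat_lit 1125) (nat_lit 67) (nat_lit 486) .nil) (nat_lit 1126) (nat_lit 144) (nat_lit 1124) .nil)
  (nat_lit 1127) (nat_lit 80) (nat_lit 1125) (.node (.node .nil (nat_lit 1132) (nat_lit 80) (nat_lit 1134)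
  .nil) (nat_lit 1133) (nat_lit 115) (nat_lit 1542) .nil))) (nat_lit 1134) (nat_lit 65) (nat_lit 1081) (.node
  (.node (.node (.node .nil (nat_lit 1135) (nat_lit 115) (nat_lit 132) .nil) (nat_lit 1136) (nat_lit 115)
  (nat_lit 1333) (.node .nil (nat_lit 1140) (nat_lit 114) (nat_lit 1731) .nil)) (nat_lit 1143) (nat_lit 114)
  (nat_lit 1661) (.node (.node .nil (nat_lit 1144) (nat_lit 97) (nat_lit 710) .nil) (nat_lit 1147) (nat_lit
  147) (nat_lit 1176) .nil)) (nat_lit 1149) (nat_lit 96) (nat_lit 1234) (.node (.node (.node .nil (nat_lit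
  1151) (nat_lit 115) (nat_lit 1046) .nil) (nat_lit 1156) (nat_lit 130) (nat_lit 1703) .nil) (nat_lit 1157)
  (nat_lit 113) (nat_lit 132) (.node (.node .nil (nat_lit 1158) (nat_lit 128) (nat_lit 1157) .nil) (nat_lit
  1159) (nat_lit 114) (nat_lit 1694) .nil))))) (nat_lit 1169) (nat_lit 130) (nat_lit 1663) (.node (.node
  (.node (.node (.node (.node .nil (nat_lit 1170) (nat_lit 146) (nat_lit 625) .nil) (nat_lit 1171) (nat_lit
  129) (nat_lit 1136) (.node .nil (nat_lit 1172) (nat_lit 163) (nat_lit 1181) .nil)) (nat_lit 1176) (nat_lit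
  131) (nat_lit 1776) (.node (.node .nil (nat_lit 1177) (nat_lit 145) (nat_lit 1620) .nil) (nat_lit 1178)
  (nat_lit 144) (nat_lit 1176) .nil)) (nat_lit 1179) (nat_lit 145) (nat_lit 1623) (.node (.node (.node .nil
  (nat_lit 1180) (nat_lit 129) (nat_lit 1619) .nil) (nat_lit 1181) (nat_lit 144) (nat_lit 855) .nil) (nat_lit
  1182) (nat_lit 146) (nat_lit 1578) (.node (.node .nil (nat_lit 1183) (nat_lit 99) (nat_lit 1127) .nil)
  (nat_lit 1189) (nat_lit 97) (nat_lit 1393) .nil))) (nat_lit 1190) (nat_lit 83) (nat_lit 187) (.node (.node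
  (.node (.node .nil (nat_lit 1191) (nat_lit 144) (nat_lit 856) .nil) (nat_lit 1192) (nat_lit 99) (nat_lit
  1077) (.node .nil (nat_lit 1211) (nat_lit 97) (nat_lit 519) .nil)) (nat_lit 1212) (nat_lit 128) (nat_lit
  819) (.node (.node .nil (nat_lit 1213) (nat_lit 131) (nat_lit 1625) .nil) (nat_lit 1214) (nat_lit 115)
  (nat_lit 535) .nil)) (nat_lit 1215) (nat_lit 112) (nat_lit 1211) (.node (.node (.node .nil (nat_lit 1216)
  (nat_lit 145) (nat_lit 1745) .nil) (nat_lit 1217) (nat_lit 130) (nat_lit 1457) .nil) (nat_lit 1218) (nat_lit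
  112) (nat_lit 465) (.node (.node .nil (nat_lit 1219) (nat_lit 131) (nat_lit 1143) .nil) (nat_lit 1220)
  (nat_lit 129) (nat_lit 1713) .nil)))) (nat_lit 1221) (nat_lit 147) (nat_lit 1074) (.node (.node (.node
  (.node (.node .nil (nat_lit 1222) (nat_lit 83) (nat_lit 489) .nil) (nat_lit 1223) (nat_lit 67) (nat_lit 18)
  (.node .nil (nat_lit 1224) (nat_lit 99) (nat_lit 1132) .nil)) (nat_lit 1225) (nat_lit 129) (nat_lit 657)
  (.node (.node .nil (nat_lit 1226) (nat_lit 112) (nat_lit 1229) .nil) (nat_lit 1229) (nat_lit 99) (nat_lit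
  197) .nil)) (nat_lit 1230) (nat_lit 147) (nat_lit 274) (.node (.node (.node .nil (nat_lit 1233) (nat_lit
  112) (nat_lit 711) .nil) (nat_lit 1234) (nat_lit 81) (nat_lit 1125) .nil) (nat_lit 1236) (nat_lit 114)
  (nat_lit 632) (.node (.node .nil (nat_lit 1237) (nat_lit 113) (nat_lit 313) .nil) (nat_lit 1238) (nat_lit
  112) (nat_lit 549) .nil))) (nat_lit 1247) (nat_lit 145) (nat_lit 328) (.node (.node (.node (.node .nil
  (nat_lit 1248) (nat_lit 144) (nat_lit 892) .nil) (nat_lit 1249) (nat_lit 145) (nat_lit 1611) (.node .nil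
  (nat_lit 1307) (nat_lit 114) (nat_lit 1144) .nil)) (nat_lit 1309) (nat_lit 129) (nat_lit 584) (.node (.node
  .nil (nat_lit 1329) (nat_lit 83) (nat_lit 939) .nil) (nat_lit 1330) (nat_lit 115) (nat_lit 1543) .nil))
  (nat_lit 1331) (nat_lit 99) (nat_lit 89) (.node (.node (.node .nil (nat_lit 1332) (nat_lit 114) (nat_lit
  1189) .nil) (nat_lit 1333) (nat_lit 96) (nat_lit 1329) .nil) (nat_lit 1334) (nat_lit 129) (nat_lit 1539)
  (.node (.node .nil (nat_lit 1335) (nat_lit 160) (nat_lit 1147) .nil) (nat_lit 1336) (nat_lit 144) (nat_lit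
  505) .nil))))))
def xT1t_3 : T := (.node (.node (.node (.node (.node (.node (.node .nil (nat_lit 1338) (nat_lit 146) (nat_lit
  536) .nil) (nat_lit 1383) (nat_lit 51) (nat_lit 76) (.node .nil (nat_lit 1389) (nat_lit 99) (nat_lit 1719)
  .nil)) (nat_lit 1390) (nat_lit 131) (nat_lit 1226) (.node (.node .nil (nat_lit 1393) (nat_lit 80) (nat_lit
  1396) .nil) (nat_lit 1394) (nat_lit 83) (nat_lit 448) .nil)) (nat_lit 1395) (nat_lit 83) (nat_lit 1524)
  (.node (.node (.node .nil (nat_lit 1396) (nat_lit 67) (nat_lit 252) .nil) (nat_lit 1397) (nat_lit 144)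
  (nat_lit 1390) .nil) (nat_lit 1398) (nat_lit 112) (nat_lit 1389) (.node (.node .nil (nat_lit 1456) (nat_lit
  112) (nat_lit 1518) .nil) (nat_lit 1457) (nat_lit 112) (nat_lit 1661) .nil))) (nat_lit 1517) (nat_lit 96)
  (nat_lit 1649) (.node (.node (.node (.node .nil (nat_lit 1518) (nat_lit 99) (nat_lit 1222) .nil) (nat_lit
  1522) (nat_lit 115) (nat_lit 200) (.node .nil (nat_lit 1524) (nat_lit 67) (nat_lit 1081) .nil)) (nat_lit
  1526) (nat_lit 98) (nat_lit 26) (.node (.node .nil (nat_lit 1527) (nat_lit 98) (nat_lit 7) .nil) (nat_lit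
  1528) (nat_lit 65) (nat_lit 18) .nil)) (nat_lit 1529) (nat_lit 80) (nat_lit 1528) (.node (.node (.node .nil
  (nat_lit 1530) (nat_lit 114) (nat_lit 6) .nil) (nat_lit 1531) (nat_lit 114) (nat_lit 25) .nil) (nat_lit
  1534) (nat_lit 65) (nat_lit 411) (.node (.node .nil (nat_lit 1535) (nat_lit 130) (nat_lit 1233) .nil)
  (nat_lit 1539) (nat_lit 114) (nat_lit 1149) .nil)))) (nat_lit 1542) (nat_lit 98) (nat_lit 1234) (.node
  (.node (.node (.node (.node .nil (nat_lit 1543) (nat_lit 98) (nat_lit 1132) .nil) (nat_lit 1544) (nat_lit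
  82) (nat_lit 1134) (.node .nil (nat_lit 1575) (nat_lit 131) (nat_lit 1663) .nil)) (nat_lit 1576) (nat_lit
  115) (nat_lit 1047) (.node (.node .nil (nat_lit 1577) (nat_lit 115) (nat_lit 1706) .nil) (nat_lit 1578)
  (nat_lit 129) (nat_lit 1577) .nil)) (nat_lit 1579) (nat_lit 99) (nat_lit 23) (.node (.node (.node .nil
  (nat_lit 1580) (nat_lit 83) (nat_lit 195) .nil) (nat_lit 1581) (nat_lit 96) (nat_lit 1580) .nil) (nat_lit
  1582) (nat_lit 99) (nat_lit 236) (.node (.node .nil (nat_lit 1605) (nat_lit 176) (nat_lit 1612) .nil)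
  (nat_lit 1606) (nat_lit 147) (nat_lit 409) .nil))) (nat_lit 1607) (nat_lit 115) (nat_lit 532) (.node (.node
  (.node (.node .nil (nat_lit 1608) (nat_lit 147) (nat_lit 1124) .nil) (nat_lit 1609) (nat_lit 145) (nat_lit
  345) (.node .nil (nat_lit 1610) (nat_lit 128) (nat_lit 1607) .nil)) (nat_lit 1611) (nat_lit 131) (nat_lit
  1151) (.node (.node .nil (nat_lit 1612) (nat_lit 163) (nat_lit 627) .nil) (nat_lit 1619) (nat_lit 115)
  (nat_lit 1048) .nil)) (nat_lit 1620) (nat_lit 131) (nat_lit 349) (.node (.node (.node .nil (nat_lit 1622)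
  (nat_lit 129) (nat_lit 1061) .nil) (nat_lit 1623) (nat_lit 128) (nat_lit 1627) .nil) (nat_lit 1624) (nat_lit
  145) (nat_lit 647) (.node (.node .nil (nat_lit 1625) (nat_lit 115) (nat_lit 313) .nil) (nat_lit 1626)
  (nat_lit 147) (nat_lit 520) .nil))))) (nat_lit 1627) (nat_lit 113) (nat_lit 1088) (.node (.node (.node
  (.node (.node (.node .nil (nat_lit 1646) (nat_lit 160) (nat_lit 627) .nil) (nat_lit 1647) (nat_lit 130)
  (nat_lit 1089) (.node .nil (nat_lit 1648) (nat_lit 65) (nat_lit 1383) .nil)) (nat_lit 1649) (nat_lit 81)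
  (nat_lit 586) (.node (.node .nil (nat_lit 1650) (nat_lit 80) (nat_lit 1648) .nil) (nat_lit 1661) (nat_lit
  97) (nat_lit 1719) .nil)) (nat_lit 1663) (nat_lit 113) (nat_lit 1331) (.node (.node (.node .nil (nat_lit
  1694) (nat_lit 97) (nat_lit 1580) .nil) (nat_lit 1695) (nat_lit 162) (nat_lit 1249) .nil) (nat_lit 1702)
  (nat_lit 179) (nat_lit 1646) (.node (.node .nil (nat_lit 1703) (nat_lit 112) (nat_lit 1694) .nil) (nat_lit
  1705) (nat_lit 113) (nat_lit 1333) .nil))) (nat_lit 1706) (nat_lit 96) (nat_lit 1719) (.node (.node (.node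
  (.node .nil (nat_lit 1711) (nat_lit 115) (nat_lit 1694) .nil) (nat_lit 1712) (nat_lit 145) (nat_lit 1219)
  (.node .nil (nat_lit 1713) (nat_lit 114) (nat_lit 1211) .nil)) (nat_lit 1714) (nat_lit 146) (nat_lit 551)
  (.node (.node .nil (nat_lit 1719) (nat_lit 83) (nat_lit 492) .nil) (nat_lit 1720) (nat_lit 128) (nat_lit
  1705) .nil)) (nat_lit 1722) (nat_lit 113) (nat_lit 1518) (.node (.node (.node .nil (nat_lit 1723) (nat_lit
  99) (nat_lit 1650) .nil) (nat_lit 1731) (nat_lit 97) (nat_lit 1329) .nil) (nat_lit 1732) (nat_lit 128)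
  (nat_lit 1722) (.node (.node .nil (nat_lit 1742) (nat_lit 128) (nat_lit 1711) .nil) (nat_lit 1745) (nat_lit
  130) (nat_lit 819) .nil)))) (nat_lit 1746) (nat_lit 130) (nat_lit 1215) (.node (.node (.node (.node (.node
  .nil (nat_lit 1747) (nat_lit 129) (nat_lit 1226) .nil) (nat_lit 1748) (nat_lit 131) (nat_lit 602) (.node
  .nil (nat_lit 1751) (nat_lit 146) (nat_lit 1124) .nil)) (nat_lit 1753) (nat_lit 115) (nat_lit 1121) (.node
  (.node .nil (nat_lit 1754) (nat_lit 113) (nat_lit 1079) .nil) (nat_lit 1755) (nat_lit 163) (nat_lit 1779)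
  .nil)) (nat_lit 1756) (nat_lit 113) (nat_lit 1579) (.node (.node (.node .nil (nat_lit 1759) (nat_lit 130)
  (nat_lit 1157) .nil) (nat_lit 1762) (nat_lit 115) (nat_lit 1526) .nil) (nat_lit 1763) (nat_lit 145) (nat_lit
  1117) (.node (.node .nil (nat_lit 1764) (nat_lit 131) (nat_lit 1619) .nil) (nat_lit 1765) (nat_lit 113)
  (nat_lit 219) .nil))) (nat_lit 1766) (nat_lit 67) (nat_lit 1383) (.node (.node (.node (.node .nil (nat_lit
  1767) (nat_lit 67) (nat_lit 234) .nil) (nat_lit 1768) (nat_lit 81) (nat_lit 1777) (.node .nil (nat_lit 1769)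
  (nat_lit 131) (nat_lit 408) .nil)) (nat_lit 1770) (nat_lit 163) (nat_lit 1170) (.node (.node .nil (nat_lit
  1771) (nat_lit 97) (nat_lit 220) .nil) (nat_lit 1772) (nat_lit 98) (nat_lit 412) .nil)) (nat_lit 1775)
  (nat_lit 163) (nat_lit 522) (.node (.node (.node .nil (nat_lit 1776) (nat_lit 113) (nat_lit 1581) .nil)
  (nat_lit 1777) (nat_lit 67) (nat_lit 177) .nil) (nat_lit 1778) (nat_lit 83) (nat_lit 1767) (.node (.node
  .nil (nat_lit 1779) (nat_lit 147) (nat_lit 625) .nil) (nat_lit 1780) (nat_lit 131) (nat_lit 1135) .nil))))))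
def xT1t : T := (.node (.node xT1t_0 (nat_lit 374) (nat_lit 147) (nat_lit 328) xT1t_1) (nat_lit 1037) (nat_lit
  177) (nat_lit 1612) (.node xT1t_2 (nat_lit 1337) (nat_lit 113) (nat_lit 1542) xT1t_3))
def xT1 : Lvl := ⟨nat_lit 145, [nat_lit 1, nat_lit 14, nat_lit 2, nat_lit 367], [], xT1t⟩
def xT2t_0 : T := (.node (.node (.node (.node (.node (.node (.node (.node .nil (nat_lit 1) (nat_lit 112)
  (nat_lit 803) .nil) (nat_lit 8) (nat_lit 98) (nat_lit 1574) .nil) (nat_lit 11) (nat_lit 114) (nat_lit 1533)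
  (.node .nil (nat_lit 16) (nat_lit 144) (nat_lit 840) .nil)) (nat_lit 31) (nat_lit 80) (nat_lit 1320) (.node
  (.node (.node .nil (nat_lit 36) (nat_lit 130) (nat_lit 136) .nil) (nat_lit 39) (nat_lit 145) (nat_lit 1300)
  .nil) (nat_lit 44) (nat_lit 114) (nat_lit 1022) (.node .nil (nat_lit 47) (nat_lit 130) (nat_lit 681) .nil)))
  (nat_lit 53) (nat_lit 98) (nat_lit 719) (.node (.node (.node (.node .nil (nat_lit 59) (nat_lit 178) (nat_lit
  703) .nil) (nat_lit 66) (nat_lit 128) (nat_lit 335) .nil) (nat_lit 67) (nat_lit 130) (nat_lit 503) (.node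
  .nil (nat_lit 85) (nat_lit 130) (nat_lit 1573) .nil)) (nat_lit 86) (nat_lit 177) (nat_lit 985) (.node (.node
  (.node .nil (nat_lit 87) (nat_lit 64) (nat_lit 1615) .nil) (nat_lit 88) (nat_lit 177) (nat_lit 1261) .nil)
  (nat_lit 92) (nat_lit 64) (nat_lit 970) (.node .nil (nat_lit 98) (nat_lit 129) (nat_lit 503) .nil))))
  (nat_lit 99) (nat_lit 96) (nat_lit 1698) (.node (.node (.node (.node (.node .nil (nat_lit 114) (nat_lit 177)
  (nat_lit 1716) .nil) (nat_lit 119) (nat_lit 112) (nat_lit 1633) .nil) (nat_lit 129) (nat_lit 114) (nat_lit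
  477) (.node .nil (nat_lit 130) (nat_lit 113) (nat_lit 99) .nil)) (nat_lit 136) (nat_lit 113) (nat_lit 1424)
  (.node (.node (.node .nil (nat_lit 137) (nat_lit 160) (nat_lit 861) .nil) (nat_lit 139) (nat_lit 144)
  (nat_lit 895) .nil) (nat_lit 140) (nat_lit 161) (nat_lit 1739) (.node .nil (nat_lit 141) (nat_lit 129)
  (nat_lit 358) .nil))) (nat_lit 142) (nat_lit 130) (nat_lit 994) (.node (.node (.node (.node .nil (nat_lit
  151) (nat_lit 161) (nat_lit 1652) .nil) (nat_lit 160) (nat_lit 98) (nat_lit 1298) .nil) (nat_lit 161)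
  (nat_lit 145) (nat_lit 66) (.node .nil (nat_lit 162) (nat_lit 176) (nat_lit 1344) .nil)) (nat_lit 174)
  (nat_lit 130) (nat_lit 130) (.node (.node (.node .nil (nat_lit 175) (nat_lit 112) (nat_lit 372) .nil)
  (nat_lit 176) (nat_lit 145) (nat_lit 67) .nil) (nat_lit 201) (nat_lit 146) (nat_lit 677) (.node .nil
  (nat_lit 203) (nat_lit 162) (nat_lit 139) .nil))))) (nat_lit 204) (nat_lit 130) (nat_lit 686) (.node (.node
  (.node (.node (.node (.node .nil (nat_lit 207) (nat_lit 162) (nat_lit 39) .nil) (nat_lit 208) (nat_lit 162)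
  (nat_lit 16) .nil) (nat_lit 216) (nat_lit 130) (nat_lit 175) (.node .nil (nat_lit 223) (nat_lit 146)
  (nat_lit 141) .nil)) (nat_lit 240) (nat_lit 130) (nat_lit 1006) (.node (.node (.node .nil (nat_lit 254)
  (nat_lit 145) (nat_lit 743) .nil) (nat_lit 258) (nat_lit 177) (nat_lit 1715) .nil) (nat_lit 265) (nat_lit
  162) (nat_lit 683) (.node .nil (nat_lit 266) (nat_lit 144) (nat_lit 759) .nil))) (nat_lit 267) (nat_lit 96)
  (nat_lit 811) (.node (.node (.node (.node .nil (nat_lit 269) (nat_lit 176) (nat_lit 942) .nil) (nat_lit 273)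
  (nat_lit 130) (nat_lit 1430) .nil) (nat_lit 277) (nat_lit 144) (nat_lit 98) (.node .nil (nat_lit 278)
  (nat_lit 129) (nat_lit 1508) .nil)) (nat_lit 279) (nat_lit 162) (nat_lit 1592) (.node (.node (.node .nil
  (nat_lit 285) (nat_lit 160) (nat_lit 1254) .nil) (nat_lit 293) (nat_lit 97) (nat_lit 570) .nil) (nat_lit
  308) (nat_lit 65) (nat_lit 970) (.node .nil (nat_lit 312) (nat_lit 160) (nat_lit 1410) .nil)))) (nat_lit
  321) (nat_lit 144) (nat_lit 802) (.node (.node (.node (.node (.node .nil (nat_lit 325) (nat_lit 130)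
  (nat_lit 1640) .nil) (nat_lit 331) (nat_lit 113) (nat_lit 1533) .nil) (nat_lit 335) (nat_lit 112) (nat_lit
  633) (.node .nil (nat_lit 341) (nat_lit 144) (nat_lit 543) .nil)) (nat_lit 353) (nat_lit 112) (nat_lit 1533)
  (.node (.node (.node .nil (nat_lit 354) (nat_lit 113) (nat_lit 1071) .nil) (nat_lit 356) (nat_lit 128)
  (nat_lit 353) .nil) (nat_lit 358) (nat_lit 114) (nat_lit 1240) (.node .nil (nat_lit 363) (nat_lit 50)
  (nat_lit 1262) .nil))) (nat_lit 372) (nat_lit 97) (nat_lit 568) (.node (.node (.node (.node .nil (nat_lit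
  381) (nat_lit 160) (nat_lit 732) .nil) (nat_lit 389) (nat_lit 160) (nat_lit 39) .nil) (nat_lit 403) (nat_lit
  161) (nat_lit 809) (.node .nil (nat_lit 410) (nat_lit 34) (nat_lit 1294) .nil)) (nat_lit 414) (nat_lit 161)
  (nat_lit 1760) (.node (.node .nil (nat_lit 424) (nat_lit 80) (nat_lit 739) .nil) (nat_lit 432) (nat_lit 160)
  (nat_lit 573) (.node .nil (nat_lit 434) (nat_lit 98) (nat_lit 723) .nil)))))) (nat_lit 435) (nat_lit 146)
  (nat_lit 743) (.node (.node (.node (.node (.node (.node (.node .nil (nat_lit 439) (nat_lit 50) (nat_lit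
  1349) .nil) (nat_lit 445) (nat_lit 129) (nat_lit 1245) .nil) (nat_lit 452) (nat_lit 97) (nat_lit 872) (.node
  .nil (nat_lit 455) (nat_lit 160) (nat_lit 683) .nil)) (nat_lit 463) (nat_lit 177) (nat_lit 432) (.node
  (.node (.node .nil (nat_lit 467) (nat_lit 129) (nat_lit 1684) .nil) (nat_lit 470) (nat_lit 66) (nat_lit 822)
  .nil) (nat_lit 477) (nat_lit 97) (nat_lit 834) (.node .nil (nat_lit 503) (nat_lit 112) (nat_lit 634) .nil)))
  (nat_lit 513) (nat_lit 113) (nat_lit 1633) (.node (.node (.node (.node .nil (nat_lit 528) (nat_lit 112)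
  (nat_lit 667) .nil) (nat_lit 531) (nat_lit 130) (nat_lit 999) .nil) (nat_lit 543) (nat_lit 129) (nat_lit 1)
  (.node .nil (nat_lit 553) (nat_lit 49) (nat_lit 1262) .nil)) (nat_lit 559) (nat_lit 96) (nat_lit 1414)
  (.node (.node (.node .nil (nat_lit 565) (nat_lit 130) (nat_lit 1034) .nil) (nat_lit 566) (nat_lit 81)
  (nat_lit 470) .nil) (nat_lit 568) (nat_lit 82) (nat_lit 1320) (.node .nil (nat_lit 570) (nat_lit 82)
  (nat_lit 1129) .nil)))) (nat_lit 573) (nat_lit 145) (nat_lit 356) (.node (.node (.node (.node (.node .nil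
  (nat_lit 578) (nat_lit 98) (nat_lit 872) .nil) (nat_lit 580) (nat_lit 65) (nat_lit 439) .nil) (nat_lit 585)
  (nat_lit 144) (nat_lit 1111) (.node .nil (nat_lit 593) (nat_lit 146) (nat_lit 704) .nil)) (nat_lit 609)
  (nat_lit 114) (nat_lit 1488) (.node (.node (.node .nil (nat_lit 619) (nat_lit 161) (nat_lit 1643) .nil)
  (nat_lit 624) (nat_lit 128) (nat_lit 331) .nil) (nat_lit 628) (nat_lit 176) (nat_lit 851) (.node .nil
  (nat_lit 633) (nat_lit 97) (nat_lit 874) .nil))) (nat_lit 634) (nat_lit 96) (nat_lit 1298) (.node (.node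
  (.node (.node .nil (nat_lit 642) (nat_lit 162) (nat_lit 1758) .nil) (nat_lit 644) (nat_lit 114) (nat_lit
  715) .nil) (nat_lit 658) (nat_lit 162) (nat_lit 791) (.node .nil (nat_lit 659) (nat_lit 16) (nat_lit 771)
  .nil)) (nat_lit 667) (nat_lit 96) (nat_lit 424) (.node (.node (.node .nil (nat_lit 672) (nat_lit 146)
  (nat_lit 788) .nil) (nat_lit 674) (nat_lit 112) (nat_lit 1446) .nil) (nat_lit 677) (nat_lit 128) (nat_lit
  681) (.node .nil (nat_lit 681) (nat_lit 113) (nat_lit 634) .nil))))) (nat_lit 683) (nat_lit 144) (nat_lit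
  704) (.node (.node (.node (.node (.node (.node .nil (nat_lit 686) (nat_lit 112) (nat_lit 559) .nil) (nat_lit
  690) (nat_lit 146) (nat_lit 840) .nil) (nat_lit 703) (nat_lit 161) (nat_lit 1328) (.node .nil (nat_lit 704)
  (nat_lit 128) (nat_lit 999) .nil)) (nat_lit 713) (nat_lit 81) (nat_lit 1145) (.node (.node (.node .nil
  (nat_lit 715) (nat_lit 97) (nat_lit 998) .nil) (nat_lit 718) (nat_lit 130) (nat_lit 1) .nil) (nat_lit 719)
  (nat_lit 80) (nat_lit 1145) (.node .nil (nat_lit 720) (nat_lit 113) (nat_lit 267) .nil))) (nat_lit 723)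
  (nat_lit 80) (nat_lit 1129) (.node (.node (.node (.node .nil (nat_lit 732) (nat_lit 144) (nat_lit 788) .nil)
  (nat_lit 733) (nat_lit 129) (nat_lit 11) .nil) (nat_lit 737) (nat_lit 130) (nat_lit 1339) (.node .nil
  (nat_lit 739) (nat_lit 65) (nat_lit 1615) .nil)) (nat_lit 743) (nat_lit 128) (nat_lit 1635) (.node (.node
  (.node .nil (nat_lit 746) (nat_lit 146) (nat_lit 66) .nil) (nat_lit 754) (nat_lit 146) (nat_lit 759) .nil)
  (nat_lit 759) (nat_lit 128) (nat_lit 1006) (.node .nil (nat_lit 769) (nat_lit 82) (nat_lit 87) .nil))))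
  (nat_lit 771) (nat_lit 0) (nat_lit 771) (.node (.node (.node (.node (.node .nil (nat_lit 788) (nat_lit 128)
  (nat_lit 1034) .nil) (nat_lit 791) (nat_lit 145) (nat_lit 325) .nil) (nat_lit 793) (nat_lit 97) (nat_lit
  424) (.node .nil (nat_lit 802) (nat_lit 128) (nat_lit 130) .nil)) (nat_lit 803) (nat_lit 96) (nat_lit 566)
  (.node (.node (.node .nil (nat_lit 807) (nat_lit 96) (nat_lit 1574) .nil) (nat_lit 809) (nat_lit 146)
  (nat_lit 878) .nil) (nat_lit 811) (nat_lit 81) (nat_lit 92) (.node .nil (nat_lit 817) (nat_lit 128) (nat_lit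
  886) .nil))) (nat_lit 822) (nat_lit 48) (nat_lit 1349) (.node (.node (.node (.node .nil (nat_lit 826)
  (nat_lit 176) (nat_lit 1364) .nil) (nat_lit 830) (nat_lit 128) (nat_lit 1573) .nil) (nat_lit 834) (nat_lit
  82) (nat_lit 580) (.node .nil (nat_lit 835) (nat_lit 129) (nat_lit 609) .nil)) (nat_lit 838) (nat_lit 114)
  (nat_lit 881) (.node (.node .nil (nat_lit 839) (nat_lit 146) (nat_lit 830) .nil) (nat_lit 840) (nat_lit 129)
  (nat_lit 1162) (.node .nil (nat_lit 844) (nat_lit 161) (nat_lit 849) .nil)))))))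
def xT2t_1 : T := (.node (.node (.node (.node (.node (.node (.node (.node .nil (nat_lit 849) (nat_lit 146)
  (nat_lit 817) .nil) (nat_lit 851) (nat_lit 160) (nat_lit 1564) .nil) (nat_lit 854) (nat_lit 144) (nat_lit
  1387) (.node .nil (nat_lit 861) (nat_lit 145) (nat_lit 216) .nil)) (nat_lit 863) (nat_lit 162) (nat_lit 854)
  (.node (.node (.node .nil (nat_lit 869) (nat_lit 146) (nat_lit 1680) .nil) (nat_lit 872) (nat_lit 80)
  (nat_lit 1375) .nil) (nat_lit 874) (nat_lit 82) (nat_lit 1375) (.node .nil (nat_lit 878) (nat_lit 128)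
  (nat_lit 513) .nil))) (nat_lit 881) (nat_lit 97) (nat_lit 769) (.node (.node (.node (.node .nil (nat_lit
  886) (nat_lit 113) (nat_lit 578) .nil) (nat_lit 894) (nat_lit 144) (nat_lit 624) .nil) (nat_lit 895)
  (nat_lit 128) (nat_lit 994) (.node .nil (nat_lit 900) (nat_lit 97) (nat_lit 719) .nil)) (nat_lit 911)
  (nat_lit 129) (nat_lit 838) (.node (.node (.node .nil (nat_lit 925) (nat_lit 98) (nat_lit 811) .nil)
  (nat_lit 926) (nat_lit 32) (nat_lit 659) .nil) (nat_lit 942) (nat_lit 161) (nat_lit 1093) (.node .nil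
  (nat_lit 945) (nat_lit 144) (nat_lit 445) .nil)))) (nat_lit 949) (nat_lit 113) (nat_lit 1669) (.node (.node
  (.node (.node (.node .nil (nat_lit 966) (nat_lit 146) (nat_lit 895) .nil) (nat_lit 967) (nat_lit 128)
  (nat_lit 1106) .nil) (nat_lit 969) (nat_lit 162) (nat_lit 894) (.node .nil (nat_lit 970) (nat_lit 48)
  (nat_lit 926) .nil)) (nat_lit 985) (nat_lit 162) (nat_lit 573) (.node (.node (.node .nil (nat_lit 987)
  (nat_lit 146) (nat_lit 911) .nil) (nat_lit 994) (nat_lit 112) (nat_lit 452) .nil) (nat_lit 998) (nat_lit 82)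
  (nat_lit 308) (.node .nil (nat_lit 999) (nat_lit 113) (nat_lit 807) .nil))) (nat_lit 1004) (nat_lit 162)
  (nat_lit 176) (.node (.node (.node (.node .nil (nat_lit 1006) (nat_lit 113) (nat_lit 559) .nil) (nat_lit
  1020) (nat_lit 145) (nat_lit 1537) .nil) (nat_lit 1022) (nat_lit 97) (nat_lit 723) (.node .nil (nat_lit
  1024) (nat_lit 161) (nat_lit 1254) .nil)) (nat_lit 1034) (nat_lit 113) (nat_lit 434) (.node (.node (.node
  .nil (nat_lit 1053) (nat_lit 160) (nat_lit 1173) .nil) (nat_lit 1054) (nat_lit 112) (nat_lit 1022) .nil)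
  (nat_lit 1064) (nat_lit 145) (nat_lit 967) (.node .nil (nat_lit 1066) (nat_lit 81) (nat_lit 1129) .nil)))))
  (nat_lit 1068) (nat_lit 128) (nat_lit 1054) (.node (.node (.node (.node (.node (.node .nil (nat_lit 1071)
  (nat_lit 98) (nat_lit 713) .nil) (nat_lit 1085) (nat_lit 145) (nat_lit 1161) .nil) (nat_lit 1093) (nat_lit
  144) (nat_lit 1300) (.node .nil (nat_lit 1099) (nat_lit 130) (nat_lit 354) .nil)) (nat_lit 1103) (nat_lit
  82) (nat_lit 1145) (.node (.node (.node .nil (nat_lit 1106) (nat_lit 112) (nat_lit 99) .nil) (nat_lit 1111)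
  (nat_lit 128) (nat_lit 354) .nil) (nat_lit 1113) (nat_lit 162) (nat_lit 1603) (.node .nil (nat_lit 1129)
  (nat_lit 64) (nat_lit 1677) .nil))) (nat_lit 1145) (nat_lit 64) (nat_lit 822) (.node (.node (.node (.node
  .nil (nat_lit 1150) (nat_lit 160) (nat_lit 1194) .nil) (nat_lit 1161) (nat_lit 130) (nat_lit 886) .nil)
  (nat_lit 1162) (nat_lit 114) (nat_lit 634) (.node .nil (nat_lit 1173) (nat_lit 145) (nat_lit 1273) .nil))
  (nat_lit 1194) (nat_lit 144) (nat_lit 1242) (.node (.node (.node .nil (nat_lit 1196) (nat_lit 66) (nat_lit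
  1677) .nil) (nat_lit 1201) (nat_lit 176) (nat_lit 414) .nil) (nat_lit 1202) (nat_lit 130) (nat_lit 335)
  (.node .nil (nat_lit 1209) (nat_lit 145) (nat_lit 273) .nil)))) (nat_lit 1231) (nat_lit 114) (nat_lit 559)
  (.node (.node (.node (.node (.node .nil (nat_lit 1240) (nat_lit 97) (nat_lit 1361) .nil) (nat_lit 1242)
  (nat_lit 129) (nat_lit 994) .nil) (nat_lit 1245) (nat_lit 114) (nat_lit 803) (.node .nil (nat_lit 1252)
  (nat_lit 146) (nat_lit 1675) .nil)) (nat_lit 1254) (nat_lit 144) (nat_lit 467) (.node (.node (.node .nil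
  (nat_lit 1259) (nat_lit 130) (nat_lit 331) .nil) (nat_lit 1261) (nat_lit 162) (nat_lit 1760) .nil) (nat_lit
  1262) (nat_lit 32) (nat_lit 1294) (.node .nil (nat_lit 1268) (nat_lit 145) (nat_lit 1387) .nil))) (nat_lit
  1270) (nat_lit 161) (nat_lit 16) (.node (.node (.node (.node .nil (nat_lit 1273) (nat_lit 130) (nat_lit 353)
  .nil) (nat_lit 1274) (nat_lit 113) (nat_lit 53) .nil) (nat_lit 1280) (nat_lit 160) (nat_lit 341) (.node .nil
  (nat_lit 1292) (nat_lit 146) (nat_lit 733) .nil)) (nat_lit 1294) (nat_lit 17) (nat_lit 771) (.node (.node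
  .nil (nat_lit 1297) (nat_lit 146) (nat_lit 356) .nil) (nat_lit 1298) (nat_lit 81) (nat_lit 1428) (.node .nil
  (nat_lit 1300) (nat_lit 128) (nat_lit 686) .nil)))))) (nat_lit 1302) (nat_lit 145) (nat_lit 85) (.node
  (.node (.node (.node (.node (.node (.node .nil (nat_lit 1314) (nat_lit 113) (nat_lit 160) .nil) (nat_lit
  1320) (nat_lit 64) (nat_lit 553) .nil) (nat_lit 1328) (nat_lit 146) (nat_lit 1483) (.node .nil (nat_lit
  1339) (nat_lit 113) (nat_lit 1532) .nil)) (nat_lit 1344) (nat_lit 161) (nat_lit 1380) (.node (.node (.node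
  .nil (nat_lit 1349) (nat_lit 33) (nat_lit 659) .nil) (nat_lit 1360) (nat_lit 160) (nat_lit 266) .nil)
  (nat_lit 1361) (nat_lit 80) (nat_lit 308) (.node .nil (nat_lit 1364) (nat_lit 160) (nat_lit 1728) .nil)))
  (nat_lit 1365) (nat_lit 114) (nat_lit 267) (.node (.node (.node (.node .nil (nat_lit 1366) (nat_lit 66)
  (nat_lit 1615) .nil) (nat_lit 1375) (nat_lit 65) (nat_lit 363) .nil) (nat_lit 1377) (nat_lit 130) (nat_lit
  1635) (.node .nil (nat_lit 1380) (nat_lit 146) (nat_lit 1111) .nil)) (nat_lit 1385) (nat_lit 161) (nat_lit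
  277) (.node (.node (.node .nil (nat_lit 1387) (nat_lit 128) (nat_lit 1) .nil) (nat_lit 1401) (nat_lit 178)
  (nat_lit 1344) .nil) (nat_lit 1408) (nat_lit 98) (nat_lit 1414) (.node .nil (nat_lit 1410) (nat_lit 145)
  (nat_lit 830) .nil)))) (nat_lit 1414) (nat_lit 81) (nat_lit 1366) (.node (.node (.node (.node (.node .nil
  (nat_lit 1416) (nat_lit 130) (nat_lit 513) .nil) (nat_lit 1420) (nat_lit 161) (nat_lit 1701) .nil) (nat_lit
  1424) (nat_lit 98) (nat_lit 1361) (.node .nil (nat_lit 1428) (nat_lit 66) (nat_lit 553) .nil)) (nat_lit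
  1430) (nat_lit 113) (nat_lit 1488) (.node (.node (.node .nil (nat_lit 1435) (nat_lit 129) (nat_lit 1365)
  .nil) (nat_lit 1440) (nat_lit 176) (nat_lit 137) .nil) (nat_lit 1446) (nat_lit 97) (nat_lit 1103) (.node
  .nil (nat_lit 1448) (nat_lit 145) (nat_lit 895) .nil))) (nat_lit 1477) (nat_lit 114) (nat_lit 293) (.node
  (.node (.node (.node .nil (nat_lit 1479) (nat_lit 128) (nat_lit 949) .nil) (nat_lit 1483) (nat_lit 128)
  (nat_lit 503) .nil) (nat_lit 1488) (nat_lit 96) (nat_lit 723) (.node .nil (nat_lit 1492) (nat_lit 114)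
  (nat_lit 372) .nil)) (nat_lit 1496) (nat_lit 129) (nat_lit 686) (.node (.node (.node .nil (nat_lit 1498)
  (nat_lit 144) (nat_lit 1483) .nil) (nat_lit 1504) (nat_lit 161) (nat_lit 1601) .nil) (nat_lit 1508) (nat_lit
  114) (nat_lit 1633) (.node .nil (nat_lit 1509) (nat_lit 112) (nat_lit 807) .nil))))) (nat_lit 1510) (nat_lit
  130) (nat_lit 119) (.node (.node (.node (.node (.node (.node .nil (nat_lit 1521) (nat_lit 98) (nat_lit 566)
  .nil) (nat_lit 1532) (nat_lit 98) (nat_lit 31) .nil) (nat_lit 1533) (nat_lit 96) (nat_lit 872) (.node .nil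
  (nat_lit 1537) (nat_lit 128) (nat_lit 674) .nil)) (nat_lit 1563) (nat_lit 160) (nat_lit 16) (.node (.node
  (.node .nil (nat_lit 1564) (nat_lit 145) (nat_lit 204) .nil) (nat_lit 1573) (nat_lit 112) (nat_lit 293)
  .nil) (nat_lit 1574) (nat_lit 81) (nat_lit 1196) (.node .nil (nat_lit 1589) (nat_lit 178) (nat_lit 619)
  .nil))) (nat_lit 1592) (nat_lit 144) (nat_lit 141) (.node (.node (.node (.node .nil (nat_lit 1601) (nat_lit
  144) (nat_lit 743) .nil) (nat_lit 1603) (nat_lit 145) (nat_lit 174) .nil) (nat_lit 1615) (nat_lit 48)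
  (nat_lit 1262) (.node .nil (nat_lit 1618) (nat_lit 146) (nat_lit 1387) .nil)) (nat_lit 1632) (nat_lit 129)
  (nat_lit 119) (.node (.node (.node .nil (nat_lit 1633) (nat_lit 96) (nat_lit 1361) .nil) (nat_lit 1635)
  (nat_lit 112) (nat_lit 715) .nil) (nat_lit 1640) (nat_lit 112) (nat_lit 1488) (.node .nil (nat_lit 1643)
  (nat_lit 144) (nat_lit 830) .nil)))) (nat_lit 1652) (nat_lit 146) (nat_lit 1496) (.node (.node (.node (.node
  (.node .nil (nat_lit 1659) (nat_lit 146) (nat_lit 1300) .nil) (nat_lit 1669) (nat_lit 98) (nat_lit 1066)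
  .nil) (nat_lit 1675) (nat_lit 128) (nat_lit 1430) (.node .nil (nat_lit 1677) (nat_lit 49) (nat_lit 410)
  .nil)) (nat_lit 1680) (nat_lit 128) (nat_lit 175) (.node (.node (.node .nil (nat_lit 1681) (nat_lit 114)
  (nat_lit 807) .nil) (nat_lit 1684) (nat_lit 114) (nat_lit 452) .nil) (nat_lit 1698) (nat_lit 80) (nat_lit
  580) (.node .nil (nat_lit 1701) (nat_lit 146) (nat_lit 467) .nil))) (nat_lit 1715) (nat_lit 162) (nat_lit
  1064) (.node (.node (.node (.node .nil (nat_lit 1716) (nat_lit 162) (nat_lit 1093) .nil) (nat_lit 1718)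
  (nat_lit 114) (nat_lit 633) .nil) (nat_lit 1728) (nat_lit 145) (nat_lit 802) (.node .nil (nat_lit 1730)
  (nat_lit 177) (nat_lit 1053) .nil)) (nat_lit 1739) (nat_lit 146) (nat_lit 624) (.node (.node .nil (nat_lit
  1752) (nat_lit 128) (nat_lit 720) .nil) (nat_lit 1758) (nat_lit 144) (nat_lit 1680) (.node .nil (nat_lit
  1760) (nat_lit 144) (nat_lit 1496) .nil)))))))
def xT2t : T := (.node xT2t_0 (nat_lit 846) (nat_lit 177) (nat_lit 137) xT2t_1)
def xT2 : Lvl := ⟨nat_lit 771, [nat_lit 16737, nat_lit 0xe849c8, nat_lit 0x8809e8], [], xT2t⟩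
def xT3t : T := (.node (.node (.node (.node (.node (.node (.node (.node .nil (nat_lit 9) (nat_lit 33) (nat_lit
  1523) .nil) (nat_lit 12) (nat_lit 160) (nat_lit 557) .nil) (nat_lit 29) (nat_lit 128) (nat_lit 343) (.node
  (.node .nil (nat_lit 48) (nat_lit 65) (nat_lit 772) .nil) (nat_lit 58) (nat_lit 128) (nat_lit 666) .nil))
  (nat_lit 60) (nat_lit 129) (nat_lit 1312) (.node (.node (.node .nil (nat_lit 61) (nat_lit 129) (nat_lit
  1725) .nil) (nat_lit 70) (nat_lit 97) (nat_lit 330) .nil) (nat_lit 78) (nat_lit 65) (nat_lit 1437) (.node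
  .nil (nat_lit 79) (nat_lit 97) (nat_lit 1470) .nil))) (nat_lit 83) (nat_lit 81) (nat_lit 307) (.node (.node
  (.node (.node .nil (nat_lit 95) (nat_lit 145) (nat_lit 575) .nil) (nat_lit 109) (nat_lit 96) (nat_lit 368)
  .nil) (nat_lit 125) (nat_lit 113) (nat_lit 1392) (.node .nil (nat_lit 131) (nat_lit 129) (nat_lit 666)
  .nil)) (nat_lit 209) (nat_lit 80) (nat_lit 989) (.node (.node (.node .nil (nat_lit 221) (nat_lit 96)
  (nat_lit 597) .nil) (nat_lit 222) (nat_lit 97) (nat_lit 950) .nil) (nat_lit 241) (nat_lit 49) (nat_lit 867)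
  (.node .nil (nat_lit 242) (nat_lit 97) (nat_lit 721) .nil)))) (nat_lit 244) (nat_lit 177) (nat_lit 1653)
  (.node (.node (.node (.node (.node .nil (nat_lit 257) (nat_lit 96) (nat_lit 209) .nil) (nat_lit 259)
  (nat_lit 113) (nat_lit 257) .nil) (nat_lit 271) (nat_lit 112) (nat_lit 1356) (.node .nil (nat_lit 289)
  (nat_lit 160) (nat_lit 1500) .nil)) (nat_lit 307) (nat_lit 65) (nat_lit 1346) (.node (.node (.node .nil
  (nat_lit 317) (nat_lit 97) (nat_lit 1463) .nil) (nat_lit 320) (nat_lit 160) (nat_lit 1005) .nil) (nat_lit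
  330) (nat_lit 80) (nat_lit 1476) (.node .nil (nat_lit 339) (nat_lit 33) (nat_lit 832) .nil))) (nat_lit 343)
  (nat_lit 113) (nat_lit 623) (.node (.node (.node (.node .nil (nat_lit 361) (nat_lit 128) (nat_lit 125) .nil)
  (nat_lit 364) (nat_lit 96) (nat_lit 691) .nil) (nat_lit 368) (nat_lit 81) (nat_lit 1327) (.node .nil
  (nat_lit 370) (nat_lit 128) (nat_lit 1460) .nil)) (nat_lit 387) (nat_lit 144) (nat_lit 370) (.node (.node
  (.node .nil (nat_lit 388) (nat_lit 112) (nat_lit 1584) .nil) (nat_lit 392) (nat_lit 32) (nat_lit 832) .nil)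
  (nat_lit 397) (nat_lit 112) (nat_lit 623) (.node .nil (nat_lit 419) (nat_lit 112) (nat_lit 1567) .nil)))))
  (nat_lit 426) (nat_lit 96) (nat_lit 1102) (.node (.node (.node (.node (.node (.node .nil (nat_lit 427)
  (nat_lit 81) (nat_lit 682) .nil) (nat_lit 457) (nat_lit 80) (nat_lit 682) .nil) (nat_lit 460) (nat_lit 128)
  (nat_lit 862) (.node .nil (nat_lit 462) (nat_lit 144) (nat_lit 1325) .nil)) (nat_lit 508) (nat_lit 160)
  (nat_lit 1251) (.node (.node (.node .nil (nat_lit 521) (nat_lit 96) (nat_lit 1263) .nil) (nat_lit 525)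
  (nat_lit 129) (nat_lit 397) .nil) (nat_lit 550) (nat_lit 128) (nat_lit 918) (.node .nil (nat_lit 557)
  (nat_lit 145) (nat_lit 680) .nil))) (nat_lit 563) (nat_lit 80) (nat_lit 1128) (.node (.node (.node (.node
  .nil (nat_lit 569) (nat_lit 128) (nat_lit 964) .nil) (nat_lit 575) (nat_lit 128) (nat_lit 800) .nil)
  (nat_lit 591) (nat_lit 112) (nat_lit 79) (.node .nil (nat_lit 596) (nat_lit 96) (nat_lit 1470) .nil))
  (nat_lit 597) (nat_lit 80) (nat_lit 637) (.node (.node (.node .nil (nat_lit 608) (nat_lit 128) (nat_lit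
  1087) .nil) (nat_lit 621) (nat_lit 144) (nat_lit 915) .nil) (nat_lit 623) (nat_lit 97) (nat_lit 209) (.node
  .nil (nat_lit 631) (nat_lit 144) (nat_lit 814) .nil)))) (nat_lit 637) (nat_lit 64) (nat_lit 740) (.node
  (.node (.node (.node (.node .nil (nat_lit 652) (nat_lit 0) (nat_lit 652) .nil) (nat_lit 666) (nat_lit 112)
  (nat_lit 222) .nil) (nat_lit 669) (nat_lit 129) (nat_lit 388) (.node .nil (nat_lit 680) (nat_lit 128)
  (nat_lit 1086) .nil)) (nat_lit 682) (nat_lit 64) (nat_lit 1059) (.node (.node (.node .nil (nat_lit 691)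
  (nat_lit 81) (nat_lit 989) .nil) (nat_lit 702) (nat_lit 113) (nat_lit 1515) .nil) (nat_lit 717) (nat_lit
  128) (nat_lit 990) (.node .nil (nat_lit 721) (nat_lit 80) (nat_lit 48) .nil))) (nat_lit 738) (nat_lit 160)
  (nat_lit 1186) (.node (.node (.node (.node .nil (nat_lit 740) (nat_lit 48) (nat_lit 9) .nil) (nat_lit 745)
  (nat_lit 96) (nat_lit 1497) .nil) (nat_lit 772) (nat_lit 49) (nat_lit 392) (.node .nil (nat_lit 780)
  (nat_lit 112) (nat_lit 786) .nil)) (nat_lit 786) (nat_lit 97) (nat_lit 691) (.node (.node (.node .nil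
  (nat_lit 794) (nat_lit 145) (nat_lit 61) .nil) (nat_lit 800) (nat_lit 113) (nat_lit 222) .nil) (nat_lit 806)
  (nat_lit 113) (nat_lit 221) (.node .nil (nat_lit 814) (nat_lit 129) (nat_lit 806) .nil)))))) (nat_lit 825)
  (nat_lit 96) (nat_lit 1439) (.node (.node (.node (.node (.node (.node (.node .nil (nat_lit 828) (nat_lit
  128) (nat_lit 1480) .nil) (nat_lit 832) (nat_lit 16) (nat_lit 652) .nil) (nat_lit 841) (nat_lit 128)
  (nat_lit 806) (.node .nil (nat_lit 859) (nat_lit 96) (nat_lit 457) .nil)) (nat_lit 862) (nat_lit 112)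
  (nat_lit 882) (.node (.node (.node .nil (nat_lit 867) (nat_lit 32) (nat_lit 1523) .nil) (nat_lit 882)
  (nat_lit 96) (nat_lit 427) .nil) (nat_lit 891) (nat_lit 97) (nat_lit 597) (.node .nil (nat_lit 897) (nat_lit
  112) (nat_lit 1515) .nil))) (nat_lit 915) (nat_lit 129) (nat_lit 1293) (.node (.node (.node (.node .nil
  (nat_lit 918) (nat_lit 112) (nat_lit 109) .nil) (nat_lit 923) (nat_lit 80) (nat_lit 1098) .nil) (nat_lit
  946) (nat_lit 80) (nat_lit 307) (.node .nil (nat_lit 950) (nat_lit 80) (nat_lit 1327) .nil)) (nat_lit 964)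
  (nat_lit 112) (nat_lit 521) (.node (.node (.node .nil (nat_lit 965) (nat_lit 128) (nat_lit 897) .nil)
  (nat_lit 988) (nat_lit 128) (nat_lit 702) .nil) (nat_lit 989) (nat_lit 64) (nat_lit 772) (.node .nil
  (nat_lit 990) (nat_lit 113) (nat_lit 1055) .nil)))) (nat_lit 1005) (nat_lit 145) (nat_lit 988) (.node (.node
  (.node (.node (.node .nil (nat_lit 1008) (nat_lit 96) (nat_lit 946) .nil) (nat_lit 1035) (nat_lit 129)
  (nat_lit 419) .nil) (nat_lit 1055) (nat_lit 97) (nat_lit 457) (.node .nil (nat_lit 1059) (nat_lit 49)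
  (nat_lit 339) .nil)) (nat_lit 1086) (nat_lit 113) (nat_lit 825) (.node (.node (.node .nil (nat_lit 1087)
  (nat_lit 113) (nat_lit 596) .nil) (nat_lit 1098) (nat_lit 65) (nat_lit 241) .nil) (nat_lit 1102) (nat_lit
  81) (nat_lit 1735) (.node .nil (nat_lit 1128) (nat_lit 65) (nat_lit 740) .nil))) (nat_lit 1184) (nat_lit
  112) (nat_lit 364) (.node (.node (.node (.node .nil (nat_lit 1186) (nat_lit 144) (nat_lit 361) .nil)
  (nat_lit 1208) (nat_lit 129) (nat_lit 1087) .nil) (nat_lit 1251) (nat_lit 145) (nat_lit 965) (.node .nil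
  (nat_lit 1255) (nat_lit 128) (nat_lit 1282) .nil)) (nat_lit 1263) (nat_lit 81) (nat_lit 78) (.node (.node
  (.node .nil (nat_lit 1277) (nat_lit 144) (nat_lit 525) .nil) (nat_lit 1282) (nat_lit 112) (nat_lit 825)
  .nil) (nat_lit 1288) (nat_lit 113) (nat_lit 745) (.node .nil (nat_lit 1293) (nat_lit 112) (nat_lit 1485)
  .nil))))) (nat_lit 1305) (nat_lit 144) (nat_lit 61) (.node (.node (.node (.node (.node (.node .nil (nat_lit
  1308) (nat_lit 128) (nat_lit 1676) .nil) (nat_lit 1312) (nat_lit 113) (nat_lit 859) .nil) (nat_lit 1325)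
  (nat_lit 129) (nat_lit 918) (.node .nil (nat_lit 1327) (nat_lit 64) (nat_lit 1346) .nil)) (nat_lit 1346)
  (nat_lit 48) (nat_lit 339) (.node (.node (.node .nil (nat_lit 1356) (nat_lit 97) (nat_lit 1102) .nil)
  (nat_lit 1363) (nat_lit 144) (nat_lit 1667) .nil) (nat_lit 1392) (nat_lit 96) (nat_lit 950) (.node .nil
  (nat_lit 1427) (nat_lit 144) (nat_lit 569) .nil))) (nat_lit 1437) (nat_lit 48) (nat_lit 392) (.node (.node
  (.node (.node .nil (nat_lit 1439) (nat_lit 80) (nat_lit 78) .nil) (nat_lit 1451) (nat_lit 161) (nat_lit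
  1305) .nil) (nat_lit 1454) (nat_lit 129) (nat_lit 259) (.node .nil (nat_lit 1460) (nat_lit 113) (nat_lit 70)
  .nil)) (nat_lit 1463) (nat_lit 80) (nat_lit 1735) (.node (.node (.node .nil (nat_lit 1470) (nat_lit 81)
  (nat_lit 1476) .nil) (nat_lit 1476) (nat_lit 64) (nat_lit 1437) .nil) (nat_lit 1480) (nat_lit 112) (nat_lit
  426) (.node .nil (nat_lit 1485) (nat_lit 96) (nat_lit 721) .nil)))) (nat_lit 1497) (nat_lit 81) (nat_lit
  1128) (.node (.node (.node (.node (.node .nil (nat_lit 1500) (nat_lit 145) (nat_lit 29) .nil) (nat_lit 1507)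
  (nat_lit 145) (nat_lit 1308) .nil) (nat_lit 1515) (nat_lit 96) (nat_lit 83) (.node .nil (nat_lit 1523)
  (nat_lit 17) (nat_lit 652) .nil)) (nat_lit 1567) (nat_lit 97) (nat_lit 368) (.node (.node (.node .nil
  (nat_lit 1571) (nat_lit 128) (nat_lit 1293) .nil) (nat_lit 1584) (nat_lit 97) (nat_lit 923) .nil) (nat_lit
  1595) (nat_lit 144) (nat_lit 1255) (.node .nil (nat_lit 1653) (nat_lit 160) (nat_lit 1507) .nil))) (nat_lit
  1658) (nat_lit 161) (nat_lit 462) (.node (.node (.node (.node .nil (nat_lit 1667) (nat_lit 128) (nat_lit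
  591) .nil) (nat_lit 1671) (nat_lit 128) (nat_lit 1312) .nil) (nat_lit 1676) (nat_lit 113) (nat_lit 1485)
  (.node .nil (nat_lit 1690) (nat_lit 129) (nat_lit 125) .nil)) (nat_lit 1691) (nat_lit 112) (nat_lit 317)
  (.node (.node (.node .nil (nat_lit 1717) (nat_lit 144) (nat_lit 131) .nil) (nat_lit 1725) (nat_lit 112)
  (nat_lit 242) .nil) (nat_lit 1735) (nat_lit 64) (nat_lit 241) (.node .nil (nat_lit 1741) (nat_lit 112)
  (nat_lit 221) .nil)))))))
def xT3 : Lvl := ⟨nat_lit 652, [nat_lit 0x255274cc7, nat_lit 0xb9a3235c1], [], xT3t⟩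
def xT : List Lvl := [xT0, xT1, xT2, xT3]
def sT0t : T := (.node (.node (.node (.node (.node (.node .nil (nat_lit 92) (nat_lit 32) (nat_lit 528) .nil)
  (nat_lit 145) (nat_lit 96) (nat_lit 1013) .nil) (nat_lit 147) (nat_lit 96) (nat_lit 1010) (.node (.node .nil
  (nat_lit 149) (nat_lit 80) (nat_lit 234) .nil) (nat_lit 152) (nat_lit 64) (nat_lit 230) .nil)) (nat_lit 177)
  (nat_lit 80) (nat_lit 1011) (.node (.node (.node .nil (nat_lit 180) (nat_lit 97) (nat_lit 739) .nil)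
  (nat_lit 189) (nat_lit 64) (nat_lit 229) .nil) (nat_lit 196) (nat_lit 48) (nat_lit 233) (.node .nil (nat_lit
  229) (nat_lit 50) (nat_lit 1778) .nil))) (nat_lit 230) (nat_lit 50) (nat_lit 1777) (.node (.node (.node
  (.node .nil (nat_lit 233) (nat_lit 34) (nat_lit 1767) .nil) (nat_lit 234) (nat_lit 66) (nat_lit 1768) .nil)
  (nat_lit 256) (nat_lit 0) (nat_lit 256) (.node (.node .nil (nat_lit 419) (nat_lit 98) (nat_lit 947) .nil)
  (nat_lit 424) (nat_lit 49) (nat_lit 233) .nil)) (nat_lit 445) (nat_lit 66) (nat_lit 424) (.node (.node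
  (.node .nil (nat_lit 528) (nat_lit 18) (nat_lit 256) .nil) (nat_lit 652) (nat_lit 16) (nat_lit 256) .nil)
  (nat_lit 659) (nat_lit 81) (nat_lit 1011) (.node .nil (nat_lit 667) (nat_lit 65) (nat_lit 229) .nil))))
  (nat_lit 720) (nat_lit 65) (nat_lit 196) (.node (.node (.node (.node (.node .nil (nat_lit 739) (nat_lit 82)
  (nat_lit 720) .nil) (nat_lit 771) (nat_lit 81) (nat_lit 152) .nil) (nat_lit 786) (nat_lit 80) (nat_lit 720)
  (.node (.node .nil (nat_lit 793) (nat_lit 113) (nat_lit 147) .nil) (nat_lit 900) (nat_lit 97) (nat_lit 177)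
  .nil)) (nat_lit 926) (nat_lit 81) (nat_lit 189) (.node (.node (.node .nil (nat_lit 945) (nat_lit 65)
  (nat_lit 230) .nil) (nat_lit 947) (nat_lit 81) (nat_lit 234) .nil) (nat_lit 965) (nat_lit 98) (nat_lit 786)
  (.node .nil (nat_lit 970) (nat_lit 97) (nat_lit 1010) .nil))) (nat_lit 1010) (nat_lit 82) (nat_lit 152)
  (.node (.node (.node (.node .nil (nat_lit 1011) (nat_lit 66) (nat_lit 196) .nil) (nat_lit 1012) (nat_lit 81)
  (nat_lit 445) .nil) (nat_lit 1013) (nat_lit 82) (nat_lit 189) (.node .nil (nat_lit 1752) (nat_lit 50)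
  (nat_lit 92) .nil)) (nat_lit 1767) (nat_lit 17) (nat_lit 256) (.node (.node (.node .nil (nat_lit 1768)
  (nat_lit 49) (nat_lit 92) .nil) (nat_lit 1777) (nat_lit 33) (nat_lit 652) .nil) (nat_lit 1778) (nat_lit 33)
  (nat_lit 528) (.node .nil (nat_lit 1781) (nat_lit 65) (nat_lit 1752) .nil)))))
def sT0 : Lvl := ⟨nat_lit 256, [nat_lit 7, nat_lit 10, nat_lit 11], [], sT0t⟩
def sT1t : T := (.node (.node (.node (.node (.node .nil (nat_lit 145) (nat_lit 0) (nat_lit 145) .nil) (nat_lit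
  147) (nat_lit 16) (nat_lit 145) .nil) (nat_lit 149) (nat_lit 50) (nat_lit 1768) (.node .nil (nat_lit 152)
  (nat_lit 34) (nat_lit 1777) .nil)) (nat_lit 177) (nat_lit 49) (nat_lit 233) (.node (.node .nil (nat_lit 180)
  (nat_lit 33) (nat_lit 229) .nil) (nat_lit 189) (nat_lit 49) (nat_lit 152) (.node .nil (nat_lit 196) (nat_lit
  64) (nat_lit 189) .nil))) (nat_lit 229) (nat_lit 18) (nat_lit 145) (.node (.node (.node .nil (nat_lit 230)
  (nat_lit 34) (nat_lit 147) .nil) (nat_lit 233) (nat_lit 32) (nat_lit 229) (.node .nil (nat_lit 234) (nat_lit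
  49) (nat_lit 1768) .nil)) (nat_lit 1767) (nat_lit 65) (nat_lit 177) (.node (.node .nil (nat_lit 1768)
  (nat_lit 33) (nat_lit 147) .nil) (nat_lit 1777) (nat_lit 17) (nat_lit 145) (.node .nil (nat_lit 1778)
  (nat_lit 49) (nat_lit 180) .nil))))
def sT1 : Lvl := ⟨nat_lit 145, [nat_lit 1, nat_lit 11527, nat_lit 7527], [], sT1t⟩
def sT2t : T := (.node (.node (.node (.node .nil (nat_lit 92) (nat_lit 65) (nat_lit 739) .nil) (nat_lit 424)
  (nat_lit 81) (nat_lit 92) (.node .nil (nat_lit 445) (nat_lit 33) (nat_lit 900) .nil)) (nat_lit 528) (nat_lit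
  33) (nat_lit 945) (.node (.node .nil (nat_lit 659) (nat_lit 32) (nat_lit 900) .nil) (nat_lit 667) (nat_lit
  80) (nat_lit 926) (.node .nil (nat_lit 720) (nat_lit 81) (nat_lit 970) .nil))) (nat_lit 739) (nat_lit 48)
  (nat_lit 445) (.node (.node (.node .nil (nat_lit 771) (nat_lit 0) (nat_lit 771) .nil) (nat_lit 793) (nat_lit
  49) (nat_lit 528) (.node .nil (nat_lit 900) (nat_lit 17) (nat_lit 771) .nil)) (nat_lit 926) (nat_lit 65)
  (nat_lit 1752) (.node (.node .nil (nat_lit 945) (nat_lit 16) (nat_lit 771) .nil) (nat_lit 970) (nat_lit 64)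
  (nat_lit 793) (.node .nil (nat_lit 1752) (nat_lit 49) (nat_lit 659) .nil))))
def sT2 : Lvl := ⟨nat_lit 771, [nat_lit 10474, nat_lit 0x2b62c2c], [], sT2t⟩
def sT3t : T := (.node (.node (.node .nil (nat_lit 419) (nat_lit 33) (nat_lit 786) .nil) (nat_lit 652)
  (nat_lit 0) (nat_lit 652) .nil) (nat_lit 786) (nat_lit 16) (nat_lit 652) (.node .nil (nat_lit 965) (nat_lit
  17) (nat_lit 652) .nil))
def sT3 : Lvl := ⟨nat_lit 652, [nat_lit 0x29616056a, nat_lit 0x2d8759d8b], [], sT3t⟩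
def sT : List Lvl := [sT0, sT1, sT2, sT3]
def xU0t_0 : T := (.node (.node (.node (.node (.node (.node (.node .nil (nat_lit 0) (nat_lit 0) (nat_lit 0)
  .nil) (nat_lit 1) (nat_lit 52) (nat_lit 220) (.node .nil (nat_lit 2) (nat_lit 131) (nat_lit 87) .nil))
  (nat_lit 3) (nat_lit 67) (nat_lit 940) (.node (.node .nil (nat_lit 4) (nat_lit 99) (nat_lit 125) .nil)
  (nat_lit 5) (nat_lit 82) (nat_lit 3) (.node .nil (nat_lit 6) (nat_lit 100) (nat_lit 846) .nil))) (nat_lit 7)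
  (nat_lit 82) (nat_lit 1573) (.node (.node (.node .nil (nat_lit 8) (nat_lit 52) (nat_lit 411) .nil) (nat_lit
  9) (nat_lit 36) (nat_lit 938) (.node .nil (nat_lit 10) (nat_lit 66) (nat_lit 13) .nil)) (nat_lit 11)
  (nat_lit 68) (nat_lit 940) (.node (.node .nil (nat_lit 12) (nat_lit 52) (nat_lit 413) .nil) (nat_lit 13)
  (nat_lit 51) (nat_lit 416) (.node .nil (nat_lit 18) (nat_lit 83) (nat_lit 799) .nil)))) (nat_lit 19)
  (nat_lit 83) (nat_lit 10) (.node (.node (.node (.node .nil (nat_lit 20) (nat_lit 115) (nat_lit 769) .nil)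
  (nat_lit 21) (nat_lit 83) (nat_lit 740) (.node .nil (nat_lit 22) (nat_lit 84) (nat_lit 470) .nil)) (nat_lit
  23) (nat_lit 66) (nat_lit 1532) (.node (.node .nil (nat_lit 24) (nat_lit 115) (nat_lit 129) .nil) (nat_lit
  25) (nat_lit 50) (nat_lit 1523) (.node .nil (nat_lit 26) (nat_lit 66) (nat_lit 1533) .nil))) (nat_lit 27)
  (nat_lit 131) (nat_lit 126) (.node (.node (.node .nil (nat_lit 28) (nat_lit 66) (nat_lit 374) .nil) (nat_lit
  29) (nat_lit 115) (nat_lit 468) (.node .nil (nat_lit 30) (nat_lit 116) (nat_lit 907) .nil)) (nat_lit 31)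
  (nat_lit 67) (nat_lit 8) (.node (.node .nil (nat_lit 32) (nat_lit 132) (nat_lit 582) .nil) (nat_lit 33)
  (nat_lit 83) (nat_lit 28) .nil)))) (nat_lit 34) (nat_lit 132) (nat_lit 646) (.node (.node (.node (.node
  (.node .nil (nat_lit 37) (nat_lit 132) (nat_lit 1314) .nil) (nat_lit 40) (nat_lit 116) (nat_lit 1463) (.node
  .nil (nat_lit 53) (nat_lit 82) (nat_lit 939) .nil)) (nat_lit 54) (nat_lit 132) (nat_lit 861) (.node (.node
  .nil (nat_lit 55) (nat_lit 132) (nat_lit 863) .nil) (nat_lit 66) (nat_lit 116) (nat_lit 1215) (.node .nil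
  (nat_lit 67) (nat_lit 98) (nat_lit 199) .nil))) (nat_lit 70) (nat_lit 82) (nat_lit 133) (.node (.node (.node
  .nil (nat_lit 71) (nat_lit 116) (nat_lit 1251) .nil) (nat_lit 76) (nat_lit 83) (nat_lit 23) (.node .nil
  (nat_lit 77) (nat_lit 82) (nat_lit 768) .nil)) (nat_lit 82) (nat_lit 116) (nat_lit 693) (.node (.node .nil
  (nat_lit 83) (nat_lit 99) (nat_lit 415) .nil) (nat_lit 84) (nat_lit 132) (nat_lit 909) .nil))) (nat_lit 85)
  (nat_lit 83) (nat_lit 11) (.node (.node (.node (.node .nil (nat_lit 87) (nat_lit 116) (nat_lit 1189) .nil)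
  (nat_lit 89) (nat_lit 19) (nat_lit 0) (.node .nil (nat_lit 106) (nat_lit 116) (nat_lit 1424) .nil)) (nat_lit
  107) (nat_lit 84) (nat_lit 308) (.node (.node .nil (nat_lit 108) (nat_lit 67) (nat_lit 219) .nil) (nat_lit
  119) (nat_lit 115) (nat_lit 1134) (.node .nil (nat_lit 121) (nat_lit 115) (nat_lit 548) .nil))) (nat_lit
  125) (nat_lit 82) (nat_lit 252) (.node (.node (.node .nil (nat_lit 126) (nat_lit 116) (nat_lit 550) .nil)
  (nat_lit 129) (nat_lit 98) (nat_lit 247) (.node .nil (nat_lit 133) (nat_lit 67) (nat_lit 25) .nil)) (nat_lit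
  134) (nat_lit 115) (nat_lit 6) (.node (.node .nil (nat_lit 137) (nat_lit 130) (nat_lit 1120) .nil) (nat_lit
  153) (nat_lit 131) (nat_lit 1081) .nil))))) (nat_lit 160) (nat_lit 115) (nat_lit 258) (.node (.node (.node
  (.node (.node (.node .nil (nat_lit 178) (nat_lit 66) (nat_lit 232) .nil) (nat_lit 179) (nat_lit 68) (nat_lit
  998) (.node .nil (nat_lit 182) (nat_lit 132) (nat_lit 1361) .nil)) (nat_lit 187) (nat_lit 35) (nat_lit 938)
  (.node (.node .nil (nat_lit 190) (nat_lit 99) (nat_lit 22) .nil) (nat_lit 195) (nat_lit 51) (nat_lit 220)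
  (.node .nil (nat_lit 198) (nat_lit 99) (nat_lit 7) .nil))) (nat_lit 199) (nat_lit 83) (nat_lit 26) (.node
  (.node (.node .nil (nat_lit 217) (nat_lit 115) (nat_lit 766) .nil) (nat_lit 218) (nat_lit 99) (nat_lit 477)
  (.node .nil (nat_lit 219) (nat_lit 50) (nat_lit 1574) .nil)) (nat_lit 220) (nat_lit 34) (nat_lit 1571)
  (.node (.node .nil (nat_lit 231) (nat_lit 100) (nat_lit 1428) .nil) (nat_lit 232) (nat_lit 51) (nat_lit 235)
  .nil))) (nat_lit 235) (nat_lit 34) (nat_lit 89) (.node (.node (.node (.node .nil (nat_lit 236) (nat_lit 84)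
  (nat_lit 1102) .nil) (nat_lit 247) (nat_lit 83) (nat_lit 1529) (.node .nil (nat_lit 248) (nat_lit 115)
  (nat_lit 1534) .nil)) (nat_lit 251) (nat_lit 99) (nat_lit 1524) (.node (.node .nil (nat_lit 252) (nat_lit
  67) (nat_lit 1528) .nil) (nat_lit 254) (nat_lit 114) (nat_lit 1211) (.node .nil (nat_lit 258) (nat_lit 98)
  (nat_lit 1157) .nil))) (nat_lit 267) (nat_lit 114) (nat_lit 717) (.node (.node (.node .nil (nat_lit 269)
  (nat_lit 131) (nat_lit 254) .nil) (nat_lit 273) (nat_lit 131) (nat_lit 335) (.node .nil (nat_lit 278)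
  (nat_lit 98) (nat_lit 1212) .nil)) (nat_lit 285) (nat_lit 130) (nat_lit 1083) (.node (.node .nil (nat_lit
  286) (nat_lit 131) (nat_lit 294) .nil) (nat_lit 293) (nat_lit 100) (nat_lit 199) .nil)))) (nat_lit 294)
  (nat_lit 116) (nat_lit 67) (.node (.node (.node (.node (.node .nil (nat_lit 305) (nat_lit 100) (nat_lit 125)
  .nil) (nat_lit 306) (nat_lit 84) (nat_lit 252) (.node .nil (nat_lit 307) (nat_lit 82) (nat_lit 1240) .nil))
  (nat_lit 308) (nat_lit 66) (nat_lit 1239) (.node (.node .nil (nat_lit 328) (nat_lit 146) (nat_lit 1298)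
  .nil) (nat_lit 330) (nat_lit 115) (nat_lit 440) (.node .nil (nat_lit 333) (nat_lit 100) (nat_lit 1266)
  .nil))) (nat_lit 335) (nat_lit 114) (nat_lit 1123) (.node (.node (.node .nil (nat_lit 338) (nat_lit 132)
  (nat_lit 1439) .nil) (nat_lit 342) (nat_lit 99) (nat_lit 1091) (.node .nil (nat_lit 344) (nat_lit 132)
  (nat_lit 1632) .nil)) (nat_lit 346) (nat_lit 147) (nat_lit 1085) (.node (.node .nil (nat_lit 347) (nat_lit
  130) (nat_lit 891) .nil) (nat_lit 349) (nat_lit 163) (nat_lit 1455) .nil))) (nat_lit 351) (nat_lit 147)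
  (nat_lit 338) (.node (.node (.node (.node .nil (nat_lit 353) (nat_lit 148) (nat_lit 887) .nil) (nat_lit 356)
  (nat_lit 115) (nat_lit 278) (.node .nil (nat_lit 357) (nat_lit 36) (nat_lit 89) .nil)) (nat_lit 358)
  (nat_lit 52) (nat_lit 235) (.node (.node .nil (nat_lit 359) (nat_lit 67) (nat_lit 885) .nil) (nat_lit 360)
  (nat_lit 99) (nat_lit 971) (.node .nil (nat_lit 361) (nat_lit 83) (nat_lit 946) .nil))) (nat_lit 362)
  (nat_lit 82) (nat_lit 1100) (.node (.node (.node .nil (nat_lit 363) (nat_lit 83) (nat_lit 925) .nil)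
  (nat_lit 364) (nat_lit 99) (nat_lit 815) (.node .nil (nat_lit 373) (nat_lit 100) (nat_lit 1483) .nil))
  (nat_lit 374) (nat_lit 51) (nat_lit 413) (.node (.node .nil (nat_lit 377) (nat_lit 98) (nat_lit 33) .nil)
  (nat_lit 378) (nat_lit 148) (nat_lit 1498) .nil))))))
def xU0t_1 : T := (.node (.node (.node (.node (.node (.node (.node .nil (nat_lit 410) (nat_lit 98) (nat_lit
  1388) .nil) (nat_lit 411) (nat_lit 34) (nat_lit 938) (.node .nil (nat_lit 412) (nat_lit 84) (nat_lit 1529)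
  .nil)) (nat_lit 413) (nat_lit 33) (nat_lit 938) (.node (.node .nil (nat_lit 414) (nat_lit 84) (nat_lit 1531)
  .nil) (nat_lit 415) (nat_lit 84) (nat_lit 26) (.node .nil (nat_lit 416) (nat_lit 34) (nat_lit 469) .nil)))
  (nat_lit 439) (nat_lit 114) (nat_lit 1333) (.node (.node (.node .nil (nat_lit 440) (nat_lit 100) (nat_lit
  77) .nil) (nat_lit 446) (nat_lit 116) (nat_lit 553) (.node .nil (nat_lit 448) (nat_lit 100) (nat_lit 307)
  .nil)) (nat_lit 467) (nat_lit 98) (nat_lit 19) (.node (.node .nil (nat_lit 468) (nat_lit 100) (nat_lit 1526)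
  .nil) (nat_lit 469) (nat_lit 17) (nat_lit 0) .nil))) (nat_lit 470) (nat_lit 67) (nat_lit 358) (.node (.node
  (.node (.node .nil (nat_lit 477) (nat_lit 82) (nat_lit 108) .nil) (nat_lit 483) (nat_lit 68) (nat_lit 232)
  (.node .nil (nat_lit 493) (nat_lit 132) (nat_lit 254) .nil)) (nat_lit 494) (nat_lit 115) (nat_lit 1527)
  (.node (.node .nil (nat_lit 495) (nat_lit 83) (nat_lit 1531) .nil) (nat_lit 496) (nat_lit 82) (nat_lit 725)
  (.node .nil (nat_lit 497) (nat_lit 35) (nat_lit 469) .nil))) (nat_lit 498) (nat_lit 99) (nat_lit 1526)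
  (.node (.node (.node .nil (nat_lit 499) (nat_lit 131) (nat_lit 1530) .nil) (nat_lit 500) (nat_lit 84)
  (nat_lit 1328) (.node .nil (nat_lit 502) (nat_lit 116) (nat_lit 854) .nil)) (nat_lit 503) (nat_lit 114)
  (nat_lit 498) (.node (.node .nil (nat_lit 506) (nat_lit 100) (nat_lit 85) .nil) (nat_lit 512) (nat_lit 130)
  (nat_lit 716) .nil)))) (nat_lit 513) (nat_lit 98) (nat_lit 1266) (.node (.node (.node (.node (.node .nil
  (nat_lit 514) (nat_lit 114) (nat_lit 1262) .nil) (nat_lit 515) (nat_lit 130) (nat_lit 1263) (.node .nil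
  (nat_lit 521) (nat_lit 83) (nat_lit 816) .nil)) (nat_lit 525) (nat_lit 98) (nat_lit 1322) (.node (.node .nil
  (nat_lit 534) (nat_lit 115) (nat_lit 1712) .nil) (nat_lit 548) (nat_lit 100) (nat_lit 495) (.node .nil
  (nat_lit 549) (nat_lit 147) (nat_lit 648) .nil))) (nat_lit 550) (nat_lit 99) (nat_lit 691) (.node (.node
  (.node .nil (nat_lit 553) (nat_lit 98) (nat_lit 1091) .nil) (nat_lit 555) (nat_lit 163) (nat_lit 1205)
  (.node .nil (nat_lit 564) (nat_lit 116) (nat_lit 1262) .nil)) (nat_lit 566) (nat_lit 114) (nat_lit 1543)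
  (.node (.node .nil (nat_lit 567) (nat_lit 130) (nat_lit 330) .nil) (nat_lit 568) (nat_lit 84) (nat_lit 108)
  .nil))) (nat_lit 576) (nat_lit 146) (nat_lit 1733) (.node (.node (.node (.node .nil (nat_lit 578) (nat_lit
  147) (nat_lit 1675) .nil) (nat_lit 581) (nat_lit 51) (nat_lit 411) (.node .nil (nat_lit 582) (nat_lit 115)
  (nat_lit 745) .nil)) (nat_lit 583) (nat_lit 100) (nat_lit 21) (.node (.node .nil (nat_lit 586) (nat_lit 100)
  (nat_lit 1103) .nil) (nat_lit 602) (nat_lit 131) (nat_lit 503) (.node .nil (nat_lit 605) (nat_lit 132)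
  (nat_lit 779) .nil))) (nat_lit 628) (nat_lit 147) (nat_lit 1564) (.node (.node (.node .nil (nat_lit 631)
  (nat_lit 115) (nat_lit 506) .nil) (nat_lit 633) (nat_lit 99) (nat_lit 830) (.node .nil (nat_lit 634)
  (nat_lit 131) (nat_lit 1627) .nil)) (nat_lit 635) (nat_lit 132) (nat_lit 160) (.node (.node .nil (nat_lit
  639) (nat_lit 115) (nat_lit 586) .nil) (nat_lit 643) (nat_lit 100) (nat_lit 19) .nil))))) (nat_lit 646)
  (nat_lit 114) (nat_lit 865) (.node (.node (.node (.node (.node (.node .nil (nat_lit 648) (nat_lit 132)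
  (nat_lit 356) .nil) (nat_lit 691) (nat_lit 84) (nat_lit 799) (.node .nil (nat_lit 692) (nat_lit 131)
  (nat_lit 71) .nil)) (nat_lit 693) (nat_lit 99) (nat_lit 70) (.node (.node .nil (nat_lit 710) (nat_lit 115)
  (nat_lit 333) .nil) (nat_lit 713) (nat_lit 131) (nat_lit 1615) (.node .nil (nat_lit 714) (nat_lit 84)
  (nat_lit 31) .nil))) (nat_lit 716) (nat_lit 115) (nat_lit 956) (.node (.node (.node .nil (nat_lit 717)
  (nat_lit 99) (nat_lit 714) .nil) (nat_lit 718) (nat_lit 68) (nat_lit 1528) (.node .nil (nat_lit 719)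
  (nat_lit 98) (nat_lit 18) .nil)) (nat_lit 725) (nat_lit 67) (nat_lit 763) (.node (.node .nil (nat_lit 726)
  (nat_lit 116) (nat_lit 278) .nil) (nat_lit 734) (nat_lit 132) (nat_lit 503) .nil))) (nat_lit 740) (nat_lit
  66) (nat_lit 195) (.node (.node (.node (.node .nil (nat_lit 745) (nat_lit 98) (nat_lit 495) .nil) (nat_lit
  746) (nat_lit 132) (nat_lit 1746) (.node .nil (nat_lit 763) (nat_lit 50) (nat_lit 497) .nil)) (nat_lit 764)
  (nat_lit 100) (nat_lit 1327) (.node (.node .nil (nat_lit 765) (nat_lit 132) (nat_lit 1717) .nil) (nat_lit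
  766) (nat_lit 100) (nat_lit 361) (.node .nil (nat_lit 767) (nat_lit 50) (nat_lit 187) .nil))) (nat_lit 768)
  (nat_lit 67) (nat_lit 767) (.node (.node (.node .nil (nat_lit 769) (nat_lit 100) (nat_lit 1332) .nil)
  (nat_lit 779) (nat_lit 115) (nat_lit 67) (.node .nil (nat_lit 780) (nat_lit 83) (nat_lit 1772) .nil))
  (nat_lit 796) (nat_lit 131) (nat_lit 66) (.node (.node .nil (nat_lit 797) (nat_lit 147) (nat_lit 765) .nil)
  (nat_lit 798) (nat_lit 147) (nat_lit 746) .nil)))) (nat_lit 799) (nat_lit 66) (nat_lit 581) (.node (.node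
  (.node (.node (.node .nil (nat_lit 800) (nat_lit 99) (nat_lit 903) .nil) (nat_lit 801) (nat_lit 147)
  (nat_lit 567) (.node .nil (nat_lit 803) (nat_lit 115) (nat_lit 854) .nil)) (nat_lit 804) (nat_lit 116)
  (nat_lit 1508) (.node (.node .nil (nat_lit 805) (nat_lit 114) (nat_lit 1507) .nil) (nat_lit 807) (nat_lit
  132) (nat_lit 1580) (.node .nil (nat_lit 809) (nat_lit 115) (nat_lit 410) .nil))) (nat_lit 811) (nat_lit 82)
  (nat_lit 897) (.node (.node (.node .nil (nat_lit 812) (nat_lit 163) (nat_lit 1269) .nil) (nat_lit 815)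
  (nat_lit 82) (nat_lit 816) (.node .nil (nat_lit 816) (nat_lit 68) (nat_lit 1532) .nil)) (nat_lit 819)
  (nat_lit 115) (nat_lit 1375) (.node (.node .nil (nat_lit 822) (nat_lit 83) (nat_lit 1240) .nil) (nat_lit
  826) (nat_lit 99) (nat_lit 1728) .nil))) (nat_lit 829) (nat_lit 116) (nat_lit 1527) (.node (.node (.node
  (.node .nil (nat_lit 830) (nat_lit 82) (nat_lit 915) .nil) (nat_lit 832) (nat_lit 51) (nat_lit 357) (.node
  .nil (nat_lit 833) (nat_lit 131) (nat_lit 805) .nil)) (nat_lit 836) (nat_lit 163) (nat_lit 1250) (.node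
  (.node .nil (nat_lit 839) (nat_lit 98) (nat_lit 923) .nil) (nat_lit 842) (nat_lit 179) (nat_lit 1175) (.node
  .nil (nat_lit 843) (nat_lit 100) (nat_lit 7) .nil))) (nat_lit 846) (nat_lit 83) (nat_lit 1254) (.node (.node
  (.node .nil (nat_lit 847) (nat_lit 100) (nat_lit 1524) .nil) (nat_lit 850) (nat_lit 116) (nat_lit 719)
  (.node .nil (nat_lit 851) (nat_lit 146) (nat_lit 1623) .nil)) (nat_lit 854) (nat_lit 98) (nat_lit 971)
  (.node (.node .nil (nat_lit 858) (nat_lit 116) (nat_lit 467) .nil) (nat_lit 861) (nat_lit 114) (nat_lit 643)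
  .nil))))))
def xU0t_2 : T := (.node (.node (.node (.node (.node (.node (.node .nil (nat_lit 865) (nat_lit 100) (nat_lit
  53) .nil) (nat_lit 866) (nat_lit 68) (nat_lit 581) (.node .nil (nat_lit 872) (nat_lit 131) (nat_lit 1252)
  .nil)) (nat_lit 874) (nat_lit 114) (nat_lit 1707) (.node (.node .nil (nat_lit 876) (nat_lit 148) (nat_lit
  602) .nil) (nat_lit 878) (nat_lit 131) (nat_lit 1294) (.node .nil (nat_lit 880) (nat_lit 68) (nat_lit 13)
  .nil))) (nat_lit 882) (nat_lit 100) (nat_lit 5) (.node (.node (.node .nil (nat_lit 885) (nat_lit 52)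
  (nat_lit 1570) .nil) (nat_lit 887) (nat_lit 131) (nat_lit 1643) (.node .nil (nat_lit 888) (nat_lit 98)
  (nat_lit 306) .nil)) (nat_lit 890) (nat_lit 116) (nat_lit 364) (.node (.node .nil (nat_lit 891) (nat_lit
  115) (nat_lit 847) .nil) (nat_lit 893) (nat_lit 116) (nat_lit 745) .nil))) (nat_lit 897) (nat_lit 67)
  (nat_lit 1239) (.node (.node (.node (.node .nil (nat_lit 903) (nat_lit 84) (nat_lit 23) .nil) (nat_lit 907)
  (nat_lit 98) (nat_lit 714) (.node .nil (nat_lit 909) (nat_lit 114) (nat_lit 506) .nil)) (nat_lit 915)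
  (nat_lit 67) (nat_lit 1253) (.node (.node .nil (nat_lit 919) (nat_lit 147) (nat_lit 1432) .nil) (nat_lit
  921) (nat_lit 163) (nat_lit 1672) (.node .nil (nat_lit 923) (nat_lit 83) (nat_lit 1708) .nil))) (nat_lit
  925) (nat_lit 66) (nat_lit 832) (.node (.node (.node .nil (nat_lit 929) (nat_lit 147) (nat_lit 405) .nil)
  (nat_lit 932) (nat_lit 84) (nat_lit 1573) (.node .nil (nat_lit 936) (nat_lit 98) (nat_lit 932) .nil))
  (nat_lit 938) (nat_lit 16) (nat_lit 0) (.node (.node .nil (nat_lit 939) (nat_lit 67) (nat_lit 1568) .nil)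
  (nat_lit 940) (nat_lit 50) (nat_lit 413) .nil)))) (nat_lit 941) (nat_lit 148) (nat_lit 961) (.node (.node
  (.node (.node (.node .nil (nat_lit 942) (nat_lit 68) (nat_lit 25) .nil) (nat_lit 943) (nat_lit 148) (nat_lit
  955) (.node .nil (nat_lit 946) (nat_lit 68) (nat_lit 1568) .nil)) (nat_lit 948) (nat_lit 116) (nat_lit 218)
  (.node (.node .nil (nat_lit 955) (nat_lit 130) (nat_lit 850) .nil) (nat_lit 956) (nat_lit 100) (nat_lit 18)
  (.node .nil (nat_lit 961) (nat_lit 130) (nat_lit 858) .nil))) (nat_lit 971) (nat_lit 84) (nat_lit 939)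
  (.node (.node (.node .nil (nat_lit 977) (nat_lit 84) (nat_lit 3) .nil) (nat_lit 979) (nat_lit 132) (nat_lit
  24) (.node .nil (nat_lit 989) (nat_lit 84) (nat_lit 10) .nil)) (nat_lit 998) (nat_lit 50) (nat_lit 357)
  (.node (.node .nil (nat_lit 1030) (nat_lit 98) (nat_lit 1306) .nil) (nat_lit 1035) (nat_lit 99) (nat_lit
  932) .nil))) (nat_lit 1038) (nat_lit 116) (nat_lit 258) (.node (.node (.node (.node .nil (nat_lit 1058)
  (nat_lit 132) (nat_lit 335) .nil) (nat_lit 1071) (nat_lit 115) (nat_lit 1366) (.node .nil (nat_lit 1072)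
  (nat_lit 84) (nat_lit 740) .nil)) (nat_lit 1076) (nat_lit 116) (nat_lit 633) (.node (.node .nil (nat_lit
  1081) (nat_lit 116) (nat_lit 1145) .nil) (nat_lit 1083) (nat_lit 115) (nat_lit 1656) (.node .nil (nat_lit
  1085) (nat_lit 130) (nat_lit 631) .nil))) (nat_lit 1091) (nat_lit 84) (nat_lit 768) (.node (.node (.node
  .nil (nat_lit 1100) (nat_lit 68) (nat_lit 195) .nil) (nat_lit 1101) (nat_lit 115) (nat_lit 1418) (.node .nil
  (nat_lit 1102) (nat_lit 66) (nat_lit 358) .nil)) (nat_lit 1103) (nat_lit 82) (nat_lit 1330) (.node (.node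
  .nil (nat_lit 1120) (nat_lit 115) (nat_lit 1326) .nil) (nat_lit 1123) (nat_lit 100) (nat_lit 1157) .nil)))))
  (nat_lit 1132) (nat_lit 115) (nat_lit 305) (.node (.node (.node (.node (.node (.node .nil (nat_lit 1134)
  (nat_lit 100) (nat_lit 1224) .nil) (nat_lit 1136) (nat_lit 84) (nat_lit 178) (.node .nil (nat_lit 1144)
  (nat_lit 132) (nat_lit 267) .nil)) (nat_lit 1145) (nat_lit 98) (nat_lit 1224) (.node (.node .nil (nat_lit
  1153) (nat_lit 116) (nat_lit 1707) .nil) (nat_lit 1155) (nat_lit 147) (nat_lit 1620) (.node .nil (nat_lit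
  1157) (nat_lit 83) (nat_lit 1328) .nil))) (nat_lit 1158) (nat_lit 132) (nat_lit 1643) (.node (.node (.node
  .nil (nat_lit 1160) (nat_lit 148) (nat_lit 1298) .nil) (nat_lit 1162) (nat_lit 115) (nat_lit 1123) (.node
  .nil (nat_lit 1175) (nat_lit 164) (nat_lit 1364) .nil)) (nat_lit 1189) (nat_lit 99) (nat_lit 307) (.node
  (.node .nil (nat_lit 1190) (nat_lit 115) (nat_lit 513) .nil) (nat_lit 1201) (nat_lit 147) (nat_lit 1498)
  .nil))) (nat_lit 1202) (nat_lit 130) (nat_lit 1627) (.node (.node (.node (.node .nil (nat_lit 1205) (nat_lit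
  148) (nat_lit 1725) .nil) (nat_lit 1211) (nat_lit 100) (nat_lit 496) (.node .nil (nat_lit 1212) (nat_lit 84)
  (nat_lit 725) .nil)) (nat_lit 1215) (nat_lit 99) (nat_lit 1327) (.node (.node .nil (nat_lit 1223) (nat_lit
  132) (nat_lit 1615) .nil) (nat_lit 1224) (nat_lit 83) (nat_lit 308) (.node .nil (nat_lit 1237) (nat_lit 130)
  (nat_lit 160) .nil))) (nat_lit 1238) (nat_lit 99) (nat_lit 1306) (.node (.node (.node .nil (nat_lit 1239)
  (nat_lit 52) (nat_lit 187) .nil) (nat_lit 1240) (nat_lit 68) (nat_lit 767) (.node .nil (nat_lit 1245)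
  (nat_lit 131) (nat_lit 863) .nil)) (nat_lit 1246) (nat_lit 132) (nat_lit 1633) (.node (.node .nil (nat_lit
  1250) (nat_lit 148) (nat_lit 285) .nil) (nat_lit 1251) (nat_lit 99) (nat_lit 989) .nil)))) (nat_lit 1252)
  (nat_lit 114) (nat_lit 1656) (.node (.node (.node (.node (.node .nil (nat_lit 1253) (nat_lit 52) (nat_lit
  497) .nil) (nat_lit 1254) (nat_lit 68) (nat_lit 763) (.node .nil (nat_lit 1255) (nat_lit 114) (nat_lit 1519)
  .nil)) (nat_lit 1262) (nat_lit 99) (nat_lit 811) (.node (.node .nil (nat_lit 1263) (nat_lit 115) (nat_lit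
  907) .nil) (nat_lit 1266) (nat_lit 83) (nat_lit 866) (.node .nil (nat_lit 1269) (nat_lit 148) (nat_lit 1349)
  .nil))) (nat_lit 1271) (nat_lit 131) (nat_lit 890) (.node (.node (.node .nil (nat_lit 1273) (nat_lit 164)
  (nat_lit 346) .nil) (nat_lit 1293) (nat_lit 114) (nat_lit 342) (.node .nil (nat_lit 1294) (nat_lit 114)
  (nat_lit 333) .nil)) (nat_lit 1297) (nat_lit 131) (nat_lit 1314) (.node (.node .nil (nat_lit 1298) (nat_lit
  131) (nat_lit 1385) .nil) (nat_lit 1306) (nat_lit 84) (nat_lit 133) .nil))) (nat_lit 1307) (nat_lit 116)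
  (nat_lit 1365) (.node (.node (.node (.node .nil (nat_lit 1314) (nat_lit 114) (nat_lit 1712) .nil) (nat_lit
  1320) (nat_lit 100) (nat_lit 247) (.node .nil (nat_lit 1322) (nat_lit 83) (nat_lit 483) .nil)) (nat_lit
  1326) (nat_lit 100) (nat_lit 70) (.node (.node .nil (nat_lit 1327) (nat_lit 82) (nat_lit 1254) .nil)
  (nat_lit 1328) (nat_lit 66) (nat_lit 1253) (.node .nil (nat_lit 1329) (nat_lit 116) (nat_lit 1366) .nil)))
  (nat_lit 1330) (nat_lit 67) (nat_lit 998) (.node (.node (.node .nil (nat_lit 1331) (nat_lit 99) (nat_lit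
  1416) .nil) (nat_lit 1332) (nat_lit 83) (nat_lit 1102) (.node .nil (nat_lit 1333) (nat_lit 99) (nat_lit
  1388) .nil)) (nat_lit 1349) (nat_lit 130) (nat_lit 710) (.node (.node .nil (nat_lit 1350) (nat_lit 131)
  (nat_lit 1358) .nil) (nat_lit 1358) (nat_lit 116) (nat_lit 129) .nil))))))
def xU0t_3 : T := (.node (.node (.node (.node (.node (.node (.node .nil (nat_lit 1364) (nat_lit 146) (nat_lit
  1762) .nil) (nat_lit 1365) (nat_lit 98) (nat_lit 521) (.node .nil (nat_lit 1366) (nat_lit 98) (nat_lit 1544)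
  .nil)) (nat_lit 1367) (nat_lit 130) (nat_lit 1439) (.node (.node .nil (nat_lit 1368) (nat_lit 114) (nat_lit
  633) .nil) (nat_lit 1375) (nat_lit 98) (nat_lit 1431) (.node .nil (nat_lit 1376) (nat_lit 130) (nat_lit
  1438) .nil))) (nat_lit 1383) (nat_lit 100) (nat_lit 363) (.node (.node (.node .nil (nat_lit 1385) (nat_lit
  114) (nat_lit 1759) .nil) (nat_lit 1387) (nat_lit 115) (nat_lit 1424) (.node .nil (nat_lit 1388) (nat_lit
  84) (nat_lit 359) .nil)) (nat_lit 1393) (nat_lit 130) (nat_lit 1633) (.node (.node .nil (nat_lit 1394)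
  (nat_lit 99) (nat_lit 306) .nil) (nat_lit 1395) (nat_lit 147) (nat_lit 344) .nil))) (nat_lit 1396) (nat_lit
  131) (nat_lit 267) (.node (.node (.node (.node .nil (nat_lit 1416) (nat_lit 82) (nat_lit 359) .nil) (nat_lit
  1418) (nat_lit 100) (nat_lit 477) (.node .nil (nat_lit 1419) (nat_lit 114) (nat_lit 364) .nil)) (nat_lit
  1422) (nat_lit 98) (nat_lit 363) (.node (.node .nil (nat_lit 1423) (nat_lit 114) (nat_lit 360) .nil)
  (nat_lit 1424) (nat_lit 98) (nat_lit 1136) (.node .nil (nat_lit 1428) (nat_lit 82) (nat_lit 483) .nil)))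
  (nat_lit 1430) (nat_lit 147) (nat_lit 1202) (.node (.node (.node .nil (nat_lit 1431) (nat_lit 83) (nat_lit
  880) .nil) (nat_lit 1432) (nat_lit 130) (nat_lit 1690) (.node .nil (nat_lit 1437) (nat_lit 115) (nat_lit
  843) .nil)) (nat_lit 1438) (nat_lit 115) (nat_lit 643) (.node (.node .nil (nat_lit 1439) (nat_lit 115)
  (nat_lit 936) .nil) (nat_lit 1440) (nat_lit 131) (nat_lit 861) .nil)))) (nat_lit 1451) (nat_lit 131)
  (nat_lit 1713) (.node (.node (.node (.node (.node .nil (nat_lit 1452) (nat_lit 146) (nat_lit 1671) .nil)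
  (nat_lit 1455) (nat_lit 148) (nat_lit 1297) (.node .nil (nat_lit 1463) (nat_lit 98) (nat_lit 1728) .nil))
  (nat_lit 1466) (nat_lit 146) (nat_lit 1725) (.node (.node .nil (nat_lit 1477) (nat_lit 116) (nat_lit 498)
  .nil) (nat_lit 1483) (nat_lit 82) (nat_lit 1708) (.node .nil (nat_lit 1487) (nat_lit 147) (nat_lit 734)
  .nil))) (nat_lit 1490) (nat_lit 130) (nat_lit 1718) (.node (.node (.node .nil (nat_lit 1498) (nat_lit 130)
  (nat_lit 1713) .nil) (nat_lit 1506) (nat_lit 114) (nat_lit 800) (.node .nil (nat_lit 1507) (nat_lit 99)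
  (nat_lit 1136) .nil)) (nat_lit 1508) (nat_lit 99) (nat_lit 1103) (.node (.node .nil (nat_lit 1509) (nat_lit
  99) (nat_lit 1428) .nil) (nat_lit 1510) (nat_lit 99) (nat_lit 1544) .nil))) (nat_lit 1511) (nat_lit 116)
  (nat_lit 1509) (.node (.node (.node (.node .nil (nat_lit 1519) (nat_lit 99) (nat_lit 1212) .nil) (nat_lit
  1521) (nat_lit 130) (nat_lit 1132) (.node .nil (nat_lit 1523) (nat_lit 36) (nat_lit 469) .nil)) (nat_lit
  1524) (nat_lit 82) (nat_lit 31) (.node (.node .nil (nat_lit 1525) (nat_lit 100) (nat_lit 815) .nil) (nat_lit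
  1526) (nat_lit 82) (nat_lit 11) (.node .nil (nat_lit 1527) (nat_lit 98) (nat_lit 85) .nil))) (nat_lit 1528)
  (nat_lit 50) (nat_lit 9) (.node (.node (.node .nil (nat_lit 1529) (nat_lit 66) (nat_lit 8) .nil) (nat_lit
  1530) (nat_lit 116) (nat_lit 826) (.node .nil (nat_lit 1531) (nat_lit 66) (nat_lit 12) .nil)) (nat_lit 1532)
  (nat_lit 51) (nat_lit 1574) (.node (.node .nil (nat_lit 1533) (nat_lit 52) (nat_lit 416) .nil) (nat_lit
  1534) (nat_lit 100) (nat_lit 822) .nil))))) (nat_lit 1543) (nat_lit 99) (nat_lit 1072) (.node (.node (.node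
  (.node (.node (.node .nil (nat_lit 1544) (nat_lit 84) (nat_lit 1330) .nil) (nat_lit 1560) (nat_lit 132)
  (nat_lit 1701) (.node .nil (nat_lit 1561) (nat_lit 116) (nat_lit 1765) .nil)) (nat_lit 1564) (nat_lit 130)
  (nat_lit 1561) (.node (.node .nil (nat_lit 1565) (nat_lit 146) (nat_lit 1560) .nil) (nat_lit 1567) (nat_lit
  99) (nat_lit 412) (.node .nil (nat_lit 1568) (nat_lit 50) (nat_lit 1570) .nil))) (nat_lit 1569) (nat_lit
  116) (nat_lit 4) (.node (.node (.node .nil (nat_lit 1570) (nat_lit 35) (nat_lit 1766) .nil) (nat_lit 1571)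
  (nat_lit 20) (nat_lit 0) (.node .nil (nat_lit 1572) (nat_lit 116) (nat_lit 936) .nil)) (nat_lit 1573)
  (nat_lit 67) (nat_lit 1533) (.node (.node .nil (nat_lit 1574) (nat_lit 36) (nat_lit 1766) .nil) (nat_lit
  1579) (nat_lit 131) (nat_lit 1511) .nil))) (nat_lit 1580) (nat_lit 115) (nat_lit 1365) (.node (.node (.node
  (.node .nil (nat_lit 1581) (nat_lit 114) (nat_lit 1508) .nil) (nat_lit 1582) (nat_lit 83) (nat_lit 1100)
  (.node .nil (nat_lit 1615) (nat_lit 114) (nat_lit 1134) .nil)) (nat_lit 1618) (nat_lit 131) (nat_lit 1361)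
  (.node (.node .nil (nat_lit 1620) (nat_lit 132) (nat_lit 1385) .nil) (nat_lit 1622) (nat_lit 132) (nat_lit
  1718) (.node .nil (nat_lit 1623) (nat_lit 131) (nat_lit 893) .nil))) (nat_lit 1627) (nat_lit 116) (nat_lit
  1759) (.node (.node (.node .nil (nat_lit 1632) (nat_lit 115) (nat_lit 553) .nil) (nat_lit 1633) (nat_lit
  115) (nat_lit 1145) (.node .nil (nat_lit 1643) (nat_lit 114) (nat_lit 1035) .nil)) (nat_lit 1644) (nat_lit
  131) (nat_lit 1038) (.node (.node .nil (nat_lit 1656) (nat_lit 100) (nat_lit 1431) .nil) (nat_lit 1662)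
  (nat_lit 132) (nat_lit 1263) .nil)))) (nat_lit 1671) (nat_lit 131) (nat_lit 829) (.node (.node (.node (.node
  (.node .nil (nat_lit 1672) (nat_lit 146) (nat_lit 1451) .nil) (nat_lit 1675) (nat_lit 130) (nat_lit 1153)
  (.node .nil (nat_lit 1676) (nat_lit 130) (nat_lit 534) .nil)) (nat_lit 1681) (nat_lit 148) (nat_lit 1396)
  (.node (.node .nil (nat_lit 1682) (nat_lit 147) (nat_lit 1662) .nil) (nat_lit 1690) (nat_lit 115) (nat_lit
  1211) (.node .nil (nat_lit 1693) (nat_lit 130) (nat_lit 1437) .nil))) (nat_lit 1700) (nat_lit 164) (nat_lit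
  1565) (.node (.node (.node .nil (nat_lit 1701) (nat_lit 114) (nat_lit 1765) .nil) (nat_lit 1707) (nat_lit
  99) (nat_lit 977) (.node .nil (nat_lit 1708) (nat_lit 68) (nat_lit 374) .nil)) (nat_lit 1712) (nat_lit 100)
  (nat_lit 33) (.node (.node .nil (nat_lit 1713) (nat_lit 116) (nat_lit 377) .nil) (nat_lit 1717) (nat_lit
  115) (nat_lit 882) .nil))) (nat_lit 1718) (nat_lit 115) (nat_lit 839) (.node (.node (.node (.node .nil
  (nat_lit 1725) (nat_lit 131) (nat_lit 909) .nil) (nat_lit 1726) (nat_lit 114) (nat_lit 548) (.node .nil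
  (nat_lit 1728) (nat_lit 84) (nat_lit 28) .nil)) (nat_lit 1733) (nat_lit 131) (nat_lit 1561) (.node (.node
  .nil (nat_lit 1745) (nat_lit 131) (nat_lit 874) .nil) (nat_lit 1746) (nat_lit 115) (nat_lit 1463) (.node
  .nil (nat_lit 1748) (nat_lit 148) (nat_lit 1085) .nil))) (nat_lit 1754) (nat_lit 148) (nat_lit 1202) (.node
  (.node (.node .nil (nat_lit 1759) (nat_lit 99) (nat_lit 1483) .nil) (nat_lit 1762) (nat_lit 131) (nat_lit
  1153) (.node .nil (nat_lit 1765) (nat_lit 99) (nat_lit 5) .nil)) (nat_lit 1766) (nat_lit 18) (nat_lit 0)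
  (.node (.node .nil (nat_lit 1771) (nat_lit 148) (nat_lit 1564) .nil) (nat_lit 1772) (nat_lit 68) (nat_lit
  219) .nil))))))
def xU0t : T := (.node (.node xU0t_0 (nat_lit 405) (nat_lit 132) (nat_lit 439) xU0t_1) (nat_lit 863) (nat_lit
  114) (nat_lit 956) (.node xU0t_2 (nat_lit 1361) (nat_lit 114) (nat_lit 440) xU0t_3))
def xU0 : Lvl := ⟨nat_lit 0, [nat_lit 2, nat_lit 3, nat_lit 7, nat_lit 11, nat_lit 12], [], xU0t⟩
def xU1t : T := (.node (.node (.node (.node (.node (.node (.node .nil (nat_lit 19) (nat_lit 0) (nat_lit 19)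
  .nil) (nat_lit 54) (nat_lit 16) (nat_lit 19) .nil) (nat_lit 121) (nat_lit 146) (nat_lit 851) (.node (.node
  .nil (nat_lit 133) (nat_lit 65) (nat_lit 842) .nil) (nat_lit 134) (nat_lit 49) (nat_lit 839) .nil)) (nat_lit
  137) (nat_lit 112) (nat_lit 1643) (.node (.node (.node .nil (nat_lit 328) (nat_lit 113) (nat_lit 1255) .nil)
  (nat_lit 335) (nat_lit 96) (nat_lit 1519) .nil) (nat_lit 346) (nat_lit 129) (nat_lit 1035) (.node .nil
  (nat_lit 349) (nat_lit 130) (nat_lit 1085) .nil))) (nat_lit 353) (nat_lit 96) (nat_lit 1693) (.node (.node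
  (.node (.node .nil (nat_lit 356) (nat_lit 80) (nat_lit 1162) .nil) (nat_lit 373) (nat_lit 48) (nat_lit 499)
  .nil) (nat_lit 377) (nat_lit 64) (nat_lit 495) (.node (.node .nil (nat_lit 495) (nat_lit 49) (nat_lit 836)
  .nil) (nat_lit 496) (nat_lit 80) (nat_lit 133) .nil)) (nat_lit 499) (nat_lit 33) (nat_lit 830) (.node (.node
  (.node .nil (nat_lit 500) (nat_lit 64) (nat_lit 134) .nil) (nat_lit 534) (nat_lit 97) (nat_lit 1158) .nil)
  (nat_lit 549) (nat_lit 114) (nat_lit 1643) (.node .nil (nat_lit 628) (nat_lit 130) (nat_lit 1202) .nil))))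
  (nat_lit 631) (nat_lit 130) (nat_lit 1273) (.node (.node (.node (.node (.node .nil (nat_lit 633) (nat_lit
  66) (nat_lit 134) .nil) (nat_lit 634) (nat_lit 81) (nat_lit 633) .nil) (nat_lit 635) (nat_lit 144) (nat_lit
  1237) (.node (.node .nil (nat_lit 819) (nat_lit 129) (nat_lit 1202) .nil) (nat_lit 826) (nat_lit 97)
  (nat_lit 496) .nil)) (nat_lit 829) (nat_lit 81) (nat_lit 500) (.node (.node (.node .nil (nat_lit 830)
  (nat_lit 18) (nat_lit 19) .nil) (nat_lit 836) (nat_lit 34) (nat_lit 54) .nil) (nat_lit 839) (nat_lit 34)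
  (nat_lit 1765) (.node .nil (nat_lit 842) (nat_lit 50) (nat_lit 1771) .nil))) (nat_lit 843) (nat_lit 65)
  (nat_lit 373) (.node (.node (.node (.node .nil (nat_lit 846) (nat_lit 81) (nat_lit 377) .nil) (nat_lit 851)
  (nat_lit 128) (nat_lit 1085) .nil) (nat_lit 887) (nat_lit 145) (nat_lit 631) (.node .nil (nat_lit 1030)
  (nat_lit 113) (nat_lit 1297) .nil)) (nat_lit 1035) (nat_lit 114) (nat_lit 353) (.node (.node (.node .nil
  (nat_lit 1038) (nat_lit 160) (nat_lit 1252) .nil) (nat_lit 1076) (nat_lit 161) (nat_lit 1620) .nil) (nat_lit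
  1085) (nat_lit 113) (nat_lit 1157) (.node .nil (nat_lit 1120) (nat_lit 98) (nat_lit 356) .nil))))) (nat_lit
  1123) (nat_lit 82) (nat_lit 1162) (.node (.node (.node (.node (.node (.node .nil (nat_lit 1157) (nat_lit 98)
  (nat_lit 496) .nil) (nat_lit 1158) (nat_lit 82) (nat_lit 133) .nil) (nat_lit 1160) (nat_lit 128) (nat_lit
  328) (.node (.node .nil (nat_lit 1162) (nat_lit 65) (nat_lit 1718) .nil) (nat_lit 1175) (nat_lit 145)
  (nat_lit 1238) .nil)) (nat_lit 1202) (nat_lit 112) (nat_lit 534) (.node (.node (.node .nil (nat_lit 1212)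
  (nat_lit 128) (nat_lit 1030) .nil) (nat_lit 1237) (nat_lit 129) (nat_lit 1676) .nil) (nat_lit 1238) (nat_lit
  130) (nat_lit 137) (.node .nil (nat_lit 1250) (nat_lit 161) (nat_lit 121) .nil))) (nat_lit 1252) (nat_lit
  145) (nat_lit 349) (.node (.node (.node (.node .nil (nat_lit 1254) (nat_lit 129) (nat_lit 1273) .nil)
  (nat_lit 1255) (nat_lit 98) (nat_lit 1693) .nil) (nat_lit 1273) (nat_lit 112) (nat_lit 1452) (.node .nil
  (nat_lit 1297) (nat_lit 96) (nat_lit 634) .nil)) (nat_lit 1431) (nat_lit 82) (nat_lit 500) (.node (.node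
  (.node .nil (nat_lit 1432) (nat_lit 145) (nat_lit 1160) .nil) (nat_lit 1437) (nat_lit 98) (nat_lit 1519)
  .nil) (nat_lit 1440) (nat_lit 114) (nat_lit 335) (.node .nil (nat_lit 1452) (nat_lit 97) (nat_lit 1431)
  .nil)))) (nat_lit 1519) (nat_lit 81) (nat_lit 1748) (.node (.node (.node (.node (.node .nil (nat_lit 1620)
  (nat_lit 144) (nat_lit 1675) .nil) (nat_lit 1622) (nat_lit 160) (nat_lit 1175) .nil) (nat_lit 1623) (nat_lit
  114) (nat_lit 1297) (.node (.node .nil (nat_lit 1627) (nat_lit 98) (nat_lit 634) .nil) (nat_lit 1643)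
  (nat_lit 97) (nat_lit 1759) .nil)) (nat_lit 1671) (nat_lit 114) (nat_lit 534) (.node (.node (.node .nil
  (nat_lit 1672) (nat_lit 144) (nat_lit 346) .nil) (nat_lit 1675) (nat_lit 129) (nat_lit 549) .nil) (nat_lit
  1676) (nat_lit 114) (nat_lit 1452) (.node .nil (nat_lit 1693) (nat_lit 81) (nat_lit 1707) .nil))) (nat_lit
  1707) (nat_lit 66) (nat_lit 373) (.node (.node (.node (.node .nil (nat_lit 1712) (nat_lit 112) (nat_lit
  1726) .nil) (nat_lit 1718) (nat_lit 50) (nat_lit 499) .nil) (nat_lit 1726) (nat_lit 97) (nat_lit 356) (.node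
  .nil (nat_lit 1728) (nat_lit 113) (nat_lit 353) .nil)) (nat_lit 1745) (nat_lit 113) (nat_lit 335) (.node
  (.node (.node .nil (nat_lit 1748) (nat_lit 66) (nat_lit 495) .nil) (nat_lit 1759) (nat_lit 82) (nat_lit 377)
  .nil) (nat_lit 1765) (nat_lit 17) (nat_lit 19) (.node .nil (nat_lit 1771) (nat_lit 33) (nat_lit 54)
  .nil))))))
def xU1 : Lvl := ⟨nat_lit 19, [nat_lit 8, nat_lit 74, nat_lit 12588], [], xU1t⟩
def xU2t : T := (.node (.node (.node .nil (nat_lit 2) (nat_lit 0) (nat_lit 2) .nil) (nat_lit 4) (nat_lit 32)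
  (nat_lit 581) .nil) (nat_lit 581) (nat_lit 16) (nat_lit 2) (.node .nil (nat_lit 799) (nat_lit 48) (nat_lit
  4) .nil))
def xU2 : Lvl := ⟨nat_lit 2, [nat_lit 9478], [], xU2t⟩
def xU : List Lvl := [xU0, xU1, xU2]
def sU0t : T := (.node (.node (.node (.node (.node (.node .nil (nat_lit 0) (nat_lit 0) (nat_lit 0) .nil)
  (nat_lit 1) (nat_lit 67) (nat_lit 1772) .nil) (nat_lit 18) (nat_lit 50) (nat_lit 411) (.node .nil (nat_lit
  19) (nat_lit 50) (nat_lit 416) .nil)) (nat_lit 34) (nat_lit 18) (nat_lit 0) (.node (.node .nil (nat_lit 53)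
  (nat_lit 51) (nat_lit 939) .nil) (nat_lit 54) (nat_lit 51) (nat_lit 941) (.node .nil (nat_lit 55) (nat_lit
  51) (nat_lit 943) .nil))) (nat_lit 411) (nat_lit 35) (nat_lit 938) (.node (.node (.node .nil (nat_lit 412)
  (nat_lit 66) (nat_lit 55) .nil) (nat_lit 413) (nat_lit 33) (nat_lit 938) (.node .nil (nat_lit 414) (nat_lit
  99) (nat_lit 468) .nil)) (nat_lit 415) (nat_lit 66) (nat_lit 54) (.node (.node .nil (nat_lit 416) (nat_lit
  35) (nat_lit 469) .nil) (nat_lit 467) (nat_lit 67) (nat_lit 19) (.node .nil (nat_lit 468) (nat_lit 82)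
  (nat_lit 1771) .nil)))) (nat_lit 469) (nat_lit 17) (nat_lit 0) (.node (.node (.node (.node .nil (nat_lit
  502) (nat_lit 35) (nat_lit 34) .nil) (nat_lit 718) (nat_lit 83) (nat_lit 412) (.node .nil (nat_lit 719)
  (nat_lit 67) (nat_lit 18) .nil)) (nat_lit 938) (nat_lit 16) (nat_lit 0) (.node (.node .nil (nat_lit 939)
  (nat_lit 34) (nat_lit 1766) .nil) (nat_lit 940) (nat_lit 51) (nat_lit 413) (.node .nil (nat_lit 941)
  (nat_lit 34) (nat_lit 469) .nil))) (nat_lit 942) (nat_lit 83) (nat_lit 415) (.node (.node (.node .nil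
  (nat_lit 943) (nat_lit 34) (nat_lit 938) .nil) (nat_lit 1700) (nat_lit 50) (nat_lit 413) (.node .nil
  (nat_lit 1701) (nat_lit 83) (nat_lit 1765) .nil)) (nat_lit 1765) (nat_lit 66) (nat_lit 940) (.node (.node
  .nil (nat_lit 1766) (nat_lit 19) (nat_lit 0) .nil) (nat_lit 1771) (nat_lit 67) (nat_lit 1700) (.node .nil
  (nat_lit 1772) (nat_lit 50) (nat_lit 502) .nil)))))
def sU0 : Lvl := ⟨nat_lit 0, [nat_lit 2, nat_lit 3, nat_lit 6, nat_lit 7], [], sU0t⟩
def sU1t : T := (.node (.node (.node .nil (nat_lit 19) (nat_lit 0) (nat_lit 19) .nil) (nat_lit 54) (nat_lit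
  16) (nat_lit 19) .nil) (nat_lit 1765) (nat_lit 17) (nat_lit 19) (.node .nil (nat_lit 1771) (nat_lit 33)
  (nat_lit 54) .nil))
def sU1 : Lvl := ⟨nat_lit 19, [nat_lit 8, nat_lit 74], [], sU1t⟩
def sU2t : T := (.node (.node (.node .nil (nat_lit 2) (nat_lit 0) (nat_lit 2) .nil) (nat_lit 4) (nat_lit 32)
  (nat_lit 581) .nil) (nat_lit 581) (nat_lit 16) (nat_lit 2) (.node .nil (nat_lit 799) (nat_lit 48) (nat_lit
  4) .nil))
def sU2 : Lvl := ⟨nat_lit 2, [nat_lit 9478], [], sU2t⟩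
def sU : List Lvl := [sU0, sU1, sU2]
def x70t_0 : T := (.node (.node (.node (.node (.node (.node (.node .nil (nat_lit 0) (nat_lit 385) (nat_lit 89)
  .nil) (nat_lit 1) (nat_lit 368) (nat_lit 942) (.node .nil (nat_lit 2) (nat_lit 289) (nat_lit 87) .nil))
  (nat_lit 3) (nat_lit 210) (nat_lit 203) (.node (.node .nil (nat_lit 4) (nat_lit 274) (nat_lit 156) .nil)
  (nat_lit 5) (nat_lit 320) (nat_lit 799) .nil)) (nat_lit 6) (nat_lit 306) (nat_lit 140) (.node (.node (.node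
  .nil (nat_lit 7) (nat_lit 258) (nat_lit 109) .nil) (nat_lit 8) (nat_lit 290) (nat_lit 166) (.node .nil
  (nat_lit 9) (nat_lit 354) (nat_lit 168) .nil)) (nat_lit 10) (nat_lit 384) (nat_lit 1568) (.node (.node .nil
  (nat_lit 11) (nat_lit 290) (nat_lit 103) .nil) (nat_lit 12) (nat_lit 368) (nat_lit 9) .nil))) (nat_lit 13)
  (nat_lit 400) (nat_lit 1570) (.node (.node (.node (.node .nil (nat_lit 14) (nat_lit 225) (nat_lit 676) .nil)
  (nat_lit 15) (nat_lit 146) (nat_lit 96) (.node .nil (nat_lit 16) (nat_lit 320) (nat_lit 130) .nil)) (nat_lit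
  17) (nat_lit 225) (nat_lit 105) (.node (.node .nil (nat_lit 18) (nat_lit 321) (nat_lit 799) .nil) (nat_lit
  19) (nat_lit 384) (nat_lit 939) .nil)) (nat_lit 20) (nat_lit 304) (nat_lit 796) (.node (.node (.node .nil
  (nat_lit 21) (nat_lit 338) (nat_lit 204) .nil) (nat_lit 22) (nat_lit 320) (nat_lit 6) (.node .nil (nat_lit
  23) (nat_lit 258) (nat_lit 165) .nil)) (nat_lit 24) (nat_lit 352) (nat_lit 602) (.node (.node .nil (nat_lit
  25) (nat_lit 322) (nat_lit 677) .nil) (nat_lit 26) (nat_lit 272) (nat_lit 219) .nil)))) (nat_lit 27)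
  (nat_lit 337) (nat_lit 126) (.node (.node (.node (.node (.node .nil (nat_lit 28) (nat_lit 321) (nat_lit 33)
  .nil) (nat_lit 29) (nat_lit 369) (nat_lit 468) (.node .nil (nat_lit 30) (nat_lit 144) (nat_lit 84) .nil))
  (nat_lit 31) (nat_lit 274) (nat_lit 687) (.node (.node .nil (nat_lit 32) (nat_lit 352) (nat_lit 1569) .nil)
  (nat_lit 33) (nat_lit 306) (nat_lit 1688) .nil)) (nat_lit 34) (nat_lit 320) (nat_lit 941) (.node (.node
  (.node .nil (nat_lit 35) (nat_lit 354) (nat_lit 97) .nil) (nat_lit 36) (nat_lit 336) (nat_lit 86) (.node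
  .nil (nat_lit 37) (nat_lit 338) (nat_lit 1685) .nil)) (nat_lit 38) (nat_lit 272) (nat_lit 73) (.node (.node
  .nil (nat_lit 39) (nat_lit 257) (nat_lit 207) .nil) (nat_lit 40) (nat_lit 306) (nat_lit 1630) .nil)))
  (nat_lit 41) (nat_lit 352) (nat_lit 709) (.node (.node (.node (.node .nil (nat_lit 42) (nat_lit 306)
  (nat_lit 43) .nil) (nat_lit 43) (nat_lit 289) (nat_lit 451) (.node .nil (nat_lit 44) (nat_lit 321) (nat_lit
  1410) .nil)) (nat_lit 45) (nat_lit 274) (nat_lit 309) (.node (.node .nil (nat_lit 46) (nat_lit 289) (nat_lit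
  1411) .nil) (nat_lit 47) (nat_lit 240) (nat_lit 1006) .nil)) (nat_lit 48) (nat_lit 321) (nat_lit 292) (.node
  (.node (.node .nil (nat_lit 49) (nat_lit 354) (nat_lit 1617) .nil) (nat_lit 50) (nat_lit 401) (nat_lit 253)
  (.node .nil (nat_lit 51) (nat_lit 386) (nat_lit 1644) .nil)) (nat_lit 52) (nat_lit 354) (nat_lit 1656)
  (.node (.node .nil (nat_lit 53) (nat_lit 226) (nat_lit 411) .nil) (nat_lit 54) (nat_lit 272) (nat_lit 502)
  .nil))))) (nat_lit 55) (nat_lit 353) (nat_lit 1569) (.node (.node (.node (.node (.node (.node .nil (nat_lit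
  56) (nat_lit 176) (nat_lit 225) .nil) (nat_lit 57) (nat_lit 176) (nat_lit 226) (.node .nil (nat_lit 58)
  (nat_lit 226) (nat_lit 303) .nil)) (nat_lit 59) (nat_lit 288) (nat_lit 1004) (.node (.node .nil (nat_lit 60)
  (nat_lit 192) (nat_lit 221) .nil) (nat_lit 61) (nat_lit 114) (nat_lit 512) .nil)) (nat_lit 62) (nat_lit 320)
  (nat_lit 997) (.node (.node (.node .nil (nat_lit 63) (nat_lit 272) (nat_lit 996) .nil) (nat_lit 64) (nat_lit
  257) (nat_lit 491) (.node .nil (nat_lit 65) (nat_lit 288) (nat_lit 69) .nil)) (nat_lit 66) (nat_lit 306)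
  (nat_lit 1515) (.node (.node .nil (nat_lit 67) (nat_lit 288) (nat_lit 477) .nil) (nat_lit 68) (nat_lit 241)
  (nat_lit 485) .nil))) (nat_lit 69) (nat_lit 274) (nat_lit 1643) (.node (.node (.node (.node .nil (nat_lit
  70) (nat_lit 352) (nat_lit 740) .nil) (nat_lit 71) (nat_lit 290) (nat_lit 1684) (.node .nil (nat_lit 72)
  (nat_lit 384) (nat_lit 728) .nil)) (nat_lit 73) (nat_lit 258) (nat_lit 1528) (.node (.node .nil (nat_lit 74)
  (nat_lit 257) (nat_lit 574) .nil) (nat_lit 75) (nat_lit 289) (nat_lit 38) .nil)) (nat_lit 76) (nat_lit 273)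
  (nat_lit 23) (.node (.node (.node .nil (nat_lit 77) (nat_lit 306) (nat_lit 1733) .nil) (nat_lit 78) (nat_lit
  305) (nat_lit 601) (.node .nil (nat_lit 79) (nat_lit 337) (nat_lit 959) .nil)) (nat_lit 80) (nat_lit 384)
  (nat_lit 115) (.node (.node .nil (nat_lit 81) (nat_lit 354) (nat_lit 210) .nil) (nat_lit 82) (nat_lit 289)
  (nat_lit 54) .nil)))) (nat_lit 83) (nat_lit 336) (nat_lit 780) (.node (.node (.node (.node (.node .nil
  (nat_lit 84) (nat_lit 130) (nat_lit 678) .nil) (nat_lit 85) (nat_lit 288) (nat_lit 31) (.node .nil (nat_lit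
  86) (nat_lit 322) (nat_lit 561) .nil)) (nat_lit 87) (nat_lit 272) (nat_lit 746) (.node (.node .nil (nat_lit
  88) (nat_lit 80) (nat_lit 136) .nil) (nat_lit 89) (nat_lit 368) (nat_lit 497) .nil)) (nat_lit 90) (nat_lit
  241) (nat_lit 1046) (.node (.node (.node .nil (nat_lit 91) (nat_lit 400) (nat_lit 253) .nil) (nat_lit 92)
  (nat_lit 354) (nat_lit 1701) (.node .nil (nat_lit 93) (nat_lit 353) (nat_lit 479) .nil)) (nat_lit 94)
  (nat_lit 369) (nat_lit 774) (.node (.node .nil (nat_lit 95) (nat_lit 225) (nat_lit 1447) .nil) (nat_lit 96)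
  (nat_lit 129) (nat_lit 475) .nil))) (nat_lit 97) (nat_lit 337) (nat_lit 1441) (.node (.node (.node (.node
  .nil (nat_lit 98) (nat_lit 290) (nat_lit 38) .nil) (nat_lit 99) (nat_lit 418) (nat_lit 13) (.node .nil
  (nat_lit 100) (nat_lit 402) (nat_lit 10) .nil)) (nat_lit 101) (nat_lit 194) (nat_lit 656) (.node (.node .nil
  (nat_lit 102) (nat_lit 258) (nat_lit 532) .nil) (nat_lit 103) (nat_lit 272) (nat_lit 749) .nil)) (nat_lit
  104) (nat_lit 160) (nat_lit 15) (.node (.node (.node .nil (nat_lit 105) (nat_lit 210) (nat_lit 585) .nil)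
  (nat_lit 106) (nat_lit 304) (nat_lit 493) (.node .nil (nat_lit 107) (nat_lit 370) (nat_lit 1725) .nil))
  (nat_lit 108) (nat_lit 273) (nat_lit 219) (.node (.node .nil (nat_lit 109) (nat_lit 240) (nat_lit 209) .nil)
  (nat_lit 110) (nat_lit 336) (nat_lit 1027) .nil))))))
def x70t_1 : T := (.node (.node (.node (.node (.node (.node (.node .nil (nat_lit 112) (nat_lit 368) (nat_lit
  1041) .nil) (nat_lit 113) (nat_lit 289) (nat_lit 1386) (.node .nil (nat_lit 114) (nat_lit 258) (nat_lit 47)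
  .nil)) (nat_lit 115) (nat_lit 370) (nat_lit 693) (.node (.node .nil (nat_lit 116) (nat_lit 273) (nat_lit
  191) .nil) (nat_lit 117) (nat_lit 273) (nat_lit 1056) .nil)) (nat_lit 118) (nat_lit 353) (nat_lit 393)
  (.node (.node (.node .nil (nat_lit 119) (nat_lit 322) (nat_lit 1353) .nil) (nat_lit 120) (nat_lit 320)
  (nat_lit 1425) (.node .nil (nat_lit 121) (nat_lit 290) (nat_lit 341) .nil)) (nat_lit 122) (nat_lit 256)
  (nat_lit 1409) (.node (.node .nil (nat_lit 123) (nat_lit 258) (nat_lit 1659) .nil) (nat_lit 124) (nat_lit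
  112) (nat_lit 127) .nil))) (nat_lit 125) (nat_lit 258) (nat_lit 1162) (.node (.node (.node (.node .nil
  (nat_lit 126) (nat_lit 322) (nat_lit 1631) .nil) (nat_lit 127) (nat_lit 98) (nat_lit 1434) (.node .nil
  (nat_lit 128) (nat_lit 242) (nat_lit 1657) .nil)) (nat_lit 129) (nat_lit 370) (nat_lit 1691) (.node (.node
  .nil (nat_lit 130) (nat_lit 306) (nat_lit 562) .nil) (nat_lit 131) (nat_lit 240) (nat_lit 702) .nil))
  (nat_lit 132) (nat_lit 176) (nat_lit 1037) (.node (.node (.node .nil (nat_lit 133) (nat_lit 337) (nat_lit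
  25) .nil) (nat_lit 134) (nat_lit 321) (nat_lit 6) (.node .nil (nat_lit 135) (nat_lit 224) (nat_lit 105)
  .nil)) (nat_lit 136) (nat_lit 66) (nat_lit 1546) (.node (.node .nil (nat_lit 137) (nat_lit 370) (nat_lit
  446) .nil) (nat_lit 138) (nat_lit 193) (nat_lit 132) .nil)))) (nat_lit 139) (nat_lit 258) (nat_lit 1532)
  (.node (.node (.node (.node (.node .nil (nat_lit 140) (nat_lit 288) (nat_lit 142) .nil) (nat_lit 141)
  (nat_lit 273) (nat_lit 455) (.node .nil (nat_lit 142) (nat_lit 274) (nat_lit 427) .nil)) (nat_lit 143)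
  (nat_lit 290) (nat_lit 1756) (.node (.node .nil (nat_lit 144) (nat_lit 258) (nat_lit 1776) .nil) (nat_lit
  145) (nat_lit 370) (nat_lit 1761) .nil)) (nat_lit 146) (nat_lit 320) (nat_lit 707) (.node (.node (.node .nil
  (nat_lit 147) (nat_lit 226) (nat_lit 1750) .nil) (nat_lit 148) (nat_lit 322) (nat_lit 307) (.node .nil
  (nat_lit 149) (nat_lit 226) (nat_lit 1694) .nil)) (nat_lit 150) (nat_lit 370) (nat_lit 525) (.node (.node
  .nil (nat_lit 151) (nat_lit 304) (nat_lit 381) .nil) (nat_lit 152) (nat_lit 306) (nat_lit 1703) .nil)))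
  (nat_lit 153) (nat_lit 177) (nat_lit 1081) (.node (.node (.node (.node .nil (nat_lit 154) (nat_lit 416)
  (nat_lit 1295) .nil) (nat_lit 155) (nat_lit 226) (nat_lit 349) (.node .nil (nat_lit 156) (nat_lit 257)
  (nat_lit 1381) .nil)) (nat_lit 157) (nat_lit 304) (nat_lit 429) (.node (.node .nil (nat_lit 158) (nat_lit
  322) (nat_lit 428) .nil) (nat_lit 159) (nat_lit 320) (nat_lit 437) .nil)) (nat_lit 160) (nat_lit 305)
  (nat_lit 258) (.node (.node (.node .nil (nat_lit 161) (nat_lit 384) (nat_lit 1053) .nil) (nat_lit 162)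
  (nat_lit 290) (nat_lit 745) (.node .nil (nat_lit 163) (nat_lit 257) (nat_lit 128) .nil)) (nat_lit 164)
  (nat_lit 273) (nat_lit 123) (.node (.node .nil (nat_lit 165) (nat_lit 240) (nat_lit 729) .nil) (nat_lit 166)
  (nat_lit 273) (nat_lit 122) .nil))))) (nat_lit 167) (nat_lit 320) (nat_lit 762) (.node (.node (.node (.node
  (.node (.node .nil (nat_lit 168) (nat_lit 336) (nat_lit 158) .nil) (nat_lit 169) (nat_lit 210) (nat_lit
  1526) (.node .nil (nat_lit 170) (nat_lit 368) (nat_lit 35) .nil)) (nat_lit 171) (nat_lit 209) (nat_lit 101)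
  (.node (.node .nil (nat_lit 172) (nat_lit 208) (nat_lit 1025) .nil) (nat_lit 173) (nat_lit 336) (nat_lit
  708) .nil)) (nat_lit 174) (nat_lit 210) (nat_lit 584) (.node (.node (.node .nil (nat_lit 175) (nat_lit 226)
  (nat_lit 1535) .nil) (nat_lit 176) (nat_lit 257) (nat_lit 325) (.node .nil (nat_lit 177) (nat_lit 322)
  (nat_lit 1747) .nil)) (nat_lit 178) (nat_lit 241) (nat_lit 53) (.node (.node .nil (nat_lit 179) (nat_lit
  368) (nat_lit 500) .nil) (nat_lit 180) (nat_lit 338) (nat_lit 1714) .nil))) (nat_lit 181) (nat_lit 306)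
  (nat_lit 1727) (.node (.node (.node (.node .nil (nat_lit 182) (nat_lit 336) (nat_lit 378) .nil) (nat_lit
  183) (nat_lit 368) (nat_lit 698) (.node .nil (nat_lit 184) (nat_lit 370) (nat_lit 530) .nil)) (nat_lit 185)
  (nat_lit 305) (nat_lit 441) (.node (.node .nil (nat_lit 186) (nat_lit 337) (nat_lit 1558) .nil) (nat_lit
  187) (nat_lit 226) (nat_lit 1706) .nil)) (nat_lit 188) (nat_lit 274) (nat_lit 1729) (.node (.node (.node
  .nil (nat_lit 189) (nat_lit 402) (nat_lit 1709) .nil) (nat_lit 190) (nat_lit 337) (nat_lit 22) (.node .nil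
  (nat_lit 191) (nat_lit 256) (nat_lit 675) .nil)) (nat_lit 192) (nat_lit 258) (nat_lit 519) (.node (.node
  .nil (nat_lit 193) (nat_lit 337) (nat_lit 1112) .nil) (nat_lit 194) (nat_lit 322) (nat_lit 1412) .nil))))
  (nat_lit 195) (nat_lit 322) (nat_lit 1732) (.node (.node (.node (.node (.node .nil (nat_lit 196) (nat_lit
  322) (nat_lit 1716) .nil) (nat_lit 197) (nat_lit 114) (nat_lit 1754) (.node .nil (nat_lit 198) (nat_lit 274)
  (nat_lit 1774) .nil)) (nat_lit 199) (nat_lit 289) (nat_lit 26) (.node (.node .nil (nat_lit 200) (nat_lit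
  128) (nat_lit 197) .nil) (nat_lit 201) (nat_lit 321) (nat_lit 677) .nil)) (nat_lit 202) (nat_lit 338)
  (nat_lit 5) (.node (.node (.node .nil (nat_lit 203) (nat_lit 193) (nat_lit 1377) .nil) (nat_lit 204)
  (nat_lit 321) (nat_lit 434) (.node .nil (nat_lit 205) (nat_lit 353) (nat_lit 688) .nil)) (nat_lit 206)
  (nat_lit 368) (nat_lit 81) (.node (.node .nil (nat_lit 207) (nat_lit 240) (nat_lit 175) .nil) (nat_lit 208)
  (nat_lit 224) (nat_lit 174) .nil))) (nat_lit 209) (nat_lit 226) (nat_lit 425) (.node (.node (.node (.node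
  .nil (nat_lit 210) (nat_lit 337) (nat_lit 194) .nil) (nat_lit 211) (nat_lit 241) (nat_lit 135) (.node .nil
  (nat_lit 212) (nat_lit 305) (nat_lit 518) .nil)) (nat_lit 213) (nat_lit 257) (nat_lit 675) (.node (.node
  .nil (nat_lit 214) (nat_lit 257) (nat_lit 1409) .nil) (nat_lit 215) (nat_lit 305) (nat_lit 324) .nil))
  (nat_lit 216) (nat_lit 241) (nat_lit 175) (.node (.node (.node .nil (nat_lit 217) (nat_lit 320) (nat_lit
  692) .nil) (nat_lit 218) (nat_lit 289) (nat_lit 477) .nil) (nat_lit 219) (nat_lit 258) (nat_lit 682) (.node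
  (.node .nil (nat_lit 220) (nat_lit 336) (nat_lit 25) .nil) (nat_lit 221) (nat_lit 178) (nat_lit 556)
  .nil))))))
def x70t_2 : T := (.node (.node (.node (.node (.node (.node (.node .nil (nat_lit 223) (nat_lit 290) (nat_lit
  287) .nil) (nat_lit 224) (nat_lit 242) (nat_lit 308) (.node .nil (nat_lit 225) (nat_lit 162) (nat_lit 560)
  .nil)) (nat_lit 226) (nat_lit 162) (nat_lit 563) (.node (.node .nil (nat_lit 227) (nat_lit 352) (nat_lit
  1018) .nil) (nat_lit 228) (nat_lit 304) (nat_lit 1019) .nil)) (nat_lit 229) (nat_lit 210) (nat_lit 637)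
  (.node (.node (.node .nil (nat_lit 230) (nat_lit 274) (nat_lit 1613) .nil) (nat_lit 231) (nat_lit 354)
  (nat_lit 1692) (.node .nil (nat_lit 232) (nat_lit 274) (nat_lit 1690) .nil)) (nat_lit 233) (nat_lit 162)
  (nat_lit 1645) (.node (.node .nil (nat_lit 234) (nat_lit 354) (nat_lit 1433) .nil) (nat_lit 235) (nat_lit
  289) (nat_lit 232) .nil))) (nat_lit 236) (nat_lit 336) (nat_lit 764) (.node (.node (.node (.node .nil
  (nat_lit 237) (nat_lit 241) (nat_lit 922) .nil) (nat_lit 238) (nat_lit 224) (nat_lit 384) (.node .nil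
  (nat_lit 239) (nat_lit 322) (nat_lit 1547) .nil)) (nat_lit 240) (nat_lit 322) (nat_lit 1581) (.node (.node
  .nil (nat_lit 241) (nat_lit 322) (nat_lit 1541) .nil) (nat_lit 242) (nat_lit 322) (nat_lit 1539) .nil))
  (nat_lit 243) (nat_lit 274) (nat_lit 1548) (.node (.node (.node .nil (nat_lit 244) (nat_lit 256) (nat_lit
  680) .nil) (nat_lit 245) (nat_lit 337) (nat_lit 1015) (.node .nil (nat_lit 246) (nat_lit 320) (nat_lit 249)
  .nil)) (nat_lit 247) (nat_lit 193) (nat_lit 1529) (.node (.node .nil (nat_lit 248) (nat_lit 289) (nat_lit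
  1534) .nil) (nat_lit 249) (nat_lit 306) (nat_lit 1760) .nil)))) (nat_lit 250) (nat_lit 353) (nat_lit 1014)
  (.node (.node (.node (.node (.node .nil (nat_lit 251) (nat_lit 337) (nat_lit 1524) .nil) (nat_lit 252)
  (nat_lit 257) (nat_lit 1528) (.node .nil (nat_lit 253) (nat_lit 386) (nat_lit 1) .nil)) (nat_lit 254)
  (nat_lit 273) (nat_lit 269) (.node (.node .nil (nat_lit 255) (nat_lit 256) (nat_lit 1139) .nil) (nat_lit
  256) (nat_lit 354) (nat_lit 1700) .nil)) (nat_lit 257) (nat_lit 353) (nat_lit 547) (.node (.node (.node .nil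
  (nat_lit 258) (nat_lit 290) (nat_lit 286) .nil) (nat_lit 259) (nat_lit 289) (nat_lit 1636) (.node .nil
  (nat_lit 260) (nat_lit 320) (nat_lit 111) .nil)) (nat_lit 261) (nat_lit 321) (nat_lit 1412) (.node (.node
  .nil (nat_lit 262) (nat_lit 384) (nat_lit 184) .nil) (nat_lit 263) (nat_lit 242) (nat_lit 581) .nil)))
  (nat_lit 264) (nat_lit 289) (nat_lit 1070) (.node (.node (.node (.node .nil (nat_lit 265) (nat_lit 288)
  (nat_lit 1054) .nil) (nat_lit 266) (nat_lit 289) (nat_lit 277) (.node .nil (nat_lit 267) (nat_lit 321)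
  (nat_lit 1396) .nil)) (nat_lit 268) (nat_lit 384) (nat_lit 546) (.node (.node .nil (nat_lit 269) (nat_lit
  256) (nat_lit 1387) .nil) (nat_lit 270) (nat_lit 321) (nat_lit 437) .nil)) (nat_lit 271) (nat_lit 306)
  (nat_lit 294) (.node (.node (.node .nil (nat_lit 272) (nat_lit 337) (nat_lit 1474) .nil) (nat_lit 273)
  (nat_lit 352) (nat_lit 1071) (.node .nil (nat_lit 274) (nat_lit 288) (nat_lit 1249) .nil)) (nat_lit 275)
  (nat_lit 402) (nat_lit 161) (.node (.node .nil (nat_lit 276) (nat_lit 272) (nat_lit 870) .nil) (nat_lit 277)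
  (nat_lit 272) (nat_lit 455) .nil))))) (nat_lit 278) (nat_lit 176) (nat_lit 1428) (.node (.node (.node (.node
  (.node (.node .nil (nat_lit 279) (nat_lit 369) (nat_lit 1619) .nil) (nat_lit 280) (nat_lit 272) (nat_lit
  1301) (.node .nil (nat_lit 281) (nat_lit 273) (nat_lit 452) .nil)) (nat_lit 282) (nat_lit 257) (nat_lit
  1299) (.node (.node .nil (nat_lit 283) (nat_lit 274) (nat_lit 1516) .nil) (nat_lit 284) (nat_lit 304)
  (nat_lit 626) .nil)) (nat_lit 285) (nat_lit 354) (nat_lit 368) (.node (.node (.node .nil (nat_lit 286)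
  (nat_lit 272) (nat_lit 1101) .nil) (nat_lit 287) (nat_lit 273) (nat_lit 1062) (.node .nil (nat_lit 288)
  (nat_lit 338) (nat_lit 48) .nil)) (nat_lit 289) (nat_lit 273) (nat_lit 1159) (.node (.node .nil (nat_lit
  290) (nat_lit 322) (nat_lit 215) .nil) (nat_lit 291) (nat_lit 337) (nat_lit 148) .nil))) (nat_lit 292)
  (nat_lit 306) (nat_lit 1666) (.node (.node (.node (.node .nil (nat_lit 293) (nat_lit 0) (nat_lit 293) .nil)
  (nat_lit 294) (nat_lit 288) (nat_lit 1418) (.node .nil (nat_lit 295) (nat_lit 322) (nat_lit 300) .nil))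
  (nat_lit 296) (nat_lit 226) (nat_lit 1436) (.node (.node .nil (nat_lit 297) (nat_lit 258) (nat_lit 1681)
  .nil) (nat_lit 298) (nat_lit 145) (nat_lit 1363) .nil)) (nat_lit 299) (nat_lit 242) (nat_lit 1660) (.node
  (.node (.node .nil (nat_lit 300) (nat_lit 305) (nat_lit 1454) .nil) (nat_lit 301) (nat_lit 320) (nat_lit
  1290) (.node .nil (nat_lit 302) (nat_lit 321) (nat_lit 623) .nil)) (nat_lit 303) (nat_lit 209) (nat_lit 637)
  (.node (.node .nil (nat_lit 304) (nat_lit 304) (nat_lit 1597) .nil) (nat_lit 305) (nat_lit 322) (nat_lit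
  228) .nil)))) (nat_lit 306) (nat_lit 321) (nat_lit 1394) (.node (.node (.node (.node (.node .nil (nat_lit
  307) (nat_lit 304) (nat_lit 1463) .nil) (nat_lit 308) (nat_lit 225) (nat_lit 1224) (.node .nil (nat_lit 309)
  (nat_lit 256) (nat_lit 1593) .nil)) (nat_lit 310) (nat_lit 338) (nat_lit 62) (.node (.node .nil (nat_lit
  311) (nat_lit 208) (nat_lit 1163) .nil) (nat_lit 312) (nat_lit 226) (nat_lit 365) .nil)) (nat_lit 313)
  (nat_lit 370) (nat_lit 1683) (.node (.node (.node .nil (nat_lit 314) (nat_lit 368) (nat_lit 545) .nil)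
  (nat_lit 315) (nat_lit 338) (nat_lit 1615) (.node .nil (nat_lit 316) (nat_lit 257) (nat_lit 317) .nil))
  (nat_lit 317) (nat_lit 242) (nat_lit 369) (.node (.node .nil (nat_lit 318) (nat_lit 289) (nat_lit 283) .nil)
  (nat_lit 319) (nat_lit 304) (nat_lit 636) .nil))) (nat_lit 320) (nat_lit 336) (nat_lit 1392) (.node (.node
  (.node (.node .nil (nat_lit 321) (nat_lit 305) (nat_lit 523) .nil) (nat_lit 322) (nat_lit 338) (nat_lit 301)
  (.node .nil (nat_lit 323) (nat_lit 289) (nat_lit 45) .nil)) (nat_lit 324) (nat_lit 290) (nat_lit 1682)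
  (.node (.node .nil (nat_lit 325) (nat_lit 242) (nat_lit 1633) .nil) (nat_lit 326) (nat_lit 400) (nat_lit
  438) .nil)) (nat_lit 327) (nat_lit 272) (nat_lit 711) (.node (.node (.node .nil (nat_lit 328) (nat_lit 272)
  (nat_lit 1393) .nil) (nat_lit 329) (nat_lit 256) (nat_lit 1090) (.node .nil (nat_lit 330) (nat_lit 274)
  (nat_lit 1332) .nil)) (nat_lit 331) (nat_lit 290) (nat_lit 327) (.node (.node .nil (nat_lit 332) (nat_lit
  337) (nat_lit 645) .nil) (nat_lit 333) (nat_lit 177) (nat_lit 710) .nil))))))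
def x70t_3 : T := (.node (.node (.node (.node (.node (.node (.node .nil (nat_lit 335) (nat_lit 354) (nat_lit
  767) .nil) (nat_lit 336) (nat_lit 241) (nat_lit 524) (.node .nil (nat_lit 337) (nat_lit 322) (nat_lit 763)
  .nil)) (nat_lit 338) (nat_lit 321) (nat_lit 351) (.node (.node .nil (nat_lit 339) (nat_lit 241) (nat_lit
  1461) .nil) (nat_lit 340) (nat_lit 241) (nat_lit 1026) .nil)) (nat_lit 341) (nat_lit 272) (nat_lit 1292)
  (.node (.node (.node .nil (nat_lit 342) (nat_lit 322) (nat_lit 1379) .nil) (nat_lit 343) (nat_lit 224)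
  (nat_lit 1098) (.node .nil (nat_lit 344) (nat_lit 208) (nat_lit 1455) .nil)) (nat_lit 345) (nat_lit 290)
  (nat_lit 117) (.node (.node .nil (nat_lit 346) (nat_lit 320) (nat_lit 1396) .nil) (nat_lit 347) (nat_lit
  129) (nat_lit 1144) .nil))) (nat_lit 348) (nat_lit 242) (nat_lit 1338) (.node (.node (.node (.node .nil
  (nat_lit 349) (nat_lit 209) (nat_lit 1455) .nil) (nat_lit 350) (nat_lit 370) (nat_lit 118) (.node .nil
  (nat_lit 351) (nat_lit 304) (nat_lit 1271) .nil)) (nat_lit 352) (nat_lit 354) (nat_lit 1003) (.node (.node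
  .nil (nat_lit 353) (nat_lit 242) (nat_lit 1046) .nil) (nat_lit 354) (nat_lit 385) (nat_lit 313) .nil))
  (nat_lit 355) (nat_lit 336) (nat_lit 873) (.node (.node (.node .nil (nat_lit 356) (nat_lit 193) (nat_lit
  278) .nil) (nat_lit 357) (nat_lit 274) (nat_lit 1655) (.node .nil (nat_lit 358) (nat_lit 160) (nat_lit 1254)
  .nil)) (nat_lit 359) (nat_lit 193) (nat_lit 885) (.node (.node .nil (nat_lit 360) (nat_lit 306) (nat_lit
  1618) .nil) (nat_lit 361) (nat_lit 352) (nat_lit 1251) .nil)))) (nat_lit 362) (nat_lit 290) (nat_lit 1664)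
  (.node (.node (.node (.node (.node .nil (nat_lit 363) (nat_lit 274) (nat_lit 1629) .nil) (nat_lit 364)
  (nat_lit 306) (nat_lit 1662) (.node .nil (nat_lit 365) (nat_lit 209) (nat_lit 1154) .nil)) (nat_lit 366)
  (nat_lit 304) (nat_lit 1232) (.node (.node .nil (nat_lit 367) (nat_lit 290) (nat_lit 371) .nil) (nat_lit
  368) (nat_lit 337) (nat_lit 1714) .nil)) (nat_lit 369) (nat_lit 225) (nat_lit 1464) (.node (.node (.node
  .nil (nat_lit 370) (nat_lit 305) (nat_lit 1491) .nil) (nat_lit 371) (nat_lit 272) (nat_lit 456) (.node .nil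
  (nat_lit 372) (nat_lit 370) (nat_lit 273) .nil)) (nat_lit 373) (nat_lit 386) (nat_lit 1764) (.node (.node
  .nil (nat_lit 374) (nat_lit 240) (nat_lit 187) .nil) (nat_lit 375) (nat_lit 146) (nat_lit 1748) .nil)))
  (nat_lit 376) (nat_lit 160) (nat_lit 375) (.node (.node (.node (.node .nil (nat_lit 377) (nat_lit 320)
  (nat_lit 77) .nil) (nat_lit 378) (nat_lit 322) (nat_lit 1697) (.node .nil (nat_lit 379) (nat_lit 177)
  (nat_lit 376) .nil)) (nat_lit 380) (nat_lit 161) (nat_lit 375) (.node (.node .nil (nat_lit 381) (nat_lit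
  290) (nat_lit 1575) .nil) (nat_lit 382) (nat_lit 272) (nat_lit 192) .nil)) (nat_lit 383) (nat_lit 225)
  (nat_lit 782) (.node (.node (.node .nil (nat_lit 384) (nat_lit 210) (nat_lit 1382) .nil) (nat_lit 385)
  (nat_lit 386) (nat_lit 1578) (.node .nil (nat_lit 386) (nat_lit 338) (nat_lit 603) .nil)) (nat_lit 387)
  (nat_lit 336) (nat_lit 241) (.node (.node .nil (nat_lit 388) (nat_lit 321) (nat_lit 539) .nil) (nat_lit 389)
  (nat_lit 304) (nat_lit 869) .nil))))) (nat_lit 390) (nat_lit 338) (nat_lit 769) (.node (.node (.node (.node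
  (.node (.node .nil (nat_lit 391) (nat_lit 289) (nat_lit 1482) .nil) (nat_lit 392) (nat_lit 354) (nat_lit
  765) (.node .nil (nat_lit 393) (nat_lit 338) (nat_lit 768) .nil)) (nat_lit 394) (nat_lit 320) (nat_lit 1473)
  (.node (.node .nil (nat_lit 395) (nat_lit 304) (nat_lit 1489) .nil) (nat_lit 396) (nat_lit 337) (nat_lit
  1450) .nil)) (nat_lit 397) (nat_lit 242) (nat_lit 1002) (.node (.node (.node .nil (nat_lit 398) (nat_lit
  321) (nat_lit 1321) .nil) (nat_lit 399) (nat_lit 289) (nat_lit 1625) (.node .nil (nat_lit 400) (nat_lit 288)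
  (nat_lit 1462) .nil)) (nat_lit 401) (nat_lit 304) (nat_lit 1588) (.node (.node .nil (nat_lit 402) (nat_lit
  258) (nat_lit 1012) .nil) (nat_lit 403) (nat_lit 338) (nat_lit 1047) .nil))) (nat_lit 404) (nat_lit 320)
  (nat_lit 554) (.node (.node (.node (.node .nil (nat_lit 405) (nat_lit 290) (nat_lit 141) .nil) (nat_lit 406)
  (nat_lit 257) (nat_lit 1036) (.node .nil (nat_lit 407) (nat_lit 224) (nat_lit 1089) .nil)) (nat_lit 408)
  (nat_lit 354) (nat_lit 688) (.node (.node .nil (nat_lit 409) (nat_lit 288) (nat_lit 1121) .nil) (nat_lit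
  410) (nat_lit 289) (nat_lit 809) .nil)) (nat_lit 411) (nat_lit 208) (nat_lit 940) (.node (.node (.node .nil
  (nat_lit 412) (nat_lit 338) (nat_lit 34) .nil) (nat_lit 413) (nat_lit 256) (nat_lit 938) (.node .nil
  (nat_lit 414) (nat_lit 368) (nat_lit 718) .nil)) (nat_lit 415) (nat_lit 352) (nat_lit 1772) (.node (.node
  .nil (nat_lit 416) (nat_lit 384) (nat_lit 1766) .nil) (nat_lit 417) (nat_lit 273) (nat_lit 433) .nil))))
  (nat_lit 418) (nat_lit 225) (nat_lit 757) (.node (.node (.node (.node (.node .nil (nat_lit 419) (nat_lit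
  338) (nat_lit 1296) .nil) (nat_lit 420) (nat_lit 224) (nat_lit 898) (.node .nil (nat_lit 421) (nat_lit 240)
  (nat_lit 785) .nil)) (nat_lit 422) (nat_lit 384) (nat_lit 930) (.node (.node .nil (nat_lit 423) (nat_lit
  226) (nat_lit 551) .nil) (nat_lit 424) (nat_lit 193) (nat_lit 445) .nil)) (nat_lit 425) (nat_lit 209)
  (nat_lit 777) (.node (.node (.node .nil (nat_lit 426) (nat_lit 274) (nat_lit 214) .nil) (nat_lit 427)
  (nat_lit 256) (nat_lit 596) (.node .nil (nat_lit 428) (nat_lit 305) (nat_lit 931) .nil)) (nat_lit 429)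
  (nat_lit 290) (nat_lit 431) (.node (.node .nil (nat_lit 430) (nat_lit 321) (nat_lit 1444) .nil) (nat_lit
  431) (nat_lit 273) (nat_lit 1258) .nil))) (nat_lit 432) (nat_lit 209) (nat_lit 1446) (.node (.node (.node
  (.node .nil (nat_lit 433) (nat_lit 258) (nat_lit 1293) .nil) (nat_lit 434) (nat_lit 304) (nat_lit 686)
  (.node .nil (nat_lit 435) (nat_lit 176) (nat_lit 674) .nil)) (nat_lit 436) (nat_lit 338) (nat_lit 1736)
  (.node (.node .nil (nat_lit 437) (nat_lit 306) (nat_lit 931) .nil) (nat_lit 438) (nat_lit 386) (nat_lit 965)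
  .nil)) (nat_lit 439) (nat_lit 368) (nat_lit 285) (.node (.node (.node .nil (nat_lit 440) (nat_lit 289)
  (nat_lit 330) .nil) (nat_lit 441) (nat_lit 290) (nat_lit 1482) .nil) (nat_lit 442) (nat_lit 273) (nat_lit
  456) (.node (.node .nil (nat_lit 443) (nat_lit 225) (nat_lit 730) .nil) (nat_lit 444) (nat_lit 257) (nat_lit
  596) .nil))))))
def x70t_4 : T := (.node (.node (.node (.node (.node (.node (.node .nil (nat_lit 446) (nat_lit 352) (nat_lit
  37) .nil) (nat_lit 447) (nat_lit 386) (nat_lit 1735) (.node .nil (nat_lit 448) (nat_lit 322) (nat_lit 389)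
  .nil)) (nat_lit 449) (nat_lit 225) (nat_lit 172) (.node (.node .nil (nat_lit 450) (nat_lit 321) (nat_lit
  111) .nil) (nat_lit 451) (nat_lit 274) (nat_lit 1554) .nil)) (nat_lit 452) (nat_lit 256) (nat_lit 619)
  (.node (.node (.node .nil (nat_lit 453) (nat_lit 353) (nat_lit 1315) .nil) (nat_lit 454) (nat_lit 273)
  (nat_lit 612) (.node .nil (nat_lit 455) (nat_lit 258) (nat_lit 861) .nil)) (nat_lit 456) (nat_lit 258)
  (nat_lit 466) (.node (.node .nil (nat_lit 457) (nat_lit 321) (nat_lit 960) .nil) (nat_lit 458) (nat_lit 370)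
  (nat_lit 797) .nil))) (nat_lit 459) (nat_lit 370) (nat_lit 1567) (.node (.node (.node (.node .nil (nat_lit
  460) (nat_lit 321) (nat_lit 671) .nil) (nat_lit 461) (nat_lit 273) (nat_lit 473) (.node .nil (nat_lit 462)
  (nat_lit 305) (nat_lit 1442) .nil)) (nat_lit 463) (nat_lit 290) (nat_lit 583) (.node (.node .nil (nat_lit
  464) (nat_lit 289) (nat_lit 1260) .nil) (nat_lit 465) (nat_lit 226) (nat_lit 1483) .nil)) (nat_lit 466)
  (nat_lit 241) (nat_lit 600) (.node (.node (.node .nil (nat_lit 467) (nat_lit 240) (nat_lit 53) .nil)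
  (nat_lit 468) (nat_lit 352) (nat_lit 412) (.node .nil (nat_lit 469) (nat_lit 369) (nat_lit 497) .nil))
  (nat_lit 470) (nat_lit 176) (nat_lit 846) (.node (.node .nil (nat_lit 471) (nat_lit 305) (nat_lit 1199)
  .nil) (nat_lit 472) (nat_lit 256) (nat_lit 982) .nil)))) (nat_lit 473) (nat_lit 258) (nat_lit 957) (.node
  (.node (.node (.node (.node .nil (nat_lit 474) (nat_lit 194) (nat_lit 910) .nil) (nat_lit 475) (nat_lit 112)
  (nat_lit 1536) (.node .nil (nat_lit 476) (nat_lit 304) (nat_lit 748) .nil)) (nat_lit 477) (nat_lit 274)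
  (nat_lit 269) (.node (.node .nil (nat_lit 478) (nat_lit 384) (nat_lit 695) .nil) (nat_lit 479) (nat_lit 338)
  (nat_lit 1268) .nil)) (nat_lit 480) (nat_lit 354) (nat_lit 1286) (.node (.node (.node .nil (nat_lit 481)
  (nat_lit 386) (nat_lit 439) .nil) (nat_lit 482) (nat_lit 272) (nat_lit 1165) (.node .nil (nat_lit 483)
  (nat_lit 338) (nat_lit 270) .nil)) (nat_lit 484) (nat_lit 274) (nat_lit 1021) (.node (.node .nil (nat_lit
  485) (nat_lit 226) (nat_lit 1775) .nil) (nat_lit 486) (nat_lit 322) (nat_lit 1695) .nil))) (nat_lit 487)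
  (nat_lit 305) (nat_lit 65) (.node (.node (.node (.node .nil (nat_lit 488) (nat_lit 336) (nat_lit 486) .nil)
  (nat_lit 489) (nat_lit 306) (nat_lit 1708) (.node .nil (nat_lit 490) (nat_lit 289) (nat_lit 69) .nil))
  (nat_lit 491) (nat_lit 240) (nat_lit 485) (.node (.node .nil (nat_lit 492) (nat_lit 320) (nat_lit 489) .nil)
  (nat_lit 493) (nat_lit 290) (nat_lit 1731) .nil)) (nat_lit 494) (nat_lit 321) (nat_lit 1527) (.node (.node
  (.node .nil (nat_lit 495) (nat_lit 241) (nat_lit 1531) .nil) (nat_lit 496) (nat_lit 257) (nat_lit 467)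
  (.node .nil (nat_lit 497) (nat_lit 354) (nat_lit 1723) .nil)) (nat_lit 498) (nat_lit 209) (nat_lit 1526)
  (.node (.node .nil (nat_lit 499) (nat_lit 305) (nat_lit 1530) .nil) (nat_lit 500) (nat_lit 354) (nat_lit
  1704) .nil))))) (nat_lit 501) (nat_lit 193) (nat_lit 57) (.node (.node (.node (.node (.node (.node .nil
  (nat_lit 502) (nat_lit 258) (nat_lit 1770) .nil) (nat_lit 503) (nat_lit 354) (nat_lit 396) (.node .nil
  (nat_lit 504) (nat_lit 192) (nat_lit 775) .nil)) (nat_lit 505) (nat_lit 336) (nat_lit 1044) (.node (.node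
  .nil (nat_lit 506) (nat_lit 306) (nat_lit 1453) .nil) (nat_lit 507) (nat_lit 304) (nat_lit 1340) .nil))
  (nat_lit 508) (nat_lit 289) (nat_lit 484) (.node (.node (.node .nil (nat_lit 509) (nat_lit 337) (nat_lit
  1047) .nil) (nat_lit 510) (nat_lit 338) (nat_lit 16) (.node .nil (nat_lit 511) (nat_lit 210) (nat_lit 60)
  .nil)) (nat_lit 512) (nat_lit 96) (nat_lit 576) (.node (.node .nil (nat_lit 513) (nat_lit 354) (nat_lit 36)
  .nil) (nat_lit 514) (nat_lit 242) (nat_lit 17) .nil))) (nat_lit 515) (nat_lit 194) (nat_lit 57) (.node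
  (.node (.node (.node .nil (nat_lit 516) (nat_lit 194) (nat_lit 56) .nil) (nat_lit 517) (nat_lit 240)
  (nat_lit 1461) (.node .nil (nat_lit 518) (nat_lit 290) (nat_lit 703) .nil)) (nat_lit 519) (nat_lit 241)
  (nat_lit 312) (.node (.node .nil (nat_lit 520) (nat_lit 306) (nat_lit 75) .nil) (nat_lit 521) (nat_lit 288)
  (nat_lit 1035) .nil)) (nat_lit 522) (nat_lit 209) (nat_lit 1203) (.node (.node (.node .nil (nat_lit 523)
  (nat_lit 290) (nat_lit 694) .nil) (nat_lit 524) (nat_lit 224) (nat_lit 1176) (.node .nil (nat_lit 525)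
  (nat_lit 353) (nat_lit 646) .nil)) (nat_lit 526) (nat_lit 289) (nat_lit 737) (.node (.node .nil (nat_lit
  527) (nat_lit 352) (nat_lit 651) .nil) (nat_lit 528) (nat_lit 370) (nat_lit 415) .nil)))) (nat_lit 529)
  (nat_lit 225) (nat_lit 1048) (.node (.node (.node (.node (.node .nil (nat_lit 530) (nat_lit 353) (nat_lit
  322) .nil) (nat_lit 531) (nat_lit 224) (nat_lit 1066) (.node .nil (nat_lit 532) (nat_lit 240) (nat_lit 537)
  .nil)) (nat_lit 533) (nat_lit 161) (nat_lit 563) (.node (.node .nil (nat_lit 534) (nat_lit 337) (nat_lit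
  1712) .nil) (nat_lit 535) (nat_lit 273) (nat_lit 114) .nil)) (nat_lit 536) (nat_lit 321) (nat_lit 554)
  (.node (.node (.node .nil (nat_lit 537) (nat_lit 226) (nat_lit 1464) .nil) (nat_lit 538) (nat_lit 272)
  (nat_lit 1699) (.node .nil (nat_lit 539) (nat_lit 306) (nat_lit 1172) .nil)) (nat_lit 540) (nat_lit 337)
  (nat_lit 167) (.node (.node .nil (nat_lit 541) (nat_lit 273) (nat_lit 102) .nil) (nat_lit 542) (nat_lit 336)
  (nat_lit 1228) .nil))) (nat_lit 543) (nat_lit 320) (nat_lit 642) (.node (.node (.node (.node .nil (nat_lit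
  544) (nat_lit 352) (nat_lit 1596) .nil) (nat_lit 545) (nat_lit 354) (nat_lit 646) (.node .nil (nat_lit 546)
  (nat_lit 370) (nat_lit 1606) .nil)) (nat_lit 547) (nat_lit 338) (nat_lit 1113) (.node (.node .nil (nat_lit
  548) (nat_lit 305) (nat_lit 121) .nil) (nat_lit 549) (nat_lit 338) (nat_lit 1364) .nil)) (nat_lit 550)
  (nat_lit 352) (nat_lit 1717) (.node (.node (.node .nil (nat_lit 551) (nat_lit 208) (nat_lit 1309) .nil)
  (nat_lit 552) (nat_lit 337) (nat_lit 159) (.node .nil (nat_lit 553) (nat_lit 178) (nat_lit 747) .nil))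
  (nat_lit 554) (nat_lit 306) (nat_lit 1609) (.node (.node .nil (nat_lit 555) (nat_lit 258) (nat_lit 789)
  .nil) (nat_lit 556) (nat_lit 161) (nat_lit 1324) .nil))))))
def x70t_5 : T := (.node (.node (.node (.node (.node (.node (.node .nil (nat_lit 558) (nat_lit 258) (nat_lit
  216) .nil) (nat_lit 559) (nat_lit 146) (nat_lit 222) (.node .nil (nat_lit 560) (nat_lit 145) (nat_lit 1174)
  .nil)) (nat_lit 561) (nat_lit 304) (nat_lit 577) (.node (.node .nil (nat_lit 562) (nat_lit 288) (nat_lit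
  1386) .nil) (nat_lit 563) (nat_lit 144) (nat_lit 1363) .nil)) (nat_lit 564) (nat_lit 209) (nat_lit 515)
  (.node (.node (.node .nil (nat_lit 565) (nat_lit 257) (nat_lit 802) .nil) (nat_lit 566) (nat_lit 384)
  (nat_lit 137) (.node .nil (nat_lit 567) (nat_lit 177) (nat_lit 801) .nil)) (nat_lit 568) (nat_lit 16)
  (nat_lit 293) (.node (.node .nil (nat_lit 569) (nat_lit 274) (nat_lit 1319) .nil) (nat_lit 570) (nat_lit
  160) (nat_lit 559) .nil))) (nat_lit 571) (nat_lit 289) (nat_lit 569) (.node (.node (.node (.node .nil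
  (nat_lit 572) (nat_lit 226) (nat_lit 1283) .nil) (nat_lit 573) (nat_lit 288) (nat_lit 966) (.node .nil
  (nat_lit 574) (nat_lit 242) (nat_lit 998) .nil)) (nat_lit 575) (nat_lit 338) (nat_lit 1612) (.node (.node
  .nil (nat_lit 576) (nat_lit 82) (nat_lit 1067) .nil) (nat_lit 577) (nat_lit 290) (nat_lit 1260) .nil))
  (nat_lit 578) (nat_lit 320) (nat_lit 878) (.node (.node (.node .nil (nat_lit 579) (nat_lit 194) (nat_lit
  567) .nil) (nat_lit 580) (nat_lit 322) (nat_lit 1406) (.node .nil (nat_lit 581) (nat_lit 224) (nat_lit 3)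
  .nil)) (nat_lit 582) (nat_lit 288) (nat_lit 4) (.node (.node .nil (nat_lit 583) (nat_lit 273) (nat_lit 502)
  .nil) (nat_lit 584) (nat_lit 192) (nat_lit 1219) .nil)))) (nat_lit 585) (nat_lit 192) (nat_lit 1259) (.node
  (.node (.node (.node (.node .nil (nat_lit 586) (nat_lit 354) (nat_lit 387) .nil) (nat_lit 587) (nat_lit 97)
  (nat_lit 1663) (.node .nil (nat_lit 588) (nat_lit 130) (nat_lit 1223) .nil)) (nat_lit 589) (nat_lit 338)
  (nat_lit 1441) (.node (.node .nil (nat_lit 590) (nat_lit 257) (nat_lit 397) .nil) (nat_lit 591) (nat_lit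
  225) (nat_lit 551) .nil)) (nat_lit 592) (nat_lit 274) (nat_lit 1523) (.node (.node (.node .nil (nat_lit 593)
  (nat_lit 193) (nat_lit 1259) .nil) (nat_lit 594) (nat_lit 338) (nat_lit 1524) (.node .nil (nat_lit 595)
  (nat_lit 257) (nat_lit 1443) .nil)) (nat_lit 596) (nat_lit 242) (nat_lit 1574) (.node (.node .nil (nat_lit
  597) (nat_lit 288) (nat_lit 426) .nil) (nat_lit 598) (nat_lit 289) (nat_lit 935) .nil))) (nat_lit 599)
  (nat_lit 225) (nat_lit 778) (.node (.node (.node (.node .nil (nat_lit 600) (nat_lit 224) (nat_lit 730) .nil)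
  (nat_lit 601) (nat_lit 290) (nat_lit 1058) (.node .nil (nat_lit 602) (nat_lit 338) (nat_lit 457) .nil))
  (nat_lit 603) (nat_lit 320) (nat_lit 1444) (.node (.node .nil (nat_lit 604) (nat_lit 354) (nat_lit 641)
  .nil) (nat_lit 605) (nat_lit 304) (nat_lit 948) .nil)) (nat_lit 606) (nat_lit 305) (nat_lit 577) (.node
  (.node (.node .nil (nat_lit 607) (nat_lit 322) (nat_lit 1316) .nil) (nat_lit 608) (nat_lit 178) (nat_lit
  1131) (.node .nil (nat_lit 609) (nat_lit 274) (nat_lit 565) .nil)) (nat_lit 610) (nat_lit 304) (nat_lit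
  1031) (.node (.node .nil (nat_lit 611) (nat_lit 241) (nat_lit 1657) .nil) (nat_lit 612) (nat_lit 256)
  (nat_lit 1299) .nil))))) (nat_lit 613) (nat_lit 226) (nat_lit 1330) (.node (.node (.node (.node (.node
  (.node .nil (nat_lit 614) (nat_lit 289) (nat_lit 482) .nil) (nat_lit 615) (nat_lit 208) (nat_lit 1203)
  (.node .nil (nat_lit 616) (nat_lit 161) (nat_lit 1645) .nil)) (nat_lit 617) (nat_lit 354) (nat_lit 505)
  (.node (.node .nil (nat_lit 618) (nat_lit 241) (nat_lit 537) .nil) (nat_lit 619) (nat_lit 242) (nat_lit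
  1378) .nil)) (nat_lit 620) (nat_lit 322) (nat_lit 1362) (.node (.node (.node .nil (nat_lit 621) (nat_lit
  305) (nat_lit 1373) .nil) (nat_lit 622) (nat_lit 257) (nat_lit 1156) (.node .nil (nat_lit 623) (nat_lit 306)
  (nat_lit 1195) .nil)) (nat_lit 624) (nat_lit 210) (nat_lit 918) (.node (.node .nil (nat_lit 625) (nat_lit
  368) (nat_lit 408) .nil) (nat_lit 626) (nat_lit 290) (nat_lit 664) .nil))) (nat_lit 627) (nat_lit 320)
  (nat_lit 1040) (.node (.node (.node (.node .nil (nat_lit 628) (nat_lit 258) (nat_lit 1170) .nil) (nat_lit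
  629) (nat_lit 290) (nat_lit 277) (.node .nil (nat_lit 630) (nat_lit 336) (nat_lit 1450) .nil)) (nat_lit 631)
  (nat_lit 321) (nat_lit 506) (.node (.node .nil (nat_lit 632) (nat_lit 288) (nat_lit 1226) .nil) (nat_lit
  633) (nat_lit 288) (nat_lit 363) .nil)) (nat_lit 634) (nat_lit 306) (nat_lit 897) (.node (.node (.node .nil
  (nat_lit 635) (nat_lit 321) (nat_lit 605) .nil) (nat_lit 636) (nat_lit 290) (nat_lit 731) (.node .nil
  (nat_lit 637) (nat_lit 192) (nat_lit 1480) .nil)) (nat_lit 638) (nat_lit 273) (nat_lit 472) (.node (.node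
  .nil (nat_lit 639) (nat_lit 354) (nat_lit 1074) .nil) (nat_lit 640) (nat_lit 242) (nat_lit 1385) .nil))))
  (nat_lit 641) (nat_lit 336) (nat_lit 1755) (.node (.node (.node (.node (.node .nil (nat_lit 642) (nat_lit
  306) (nat_lit 850) .nil) (nat_lit 643) (nat_lit 290) (nat_lit 454) (.node .nil (nat_lit 644) (nat_lit 240)
  (nat_lit 834) .nil)) (nat_lit 645) (nat_lit 322) (nat_lit 1410) (.node (.node .nil (nat_lit 646) (nat_lit
  336) (nat_lit 961) .nil) (nat_lit 647) (nat_lit 353) (nat_lit 542) .nil)) (nat_lit 648) (nat_lit 354)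
  (nat_lit 236) (.node (.node (.node .nil (nat_lit 649) (nat_lit 322) (nat_lit 185) .nil) (nat_lit 650)
  (nat_lit 353) (nat_lit 355) (.node .nil (nat_lit 651) (nat_lit 338) (nat_lit 18) .nil)) (nat_lit 652)
  (nat_lit 402) (nat_lit 416) (.node (.node .nil (nat_lit 653) (nat_lit 304) (nat_lit 1110) .nil) (nat_lit
  654) (nat_lit 337) (nat_lit 260) .nil))) (nat_lit 655) (nat_lit 321) (nat_lit 1049) (.node (.node (.node
  (.node .nil (nat_lit 656) (nat_lit 177) (nat_lit 570) .nil) (nat_lit 657) (nat_lit 274) (nat_lit 74) (.node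
  .nil (nat_lit 658) (nat_lit 354) (nat_lit 717) .nil)) (nat_lit 659) (nat_lit 290) (nat_lit 1082) (.node
  (.node .nil (nat_lit 660) (nat_lit 274) (nat_lit 1159) .nil) (nat_lit 661) (nat_lit 258) (nat_lit 1156)
  .nil)) (nat_lit 662) (nat_lit 368) (nat_lit 480) (.node (.node (.node .nil (nat_lit 663) (nat_lit 145)
  (nat_lit 222) .nil) (nat_lit 664) (nat_lit 273) (nat_lit 427) .nil) (nat_lit 665) (nat_lit 370) (nat_lit
  1291) (.node (.node .nil (nat_lit 666) (nat_lit 241) (nat_lit 668) .nil) (nat_lit 667) (nat_lit 370)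
  (nat_lit 892) .nil))))))
def x70t_6 : T := (.node (.node (.node (.node (.node (.node (.node .nil (nat_lit 669) (nat_lit 273) (nat_lit
  661) .nil) (nat_lit 670) (nat_lit 370) (nat_lit 999) (.node .nil (nat_lit 671) (nat_lit 304) (nat_lit 601)
  .nil)) (nat_lit 672) (nat_lit 352) (nat_lit 791) (.node (.node .nil (nat_lit 673) (nat_lit 289) (nat_lit
  731) .nil) (nat_lit 674) (nat_lit 162) (nat_lit 30) .nil)) (nat_lit 675) (nat_lit 242) (nat_lit 407) (.node
  (.node (.node .nil (nat_lit 676) (nat_lit 208) (nat_lit 101) .nil) (nat_lit 677) (nat_lit 304) (nat_lit 754)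
  (.node .nil (nat_lit 678) (nat_lit 113) (nat_lit 1536) .nil)) (nat_lit 679) (nat_lit 274) (nat_lit 406)
  (.node (.node .nil (nat_lit 680) (nat_lit 242) (nat_lit 531) .nil) (nat_lit 681) (nat_lit 336) (nat_lit 240)
  .nil))) (nat_lit 682) (nat_lit 241) (nat_lit 1378) (.node (.node (.node (.node .nil (nat_lit 683) (nat_lit
  306) (nat_lit 85) .nil) (nat_lit 684) (nat_lit 306) (nat_lit 409) (.node .nil (nat_lit 685) (nat_lit 273)
  (nat_lit 73) .nil)) (nat_lit 686) (nat_lit 290) (nat_lit 26) (.node (.node .nil (nat_lit 687) (nat_lit 256)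
  (nat_lit 755) .nil) (nat_lit 688) (nat_lit 336) (nat_lit 194) .nil)) (nat_lit 689) (nat_lit 321) (nat_lit
  1550) (.node (.node (.node .nil (nat_lit 690) (nat_lit 290) (nat_lit 638) .nil) (nat_lit 691) (nat_lit 369)
  (nat_lit 550) (.node .nil (nat_lit 692) (nat_lit 306) (nat_lit 464) .nil)) (nat_lit 693) (nat_lit 352)
  (nat_lit 21) (.node (.node .nil (nat_lit 694) (nat_lit 272) (nat_lit 102) .nil) (nat_lit 695) (nat_lit 370)
  (nat_lit 32) .nil)))) (nat_lit 696) (nat_lit 385) (nat_lit 981) (.node (.node (.node (.node (.node .nil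
  (nat_lit 697) (nat_lit 242) (nat_lit 524) .nil) (nat_lit 698) (nat_lit 354) (nat_lit 805) (.node .nil
  (nat_lit 699) (nat_lit 370) (nat_lit 24) .nil)) (nat_lit 700) (nat_lit 354) (nat_lit 27) (.node (.node .nil
  (nat_lit 701) (nat_lit 321) (nat_lit 790) .nil) (nat_lit 702) (nat_lit 226) (nat_lit 522) .nil)) (nat_lit
  703) (nat_lit 273) (nat_lit 1093) (.node (.node (.node .nil (nat_lit 704) (nat_lit 305) (nat_lit 331) .nil)
  (nat_lit 705) (nat_lit 306) (nat_lit 82) (.node .nil (nat_lit 706) (nat_lit 320) (nat_lit 42) .nil))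
  (nat_lit 707) (nat_lit 306) (nat_lit 526) (.node (.node .nil (nat_lit 708) (nat_lit 322) (nat_lit 653) .nil)
  (nat_lit 709) (nat_lit 338) (nat_lit 217) .nil))) (nat_lit 710) (nat_lit 160) (nat_lit 1762) (.node (.node
  (.node (.node .nil (nat_lit 711) (nat_lit 258) (nat_lit 849) .nil) (nat_lit 712) (nat_lit 274) (nat_lit
  1375) (.node .nil (nat_lit 713) (nat_lit 304) (nat_lit 1430) .nil)) (nat_lit 714) (nat_lit 320) (nat_lit
  506) (.node (.node .nil (nat_lit 715) (nat_lit 336) (nat_lit 580) .nil) (nat_lit 716) (nat_lit 273) (nat_lit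
  956) .nil)) (nat_lit 717) (nat_lit 337) (nat_lit 714) (.node (.node (.node .nil (nat_lit 718) (nat_lit 354)
  (nat_lit 1779) .nil) (nat_lit 719) (nat_lit 321) (nat_lit 77) (.node .nil (nat_lit 720) (nat_lit 258)
  (nat_lit 991) .nil)) (nat_lit 721) (nat_lit 289) (nat_lit 660) (.node (.node .nil (nat_lit 722) (nat_lit
  370) (nat_lit 1360) .nil) (nat_lit 723) (nat_lit 305) (nat_lit 686) .nil))))) (nat_lit 724) (nat_lit 352)
  (nat_lit 741) (.node (.node (.node (.node (.node (.node .nil (nat_lit 725) (nat_lit 288) (nat_lit 232) .nil)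
  (nat_lit 726) (nat_lit 368) (nat_lit 231) (.node .nil (nat_lit 727) (nat_lit 224) (nat_lit 757) .nil))
  (nat_lit 728) (nat_lit 370) (nat_lit 1023) (.node (.node .nil (nat_lit 729) (nat_lit 226) (nat_lit 1022)
  .nil) (nat_lit 730) (nat_lit 210) (nat_lit 1154) .nil)) (nat_lit 731) (nat_lit 272) (nat_lit 433) (.node
  (.node (.node .nil (nat_lit 732) (nat_lit 305) (nat_lit 690) .nil) (nat_lit 733) (nat_lit 256) (nat_lit
  1194) (.node .nil (nat_lit 734) (nat_lit 256) (nat_lit 1358) .nil)) (nat_lit 735) (nat_lit 288) (nat_lit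
  1616) (.node (.node .nil (nat_lit 736) (nat_lit 338) (nat_lit 1189) .nil) (nat_lit 737) (nat_lit 272)
  (nat_lit 114) .nil))) (nat_lit 738) (nat_lit 241) (nat_lit 423) (.node (.node (.node (.node .nil (nat_lit
  739) (nat_lit 242) (nat_lit 1285) .nil) (nat_lit 740) (nat_lit 338) (nat_lit 394) (.node .nil (nat_lit 741)
  (nat_lit 338) (nat_lit 1741) .nil)) (nat_lit 742) (nat_lit 369) (nat_lit 934) (.node (.node .nil (nat_lit
  743) (nat_lit 432) (nat_lit 99) .nil) (nat_lit 744) (nat_lit 352) (nat_lit 436) .nil)) (nat_lit 745)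
  (nat_lit 272) (nat_lit 125) (.node (.node (.node .nil (nat_lit 746) (nat_lit 258) (nat_lit 336) .nil)
  (nat_lit 747) (nat_lit 161) (nat_lit 15) (.node .nil (nat_lit 748) (nat_lit 290) (nat_lit 1361) .nil))
  (nat_lit 749) (nat_lit 258) (nat_lit 1028) (.node (.node .nil (nat_lit 750) (nat_lit 416) (nat_lit 100)
  .nil) (nat_lit 751) (nat_lit 368) (nat_lit 700) .nil)))) (nat_lit 752) (nat_lit 240) (nat_lit 761) (.node
  (.node (.node (.node (.node .nil (nat_lit 753) (nat_lit 177) (nat_lit 104) .nil) (nat_lit 754) (nat_lit 290)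
  (nat_lit 1024) (.node .nil (nat_lit 755) (nat_lit 242) (nat_lit 1026) .nil)) (nat_lit 756) (nat_lit 384)
  (nat_lit 760) (.node (.node .nil (nat_lit 757) (nat_lit 210) (nat_lit 1734) .nil) (nat_lit 758) (nat_lit
  401) (nat_lit 795) .nil)) (nat_lit 759) (nat_lit 305) (nat_lit 754) (.node (.node (.node .nil (nat_lit 760)
  (nat_lit 370) (nat_lit 544) .nil) (nat_lit 761) (nat_lit 226) (nat_lit 1359) (.node .nil (nat_lit 762)
  (nat_lit 306) (nat_lit 1029) .nil)) (nat_lit 763) (nat_lit 305) (nat_lit 725) (.node (.node .nil (nat_lit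
  764) (nat_lit 322) (nat_lit 395) .nil) (nat_lit 765) (nat_lit 336) (nat_lit 126) .nil))) (nat_lit 766)
  (nat_lit 304) (nat_lit 71) (.node (.node (.node (.node .nil (nat_lit 767) (nat_lit 337) (nat_lit 768) .nil)
  (nat_lit 768) (nat_lit 320) (nat_lit 33) (.node .nil (nat_lit 769) (nat_lit 320) (nat_lit 66) .nil))
  (nat_lit 770) (nat_lit 338) (nat_lit 1184) (.node (.node .nil (nat_lit 771) (nat_lit 338) (nat_lit 1084)
  .nil) (nat_lit 772) (nat_lit 257) (nat_lit 954) .nil)) (nat_lit 773) (nat_lit 257) (nat_lit 165) (.node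
  (.node (.node .nil (nat_lit 774) (nat_lit 354) (nat_lit 1085) .nil) (nat_lit 775) (nat_lit 178) (nat_lit
  1153) (.node .nil (nat_lit 776) (nat_lit 305) (nat_lit 748) .nil)) (nat_lit 777) (nat_lit 194) (nat_lit
  1297) (.node (.node .nil (nat_lit 778) (nat_lit 208) (nat_lit 777) .nil) (nat_lit 779) (nat_lit 290)
  (nat_lit 461) .nil))))))
def x70t_7 : T := (.node (.node (.node (.node (.node (.node (.node .nil (nat_lit 781) (nat_lit 370) (nat_lit
  1402) .nil) (nat_lit 782) (nat_lit 210) (nat_lit 1155) (.node .nil (nat_lit 783) (nat_lit 354) (nat_lit 534)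
  .nil)) (nat_lit 784) (nat_lit 274) (nat_lit 1400) (.node (.node .nil (nat_lit 785) (nat_lit 226) (nat_lit
  1384) .nil) (nat_lit 786) (nat_lit 354) (nat_lit 1059) .nil)) (nat_lit 787) (nat_lit 240) (nat_lit 906)
  (.node (.node (.node .nil (nat_lit 788) (nat_lit 338) (nat_lit 1401) .nil) (nat_lit 789) (nat_lit 240)
  (nat_lit 572) (.node .nil (nat_lit 790) (nat_lit 306) (nat_lit 1186) .nil)) (nat_lit 791) (nat_lit 338)
  (nat_lit 1188) (.node (.node .nil (nat_lit 792) (nat_lit 258) (nat_lit 1036) .nil) (nat_lit 793) (nat_lit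
  290) (nat_lit 1300) .nil))) (nat_lit 794) (nat_lit 289) (nat_lit 980) (.node (.node (.node (.node .nil
  (nat_lit 795) (nat_lit 384) (nat_lit 981) .nil) (nat_lit 796) (nat_lit 290) (nat_lit 116) (.node .nil
  (nat_lit 797) (nat_lit 353) (nat_lit 765) .nil)) (nat_lit 798) (nat_lit 273) (nat_lit 746) (.node (.node
  .nil (nat_lit 799) (nat_lit 306) (nat_lit 265) .nil) (nat_lit 800) (nat_lit 288) (nat_lit 1437) .nil))
  (nat_lit 801) (nat_lit 162) (nat_lit 1452) (.node (.node (.node .nil (nat_lit 802) (nat_lit 240) (nat_lit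
  1563) .nil) (nat_lit 803) (nat_lit 226) (nat_lit 676) (.node .nil (nat_lit 804) (nat_lit 305) (nat_lit 948)
  .nil)) (nat_lit 805) (nat_lit 337) (nat_lit 833) (.node (.node .nil (nat_lit 806) (nat_lit 354) (nat_lit
  1255) .nil) (nat_lit 807) (nat_lit 256) (nat_lit 353) .nil)))) (nat_lit 808) (nat_lit 240) (nat_lit 1562)
  (.node (.node (.node (.node (.node .nil (nat_lit 809) (nat_lit 272) (nat_lit 872) .nil) (nat_lit 810)
  (nat_lit 386) (nat_lit 1234) (.node .nil (nat_lit 811) (nat_lit 274) (nat_lit 1427) .nil)) (nat_lit 812)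
  (nat_lit 354) (nat_lit 552) (.node (.node .nil (nat_lit 813) (nat_lit 130) (nat_lit 1231) .nil) (nat_lit
  814) (nat_lit 305) (nat_lit 992) .nil)) (nat_lit 815) (nat_lit 288) (nat_lit 936) (.node (.node (.node .nil
  (nat_lit 816) (nat_lit 272) (nat_lit 932) .nil) (nat_lit 817) (nat_lit 304) (nat_lit 690) (.node .nil
  (nat_lit 818) (nat_lit 273) (nat_lit 1216) .nil)) (nat_lit 819) (nat_lit 272) (nat_lit 1331) (.node (.node
  .nil (nat_lit 820) (nat_lit 194) (nat_lit 1493) .nil) (nat_lit 821) (nat_lit 306) (nat_lit 508) .nil)))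
  (nat_lit 822) (nat_lit 289) (nat_lit 1240) (.node (.node (.node (.node .nil (nat_lit 823) (nat_lit 225)
  (nat_lit 1099) .nil) (nat_lit 824) (nat_lit 112) (nat_lit 1171) (.node .nil (nat_lit 825) (nat_lit 258)
  (nat_lit 808) .nil)) (nat_lit 826) (nat_lit 273) (nat_lit 1728) (.node (.node .nil (nat_lit 827) (nat_lit
  34) (nat_lit 568) .nil) (nat_lit 828) (nat_lit 144) (nat_lit 867) .nil)) (nat_lit 829) (nat_lit 256)
  (nat_lit 847) (.node (.node (.node .nil (nat_lit 830) (nat_lit 304) (nat_lit 925) .nil) (nat_lit 831)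
  (nat_lit 210) (nat_lit 1235) (.node .nil (nat_lit 832) (nat_lit 289) (nat_lit 357) .nil)) (nat_lit 833)
  (nat_lit 320) (nat_lit 919) (.node (.node .nil (nat_lit 834) (nat_lit 226) (nat_lit 1148) .nil) (nat_lit
  835) (nat_lit 273) (nat_lit 1292) .nil))))) (nat_lit 836) (nat_lit 304) (nat_lit 929) (.node (.node (.node
  (.node (.node (.node .nil (nat_lit 837) (nat_lit 274) (nat_lit 1424) .nil) (nat_lit 838) (nat_lit 257)
  (nat_lit 1194) (.node .nil (nat_lit 839) (nat_lit 288) (nat_lit 811) .nil)) (nat_lit 840) (nat_lit 225)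
  (nat_lit 1173) (.node (.node .nil (nat_lit 841) (nat_lit 320) (nat_lit 862) .nil) (nat_lit 842) (nat_lit
  370) (nat_lit 453) .nil)) (nat_lit 843) (nat_lit 289) (nat_lit 1437) (.node (.node (.node .nil (nat_lit 844)
  (nat_lit 256) (nat_lit 949) .nil) (nat_lit 845) (nat_lit 209) (nat_lit 1628) (.node .nil (nat_lit 846)
  (nat_lit 162) (nat_lit 1137) .nil)) (nat_lit 847) (nat_lit 242) (nat_lit 1209) (.node (.node .nil (nat_lit
  848) (nat_lit 160) (nat_lit 1130) .nil) (nat_lit 849) (nat_lit 241) (nat_lit 1603) .nil))) (nat_lit 850)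
  (nat_lit 289) (nat_lit 888) (.node (.node (.node (.node .nil (nat_lit 851) (nat_lit 338) (nat_lit 714) .nil)
  (nat_lit 852) (nat_lit 290) (nat_lit 417) (.node .nil (nat_lit 853) (nat_lit 257) (nat_lit 1545) .nil))
  (nat_lit 854) (nat_lit 226) (nat_lit 1431) (.node (.node .nil (nat_lit 855) (nat_lit 306) (nat_lit 963)
  .nil) (nat_lit 856) (nat_lit 290) (nat_lit 1587) .nil)) (nat_lit 857) (nat_lit 322) (nat_lit 1492) (.node
  (.node (.node .nil (nat_lit 858) (nat_lit 321) (nat_lit 1030) .nil) (nat_lit 859) (nat_lit 209) (nat_lit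
  1267) (.node .nil (nat_lit 860) (nat_lit 288) (nat_lit 916) .nil)) (nat_lit 861) (nat_lit 240) (nat_lit 854)
  (.node (.node .nil (nat_lit 862) (nat_lit 306) (nat_lit 1233) .nil) (nat_lit 863) (nat_lit 273) (nat_lit
  1245) .nil)))) (nat_lit 864) (nat_lit 322) (nat_lit 1229) (.node (.node (.node (.node (.node .nil (nat_lit
  865) (nat_lit 305) (nat_lit 362) .nil) (nat_lit 866) (nat_lit 288) (nat_lit 977) (.node .nil (nat_lit 867)
  (nat_lit 130) (nat_lit 824) .nil)) (nat_lit 868) (nat_lit 161) (nat_lit 1318) (.node (.node .nil (nat_lit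
  869) (nat_lit 290) (nat_lit 538) .nil) (nat_lit 870) (nat_lit 258) (nat_lit 1122) .nil)) (nat_lit 871)
  (nat_lit 321) (nat_lit 1547) (.node (.node (.node .nil (nat_lit 872) (nat_lit 258) (nat_lit 1443) .nil)
  (nat_lit 873) (nat_lit 322) (nat_lit 1239) (.node .nil (nat_lit 874) (nat_lit 368) (nat_lit 513) .nil))
  (nat_lit 875) (nat_lit 273) (nat_lit 1737) (.node (.node .nil (nat_lit 876) (nat_lit 225) (nat_lit 1160)
  .nil) (nat_lit 877) (nat_lit 48) (nat_lit 827) .nil))) (nat_lit 878) (nat_lit 306) (nat_lit 1439) (.node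
  (.node (.node (.node .nil (nat_lit 879) (nat_lit 321) (nat_lit 1353) .nil) (nat_lit 880) (nat_lit 192)
  (nat_lit 885) (.node .nil (nat_lit 881) (nat_lit 289) (nat_lit 341) .nil)) (nat_lit 882) (nat_lit 353)
  (nat_lit 1717) (.node (.node .nil (nat_lit 883) (nat_lit 320) (nat_lit 821) .nil) (nat_lit 884) (nat_lit
  402) (nat_lit 1149) .nil)) (nat_lit 885) (nat_lit 178) (nat_lit 848) (.node (.node (.node .nil (nat_lit 886)
  (nat_lit 290) (nat_lit 1635) .nil) (nat_lit 887) (nat_lit 273) (nat_lit 1643) .nil) (nat_lit 888) (nat_lit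
  274) (nat_lit 1584) (.node (.node .nil (nat_lit 889) (nat_lit 224) (nat_lit 511) .nil) (nat_lit 890)
  (nat_lit 305) (nat_lit 1271) .nil))))))
def x70t_8 : T := (.node (.node (.node (.node (.node (.node (.node .nil (nat_lit 892) (nat_lit 352) (nat_lit
  1334) .nil) (nat_lit 893) (nat_lit 336) (nat_lit 305) (.node .nil (nat_lit 894) (nat_lit 290) (nat_lit 1102)
  .nil)) (nat_lit 895) (nat_lit 290) (nat_lit 1100) (.node (.node .nil (nat_lit 896) (nat_lit 178) (nat_lit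
  1164) .nil) (nat_lit 897) (nat_lit 288) (nat_lit 923) .nil)) (nat_lit 898) (nat_lit 210) (nat_lit 1282)
  (.node (.node (.node .nil (nat_lit 899) (nat_lit 272) (nat_lit 792) .nil) (nat_lit 900) (nat_lit 290)
  (nat_lit 1281) (.node .nil (nat_lit 901) (nat_lit 241) (nat_lit 761) .nil)) (nat_lit 902) (nat_lit 305)
  (nat_lit 1193) (.node (.node .nil (nat_lit 903) (nat_lit 306) (nat_lit 1451) .nil) (nat_lit 904) (nat_lit
  177) (nat_lit 1265) .nil))) (nat_lit 905) (nat_lit 273) (nat_lit 792) (.node (.node (.node (.node .nil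
  (nat_lit 906) (nat_lit 226) (nat_lit 1099) .nil) (nat_lit 907) (nat_lit 322) (nat_lit 1202) (.node .nil
  (nat_lit 908) (nat_lit 352) (nat_lit 978) .nil)) (nat_lit 909) (nat_lit 338) (nat_lit 1449) (.node (.node
  .nil (nat_lit 910) (nat_lit 177) (nat_lit 226) .nil) (nat_lit 911) (nat_lit 354) (nat_lit 1032) .nil))
  (nat_lit 912) (nat_lit 241) (nat_lit 1043) (.node (.node (.node .nil (nat_lit 913) (nat_lit 289) (nat_lit
  694) .nil) (nat_lit 914) (nat_lit 352) (nat_lit 479) (.node .nil (nat_lit 915) (nat_lit 305) (nat_lit 1253)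
  .nil)) (nat_lit 916) (nat_lit 274) (nat_lit 1086) (.node (.node .nil (nat_lit 917) (nat_lit 321) (nat_lit
  762) .nil) (nat_lit 918) (nat_lit 193) (nat_lit 1710) .nil)))) (nat_lit 919) (nat_lit 306) (nat_lit 1454)
  (.node (.node (.node (.node (.node .nil (nat_lit 920) (nat_lit 338) (nat_lit 1305) .nil) (nat_lit 921)
  (nat_lit 176) (nat_lit 801) (.node .nil (nat_lit 922) (nat_lit 224) (nat_lit 782) .nil)) (nat_lit 923)
  (nat_lit 274) (nat_lit 452) (.node (.node .nil (nat_lit 924) (nat_lit 336) (nat_lit 645) .nil) (nat_lit 925)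
  (nat_lit 290) (nat_lit 1205) .nil)) (nat_lit 926) (nat_lit 370) (nat_lit 1063) (.node (.node (.node .nil
  (nat_lit 927) (nat_lit 242) (nat_lit 1288) .nil) (nat_lit 928) (nat_lit 288) (nat_lit 952) (.node .nil
  (nat_lit 929) (nat_lit 290) (nat_lit 1201) .nil)) (nat_lit 930) (nat_lit 370) (nat_lit 1287) (.node (.node
  .nil (nat_lit 931) (nat_lit 288) (nat_lit 935) .nil) (nat_lit 932) (nat_lit 258) (nat_lit 1138) .nil)))
  (nat_lit 933) (nat_lit 400) (nat_lit 810) (.node (.node (.node (.node .nil (nat_lit 934) (nat_lit 354)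
  (nat_lit 1270) .nil) (nat_lit 935) (nat_lit 274) (nat_lit 1062) (.node .nil (nat_lit 936) (nat_lit 274)
  (nat_lit 1204) .nil)) (nat_lit 937) (nat_lit 416) (nat_lit 884) (.node (.node .nil (nat_lit 938) (nat_lit
  242) (nat_lit 1780) .nil) (nat_lit 939) (nat_lit 370) (nat_lit 1769) .nil)) (nat_lit 940) (nat_lit 194)
  (nat_lit 1767) (.node (.node (.node .nil (nat_lit 941) (nat_lit 306) (nat_lit 1777) .nil) (nat_lit 942)
  (nat_lit 354) (nat_lit 1765) (.node .nil (nat_lit 943) (nat_lit 353) (nat_lit 182) .nil)) (nat_lit 944)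
  (nat_lit 242) (nat_lit 1395) (.node (.node .nil (nat_lit 945) (nat_lit 306) (nat_lit 1257) .nil) (nat_lit
  946) (nat_lit 338) (nat_lit 1212) .nil))))) (nat_lit 947) (nat_lit 322) (nat_lit 1261) (.node (.node (.node
  (.node (.node (.node .nil (nat_lit 948) (nat_lit 290) (nat_lit 819) .nil) (nat_lit 949) (nat_lit 242)
  (nat_lit 1404) (.node .nil (nat_lit 950) (nat_lit 289) (nat_lit 972) .nil)) (nat_lit 951) (nat_lit 225)
  (nat_lit 1243) (.node (.node .nil (nat_lit 952) (nat_lit 274) (nat_lit 1403) .nil) (nat_lit 953) (nat_lit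
  241) (nat_lit 729) .nil)) (nat_lit 954) (nat_lit 240) (nat_lit 668) (.node (.node (.node .nil (nat_lit 955)
  (nat_lit 224) (nat_lit 1565) .nil) (nat_lit 956) (nat_lit 258) (nat_lit 1211) (.node .nil (nat_lit 957)
  (nat_lit 240) (nat_lit 423) .nil)) (nat_lit 958) (nat_lit 288) (nat_lit 784) (.node (.node .nil (nat_lit
  959) (nat_lit 320) (nat_lit 960) .nil) (nat_lit 960) (nat_lit 306) (nat_lit 1253) .nil))) (nat_lit 961)
  (nat_lit 322) (nat_lit 1213) (.node (.node (.node (.node .nil (nat_lit 962) (nat_lit 224) (nat_lit 831)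
  .nil) (nat_lit 963) (nat_lit 289) (nat_lit 899) (.node .nil (nat_lit 964) (nat_lit 257) (nat_lit 957) .nil))
  (nat_lit 965) (nat_lit 369) (nat_lit 786) (.node (.node .nil (nat_lit 966) (nat_lit 274) (nat_lit 1398)
  .nil) (nat_lit 967) (nat_lit 273) (nat_lit 733) .nil)) (nat_lit 968) (nat_lit 288) (nat_lit 837) (.node
  (.node (.node .nil (nat_lit 969) (nat_lit 368) (nat_lit 911) .nil) (nat_lit 970) (nat_lit 322) (nat_lit
  1065) (.node .nil (nat_lit 971) (nat_lit 304) (nat_lit 643) .nil)) (nat_lit 972) (nat_lit 274) (nat_lit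
  1093) (.node (.node .nil (nat_lit 973) (nat_lit 306) (nat_lit 1397) .nil) (nat_lit 974) (nat_lit 129)
  (nat_lit 61) .nil)))) (nat_lit 975) (nat_lit 369) (nat_lit 698) (.node (.node (.node (.node (.node .nil
  (nat_lit 976) (nat_lit 322) (nat_lit 1030) .nil) (nat_lit 977) (nat_lit 274) (nat_lit 1140) (.node .nil
  (nat_lit 978) (nat_lit 338) (nat_lit 1407) .nil)) (nat_lit 979) (nat_lit 241) (nat_lit 1246) (.node (.node
  .nil (nat_lit 980) (nat_lit 272) (nat_lit 661) .nil) (nat_lit 981) (nat_lit 370) (nat_lit 1180) .nil))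
  (nat_lit 982) (nat_lit 242) (nat_lit 1246) (.node (.node (.node .nil (nat_lit 983) (nat_lit 352) (nat_lit
  770) .nil) (nat_lit 984) (nat_lit 272) (nat_lit 986) (.node .nil (nat_lit 985) (nat_lit 290) (nat_lit 442)
  .nil)) (nat_lit 986) (nat_lit 258) (nat_lit 1064) (.node (.node .nil (nat_lit 987) (nat_lit 304) (nat_lit
  894) .nil) (nat_lit 988) (nat_lit 306) (nat_lit 1244) .nil))) (nat_lit 989) (nat_lit 354) (nat_lit 1079)
  (.node (.node (.node (.node .nil (nat_lit 990) (nat_lit 321) (nat_lit 1362) .nil) (nat_lit 991) (nat_lit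
  241) (nat_lit 1135) (.node .nil (nat_lit 992) (nat_lit 290) (nat_lit 984) .nil)) (nat_lit 993) (nat_lit 289)
  (nat_lit 1370) (.node (.node .nil (nat_lit 994) (nat_lit 304) (nat_lit 463) .nil) (nat_lit 995) (nat_lit
  273) (nat_lit 1540) .nil)) (nat_lit 996) (nat_lit 258) (nat_lit 1145) (.node (.node (.node .nil (nat_lit
  997) (nat_lit 306) (nat_lit 1345) .nil) (nat_lit 998) (nat_lit 225) (nat_lit 1330) (.node .nil (nat_lit 999)
  (nat_lit 353) (nat_lit 681) .nil)) (nat_lit 1000) (nat_lit 322) (nat_lit 401) (.node (.node .nil (nat_lit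
  1001) (nat_lit 210) (nat_lit 138) .nil) (nat_lit 1002) (nat_lit 224) (nat_lit 1001) .nil))))))
def x70t_9 : T := (.node (.node (.node (.node (.node (.node (.node .nil (nat_lit 1004) (nat_lit 274) (nat_lit
  1350) .nil) (nat_lit 1005) (nat_lit 240) (nat_lit 58) (.node .nil (nat_lit 1006) (nat_lit 226) (nat_lit
  1346) .nil)) (nat_lit 1007) (nat_lit 305) (nat_lit 1195) (.node (.node .nil (nat_lit 1008) (nat_lit 337)
  (nat_lit 1198) .nil) (nat_lit 1009) (nat_lit 288) (nat_lit 45) .nil)) (nat_lit 1010) (nat_lit 321) (nat_lit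
  152) (.node (.node (.node .nil (nat_lit 1011) (nat_lit 337) (nat_lit 196) .nil) (nat_lit 1012) (nat_lit 241)
  (nat_lit 149) (.node .nil (nat_lit 1013) (nat_lit 402) (nat_lit 354) .nil)) (nat_lit 1014) (nat_lit 336)
  (nat_lit 1015) (.node (.node .nil (nat_lit 1015) (nat_lit 322) (nat_lit 351) .nil) (nat_lit 1016) (nat_lit
  306) (nat_lit 400) .nil))) (nat_lit 1017) (nat_lit 322) (nat_lit 160) (.node (.node (.node (.node .nil
  (nat_lit 1018) (nat_lit 338) (nat_lit 1277) .nil) (nat_lit 1019) (nat_lit 290) (nat_lit 1348) (.node .nil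
  (nat_lit 1020) (nat_lit 304) (nat_lit 223) .nil)) (nat_lit 1021) (nat_lit 256) (nat_lit 224) (.node (.node
  .nil (nat_lit 1022) (nat_lit 209) (nat_lit 585) .nil) (nat_lit 1023) (nat_lit 353) (nat_lit 1549) .nil))
  (nat_lit 1024) (nat_lit 272) (nat_lit 139) (.node (.node (.node .nil (nat_lit 1025) (nat_lit 194) (nat_lit
  435) .nil) (nat_lit 1026) (nat_lit 224) (nat_lit 169) (.node .nil (nat_lit 1027) (nat_lit 322) (nat_lit 434)
  .nil)) (nat_lit 1028) (nat_lit 241) (nat_lit 1369) (.node (.node .nil (nat_lit 1029) (nat_lit 288) (nat_lit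
  592) .nil) (nat_lit 1030) (nat_lit 304) (nat_lit 362) .nil)))) (nat_lit 1031) (nat_lit 290) (nat_lit 899)
  (.node (.node (.node (.node (.node .nil (nat_lit 1032) (nat_lit 336) (nat_lit 295) .nil) (nat_lit 1033)
  (nat_lit 240) (nat_lit 155) (.node .nil (nat_lit 1034) (nat_lit 258) (nat_lit 1310) .nil)) (nat_lit 1035)
  (nat_lit 274) (nat_lit 1502) (.node (.node .nil (nat_lit 1036) (nat_lit 240) (nat_lit 613) .nil) (nat_lit
  1037) (nat_lit 162) (nat_lit 663) .nil)) (nat_lit 1038) (nat_lit 368) (nat_lit 586) (.node (.node (.node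
  .nil (nat_lit 1039) (nat_lit 322) (nat_lit 1499) .nil) (nat_lit 1040) (nat_lit 306) (nat_lit 881) (.node
  .nil (nat_lit 1041) (nat_lit 354) (nat_lit 715) .nil)) (nat_lit 1042) (nat_lit 257) (nat_lit 680) (.node
  (.node .nil (nat_lit 1043) (nat_lit 226) (nat_lit 1466) .nil) (nat_lit 1044) (nat_lit 322) (nat_lit 605)
  .nil))) (nat_lit 1045) (nat_lit 161) (nat_lit 559) (.node (.node (.node (.node .nil (nat_lit 1046) (nat_lit
  224) (nat_lit 1048) .nil) (nat_lit 1047) (nat_lit 320) (nat_lit 1049) (.node .nil (nat_lit 1048) (nat_lit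
  210) (nat_lit 356) .nil)) (nat_lit 1049) (nat_lit 306) (nat_lit 399) (.node (.node .nil (nat_lit 1050)
  (nat_lit 305) (nat_lit 1095) .nil) (nat_lit 1051) (nat_lit 336) (nat_lit 148) .nil)) (nat_lit 1052) (nat_lit
  321) (nat_lit 1114) (.node (.node (.node .nil (nat_lit 1053) (nat_lit 370) (nat_lit 1142) .nil) (nat_lit
  1054) (nat_lit 274) (nat_lit 1056) (.node .nil (nat_lit 1055) (nat_lit 273) (nat_lit 1773) .nil)) (nat_lit
  1056) (nat_lit 256) (nat_lit 263) (.node (.node .nil (nat_lit 1057) (nat_lit 305) (nat_lit 1602) .nil)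
  (nat_lit 1058) (nat_lit 272) (nat_lit 1329) .nil))))) (nat_lit 1059) (nat_lit 336) (nat_lit 1667) (.node
  (.node (.node (.node (.node (.node .nil (nat_lit 1060) (nat_lit 322) (nat_lit 902) .nil) (nat_lit 1061)
  (nat_lit 354) (nat_lit 1467) (.node .nil (nat_lit 1062) (nat_lit 256) (nat_lit 348) .nil)) (nat_lit 1063)
  (nat_lit 353) (nat_lit 641) (.node (.node .nil (nat_lit 1064) (nat_lit 241) (nat_lit 1563) .nil) (nat_lit
  1065) (nat_lit 305) (nat_lit 1009) .nil)) (nat_lit 1066) (nat_lit 210) (nat_lit 1598) (.node (.node (.node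
  .nil (nat_lit 1067) (nat_lit 65) (nat_lit 877) .nil) (nat_lit 1068) (nat_lit 321) (nat_lit 1020) (.node .nil
  (nat_lit 1069) (nat_lit 337) (nat_lit 158) .nil)) (nat_lit 1070) (nat_lit 274) (nat_lit 1552) (.node (.node
  .nil (nat_lit 1071) (nat_lit 338) (nat_lit 917) .nil) (nat_lit 1072) (nat_lit 240) (nat_lit 1326) .nil)))
  (nat_lit 1073) (nat_lit 353) (nat_lit 1018) (.node (.node (.node (.node .nil (nat_lit 1074) (nat_lit 337)
  (nat_lit 1305) .nil) (nat_lit 1075) (nat_lit 289) (nat_lit 1684) (.node .nil (nat_lit 1076) (nat_lit 256)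
  (nat_lit 1383) .nil)) (nat_lit 1077) (nat_lit 225) (nat_lit 615) (.node (.node .nil (nat_lit 1078) (nat_lit
  322) (nat_lit 971) .nil) (nat_lit 1079) (nat_lit 336) (nat_lit 1336) .nil)) (nat_lit 1080) (nat_lit 338)
  (nat_lit 883) (.node (.node (.node .nil (nat_lit 1081) (nat_lit 162) (nat_lit 1566) .nil) (nat_lit 1082)
  (nat_lit 272) (nat_lit 297) (.node .nil (nat_lit 1083) (nat_lit 322) (nat_lit 671) .nil)) (nat_lit 1084)
  (nat_lit 321) (nat_lit 395) (.node (.node .nil (nat_lit 1085) (nat_lit 337) (nat_lit 346) .nil) (nat_lit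
  1086) (nat_lit 256) (nat_lit 317) .nil)))) (nat_lit 1087) (nat_lit 322) (nat_lit 471) (.node (.node (.node
  (.node (.node .nil (nat_lit 1088) (nat_lit 354) (nat_lit 1311) .nil) (nat_lit 1089) (nat_lit 210) (nat_lit
  1591) (.node .nil (nat_lit 1090) (nat_lit 242) (nat_lit 922) .nil)) (nat_lit 1091) (nat_lit 336) (nat_lit
  1712) (.node (.node .nil (nat_lit 1092) (nat_lit 337) (nat_lit 708) .nil) (nat_lit 1093) (nat_lit 256)
  (nat_lit 325) .nil)) (nat_lit 1094) (nat_lit 145) (nat_lit 867) (.node (.node (.node .nil (nat_lit 1095)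
  (nat_lit 290) (nat_lit 980) .nil) (nat_lit 1096) (nat_lit 338) (nat_lit 1557) (.node .nil (nat_lit 1097)
  (nat_lit 242) (nat_lit 600) .nil)) (nat_lit 1098) (nat_lit 210) (nat_lit 504) (.node (.node .nil (nat_lit
  1099) (nat_lit 208) (nat_lit 1652) .nil) (nat_lit 1100) (nat_lit 273) (nat_lit 1582) .nil))) (nat_lit 1101)
  (nat_lit 258) (nat_lit 738) (.node (.node (.node (.node .nil (nat_lit 1102) (nat_lit 273) (nat_lit 1332)
  .nil) (nat_lit 1103) (nat_lit 290) (nat_lit 905) (.node .nil (nat_lit 1104) (nat_lit 353) (nat_lit 110)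
  .nil)) (nat_lit 1105) (nat_lit 242) (nat_lit 443) (.node (.node .nil (nat_lit 1106) (nat_lit 289) (nat_lit
  142) .nil) (nat_lit 1107) (nat_lit 290) (nat_lit 669) .nil)) (nat_lit 1108) (nat_lit 257) (nat_lit 1005)
  (.node (.node (.node .nil (nat_lit 1109) (nat_lit 209) (nat_lit 1559) .nil) (nat_lit 1110) (nat_lit 290)
  (nat_lit 737) .nil) (nat_lit 1111) (nat_lit 305) (nat_lit 265) (.node (.node .nil (nat_lit 1112) (nat_lit
  322) (nat_lit 1590) .nil) (nat_lit 1113) (nat_lit 321) (nat_lit 817) .nil))))))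
def x70t_10 : T := (.node (.node (.node (.node (.node (.node (.node .nil (nat_lit 1115) (nat_lit 368) (nat_lit
  1749) .nil) (nat_lit 1116) (nat_lit 306) (nat_lit 735) (.node .nil (nat_lit 1117) (nat_lit 322) (nat_lit
  1585) .nil)) (nat_lit 1118) (nat_lit 290) (nat_lit 1495) (.node (.node .nil (nat_lit 1119) (nat_lit 240)
  (nat_lit 1720) .nil) (nat_lit 1120) (nat_lit 242) (nat_lit 889) .nil)) (nat_lit 1121) (nat_lit 274) (nat_lit
  1497) (.node (.node (.node .nil (nat_lit 1122) (nat_lit 241) (nat_lit 613) .nil) (nat_lit 1123) (nat_lit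
  226) (nat_lit 1478) (.node .nil (nat_lit 1124) (nat_lit 288) (nat_lit 1147) .nil)) (nat_lit 1125) (nat_lit
  258) (nat_lit 979) (.node (.node .nil (nat_lit 1126) (nat_lit 272) (nat_lit 1335) .nil) (nat_lit 1127)
  (nat_lit 384) (nat_lit 313) .nil))) (nat_lit 1128) (nat_lit 353) (nat_lit 1334) (.node (.node (.node (.node
  .nil (nat_lit 1129) (nat_lit 129) (nat_lit 824) .nil) (nat_lit 1130) (nat_lit 146) (nat_lit 347) (.node .nil
  (nat_lit 1131) (nat_lit 161) (nat_lit 828) .nil)) (nat_lit 1132) (nat_lit 337) (nat_lit 305) (.node (.node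
  .nil (nat_lit 1133) (nat_lit 288) (nat_lit 1647) .nil) (nat_lit 1134) (nat_lit 338) (nat_lit 879) .nil))
  (nat_lit 1135) (nat_lit 226) (nat_lit 859) (.node (.node (.node .nil (nat_lit 1136) (nat_lit 226) (nat_lit
  344) .nil) (nat_lit 1137) (nat_lit 145) (nat_lit 588) (.node .nil (nat_lit 1138) (nat_lit 241) (nat_lit 296)
  .nil)) (nat_lit 1139) (nat_lit 242) (nat_lit 876) (.node (.node .nil (nat_lit 1140) (nat_lit 257) (nat_lit
  619) .nil) (nat_lit 1141) (nat_lit 337) (nat_lit 620) .nil)))) (nat_lit 1142) (nat_lit 353) (nat_lit 1032)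
  (.node (.node (.node (.node (.node .nil (nat_lit 1143) (nat_lit 369) (nat_lit 1402) .nil) (nat_lit 1144)
  (nat_lit 114) (nat_lit 587) (.node .nil (nat_lit 1145) (nat_lit 241) (nat_lit 1633) .nil)) (nat_lit 1146)
  (nat_lit 448) (nat_lit 1276) (.node (.node .nil (nat_lit 1147) (nat_lit 274) (nat_lit 622) .nil) (nat_lit
  1148) (nat_lit 209) (nat_lit 1740) .nil)) (nat_lit 1149) (nat_lit 384) (nat_lit 350) (.node (.node (.node
  .nil (nat_lit 1150) (nat_lit 384) (nat_lit 372) .nil) (nat_lit 1151) (nat_lit 338) (nat_lit 1558) (.node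
  .nil (nat_lit 1152) (nat_lit 258) (nat_lit 787) .nil)) (nat_lit 1153) (nat_lit 161) (nat_lit 1762) (.node
  (.node .nil (nat_lit 1154) (nat_lit 192) (nat_lit 1668) .nil) (nat_lit 1155) (nat_lit 193) (nat_lit 1620)
  .nil))) (nat_lit 1156) (nat_lit 240) (nat_lit 296) (.node (.node (.node (.node .nil (nat_lit 1157) (nat_lit
  194) (nat_lit 1553) .nil) (nat_lit 1158) (nat_lit 288) (nat_lit 1307) (.node .nil (nat_lit 1159) (nat_lit
  256) (nat_lit 299) .nil)) (nat_lit 1160) (nat_lit 210) (nat_lit 1672) (.node (.node .nil (nat_lit 1161)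
  (nat_lit 290) (nat_lit 281) .nil) (nat_lit 1162) (nat_lit 241) (nat_lit 1123) .nil)) (nat_lit 1163) (nat_lit
  194) (nat_lit 904) (.node (.node (.node .nil (nat_lit 1164) (nat_lit 160) (nat_lit 1324) .nil) (nat_lit
  1165) (nat_lit 258) (nat_lit 802) (.node .nil (nat_lit 1166) (nat_lit 274) (nat_lit 472) .nil)) (nat_lit
  1167) (nat_lit 305) (nat_lit 1588) (.node (.node .nil (nat_lit 1168) (nat_lit 322) (nat_lit 890) .nil)
  (nat_lit 1169) (nat_lit 322) (nat_lit 1505) .nil))))) (nat_lit 1170) (nat_lit 240) (nat_lit 1135) (.node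
  (.node (.node (.node (.node (.node .nil (nat_lit 1171) (nat_lit 98) (nat_lit 1663) .nil) (nat_lit 1172)
  (nat_lit 288) (nat_lit 283) (.node .nil (nat_lit 1173) (nat_lit 210) (nat_lit 1559) .nil)) (nat_lit 1174)
  (nat_lit 130) (nat_lit 124) (.node (.node .nil (nat_lit 1175) (nat_lit 354) (nat_lit 1661) .nil) (nat_lit
  1176) (nat_lit 210) (nat_lit 1314) .nil)) (nat_lit 1177) (nat_lit 289) (nat_lit 1313) (.node (.node (.node
  .nil (nat_lit 1178) (nat_lit 304) (nat_lit 523) .nil) (nat_lit 1179) (nat_lit 353) (nat_lit 1206) (.node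
  .nil (nat_lit 1180) (nat_lit 353) (nat_lit 1433) .nil)) (nat_lit 1181) (nat_lit 274) (nat_lit 964) (.node
  (.node .nil (nat_lit 1182) (nat_lit 322) (nat_lit 987) .nil) (nat_lit 1183) (nat_lit 258) (nat_lit 1555)
  .nil))) (nat_lit 1184) (nat_lit 321) (nat_lit 1116) (.node (.node (.node (.node .nil (nat_lit 1185) (nat_lit
  304) (nat_lit 367) .nil) (nat_lit 1186) (nat_lit 288) (nat_lit 569) (.node .nil (nat_lit 1187) (nat_lit 242)
  (nat_lit 418) .nil)) (nat_lit 1188) (nat_lit 320) (nat_lit 1357) (.node (.node .nil (nat_lit 1189) (nat_lit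
  320) (nat_lit 1746) .nil) (nat_lit 1190) (nat_lit 369) (nat_lit 513) .nil)) (nat_lit 1191) (nat_lit 353)
  (nat_lit 589) (.node (.node (.node .nil (nat_lit 1192) (nat_lit 194) (nat_lit 1475) .nil) (nat_lit 1193)
  (nat_lit 290) (nat_lit 1487) (.node .nil (nat_lit 1194) (nat_lit 242) (nat_lit 591) .nil)) (nat_lit 1195)
  (nat_lit 288) (nat_lit 1411) (.node (.node .nil (nat_lit 1196) (nat_lit 385) (nat_lit 1053) .nil) (nat_lit
  1197) (nat_lit 353) (nat_lit 1051) .nil)))) (nat_lit 1198) (nat_lit 320) (nat_lit 292) (.node (.node (.node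
  (.node (.node .nil (nat_lit 1199) (nat_lit 290) (nat_lit 809) .nil) (nat_lit 1200) (nat_lit 290) (nat_lit
  863) (.node .nil (nat_lit 1201) (nat_lit 273) (nat_lit 1498) .nil)) (nat_lit 1202) (nat_lit 305) (nat_lit
  1430) (.node (.node .nil (nat_lit 1203) (nat_lit 194) (nat_lit 921) .nil) (nat_lit 1204) (nat_lit 257)
  (nat_lit 532) .nil)) (nat_lit 1205) (nat_lit 273) (nat_lit 555) (.node (.node (.node .nil (nat_lit 1206)
  (nat_lit 338) (nat_lit 833) .nil) (nat_lit 1207) (nat_lit 306) (nat_lit 843) (.node .nil (nat_lit 1208)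
  (nat_lit 289) (nat_lit 1391) .nil)) (nat_lit 1209) (nat_lit 224) (nat_lit 1680) (.node (.node .nil (nat_lit
  1210) (nat_lit 288) (nat_lit 1679) .nil) (nat_lit 1211) (nat_lit 240) (nat_lit 1136) .nil))) (nat_lit 1212)
  (nat_lit 321) (nat_lit 1519) (.node (.node (.node (.node .nil (nat_lit 1213) (nat_lit 305) (nat_lit 562)
  .nil) (nat_lit 1214) (nat_lit 338) (nat_lit 578) (.node .nil (nat_lit 1215) (nat_lit 242) (nat_lit 955)
  .nil)) (nat_lit 1216) (nat_lit 256) (nat_lit 1542) (.node (.node .nil (nat_lit 1217) (nat_lit 336) (nat_lit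
  649) .nil) (nat_lit 1218) (nat_lit 337) (nat_lit 873) .nil)) (nat_lit 1219) (nat_lit 178) (nat_lit 868)
  (.node (.node (.node .nil (nat_lit 1220) (nat_lit 290) (nat_lit 1275) .nil) (nat_lit 1221) (nat_lit 321)
  (nat_lit 1460) (.node .nil (nat_lit 1222) (nat_lit 370) (nat_lit 1511) .nil)) (nat_lit 1223) (nat_lit 113)
  (nat_lit 512) (.node (.node .nil (nat_lit 1224) (nat_lit 208) (nat_lit 1759) .nil) (nat_lit 1225) (nat_lit
  306) (nat_lit 1486) .nil))))))
def x70t_11 : T := (.node (.node (.node (.node (.node (.node (.node .nil (nat_lit 1227) (nat_lit 322) (nat_lit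
  814) .nil) (nat_lit 1228) (nat_lit 322) (nat_lit 817) (.node .nil (nat_lit 1229) (nat_lit 305) (nat_lit
  1688) .nil)) (nat_lit 1230) (nat_lit 66) (nat_lit 877) (.node (.node .nil (nat_lit 1231) (nat_lit 113)
  (nat_lit 1171) .nil) (nat_lit 1232) (nat_lit 290) (nat_lit 835) .nil)) (nat_lit 1233) (nat_lit 289) (nat_lit
  1462) (.node (.node (.node .nil (nat_lit 1234) (nat_lit 369) (nat_lit 1494) .nil) (nat_lit 1235) (nat_lit
  193) (nat_lit 1668) (.node .nil (nat_lit 1236) (nat_lit 288) (nat_lit 657) .nil)) (nat_lit 1237) (nat_lit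
  290) (nat_lit 1313) (.node (.node .nil (nat_lit 1238) (nat_lit 272) (nat_lit 1582) .nil) (nat_lit 1239)
  (nat_lit 305) (nat_lit 897) .nil))) (nat_lit 1240) (nat_lit 272) (nat_lit 1728) (.node (.node (.node (.node
  .nil (nat_lit 1241) (nat_lit 370) (nat_lit 1494) .nil) (nat_lit 1242) (nat_lit 224) (nat_lit 1758) (.node
  .nil (nat_lit 1243) (nat_lit 208) (nat_lit 1628) .nil)) (nat_lit 1244) (nat_lit 288) (nat_lit 1621) (.node
  (.node .nil (nat_lit 1245) (nat_lit 258) (nat_lit 644) .nil) (nat_lit 1246) (nat_lit 224) (nat_lit 1160)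
  .nil)) (nat_lit 1247) (nat_lit 208) (nat_lit 1337) (.node (.node (.node .nil (nat_lit 1248) (nat_lit 210)
  (nat_lit 424) .nil) (nat_lit 1249) (nat_lit 274) (nat_lit 444) (.node .nil (nat_lit 1250) (nat_lit 304)
  (nat_lit 405) .nil)) (nat_lit 1251) (nat_lit 338) (nat_lit 959) (.node (.node .nil (nat_lit 1252) (nat_lit
  273) (nat_lit 872) .nil) (nat_lit 1253) (nat_lit 288) (nat_lit 357) .nil)))) (nat_lit 1254) (nat_lit 146)
  (nat_lit 974) (.node (.node (.node (.node (.node .nil (nat_lit 1255) (nat_lit 337) (nat_lit 961) .nil)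
  (nat_lit 1256) (nat_lit 290) (nat_lit 1470) (.node .nil (nat_lit 1257) (nat_lit 289) (nat_lit 592) .nil))
  (nat_lit 1258) (nat_lit 256) (nat_lit 1381) (.node (.node .nil (nat_lit 1259) (nat_lit 178) (nat_lit 570)
  .nil) (nat_lit 1260) (nat_lit 272) (nat_lit 1540) .nil)) (nat_lit 1261) (nat_lit 305) (nat_lit 98) (.node
  (.node (.node .nil (nat_lit 1262) (nat_lit 274) (nat_lit 1510) .nil) (nat_lit 1263) (nat_lit 338) (nat_lit
  1429) (.node .nil (nat_lit 1264) (nat_lit 304) (nat_lit 1744) .nil)) (nat_lit 1265) (nat_lit 162) (nat_lit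
  1318) (.node (.node .nil (nat_lit 1266) (nat_lit 304) (nat_lit 1707) .nil) (nat_lit 1267) (nat_lit 192)
  (nat_lit 1710) .nil))) (nat_lit 1268) (nat_lit 320) (nat_lit 1435) (.node (.node (.node (.node .nil (nat_lit
  1269) (nat_lit 368) (nat_lit 1175) .nil) (nat_lit 1270) (nat_lit 337) (nat_lit 1650) (.node .nil (nat_lit
  1271) (nat_lit 290) (nat_lit 1639) .nil)) (nat_lit 1272) (nat_lit 386) (nat_lit 1143) (.node (.node .nil
  (nat_lit 1273) (nat_lit 226) (nat_lit 778) .nil) (nat_lit 1274) (nat_lit 352) (nat_lit 403) .nil)) (nat_lit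
  1275) (nat_lit 272) (nat_lit 558) (.node (.node (.node .nil (nat_lit 1276) (nat_lit 434) (nat_lit 937) .nil)
  (nat_lit 1277) (nat_lit 320) (nat_lit 1460) (.node .nil (nat_lit 1278) (nat_lit 354) (nat_lit 1051) .nil))
  (nat_lit 1279) (nat_lit 258) (nat_lit 1005) (.node (.node .nil (nat_lit 1280) (nat_lit 321) (nat_lit 1539)
  .nil) (nat_lit 1281) (nat_lit 273) (nat_lit 1165) .nil))))) (nat_lit 1282) (nat_lit 192) (nat_lit 608)
  (.node (.node (.node (.node (.node (.node .nil (nat_lit 1283) (nat_lit 209) (nat_lit 820) .nil) (nat_lit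
  1284) (nat_lit 370) (nat_lit 914) (.node .nil (nat_lit 1285) (nat_lit 225) (nat_lit 1459) .nil)) (nat_lit
  1286) (nat_lit 337) (nat_lit 1741) (.node (.node .nil (nat_lit 1287) (nat_lit 352) (nat_lit 1343) .nil)
  (nat_lit 1288) (nat_lit 224) (nat_lit 1308) .nil)) (nat_lit 1289) (nat_lit 289) (nat_lit 1653) (.node (.node
  (.node .nil (nat_lit 1290) (nat_lit 306) (nat_lit 913) .nil) (nat_lit 1291) (nat_lit 353) (nat_lit 924)
  (.node .nil (nat_lit 1292) (nat_lit 258) (nat_lit 421) .nil)) (nat_lit 1293) (nat_lit 241) (nat_lit 955)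
  (.node (.node .nil (nat_lit 1294) (nat_lit 290) (nat_lit 541) .nil) (nat_lit 1295) (nat_lit 402) (nat_lit
  422) .nil))) (nat_lit 1296) (nat_lit 321) (nat_lit 520) (.node (.node (.node (.node .nil (nat_lit 1297)
  (nat_lit 176) (nat_lit 1632) .nil) (nat_lit 1298) (nat_lit 210) (nat_lit 501) (.node .nil (nat_lit 1299)
  (nat_lit 242) (nat_lit 420) .nil)) (nat_lit 1300) (nat_lit 273) (nat_lit 297) (.node (.node .nil (nat_lit
  1301) (nat_lit 258) (nat_lit 912) .nil) (nat_lit 1302) (nat_lit 353) (nat_lit 1151) .nil)) (nat_lit 1303)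
  (nat_lit 336) (nat_lit 1341) (.node (.node (.node .nil (nat_lit 1304) (nat_lit 418) (nat_lit 933) .nil)
  (nat_lit 1305) (nat_lit 320) (nat_lit 271) (.node .nil (nat_lit 1306) (nat_lit 289) (nat_lit 1238) .nil))
  (nat_lit 1307) (nat_lit 274) (nat_lit 612) (.node (.node .nil (nat_lit 1308) (nat_lit 210) (nat_lit 1374)
  .nil) (nat_lit 1309) (nat_lit 194) (nat_lit 333) .nil)))) (nat_lit 1310) (nat_lit 241) (nat_lit 1720) (.node
  (.node (.node (.node (.node .nil (nat_lit 1311) (nat_lit 337) (nat_lit 295) .nil) (nat_lit 1312) (nat_lit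
  386) (nat_lit 1115) (.node .nil (nat_lit 1313) (nat_lit 272) (nat_lit 1279) .nil)) (nat_lit 1314) (nat_lit
  192) (nat_lit 553) (.node (.node .nil (nat_lit 1315) (nat_lit 338) (nat_lit 1068) .nil) (nat_lit 1316)
  (nat_lit 304) (nat_lit 992) .nil)) (nat_lit 1317) (nat_lit 336) (nat_lit 1347) (.node (.node (.node .nil
  (nat_lit 1318) (nat_lit 144) (nat_lit 1174) .nil) (nat_lit 1319) (nat_lit 256) (nat_lit 1187) (.node .nil
  (nat_lit 1320) (nat_lit 336) (nat_lit 1477) .nil)) (nat_lit 1321) (nat_lit 306) (nat_lit 1236) (.node (.node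
  .nil (nat_lit 1322) (nat_lit 320) (nat_lit 1519) .nil) (nat_lit 1323) (nat_lit 304) (nat_lit 1200) .nil)))
  (nat_lit 1324) (nat_lit 146) (nat_lit 1129) (.node (.node (.node (.node .nil (nat_lit 1325) (nat_lit 336)
  (nat_lit 1087) .nil) (nat_lit 1326) (nat_lit 226) (nat_lit 1328) (.node .nil (nat_lit 1327) (nat_lit 257)
  (nat_lit 1215) .nil)) (nat_lit 1328) (nat_lit 209) (nat_lit 1157) (.node (.node .nil (nat_lit 1329) (nat_lit
  258) (nat_lit 611) .nil) (nat_lit 1330) (nat_lit 208) (nat_lit 1157) .nil)) (nat_lit 1331) (nat_lit 258)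
  (nat_lit 339) (.node (.node (.node .nil (nat_lit 1332) (nat_lit 256) (nat_lit 1215) .nil) (nat_lit 1333)
  (nat_lit 306) (nat_lit 614) .nil) (nat_lit 1334) (nat_lit 338) (nat_lit 159) (.node (.node .nil (nat_lit
  1335) (nat_lit 258) (nat_lit 618) .nil) (nat_lit 1336) (nat_lit 322) (nat_lit 621) .nil))))))
def x70t_12 : T := (.node (.node (.node (.node (.node (.node (.node .nil (nat_lit 1338) (nat_lit 224) (nat_lit
  1248) .nil) (nat_lit 1339) (nat_lit 321) (nat_lit 855) (.node .nil (nat_lit 1340) (nat_lit 290) (nat_lit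
  1371) .nil)) (nat_lit 1341) (nat_lit 322) (nat_lit 1368) (.node (.node .nil (nat_lit 1342) (nat_lit 401)
  (nat_lit 1312) .nil) (nat_lit 1343) (nat_lit 338) (nat_lit 1339) .nil)) (nat_lit 1344) (nat_lit 338)
  (nat_lit 1052) (.node (.node (.node .nil (nat_lit 1345) (nat_lit 289) (nat_lit 1147) .nil) (nat_lit 1346)
  (nat_lit 209) (nat_lit 1309) (.node .nil (nat_lit 1347) (nat_lit 322) (nat_lit 1020) .nil)) (nat_lit 1348)
  (nat_lit 273) (nat_lit 1584) (.node (.node .nil (nat_lit 1349) (nat_lit 306) (nat_lit 1009) .nil) (nat_lit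
  1350) (nat_lit 257) (nat_lit 1358) .nil))) (nat_lit 1351) (nat_lit 322) (nat_lit 1050) (.node (.node (.node
  (.node .nil (nat_lit 1352) (nat_lit 322) (nat_lit 610) .nil) (nat_lit 1353) (nat_lit 304) (nat_lit 1199)
  (.node .nil (nat_lit 1354) (nat_lit 274) (nat_lit 1327) .nil)) (nat_lit 1355) (nat_lit 337) (nat_lit 1117)
  (.node (.node .nil (nat_lit 1356) (nat_lit 272) (nat_lit 825) .nil) (nat_lit 1357) (nat_lit 306) (nat_lit
  1306) .nil)) (nat_lit 1358) (nat_lit 242) (nat_lit 727) (.node (.node (.node .nil (nat_lit 1359) (nat_lit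
  209) (nat_lit 584) .nil) (nat_lit 1360) (nat_lit 352) (nat_lit 1592) (.node .nil (nat_lit 1361) (nat_lit
  272) (nat_lit 1498) .nil)) (nat_lit 1362) (nat_lit 304) (nat_lit 1442) (.node (.node .nil (nat_lit 1363)
  (nat_lit 130) (nat_lit 475) .nil) (nat_lit 1364) (nat_lit 320) (nat_lit 1349) .nil)))) (nat_lit 1365)
  (nat_lit 242) (nat_lit 449) (.node (.node (.node (.node (.node .nil (nat_lit 1366) (nat_lit 354) (nat_lit
  1091) .nil) (nat_lit 1367) (nat_lit 240) (nat_lit 1419) (.node .nil (nat_lit 1368) (nat_lit 305) (nat_lit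
  1237) .nil)) (nat_lit 1369) (nat_lit 226) (nat_lit 615) (.node (.node .nil (nat_lit 1370) (nat_lit 272)
  (nat_lit 473) .nil) (nat_lit 1371) (nat_lit 273) (nat_lit 557) .nil)) (nat_lit 1372) (nat_lit 273) (nat_lit
  309) (.node (.node (.node .nil (nat_lit 1373) (nat_lit 288) (nat_lit 1391) .nil) (nat_lit 1374) (nat_lit
  193) (nat_lit 608) (.node .nil (nat_lit 1375) (nat_lit 256) (nat_lit 1416) .nil)) (nat_lit 1376) (nat_lit
  289) (nat_lit 1058) (.node (.node .nil (nat_lit 1377) (nat_lit 178) (nat_lit 616) .nil) (nat_lit 1378)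
  (nat_lit 224) (nat_lit 1447) .nil))) (nat_lit 1379) (nat_lit 305) (nat_lit 1029) (.node (.node (.node (.node
  .nil (nat_lit 1380) (nat_lit 321) (nat_lit 683) .nil) (nat_lit 1381) (nat_lit 242) (nat_lit 343) (.node .nil
  (nat_lit 1382) (nat_lit 193) (nat_lit 896) .nil)) (nat_lit 1383) (nat_lit 242) (nat_lit 383) (.node (.node
  .nil (nat_lit 1384) (nat_lit 209) (nat_lit 1282) .nil) (nat_lit 1385) (nat_lit 225) (nat_lit 1298) .nil))
  (nat_lit 1386) (nat_lit 274) (nat_lit 1216) (.node (.node (.node .nil (nat_lit 1387) (nat_lit 242) (nat_lit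
  1242) .nil) (nat_lit 1388) (nat_lit 321) (nat_lit 1333) (.node .nil (nat_lit 1389) (nat_lit 386) (nat_lit
  969) .nil)) (nat_lit 1390) (nat_lit 353) (nat_lit 1317) (.node (.node .nil (nat_lit 1391) (nat_lit 274)
  (nat_lit 773) .nil) (nat_lit 1392) (nat_lit 322) (nat_lit 776) .nil))))) (nat_lit 1393) (nat_lit 258)
  (nat_lit 953) (.node (.node (.node (.node (.node (.node .nil (nat_lit 1394) (nat_lit 304) (nat_lit 121)
  .nil) (nat_lit 1395) (nat_lit 225) (nat_lit 344) (.node .nil (nat_lit 1396) (nat_lit 306) (nat_lit 958)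
  .nil)) (nat_lit 1397) (nat_lit 289) (nat_lit 1415) (.node (.node .nil (nat_lit 1398) (nat_lit 257) (nat_lit
  1097) .nil) (nat_lit 1399) (nat_lit 274) (nat_lit 772) .nil)) (nat_lit 1400) (nat_lit 257) (nat_lit 1593)
  (.node (.node (.node .nil (nat_lit 1401) (nat_lit 321) (nat_lit 1178) .nil) (nat_lit 1402) (nat_lit 352)
  (nat_lit 322) (.node .nil (nat_lit 1403) (nat_lit 257) (nat_lit 263) .nil)) (nat_lit 1404) (nat_lit 225)
  (nat_lit 169) (.node (.node .nil (nat_lit 1405) (nat_lit 273) (nat_lit 996) .nil) (nat_lit 1406) (nat_lit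
  305) (nat_lit 1019) .nil))) (nat_lit 1407) (nat_lit 321) (nat_lit 684) (.node (.node (.node (.node .nil
  (nat_lit 1408) (nat_lit 306) (nat_lit 968) .nil) (nat_lit 1409) (nat_lit 242) (nat_lit 951) (.node .nil
  (nat_lit 1410) (nat_lit 304) (nat_lit 331) .nil)) (nat_lit 1411) (nat_lit 274) (nat_lit 191) (.node (.node
  .nil (nat_lit 1412) (nat_lit 304) (nat_lit 441) .nil) (nat_lit 1413) (nat_lit 354) (nat_lit 186) .nil))
  (nat_lit 1414) (nat_lit 386) (nat_lit 183) (.node (.node (.node .nil (nat_lit 1415) (nat_lit 274) (nat_lit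
  829) .nil) (nat_lit 1416) (nat_lit 242) (nat_lit 840) (.node .nil (nat_lit 1417) (nat_lit 290) (nat_lit 816)
  .nil)) (nat_lit 1418) (nat_lit 274) (nat_lit 838) (.node (.node .nil (nat_lit 1419) (nat_lit 226) (nat_lit
  845) .nil) (nat_lit 1420) (nat_lit 304) (nat_lit 1161) .nil)))) (nat_lit 1421) (nat_lit 290) (nat_lit 826)
  (.node (.node (.node (.node (.node .nil (nat_lit 1422) (nat_lit 321) (nat_lit 1581) .nil) (nat_lit 1423)
  (nat_lit 273) (nat_lit 1329) (.node .nil (nat_lit 1424) (nat_lit 257) (nat_lit 1387) .nil)) (nat_lit 1425)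
  (nat_lit 306) (nat_lit 815) (.node (.node .nil (nat_lit 1426) (nat_lit 322) (nat_lit 836) .nil) (nat_lit
  1427) (nat_lit 257) (nat_lit 517) .nil)) (nat_lit 1428) (nat_lit 162) (nat_lit 828) (.node (.node (.node
  .nil (nat_lit 1429) (nat_lit 321) (nat_lit 1357) .nil) (nat_lit 1430) (nat_lit 290) (nat_lit 1238) (.node
  .nil (nat_lit 1431) (nat_lit 209) (nat_lit 880) .nil)) (nat_lit 1432) (nat_lit 321) (nat_lit 919) (.node
  (.node .nil (nat_lit 1433) (nat_lit 336) (nat_lit 1468) .nil) (nat_lit 1434) (nat_lit 81) (nat_lit 1230)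
  .nil))) (nat_lit 1435) (nat_lit 306) (nat_lit 323) (.node (.node (.node (.node .nil (nat_lit 1436) (nat_lit
  208) (nat_lit 474) .nil) (nat_lit 1437) (nat_lit 274) (nat_lit 734) (.node .nil (nat_lit 1438) (nat_lit 306)
  (nat_lit 866) .nil)) (nat_lit 1439) (nat_lit 289) (nat_lit 936) (.node (.node .nil (nat_lit 1440) (nat_lit
  240) (nat_lit 803) .nil) (nat_lit 1441) (nat_lit 320) (nat_lit 1550) .nil)) (nat_lit 1442) (nat_lit 290)
  (nat_lit 1561) (.node (.node (.node .nil (nat_lit 1443) (nat_lit 240) (nat_lit 1369) .nil) (nat_lit 1444)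
  (nat_lit 306) (nat_lit 1491) (.node .nil (nat_lit 1445) (nat_lit 352) (nat_lit 1549) .nil)) (nat_lit 1446)
  (nat_lit 192) (nat_lit 1377) (.node (.node .nil (nat_lit 1447) (nat_lit 210) (nat_lit 880) .nil) (nat_lit
  1448) (nat_lit 274) (nat_lit 590) .nil))))))
def x70t_13 : T := (.node (.node (.node (.node (.node (.node (.node .nil (nat_lit 1450) (nat_lit 322) (nat_lit
  915) .nil) (nat_lit 1451) (nat_lit 288) (nat_lit 330) (.node .nil (nat_lit 1452) (nat_lit 145) (nat_lit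
  1748) .nil)) (nat_lit 1453) (nat_lit 288) (nat_lit 1654) (.node (.node .nil (nat_lit 1454) (nat_lit 288)
  (nat_lit 1653) .nil) (nat_lit 1455) (nat_lit 194) (nat_lit 470) .nil)) (nat_lit 1456) (nat_lit 273) (nat_lit
  1516) (.node (.node (.node .nil (nat_lit 1457) (nat_lit 305) (nat_lit 1666) .nil) (nat_lit 1458) (nat_lit
  336) (nat_lit 337) (.node .nil (nat_lit 1459) (nat_lit 210) (nat_lit 1267) .nil)) (nat_lit 1460) (nat_lit
  306) (nat_lit 1177) (.node (.node .nil (nat_lit 1461) (nat_lit 226) (nat_lit 1109) .nil) (nat_lit 1462)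
  (nat_lit 274) (nat_lit 1608) .nil))) (nat_lit 1463) (nat_lit 290) (nat_lit 1252) (.node (.node (.node (.node
  .nil (nat_lit 1464) (nat_lit 208) (nat_lit 1740) .nil) (nat_lit 1465) (nat_lit 290) (nat_lit 716) (.node
  .nil (nat_lit 1466) (nat_lit 208) (nat_lit 515) .nil)) (nat_lit 1467) (nat_lit 336) (nat_lit 1351) (.node
  (.node .nil (nat_lit 1468) (nat_lit 322) (nat_lit 1264) .nil) (nat_lit 1469) (nat_lit 353) (nat_lit 630)
  .nil)) (nat_lit 1470) (nat_lit 272) (nat_lit 557) (.node (.node (.node .nil (nat_lit 1471) (nat_lit 290)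
  (nat_lit 887) .nil) (nat_lit 1472) (nat_lit 322) (nat_lit 1111) (.node .nil (nat_lit 1473) (nat_lit 306)
  (nat_lit 440) .nil)) (nat_lit 1474) (nat_lit 322) (nat_lit 1114) (.node (.node .nil (nat_lit 1475) (nat_lit
  177) (nat_lit 1037) .nil) (nat_lit 1476) (nat_lit 274) (nat_lit 1042) .nil)))) (nat_lit 1477) (nat_lit 322)
  (nat_lit 1178) (.node (.node (.node (.node (.node .nil (nat_lit 1478) (nat_lit 208) (nat_lit 516) .nil)
  (nat_lit 1479) (nat_lit 353) (nat_lit 1080) (.node .nil (nat_lit 1480) (nat_lit 178) (nat_lit 710) .nil))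
  (nat_lit 1481) (nat_lit 225) (nat_lit 1176) (.node (.node .nil (nat_lit 1482) (nat_lit 272) (nat_lit 1737)
  .nil) (nat_lit 1483) (nat_lit 209) (nat_lit 1759) .nil)) (nat_lit 1484) (nat_lit 273) (nat_lit 1183) (.node
  (.node (.node .nil (nat_lit 1485) (nat_lit 338) (nat_lit 1221) .nil) (nat_lit 1486) (nat_lit 289) (nat_lit
  1616) (.node .nil (nat_lit 1487) (nat_lit 273) (nat_lit 734) .nil)) (nat_lit 1488) (nat_lit 226) (nat_lit
  1224) (.node (.node .nil (nat_lit 1489) (nat_lit 290) (nat_lit 1636) .nil) (nat_lit 1490) (nat_lit 256)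
  (nat_lit 514) .nil))) (nat_lit 1491) (nat_lit 288) (nat_lit 484) (.node (.node (.node (.node .nil (nat_lit
  1492) (nat_lit 305) (nat_lit 1220) .nil) (nat_lit 1493) (nat_lit 177) (nat_lit 1164) (.node .nil (nat_lit
  1494) (nat_lit 352) (nat_lit 393) .nil)) (nat_lit 1495) (nat_lit 272) (nat_lit 1520) (.node (.node .nil
  (nat_lit 1496) (nat_lit 370) (nat_lit 550) .nil) (nat_lit 1497) (nat_lit 257) (nat_lit 299) .nil)) (nat_lit
  1498) (nat_lit 258) (nat_lit 1440) (.node (.node (.node .nil (nat_lit 1499) (nat_lit 305) (nat_lit 1031)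
  .nil) (nat_lit 1500) (nat_lit 354) (nat_lit 1092) (.node .nil (nat_lit 1501) (nat_lit 178) (nat_lit 1045)
  .nil)) (nat_lit 1502) (nat_lit 257) (nat_lit 348) (.node (.node .nil (nat_lit 1503) (nat_lit 336) (nat_lit
  290) .nil) (nat_lit 1504) (nat_lit 402) (nat_lit 1196) .nil))))) (nat_lit 1505) (nat_lit 305) (nat_lit 1133)
  (.node (.node (.node (.node (.node (.node .nil (nat_lit 1506) (nat_lit 289) (nat_lit 1307) .nil) (nat_lit
  1507) (nat_lit 241) (nat_lit 1136) (.node .nil (nat_lit 1508) (nat_lit 306) (nat_lit 1638) .nil)) (nat_lit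
  1509) (nat_lit 177) (nat_lit 1428) (.node (.node .nil (nat_lit 1510) (nat_lit 257) (nat_lit 1544) .nil)
  (nat_lit 1511) (nat_lit 353) (nat_lit 1579) .nil)) (nat_lit 1512) (nat_lit 304) (nat_lit 1107) (.node (.node
  (.node .nil (nat_lit 1513) (nat_lit 305) (nat_lit 1489) .nil) (nat_lit 1514) (nat_lit 289) (nat_lit 63)
  (.node .nil (nat_lit 1515) (nat_lit 288) (nat_lit 1476) .nil)) (nat_lit 1516) (nat_lit 256) (nat_lit 1097)
  (.node (.node .nil (nat_lit 1517) (nat_lit 337) (nat_lit 1468) .nil) (nat_lit 1518) (nat_lit 400) (nat_lit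
  1389) .nil))) (nat_lit 1519) (nat_lit 306) (nat_lit 65) (.node (.node (.node (.node .nil (nat_lit 1520)
  (nat_lit 258) (nat_lit 68) .nil) (nat_lit 1521) (nat_lit 352) (nat_lit 851) (.node .nil (nat_lit 1522)
  (nat_lit 289) (nat_lit 1586) .nil)) (nat_lit 1523) (nat_lit 256) (nat_lit 1571) (.node (.node .nil (nat_lit
  1524) (nat_lit 320) (nat_lit 1527) .nil) (nat_lit 1525) (nat_lit 354) (nat_lit 110) .nil)) (nat_lit 1526)
  (nat_lit 192) (nat_lit 1529) (.node (.node (.node .nil (nat_lit 1527) (nat_lit 306) (nat_lit 597) .nil)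
  (nat_lit 1528) (nat_lit 240) (nat_lit 1531) (.node .nil (nat_lit 1529) (nat_lit 178) (nat_lit 104) .nil))
  (nat_lit 1530) (nat_lit 288) (nat_lit 1534) (.node (.node .nil (nat_lit 1531) (nat_lit 226) (nat_lit 172)
  .nil) (nat_lit 1532) (nat_lit 240) (nat_lit 1573) .nil)))) (nat_lit 1533) (nat_lit 210) (nat_lit 593) (.node
  (.node (.node (.node (.node .nil (nat_lit 1534) (nat_lit 274) (nat_lit 595) .nil) (nat_lit 1535) (nat_lit
  208) (nat_lit 820) (.node .nil (nat_lit 1536) (nat_lit 98) (nat_lit 88) .nil)) (nat_lit 1537) (nat_lit 288)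
  (nat_lit 1448) (.node (.node .nil (nat_lit 1538) (nat_lit 336) (nat_lit 857) .nil) (nat_lit 1539) (nat_lit
  304) (nat_lit 1220) .nil)) (nat_lit 1540) (nat_lit 258) (nat_lit 237) (.node (.node (.node .nil (nat_lit
  1541) (nat_lit 304) (nat_lit 1256) .nil) (nat_lit 1542) (nat_lit 242) (nat_lit 238) (.node .nil (nat_lit
  1543) (nat_lit 242) (nat_lit 208) .nil)) (nat_lit 1544) (nat_lit 240) (nat_lit 1123) (.node (.node .nil
  (nat_lit 1545) (nat_lit 242) (nat_lit 135) .nil) (nat_lit 1546) (nat_lit 49) (nat_lit 827) .nil))) (nat_lit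
  1547) (nat_lit 304) (nat_lit 1193) (.node (.node (.node (.node .nil (nat_lit 1548) (nat_lit 256) (nat_lit
  640) .nil) (nat_lit 1549) (nat_lit 338) (nat_lit 260) (.node .nil (nat_lit 1550) (nat_lit 306) (nat_lit 266)
  .nil)) (nat_lit 1551) (nat_lit 306) (nat_lit 1158) (.node (.node .nil (nat_lit 1552) (nat_lit 256) (nat_lit
  574) .nil) (nat_lit 1553) (nat_lit 176) (nat_lit 1556) .nil)) (nat_lit 1554) (nat_lit 257) (nat_lit 752)
  (.node (.node (.node .nil (nat_lit 1555) (nat_lit 241) (nat_lit 727) .nil) (nat_lit 1556) (nat_lit 162)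
  (nat_lit 1094) .nil) (nat_lit 1557) (nat_lit 320) (nat_lit 1551) (.node (.node .nil (nat_lit 1558) (nat_lit
  320) (nat_lit 790) .nil) (nat_lit 1559) (nat_lit 192) (nat_lit 896) .nil))))))
def x70t_14 : T := (.node (.node (.node (.node (.node (.node (.node .nil (nat_lit 1561) (nat_lit 272) (nat_lit
  956) .nil) (nat_lit 1562) (nat_lit 226) (nat_lit 564) (.node .nil (nat_lit 1563) (nat_lit 226) (nat_lit
  1243) .nil)) (nat_lit 1564) (nat_lit 273) (nat_lit 628) (.node (.node .nil (nat_lit 1565) (nat_lit 210)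
  (nat_lit 1446) .nil) (nat_lit 1566) (nat_lit 144) (nat_lit 813) .nil)) (nat_lit 1567) (nat_lit 353) (nat_lit
  412) (.node (.node (.node .nil (nat_lit 1568) (nat_lit 370) (nat_lit 205) .nil) (nat_lit 1569) (nat_lit 338)
  (nat_lit 460) (.node .nil (nat_lit 1570) (nat_lit 386) (nat_lit 206) .nil)) (nat_lit 1571) (nat_lit 242)
  (nat_lit 599) (.node (.node .nil (nat_lit 1572) (nat_lit 368) (nat_lit 1525) .nil) (nat_lit 1573) (nat_lit
  226) (nat_lit 171) .nil))) (nat_lit 1574) (nat_lit 224) (nat_lit 1533) (.node (.node (.node (.node .nil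
  (nat_lit 1575) (nat_lit 273) (nat_lit 1279) .nil) (nat_lit 1576) (nat_lit 338) (nat_lit 261) (.node .nil
  (nat_lit 1577) (nat_lit 368) (nat_lit 1061) .nil)) (nat_lit 1578) (nat_lit 369) (nat_lit 1683) (.node (.node
  .nil (nat_lit 1579) (nat_lit 338) (nat_lit 146) .nil) (nat_lit 1580) (nat_lit 257) (nat_lit 1365) .nil))
  (nat_lit 1581) (nat_lit 304) (nat_lit 1237) (.node (.node (.node .nil (nat_lit 1582) (nat_lit 258) (nat_lit
  131) .nil) (nat_lit 1583) (nat_lit 337) (nat_lit 1736) (.node .nil (nat_lit 1584) (nat_lit 256) (nat_lit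
  397) .nil)) (nat_lit 1585) (nat_lit 305) (nat_lit 1648) (.node (.node .nil (nat_lit 1586) (nat_lit 274)
  (nat_lit 1108) .nil) (nat_lit 1587) (nat_lit 272) (nat_lit 402) .nil)))) (nat_lit 1588) (nat_lit 290)
  (nat_lit 1240) (.node (.node (.node (.node (.node .nil (nat_lit 1589) (nat_lit 258) (nat_lit 1119) .nil)
  (nat_lit 1590) (nat_lit 305) (nat_lit 1703) (.node .nil (nat_lit 1591) (nat_lit 193) (nat_lit 1219) .nil))
  (nat_lit 1592) (nat_lit 338) (nat_lit 1432) (.node (.node .nil (nat_lit 1593) (nat_lit 242) (nat_lit 1077)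
  .nil) (nat_lit 1594) (nat_lit 338) (nat_lit 450) .nil)) (nat_lit 1595) (nat_lit 369) (nat_lit 892) (.node
  (.node (.node .nil (nat_lit 1596) (nat_lit 338) (nat_lit 635) .nil) (nat_lit 1597) (nat_lit 290) (nat_lit
  535) (.node .nil (nat_lit 1598) (nat_lit 193) (nat_lit 1480) .nil)) (nat_lit 1599) (nat_lit 337) (nat_lit
  1027) (.node (.node .nil (nat_lit 1600) (nat_lit 288) (nat_lit 451) .nil) (nat_lit 1601) (nat_lit 305)
  (nat_lit 140) .nil))) (nat_lit 1602) (nat_lit 288) (nat_lit 1070) (.node (.node (.node (.node .nil (nat_lit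
  1603) (nat_lit 224) (nat_lit 1173) .nil) (nat_lit 1604) (nat_lit 257) (nat_lit 982) (.node .nil (nat_lit
  1605) (nat_lit 353) (nat_lit 736) .nil)) (nat_lit 1606) (nat_lit 352) (nat_lit 1753) (.node (.node .nil
  (nat_lit 1607) (nat_lit 274) (nat_lit 807) .nil) (nat_lit 1608) (nat_lit 257) (nat_lit 1659) .nil)) (nat_lit
  1609) (nat_lit 289) (nat_lit 1356) (.node (.node (.node .nil (nat_lit 1610) (nat_lit 194) (nat_lit 1509)
  .nil) (nat_lit 1611) (nat_lit 354) (nat_lit 1458) (.node .nil (nat_lit 1612) (nat_lit 321) (nat_lit 1185)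
  .nil)) (nat_lit 1613) (nat_lit 257) (nat_lit 1119) (.node (.node .nil (nat_lit 1614) (nat_lit 384) (nat_lit
  1284) .nil) (nat_lit 1615) (nat_lit 321) (nat_lit 713) .nil))))) (nat_lit 1616) (nat_lit 274) (nat_lit 64)
  (.node (.node (.node (.node (.node (.node .nil (nat_lit 1617) (nat_lit 336) (nat_lit 1472) .nil) (nat_lit
  1618) (nat_lit 289) (nat_lit 1361) (.node .nil (nat_lit 1619) (nat_lit 352) (nat_lit 1151) .nil)) (nat_lit
  1620) (nat_lit 176) (nat_lit 1081) (.node (.node .nil (nat_lit 1621) (nat_lit 274) (nat_lit 1604) .nil)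
  (nat_lit 1622) (nat_lit 225) (nat_lit 1466) .nil)) (nat_lit 1623) (nat_lit 338) (nat_lit 1627) (.node (.node
  (.node .nil (nat_lit 1624) (nat_lit 336) (nat_lit 1182) .nil) (nat_lit 1625) (nat_lit 272) (nat_lit 1183)
  (.node .nil (nat_lit 1626) (nat_lit 289) (nat_lit 371) .nil)) (nat_lit 1627) (nat_lit 321) (nat_lit 634)
  (.node (.node .nil (nat_lit 1628) (nat_lit 194) (nat_lit 1620) .nil) (nat_lit 1629) (nat_lit 257) (nat_lit
  1542) .nil))) (nat_lit 1630) (nat_lit 289) (nat_lit 1607) (.node (.node (.node (.node .nil (nat_lit 1631)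
  (nat_lit 305) (nat_lit 735) .nil) (nat_lit 1632) (nat_lit 162) (nat_lit 298) (.node .nil (nat_lit 1633)
  (nat_lit 224) (nat_lit 1298) .nil)) (nat_lit 1634) (nat_lit 306) (nat_lit 235) (.node (.node .nil (nat_lit
  1635) (nat_lit 273) (nat_lit 139) .nil) (nat_lit 1636) (nat_lit 272) (nat_lit 1773) .nil)) (nat_lit 1637)
  (nat_lit 370) (nat_lit 1274) (.node (.node (.node .nil (nat_lit 1638) (nat_lit 289) (nat_lit 679) .nil)
  (nat_lit 1639) (nat_lit 273) (nat_lit 1021) (.node .nil (nat_lit 1640) (nat_lit 290) (nat_lit 1484) .nil))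
  (nat_lit 1641) (nat_lit 290) (nat_lit 875) (.node (.node .nil (nat_lit 1642) (nat_lit 242) (nat_lit 1481)
  .nil) (nat_lit 1643) (nat_lit 256) (nat_lit 1365) .nil)))) (nat_lit 1644) (nat_lit 368) (nat_lit 639) (.node
  (.node (.node (.node (.node .nil (nat_lit 1645) (nat_lit 144) (nat_lit 588) .nil) (nat_lit 1646) (nat_lit
  338) (nat_lit 627) (.node .nil (nat_lit 1647) (nat_lit 274) (nat_lit 1671) .nil)) (nat_lit 1648) (nat_lit
  288) (nat_lit 1181) (.node (.node .nil (nat_lit 1649) (nat_lit 337) (nat_lit 1228) .nil) (nat_lit 1650)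
  (nat_lit 320) (nat_lit 855) .nil)) (nat_lit 1651) (nat_lit 337) (nat_lit 1755) (.node (.node (.node .nil
  (nat_lit 1652) (nat_lit 194) (nat_lit 132) .nil) (nat_lit 1653) (nat_lit 274) (nat_lit 255) (.node .nil
  (nat_lit 1654) (nat_lit 274) (nat_lit 282) .nil)) (nat_lit 1655) (nat_lit 257) (nat_lit 1170) (.node (.node
  .nil (nat_lit 1656) (nat_lit 337) (nat_lit 1083) .nil) (nat_lit 1657) (nat_lit 224) (nat_lit 1459) .nil)))
  (nat_lit 1658) (nat_lit 400) (nat_lit 1312) (.node (.node (.node (.node .nil (nat_lit 1659) (nat_lit 240)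
  (nat_lit 1488) .nil) (nat_lit 1660) (nat_lit 225) (nat_lit 1535) (.node .nil (nat_lit 1661) (nat_lit 337)
  (nat_lit 1347) .nil)) (nat_lit 1662) (nat_lit 289) (nat_lit 1682) (.node (.node .nil (nat_lit 1663) (nat_lit
  80) (nat_lit 1230) .nil) (nat_lit 1664) (nat_lit 272) (nat_lit 1152) .nil)) (nat_lit 1665) (nat_lit 336)
  (nat_lit 1426) (.node (.node (.node .nil (nat_lit 1666) (nat_lit 288) (nat_lit 1415) .nil) (nat_lit 1667)
  (nat_lit 322) (nat_lit 284) .nil) (nat_lit 1668) (nat_lit 178) (nat_lit 358) (.node (.node .nil (nat_lit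
  1669) (nat_lit 337) (nat_lit 240) .nil) (nat_lit 1670) (nat_lit 256) (nat_lit 1105) .nil))))))
def x70t_15 : T := (.node (.node (.node (.node (.node (.node (.node .nil (nat_lit 1672) (nat_lit 193) (nat_lit
  921) .nil) (nat_lit 1673) (nat_lit 354) (nat_lit 1649) (.node .nil (nat_lit 1674) (nat_lit 321) (nat_lit
  228) .nil)) (nat_lit 1675) (nat_lit 304) (nat_lit 1294) (.node (.node .nil (nat_lit 1676) (nat_lit 225)
  (nat_lit 1565) .nil) (nat_lit 1677) (nat_lit 306) (nat_lit 1522) .nil)) (nat_lit 1678) (nat_lit 338)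
  (nat_lit 1674) (.node (.node (.node .nil (nat_lit 1679) (nat_lit 274) (nat_lit 316) .nil) (nat_lit 1680)
  (nat_lit 210) (nat_lit 359) (.node .nil (nat_lit 1681) (nat_lit 240) (nat_lit 1273) .nil)) (nat_lit 1682)
  (nat_lit 272) (nat_lit 555) (.node (.node .nil (nat_lit 1683) (nat_lit 352) (nat_lit 1206) .nil) (nat_lit
  1684) (nat_lit 272) (nat_lit 1589) .nil))) (nat_lit 1685) (nat_lit 321) (nat_lit 561) (.node (.node (.node
  (.node .nil (nat_lit 1686) (nat_lit 321) (nat_lit 610) .nil) (nat_lit 1687) (nat_lit 289) (nat_lit 1181)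
  (.node .nil (nat_lit 1688) (nat_lit 288) (nat_lit 1586) .nil)) (nat_lit 1689) (nat_lit 352) (nat_lit 1315)
  (.node (.node .nil (nat_lit 1690) (nat_lit 257) (nat_lit 1211) .nil) (nat_lit 1691) (nat_lit 352) (nat_lit
  1485) .nil)) (nat_lit 1692) (nat_lit 337) (nat_lit 1188) (.node (.node (.node .nil (nat_lit 1693) (nat_lit
  290) (nat_lit 87) .nil) (nat_lit 1694) (nat_lit 208) (nat_lit 1610) (.node .nil (nat_lit 1695) (nat_lit 305)
  (nat_lit 1161) .nil)) (nat_lit 1696) (nat_lit 336) (nat_lit 1168) (.node (.node .nil (nat_lit 1697) (nat_lit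
  304) (nat_lit 1641) .nil) (nat_lit 1698) (nat_lit 289) (nat_lit 1024) .nil)))) (nat_lit 1699) (nat_lit 258)
  (nat_lit 178) (.node (.node (.node (.node (.node .nil (nat_lit 1700) (nat_lit 337) (nat_lit 378) .nil)
  (nat_lit 1701) (nat_lit 337) (nat_lit 377) (.node .nil (nat_lit 1702) (nat_lit 354) (nat_lit 488) .nil))
  (nat_lit 1703) (nat_lit 288) (nat_lit 1607) (.node (.node .nil (nat_lit 1704) (nat_lit 336) (nat_lit 1112)
  .nil) (nat_lit 1705) (nat_lit 336) (nat_lit 1117) .nil)) (nat_lit 1706) (nat_lit 209) (nat_lit 1652) (.node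
  (.node (.node .nil (nat_lit 1707) (nat_lit 290) (nat_lit 108) .nil) (nat_lit 1708) (nat_lit 289) (nat_lit
  923) (.node .nil (nat_lit 1709) (nat_lit 384) (nat_lit 1637) .nil)) (nat_lit 1710) (nat_lit 178) (nat_lit
  376) (.node (.node .nil (nat_lit 1711) (nat_lit 321) (nat_lit 271) .nil) (nat_lit 1712) (nat_lit 322)
  (nat_lit 106) .nil))) (nat_lit 1713) (nat_lit 274) (nat_lit 252) (.node (.node (.node (.node .nil (nat_lit
  1714) (nat_lit 320) (nat_lit 1116) .nil) (nat_lit 1715) (nat_lit 274) (nat_lit 163) (.node .nil (nat_lit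
  1716) (nat_lit 304) (nat_lit 1640) .nil)) (nat_lit 1717) (nat_lit 338) (nat_lit 492) (.node (.node .nil
  (nat_lit 1718) (nat_lit 290) (nat_lit 76) .nil) (nat_lit 1719) (nat_lit 354) (nat_lit 182) .nil)) (nat_lit
  1720) (nat_lit 226) (nat_lit 498) (.node (.node (.node .nil (nat_lit 1721) (nat_lit 241) (nat_lit 58) .nil)
  (nat_lit 1722) (nat_lit 337) (nat_lit 1277) (.node .nil (nat_lit 1723) (nat_lit 336) (nat_lit 1039) .nil))
  (nat_lit 1724) (nat_lit 258) (nat_lit 495) (.node (.node .nil (nat_lit 1725) (nat_lit 353) (nat_lit 909)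
  .nil) (nat_lit 1726) (nat_lit 288) (nat_lit 888) .nil))))) (nat_lit 1727) (nat_lit 289) (nat_lit 243) (.node
  (.node (.node (.node (.node (.node .nil (nat_lit 1728) (nat_lit 258) (nat_lit 491) .nil) (nat_lit 1729)
  (nat_lit 257) (nat_lit 224) (.node .nil (nat_lit 1730) (nat_lit 305) (nat_lit 223) .nil)) (nat_lit 1731)
  (nat_lit 273) (nat_lit 1589) (.node (.node .nil (nat_lit 1732) (nat_lit 305) (nat_lit 629) .nil) (nat_lit
  1733) (nat_lit 289) (nat_lit 1561) .nil)) (nat_lit 1734) (nat_lit 192) (nat_lit 1501) (.node (.node (.node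
  .nil (nat_lit 1735) (nat_lit 368) (nat_lit 1500) .nil) (nat_lit 1736) (nat_lit 320) (nat_lit 1321) (.node
  .nil (nat_lit 1737) (nat_lit 258) (nat_lit 752) .nil)) (nat_lit 1738) (nat_lit 289) (nat_lit 1647) (.node
  (.node .nil (nat_lit 1739) (nat_lit 402) (nat_lit 756) .nil) (nat_lit 1740) (nat_lit 194) (nat_lit 753)
  .nil))) (nat_lit 1741) (nat_lit 320) (nat_lit 623) (.node (.node (.node (.node .nil (nat_lit 1742) (nat_lit
  337) (nat_lit 404) .nil) (nat_lit 1743) (nat_lit 178) (nat_lit 380) (.node .nil (nat_lit 1744) (nat_lit 290)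
  (nat_lit 164) .nil)) (nat_lit 1745) (nat_lit 386) (nat_lit 89) (.node (.node .nil (nat_lit 1746) (nat_lit
  306) (nat_lit 248) .nil) (nat_lit 1747) (nat_lit 304) (nat_lit 1118) .nil)) (nat_lit 1748) (nat_lit 128)
  (nat_lit 1144) (.node (.node (.node .nil (nat_lit 1749) (nat_lit 354) (nat_lit 245) .nil) (nat_lit 1750)
  (nat_lit 209) (nat_lit 1025) (.node .nil (nat_lit 1751) (nat_lit 305) (nat_lit 367) .nil)) (nat_lit 1752)
  (nat_lit 354) (nat_lit 509) (.node (.node .nil (nat_lit 1753) (nat_lit 338) (nat_lit 377) .nil) (nat_lit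
  1754) (nat_lit 97) (nat_lit 576) .nil)))) (nat_lit 1755) (nat_lit 322) (nat_lit 487) (.node (.node (.node
  (.node (.node .nil (nat_lit 1756) (nat_lit 273) (nat_lit 825) .nil) (nat_lit 1757) (nat_lit 384) (nat_lit
  1241) (.node .nil (nat_lit 1758) (nat_lit 210) (nat_lit 247) .nil)) (nat_lit 1759) (nat_lit 194) (nat_lit
  379) (.node (.node .nil (nat_lit 1760) (nat_lit 289) (nat_lit 1054) .nil) (nat_lit 1761) (nat_lit 353)
  (nat_lit 168) .nil)) (nat_lit 1762) (nat_lit 146) (nat_lit 200) (.node (.node (.node .nil (nat_lit 1763)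
  (nat_lit 354) (nat_lit 133) .nil) (nat_lit 1764) (nat_lit 368) (nat_lit 1611) (.node .nil (nat_lit 1765)
  (nat_lit 337) (nat_lit 5) .nil)) (nat_lit 1766) (nat_lit 370) (nat_lit 943) (.node (.node .nil (nat_lit
  1767) (nat_lit 177) (nat_lit 233) .nil) (nat_lit 1768) (nat_lit 369) (nat_lit 234) .nil))) (nat_lit 1769)
  (nat_lit 353) (nat_lit 1003) (.node (.node (.node (.node .nil (nat_lit 1770) (nat_lit 241) (nat_lit 1002)
  .nil) (nat_lit 1771) (nat_lit 369) (nat_lit 32) (.node .nil (nat_lit 1772) (nat_lit 338) (nat_lit 719)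
  .nil)) (nat_lit 1773) (nat_lit 258) (nat_lit 374) (.node (.node .nil (nat_lit 1774) (nat_lit 256) (nat_lit
  1642) .nil) (nat_lit 1775) (nat_lit 208) (nat_lit 1192) .nil)) (nat_lit 1776) (nat_lit 241) (nat_lit 1488)
  (.node (.node (.node .nil (nat_lit 1777) (nat_lit 289) (nat_lit 230) .nil) (nat_lit 1778) (nat_lit 225)
  (nat_lit 229) .nil) (nat_lit 1779) (nat_lit 337) (nat_lit 1000) (.node (.node .nil (nat_lit 1780) (nat_lit
  225) (nat_lit 1001) .nil) (nat_lit 1781) (nat_lit 258) (nat_lit 90) .nil))))))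
def x70t : T := (.node (.node (.node (.node x70t_0 (nat_lit 111) (nat_lit 306) (nat_lit 410) x70t_1) (nat_lit
  222) (nat_lit 128) (nat_lit 61) (.node x70t_2 (nat_lit 334) (nat_lit 304) (nat_lit 1417) x70t_3)) (nat_lit
  445) (nat_lit 178) (nat_lit 533) (.node (.node x70t_4 (nat_lit 557) (nat_lit 258) (nat_lit 211) x70t_5)
  (nat_lit 668) (nat_lit 226) (nat_lit 1247) (.node x70t_6 (nat_lit 780) (nat_lit 322) (nat_lit 462) x70t_7)))
  (nat_lit 891) (nat_lit 242) (nat_lit 962) (.node (.node (.node x70t_8 (nat_lit 1003) (nat_lit 336) (nat_lit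
  1000) x70t_9) (nat_lit 1114) (nat_lit 304) (nat_lit 518) (.node x70t_10 (nat_lit 1226) (nat_lit 274)
  (nat_lit 853) x70t_11)) (nat_lit 1337) (nat_lit 194) (nat_lit 153) (.node (.node x70t_12 (nat_lit 1449)
  (nat_lit 321) (nat_lit 401) x70t_13) (nat_lit 1560) (nat_lit 305) (nat_lit 1726) (.node x70t_14 (nat_lit
  1671) (nat_lit 256) (nat_lit 891) x70t_15))))
def x70 : Lvl := ⟨nat_lit 293, [nat_lit 3, nat_lit 11, nat_lit 13], [], x70t⟩
def x71t_0 : T := (.node (.node (.node (.node (.node (.node (.node .nil (nat_lit 0) (nat_lit 241) (nat_lit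
  1581) .nil) (nat_lit 2) (nat_lit 241) (nat_lit 850) (.node .nil (nat_lit 6) (nat_lit 193) (nat_lit 1058)
  .nil)) (nat_lit 7) (nat_lit 240) (nat_lit 109) (.node (.node .nil (nat_lit 9) (nat_lit 224) (nat_lit 168)
  .nil) (nat_lit 10) (nat_lit 257) (nat_lit 134) .nil)) (nat_lit 12) (nat_lit 192) (nat_lit 72) (.node (.node
  (.node .nil (nat_lit 13) (nat_lit 193) (nat_lit 1076) .nil) (nat_lit 16) (nat_lit 240) (nat_lit 510) (.node
  .nil (nat_lit 17) (nat_lit 273) (nat_lit 531) .nil)) (nat_lit 19) (nat_lit 161) (nat_lit 605) (.node (.node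
  .nil (nat_lit 20) (nat_lit 129) (nat_lit 865) .nil) (nat_lit 25) (nat_lit 272) (nat_lit 677) .nil)))
  (nat_lit 36) (nat_lit 273) (nat_lit 621) (.node (.node (.node (.node .nil (nat_lit 38) (nat_lit 241)
  (nat_lit 1014) .nil) (nat_lit 40) (nat_lit 224) (nat_lit 1630) (.node .nil (nat_lit 41) (nat_lit 273)
  (nat_lit 585) .nil)) (nat_lit 45) (nat_lit 273) (nat_lit 334) (.node (.node .nil (nat_lit 47) (nat_lit 288)
  (nat_lit 114) .nil) (nat_lit 48) (nat_lit 288) (nat_lit 288) .nil)) (nat_lit 51) (nat_lit 145) (nat_lit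
  1578) (.node (.node (.node .nil (nat_lit 54) (nat_lit 257) (nat_lit 1367) .nil) (nat_lit 56) (nat_lit 113)
  (nat_lit 62) .nil) (nat_lit 62) (nat_lit 97) (nat_lit 983) (.node (.node .nil (nat_lit 67) (nat_lit 208)
  (nat_lit 1687) .nil) (nat_lit 69) (nat_lit 224) (nat_lit 1643) .nil)))) (nat_lit 72) (nat_lit 177) (nat_lit
  255) (.node (.node (.node (.node (.node .nil (nat_lit 75) (nat_lit 97) (nat_lit 1348) .nil) (nat_lit 78)
  (nat_lit 193) (nat_lit 1666) (.node .nil (nat_lit 82) (nat_lit 193) (nat_lit 1158) .nil)) (nat_lit 87)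
  (nat_lit 225) (nat_lit 1394) (.node (.node .nil (nat_lit 89) (nat_lit 177) (nat_lit 816) .nil) (nat_lit 91)
  (nat_lit 257) (nat_lit 626) .nil)) (nat_lit 98) (nat_lit 225) (nat_lit 404) (.node (.node (.node .nil
  (nat_lit 99) (nat_lit 208) (nat_lit 13) .nil) (nat_lit 100) (nat_lit 272) (nat_lit 10) .nil) (nat_lit 102)
  (nat_lit 208) (nat_lit 532) (.node (.node .nil (nat_lit 105) (nat_lit 241) (nat_lit 1669) .nil) (nat_lit
  109) (nat_lit 225) (nat_lit 99) .nil))) (nat_lit 111) (nat_lit 65) (nat_lit 1022) (.node (.node (.node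
  (.node .nil (nat_lit 114) (nat_lit 273) (nat_lit 1001) .nil) (nat_lit 121) (nat_lit 241) (nat_lit 413)
  (.node .nil (nat_lit 123) (nat_lit 225) (nat_lit 1607) .nil)) (nat_lit 130) (nat_lit 241) (nat_lit 389)
  (.node (.node .nil (nat_lit 131) (nat_lit 241) (nat_lit 1683) .nil) (nat_lit 132) (nat_lit 193) (nat_lit
  620) .nil)) (nat_lit 133) (nat_lit 193) (nat_lit 493) (.node (.node (.node .nil (nat_lit 134) (nat_lit 240)
  (nat_lit 1751) .nil) (nat_lit 136) (nat_lit 225) (nat_lit 1476) .nil) (nat_lit 138) (nat_lit 241) (nat_lit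
  1780) (.node (.node .nil (nat_lit 140) (nat_lit 208) (nat_lit 6) .nil) (nat_lit 142) (nat_lit 241) (nat_lit
  1146) .nil))))) (nat_lit 145) (nat_lit 193) (nat_lit 230) (.node (.node (.node (.node (.node (.node .nil
  (nat_lit 147) (nat_lit 209) (nat_lit 145) .nil) (nat_lit 151) (nat_lit 192) (nat_lit 521) (.node .nil
  (nat_lit 154) (nat_lit 257) (nat_lit 953) .nil)) (nat_lit 157) (nat_lit 256) (nat_lit 2) (.node (.node .nil
  (nat_lit 164) (nat_lit 225) (nat_lit 541) .nil) (nat_lit 168) (nat_lit 209) (nat_lit 1587) .nil)) (nat_lit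
  170) (nat_lit 240) (nat_lit 1572) (.node (.node (.node .nil (nat_lit 177) (nat_lit 192) (nat_lit 1747) .nil)
  (nat_lit 187) (nat_lit 273) (nat_lit 714) .nil) (nat_lit 189) (nat_lit 225) (nat_lit 1013) (.node (.node
  .nil (nat_lit 198) (nat_lit 225) (nat_lit 1038) .nil) (nat_lit 201) (nat_lit 144) (nat_lit 20) .nil)))
  (nat_lit 212) (nat_lit 257) (nat_lit 1600) (.node (.node (.node (.node .nil (nat_lit 213) (nat_lit 113)
  (nat_lit 75) .nil) (nat_lit 230) (nat_lit 176) (nat_lit 1613) (.node .nil (nat_lit 236) (nat_lit 145)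
  (nat_lit 20) .nil)) (nat_lit 240) (nat_lit 209) (nat_lit 1372) (.node (.node .nil (nat_lit 241) (nat_lit
  272) (nat_lit 1541) .nil) (nat_lit 250) (nat_lit 273) (nat_lit 675) .nil)) (nat_lit 255) (nat_lit 160)
  (nat_lit 1653) (.node (.node (.node .nil (nat_lit 262) (nat_lit 273) (nat_lit 898) .nil) (nat_lit 264)
  (nat_lit 225) (nat_lit 102) .nil) (nat_lit 268) (nat_lit 289) (nat_lit 1457) (.node (.node .nil (nat_lit
  283) (nat_lit 289) (nat_lit 45) .nil) (nat_lit 288) (nat_lit 273) (nat_lit 535) .nil)))) (nat_lit 292)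
  (nat_lit 161) (nat_lit 201) (.node (.node (.node (.node (.node .nil (nat_lit 295) (nat_lit 225) (nat_lit
  673) .nil) (nat_lit 297) (nat_lit 257) (nat_lit 680) (.node .nil (nat_lit 300) (nat_lit 240) (nat_lit 295)
  .nil)) (nat_lit 306) (nat_lit 257) (nat_lit 448) (.node (.node .nil (nat_lit 309) (nat_lit 288) (nat_lit 45)
  .nil) (nat_lit 310) (nat_lit 112) (nat_lit 62) .nil)) (nat_lit 311) (nat_lit 241) (nat_lit 1234) (.node
  (.node (.node .nil (nat_lit 313) (nat_lit 241) (nat_lit 109) .nil) (nat_lit 314) (nat_lit 241) (nat_lit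
  1296) .nil) (nat_lit 318) (nat_lit 241) (nat_lit 1648) (.node (.node .nil (nat_lit 323) (nat_lit 128)
  (nat_lit 1435) .nil) (nat_lit 326) (nat_lit 257) (nat_lit 138) .nil))) (nat_lit 328) (nat_lit 209) (nat_lit
  578) (.node (.node (.node (.node .nil (nat_lit 334) (nat_lit 257) (nat_lit 300) .nil) (nat_lit 336) (nat_lit
  209) (nat_lit 1608) (.node .nil (nat_lit 339) (nat_lit 113) (nat_lit 1019) .nil)) (nat_lit 341) (nat_lit
  256) (nat_lit 121) (.node (.node .nil (nat_lit 354) (nat_lit 193) (nat_lit 1213) .nil) (nat_lit 362)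
  (nat_lit 272) (nat_lit 1664) .nil)) (nat_lit 366) (nat_lit 257) (nat_lit 810) (.node (.node (.node .nil
  (nat_lit 367) (nat_lit 144) (nat_lit 371) .nil) (nat_lit 370) (nat_lit 321) (nat_lit 1355) .nil) (nat_lit
  371) (nat_lit 129) (nat_lit 520) (.node (.node .nil (nat_lit 374) (nat_lit 225) (nat_lit 506) .nil) (nat_lit
  385) (nat_lit 144) (nat_lit 1578) .nil))))))
def x71t_1 : T := (.node (.node (.node (.node (.node (.node (.node .nil (nat_lit 389) (nat_lit 225) (nat_lit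
  1172) .nil) (nat_lit 390) (nat_lit 273) (nat_lit 91) (.node .nil (nat_lit 399) (nat_lit 240) (nat_lit 1049)
  .nil)) (nat_lit 404) (nat_lit 209) (nat_lit 1233) (.node (.node .nil (nat_lit 407) (nat_lit 257) (nat_lit
  1546) .nil) (nat_lit 410) (nat_lit 80) (nat_lit 111) .nil)) (nat_lit 413) (nat_lit 225) (nat_lit 328) (.node
  (.node (.node .nil (nat_lit 416) (nat_lit 241) (nat_lit 1250) .nil) (nat_lit 419) (nat_lit 240) (nat_lit
  1296) .nil) (nat_lit 427) (nat_lit 256) (nat_lit 142) (.node (.node .nil (nat_lit 430) (nat_lit 145)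
  (nat_lit 881) .nil) (nat_lit 435) (nat_lit 289) (nat_lit 1098) .nil))) (nat_lit 439) (nat_lit 97) (nat_lit
  410) (.node (.node (.node (.node .nil (nat_lit 448) (nat_lit 240) (nat_lit 389) .nil) (nat_lit 450) (nat_lit
  224) (nat_lit 1594) (.node .nil (nat_lit 461) (nat_lit 240) (nat_lit 779) .nil)) (nat_lit 471) (nat_lit 161)
  (nat_lit 1459) (.node (.node .nil (nat_lit 472) (nat_lit 193) (nat_lit 518) .nil) (nat_lit 473) (nat_lit
  241) (nat_lit 510) .nil)) (nat_lit 480) (nat_lit 257) (nat_lit 1773) (.node (.node (.node .nil (nat_lit 481)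
  (nat_lit 112) (nat_lit 439) .nil) (nat_lit 490) (nat_lit 161) (nat_lit 751) .nil) (nat_lit 493) (nat_lit
  177) (nat_lit 648) (.node (.node .nil (nat_lit 504) (nat_lit 257) (nat_lit 1323) .nil) (nat_lit 506)
  (nat_lit 209) (nat_lit 1490) .nil)))) (nat_lit 510) (nat_lit 225) (nat_lit 336) (.node (.node (.node (.node
  (.node .nil (nat_lit 513) (nat_lit 289) (nat_lit 187) .nil) (nat_lit 514) (nat_lit 257) (nat_lit 1190)
  (.node .nil (nat_lit 516) (nat_lit 128) (nat_lit 56) .nil)) (nat_lit 518) (nat_lit 177) (nat_lit 1551)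
  (.node (.node .nil (nat_lit 520) (nat_lit 112) (nat_lit 75) .nil) (nat_lit 521) (nat_lit 177) (nat_lit 1100)
  .nil)) (nat_lit 524) (nat_lit 256) (nat_lit 697) (.node (.node (.node .nil (nat_lit 531) (nat_lit 256)
  (nat_lit 680) .nil) (nat_lit 532) (nat_lit 193) (nat_lit 1319) .nil) (nat_lit 535) (nat_lit 256) (nat_lit
  1597) (.node (.node .nil (nat_lit 538) (nat_lit 305) (nat_lit 1491) .nil) (nat_lit 539) (nat_lit 224)
  (nat_lit 1172) .nil))) (nat_lit 541) (nat_lit 208) (nat_lit 1294) (.node (.node (.node (.node .nil (nat_lit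
  542) (nat_lit 241) (nat_lit 1456) .nil) (nat_lit 548) (nat_lit 240) (nat_lit 1250) (.node .nil (nat_lit 549)
  (nat_lit 209) (nat_lit 961) .nil)) (nat_lit 562) (nat_lit 241) (nat_lit 1625) (.node (.node .nil (nat_lit
  566) (nat_lit 256) (nat_lit 1190) .nil) (nat_lit 568) (nat_lit 0) (nat_lit 568) .nil)) (nat_lit 569)
  (nat_lit 161) (nat_lit 367) (.node (.node (.node .nil (nat_lit 571) (nat_lit 177) (nat_lit 1426) .nil)
  (nat_lit 573) (nat_lit 225) (nat_lit 1652) .nil) (nat_lit 578) (nat_lit 193) (nat_lit 1726) (.node (.node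
  .nil (nat_lit 580) (nat_lit 225) (nat_lit 1630) .nil) (nat_lit 585) (nat_lit 256) (nat_lit 105) .nil)))))
  (nat_lit 599) (nat_lit 240) (nat_lit 1571) (.node (.node (.node (.node (.node (.node .nil (nat_lit 601)
  (nat_lit 192) (nat_lit 1058) .nil) (nat_lit 605) (nat_lit 144) (nat_lit 1044) (.node .nil (nat_lit 620)
  (nat_lit 177) (nat_lit 972) .nil)) (nat_lit 621) (nat_lit 257) (nat_lit 473) (.node (.node .nil (nat_lit
  626) (nat_lit 241) (nat_lit 1420) .nil) (nat_lit 631) (nat_lit 257) (nat_lit 548) .nil)) (nat_lit 633)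
  (nat_lit 128) (nat_lit 865) (.node (.node (.node .nil (nat_lit 635) (nat_lit 209) (nat_lit 919) .nil)
  (nat_lit 636) (nat_lit 145) (nat_lit 1178) .nil) (nat_lit 638) (nat_lit 256) (nat_lit 690) (.node (.node
  .nil (nat_lit 642) (nat_lit 209) (nat_lit 78) .nil) (nat_lit 647) (nat_lit 96) (nat_lit 983) .nil)))
  (nat_lit 648) (nat_lit 160) (nat_lit 236) (.node (.node (.node (.node .nil (nat_lit 652) (nat_lit 241)
  (nat_lit 947) .nil) (nat_lit 655) (nat_lit 145) (nat_lit 1044) (.node .nil (nat_lit 658) (nat_lit 161)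
  (nat_lit 1653) .nil)) (nat_lit 664) (nat_lit 225) (nat_lit 1596) (.node (.node .nil (nat_lit 673) (nat_lit
  208) (nat_lit 1106) .nil) (nat_lit 675) (nat_lit 257) (nat_lit 311) .nil)) (nat_lit 677) (nat_lit 257)
  (nat_lit 1659) (.node (.node (.node .nil (nat_lit 680) (nat_lit 241) (nat_lit 136) .nil) (nat_lit 690)
  (nat_lit 241) (nat_lit 295) .nil) (nat_lit 697) (nat_lit 241) (nat_lit 123) (.node (.node .nil (nat_lit 703)
  (nat_lit 192) (nat_lit 518) .nil) (nat_lit 705) (nat_lit 208) (nat_lit 82) .nil)))) (nat_lit 714) (nat_lit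
  256) (nat_lit 851) (.node (.node (.node (.node (.node .nil (nat_lit 717) (nat_lit 176) (nat_lit 658) .nil)
  (nat_lit 720) (nat_lit 224) (nat_lit 991) (.node .nil (nat_lit 726) (nat_lit 305) (nat_lit 887) .nil))
  (nat_lit 729) (nat_lit 65) (nat_lit 1384) (.node (.node .nil (nat_lit 731) (nat_lit 160) (nat_lit 636) .nil)
  (nat_lit 732) (nat_lit 208) (nat_lit 388) .nil)) (nat_lit 739) (nat_lit 257) (nat_lit 970) (.node (.node
  (.node .nil (nat_lit 741) (nat_lit 193) (nat_lit 72) .nil) (nat_lit 744) (nat_lit 177) (nat_lit 1267) .nil)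
  (nat_lit 746) (nat_lit 224) (nat_lit 336) (.node (.node .nil (nat_lit 750) (nat_lit 209) (nat_lit 1106)
  .nil) (nat_lit 751) (nat_lit 145) (nat_lit 371) .nil))) (nat_lit 769) (nat_lit 273) (nat_lit 1582) (.node
  (.node (.node (.node .nil (nat_lit 778) (nat_lit 225) (nat_lit 1709) .nil) (nat_lit 779) (nat_lit 225)
  (nat_lit 635) (.node .nil (nat_lit 785) (nat_lit 33) (nat_lit 827) .nil)) (nat_lit 788) (nat_lit 176)
  (nat_lit 1401) (.node (.node .nil (nat_lit 793) (nat_lit 257) (nat_lit 652) .nil) (nat_lit 798) (nat_lit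
  240) (nat_lit 264) .nil)) (nat_lit 806) (nat_lit 240) (nat_lit 1255) (.node (.node (.node .nil (nat_lit 807)
  (nat_lit 209) (nat_lit 1416) .nil) (nat_lit 809) (nat_lit 288) (nat_lit 1199) .nil) (nat_lit 810) (nat_lit
  240) (nat_lit 1234) (.node (.node .nil (nat_lit 816) (nat_lit 161) (nat_lit 1422) .nil) (nat_lit 827)
  (nat_lit 16) (nat_lit 568) .nil))))))
def x71t_2 : T := (.node (.node (.node (.node (.node (.node (.node .nil (nat_lit 836) (nat_lit 145) (nat_lit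
  633) .nil) (nat_lit 840) (nat_lit 193) (nat_lit 1311) (.node .nil (nat_lit 841) (nat_lit 160) (nat_lit 1422)
  .nil)) (nat_lit 850) (nat_lit 225) (nat_lit 1349) (.node (.node .nil (nat_lit 851) (nat_lit 241) (nat_lit
  746) .nil) (nat_lit 856) (nat_lit 208) (nat_lit 1587) .nil)) (nat_lit 859) (nat_lit 225) (nat_lit 991)
  (.node (.node (.node .nil (nat_lit 862) (nat_lit 177) (nat_lit 658) .nil) (nat_lit 865) (nat_lit 113)
  (nat_lit 439) .nil) (nat_lit 869) (nat_lit 305) (nat_lit 283) (.node (.node .nil (nat_lit 874) (nat_lit 224)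
  (nat_lit 1038) .nil) (nat_lit 878) (nat_lit 273) (nat_lit 888) .nil))) (nat_lit 881) (nat_lit 129) (nat_lit
  56) (.node (.node (.node (.node .nil (nat_lit 887) (nat_lit 289) (nat_lit 1439) .nil) (nat_lit 888) (nat_lit
  257) (nat_lit 1521) (.node .nil (nat_lit 895) (nat_lit 176) (nat_lit 1100) .nil)) (nat_lit 898) (nat_lit
  257) (nat_lit 1115) (.node (.node .nil (nat_lit 919) (nat_lit 193) (nat_lit 1376) .nil) (nat_lit 928)
  (nat_lit 192) (nat_lit 571) .nil)) (nat_lit 936) (nat_lit 161) (nat_lit 836) (.node (.node (.node .nil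
  (nat_lit 937) (nat_lit 225) (nat_lit 705) .nil) (nat_lit 938) (nat_lit 240) (nat_lit 1780) .nil) (nat_lit
  941) (nat_lit 209) (nat_lit 6) (.node (.node .nil (nat_lit 947) (nat_lit 224) (nat_lit 1261) .nil) (nat_lit
  950) (nat_lit 193) (nat_lit 1462) .nil)))) (nat_lit 953) (nat_lit 241) (nat_lit 69) (.node (.node (.node
  (.node (.node .nil (nat_lit 957) (nat_lit 256) (nat_lit 473) .nil) (nat_lit 961) (nat_lit 192) (nat_lit
  1213) (.node .nil (nat_lit 964) (nat_lit 257) (nat_lit 1406) .nil)) (nat_lit 968) (nat_lit 256) (nat_lit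
  1408) (.node (.node .nil (nat_lit 970) (nat_lit 240) (nat_lit 1065) .nil) (nat_lit 972) (nat_lit 161)
  (nat_lit 385) .nil)) (nat_lit 983) (nat_lit 81) (nat_lit 729) (.node (.node (.node .nil (nat_lit 990)
  (nat_lit 305) (nat_lit 435) .nil) (nat_lit 991) (nat_lit 209) (nat_lit 132) .nil) (nat_lit 1001) (nat_lit
  257) (nat_lit 1135) (.node (.node .nil (nat_lit 1009) (nat_lit 193) (nat_lit 1417) .nil) (nat_lit 1013)
  (nat_lit 208) (nat_lit 354) .nil))) (nat_lit 1014) (nat_lit 224) (nat_lit 404) (.node (.node (.node (.node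
  .nil (nat_lit 1019) (nat_lit 96) (nat_lit 1348) .nil) (nat_lit 1022) (nat_lit 49) (nat_lit 785) (.node .nil
  (nat_lit 1025) (nat_lit 273) (nat_lit 504) .nil)) (nat_lit 1038) (nat_lit 209) (nat_lit 82) (.node (.node
  .nil (nat_lit 1040) (nat_lit 144) (nat_lit 881) .nil) (nat_lit 1042) (nat_lit 224) (nat_lit 1476) .nil))
  (nat_lit 1044) (nat_lit 129) (nat_lit 1435) (.node (.node (.node .nil (nat_lit 1049) (nat_lit 225) (nat_lit
  1517) .nil) (nat_lit 1055) (nat_lit 257) (nat_lit 1468) .nil) (nat_lit 1058) (nat_lit 177) (nat_lit 936)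
  (.node (.node .nil (nat_lit 1065) (nat_lit 225) (nat_lit 1594) .nil) (nat_lit 1070) (nat_lit 193) (nat_lit
  1241) .nil))))) (nat_lit 1076) (nat_lit 177) (nat_lit 1644) (.node (.node (.node (.node (.node (.node .nil
  (nat_lit 1087) (nat_lit 176) (nat_lit 471) .nil) (nat_lit 1088) (nat_lit 192) (nat_lit 1311) (.node .nil
  (nat_lit 1093) (nat_lit 176) (nat_lit 972) .nil)) (nat_lit 1098) (nat_lit 272) (nat_lit 504) (.node (.node
  .nil (nat_lit 1100) (nat_lit 161) (nat_lit 236) .nil) (nat_lit 1106) (nat_lit 193) (nat_lit 1087) .nil))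
  (nat_lit 1109) (nat_lit 177) (nat_lit 1401) (.node (.node (.node .nil (nat_lit 1115) (nat_lit 241) (nat_lit
  98) .nil) (nat_lit 1117) (nat_lit 209) (nat_lit 928) .nil) (nat_lit 1118) (nat_lit 193) (nat_lit 862) (.node
  (.node .nil (nat_lit 1119) (nat_lit 225) (nat_lit 1453) .nil) (nat_lit 1124) (nat_lit 257) (nat_lit 461)
  .nil))) (nat_lit 1135) (nat_lit 240) (nat_lit 859) (.node (.node (.node (.node .nil (nat_lit 1141) (nat_lit
  289) (nat_lit 262) .nil) (nat_lit 1146) (nat_lit 225) (nat_lit 750) (.node .nil (nat_lit 1158) (nat_lit 176)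
  (nat_lit 1551) .nil)) (nat_lit 1166) (nat_lit 208) (nat_lit 472) (.node (.node .nil (nat_lit 1172) (nat_lit
  209) (nat_lit 1009) .nil) (nat_lit 1173) (nat_lit 177) (nat_lit 569) .nil)) (nat_lit 1178) (nat_lit 129)
  (nat_lit 339) (.node (.node (.node .nil (nat_lit 1181) (nat_lit 257) (nat_lit 142) .nil) (nat_lit 1190)
  (nat_lit 241) (nat_lit 9) .nil) (nat_lit 1199) (nat_lit 273) (nat_lit 1286) (.node (.node .nil (nat_lit
  1204) (nat_lit 176) (nat_lit 936) .nil) (nat_lit 1213) (nat_lit 177) (nat_lit 471) .nil)))) (nat_lit 1214)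
  (nat_lit 208) (nat_lit 578) (.node (.node (.node (.node (.node .nil (nat_lit 1233) (nat_lit 192) (nat_lit
  862) .nil) (nat_lit 1234) (nat_lit 225) (nat_lit 642) (.node .nil (nat_lit 1241) (nat_lit 177) (nat_lit
  1613) .nil)) (nat_lit 1250) (nat_lit 225) (nat_lit 1643) (.node (.node .nil (nat_lit 1255) (nat_lit 225)
  (nat_lit 941) .nil) (nat_lit 1261) (nat_lit 209) (nat_lit 388) .nil)) (nat_lit 1264) (nat_lit 256) (nat_lit
  1468) (.node (.node (.node .nil (nat_lit 1267) (nat_lit 160) (nat_lit 1459) .nil) (nat_lit 1273) (nat_lit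
  241) (nat_lit 874) .nil) (nat_lit 1276) (nat_lit 240) (nat_lit 937) (.node (.node .nil (nat_lit 1282)
  (nat_lit 241) (nat_lit 937) .nil) (nat_lit 1285) (nat_lit 273) (nat_lit 1342) .nil))) (nat_lit 1286)
  (nat_lit 257) (nat_lit 399) (.node (.node (.node (.node .nil (nat_lit 1289) (nat_lit 240) (nat_lit 573)
  .nil) (nat_lit 1294) (nat_lit 193) (nat_lit 717) (.node .nil (nat_lit 1296) (nat_lit 225) (nat_lit 856)
  .nil)) (nat_lit 1300) (nat_lit 241) (nat_lit 1751) (.node (.node .nil (nat_lit 1311) (nat_lit 177) (nat_lit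
  731) .nil) (nat_lit 1312) (nat_lit 256) (nat_lit 1115) .nil)) (nat_lit 1319) (nat_lit 176) (nat_lit 569)
  (.node (.node (.node .nil (nat_lit 1320) (nat_lit 192) (nat_lit 744) .nil) (nat_lit 1323) (nat_lit 241)
  (nat_lit 580) .nil) (nat_lit 1325) (nat_lit 257) (nat_lit 318) (.node (.node .nil (nat_lit 1331) (nat_lit
  128) (nat_lit 339) .nil) (nat_lit 1336) (nat_lit 273) (nat_lit 427) .nil))))))
def x71t_3 : T := (.node (.node (.node (.node (.node (.node (.node .nil (nat_lit 1348) (nat_lit 81) (nat_lit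
  111) .nil) (nat_lit 1349) (nat_lit 209) (nat_lit 1294) (.node .nil (nat_lit 1355) (nat_lit 305) (nat_lit
  1577) .nil)) (nat_lit 1362) (nat_lit 192) (nat_lit 620) (.node (.node .nil (nat_lit 1364) (nat_lit 224)
  (nat_lit 549) .nil) (nat_lit 1367) (nat_lit 241) (nat_lit 198) .nil)) (nat_lit 1372) (nat_lit 192) (nat_lit
  1373) (.node (.node (.node .nil (nat_lit 1373) (nat_lit 177) (nat_lit 292) .nil) (nat_lit 1376) (nat_lit
  177) (nat_lit 19) .nil) (nat_lit 1384) (nat_lit 48) (nat_lit 785) (.node (.node .nil (nat_lit 1393) (nat_lit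
  256) (nat_lit 953) .nil) (nat_lit 1394) (nat_lit 208) (nat_lit 950) .nil))) (nat_lit 1401) (nat_lit 161)
  (nat_lit 51) (.node (.node (.node (.node .nil (nat_lit 1406) (nat_lit 240) (nat_lit 580) .nil) (nat_lit
  1408) (nat_lit 241) (nat_lit 859) (.node .nil (nat_lit 1416) (nat_lit 193) (nat_lit 89) .nil)) (nat_lit
  1417) (nat_lit 176) (nat_lit 816) (.node (.node .nil (nat_lit 1420) (nat_lit 224) (nat_lit 830) .nil)
  (nat_lit 1422) (nat_lit 145) (nat_lit 1331) .nil)) (nat_lit 1426) (nat_lit 160) (nat_lit 836) (.node (.node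
  (.node .nil (nat_lit 1432) (nat_lit 256) (nat_lit 1592) .nil) (nat_lit 1435) (nat_lit 113) (nat_lit 647)
  .nil) (nat_lit 1439) (nat_lit 273) (nat_lit 1432) (.node (.node .nil (nat_lit 1444) (nat_lit 289) (nat_lit
  114) .nil) (nat_lit 1453) (nat_lit 209) (nat_lit 601) .nil)))) (nat_lit 1454) (nat_lit 208) (nat_lit 919)
  (.node (.node (.node (.node (.node .nil (nat_lit 1456) (nat_lit 225) (nat_lit 1261) .nil) (nat_lit 1457)
  (nat_lit 273) (nat_lit 366) (.node .nil (nat_lit 1459) (nat_lit 145) (nat_lit 516) .nil)) (nat_lit 1461)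
  (nat_lit 192) (nat_lit 1109) (.node (.node .nil (nat_lit 1462) (nat_lit 177) (nat_lit 490) .nil) (nat_lit
  1468) (nat_lit 241) (nat_lit 1119) .nil)) (nat_lit 1471) (nat_lit 273) (nat_lit 524) (.node (.node (.node
  .nil (nat_lit 1476) (nat_lit 209) (nat_lit 1761) .nil) (nat_lit 1477) (nat_lit 144) (nat_lit 1178) .nil)
  (nat_lit 1490) (nat_lit 192) (nat_lit 1076) (.node (.node .nil (nat_lit 1491) (nat_lit 289) (nat_lit 1614)
  .nil) (nat_lit 1494) (nat_lit 192) (nat_lit 1241) .nil))) (nat_lit 1495) (nat_lit 208) (nat_lit 1118) (.node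
  (.node (.node (.node .nil (nat_lit 1512) (nat_lit 241) (nat_lit 1750) .nil) (nat_lit 1516) (nat_lit 289)
  (nat_lit 1336) (.node .nil (nat_lit 1517) (nat_lit 209) (nat_lit 741) .nil)) (nat_lit 1521) (nat_lit 241)
  (nat_lit 87) (.node (.node .nil (nat_lit 1541) (nat_lit 257) (nat_lit 38) .nil) (nat_lit 1546) (nat_lit 240)
  (nat_lit 136) .nil)) (nat_lit 1551) (nat_lit 161) (nat_lit 636) (.node (.node (.node .nil (nat_lit 1552)
  (nat_lit 208) (nat_lit 1070) .nil) (nat_lit 1559) (nat_lit 192) (nat_lit 1173) .nil) (nat_lit 1560) (nat_lit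
  241) (nat_lit 1364) (.node (.node .nil (nat_lit 1571) (nat_lit 225) (nat_lit 807) .nil) (nat_lit 1572)
  (nat_lit 225) (nat_lit 830) .nil))))) (nat_lit 1577) (nat_lit 288) (nat_lit 262) (.node (.node (.node (.node
  (.node (.node .nil (nat_lit 1578) (nat_lit 129) (nat_lit 481) .nil) (nat_lit 1581) (nat_lit 224) (nat_lit
  240) (.node .nil (nat_lit 1582) (nat_lit 257) (nat_lit 0) .nil)) (nat_lit 1584) (nat_lit 273) (nat_lit 157)
  (.node (.node .nil (nat_lit 1585) (nat_lit 209) (nat_lit 1118) .nil) (nat_lit 1587) (nat_lit 193) (nat_lit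
  1373) .nil)) (nat_lit 1589) (nat_lit 240) (nat_lit 1119) (.node (.node (.node .nil (nat_lit 1592) (nat_lit
  241) (nat_lit 1049) .nil) (nat_lit 1594) (nat_lit 209) (nat_lit 1687) .nil) (nat_lit 1596) (nat_lit 209)
  (nat_lit 1088) (.node (.node .nil (nat_lit 1597) (nat_lit 241) (nat_lit 1042) .nil) (nat_lit 1600) (nat_lit
  241) (nat_lit 664) .nil))) (nat_lit 1601) (nat_lit 272) (nat_lit 1626) (.node (.node (.node (.node .nil
  (nat_lit 1607) (nat_lit 209) (nat_lit 1494) .nil) (nat_lit 1608) (nat_lit 192) (nat_lit 1462) (.node .nil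
  (nat_lit 1613) (nat_lit 161) (nat_lit 655) .nil)) (nat_lit 1614) (nat_lit 272) (nat_lit 326) (.node (.node
  .nil (nat_lit 1625) (nat_lit 225) (nat_lit 240) .nil) (nat_lit 1626) (nat_lit 257) (nat_lit 1512) .nil))
  (nat_lit 1630) (nat_lit 209) (nat_lit 532) (.node (.node (.node .nil (nat_lit 1643) (nat_lit 209) (nat_lit
  133) .nil) (nat_lit 1644) (nat_lit 160) (nat_lit 51) .nil) (nat_lit 1648) (nat_lit 225) (nat_lit 140) (.node
  (.node .nil (nat_lit 1652) (nat_lit 208) (nat_lit 132) .nil) (nat_lit 1653) (nat_lit 145) (nat_lit 323)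
  .nil)))) (nat_lit 1659) (nat_lit 240) (nat_lit 123) (.node (.node (.node (.node (.node .nil (nat_lit 1664)
  (nat_lit 257) (nat_lit 1597) .nil) (nat_lit 1666) (nat_lit 176) (nat_lit 292) (.node .nil (nat_lit 1669)
  (nat_lit 225) (nat_lit 1741) .nil)) (nat_lit 1675) (nat_lit 273) (nat_lit 631) (.node (.node .nil (nat_lit
  1681) (nat_lit 272) (nat_lit 297) .nil) (nat_lit 1683) (nat_lit 225) (nat_lit 1763) .nil)) (nat_lit 1687)
  (nat_lit 193) (nat_lit 1747) (.node (.node (.node .nil (nat_lit 1693) (nat_lit 241) (nat_lit 779) .nil)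
  (nat_lit 1706) (nat_lit 288) (nat_lit 187) .nil) (nat_lit 1709) (nat_lit 209) (nat_lit 703) (.node (.node
  .nil (nat_lit 1726) (nat_lit 176) (nat_lit 490) .nil) (nat_lit 1731) (nat_lit 192) (nat_lit 493) .nil)))
  (nat_lit 1741) (nat_lit 208) (nat_lit 741) (.node (.node (.node (.node .nil (nat_lit 1742) (nat_lit 288)
  (nat_lit 250) .nil) (nat_lit 1744) (nat_lit 240) (nat_lit 164) (.node .nil (nat_lit 1745) (nat_lit 192)
  (nat_lit 89) .nil)) (nat_lit 1747) (nat_lit 177) (nat_lit 841) (.node (.node .nil (nat_lit 1750) (nat_lit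
  224) (nat_lit 147) .nil) (nat_lit 1751) (nat_lit 225) (nat_lit 168) .nil)) (nat_lit 1761) (nat_lit 193)
  (nat_lit 571) (.node (.node (.node .nil (nat_lit 1763) (nat_lit 208) (nat_lit 133) .nil) (nat_lit 1773)
  (nat_lit 240) (nat_lit 374) .nil) (nat_lit 1774) (nat_lit 241) (nat_lit 573) (.node (.node .nil (nat_lit
  1777) (nat_lit 225) (nat_lit 147) .nil) (nat_lit 1780) (nat_lit 225) (nat_lit 1214) .nil))))))
def x71t : T := (.node (.node x71t_0 (nat_lit 388) (nat_lit 193) (nat_lit 1204) x71t_1) (nat_lit 830) (nat_lit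
  209) (nat_lit 13) (.node x71t_2 (nat_lit 1342) (nat_lit 257) (nat_lit 1774) x71t_3))
def x71 : Lvl := ⟨nat_lit 568, [nat_lit 13, nat_lit 15], [], x71t⟩
def x72t : T := (.node (.node (.node (.node (.node (.node (.node .nil (nat_lit 2) (nat_lit 161) (nat_lit 850)
  .nil) (nat_lit 9) (nat_lit 128) (nat_lit 12) (.node .nil (nat_lit 12) (nat_lit 113) (nat_lit 1181) .nil))
  (nat_lit 16) (nat_lit 113) (nat_lit 1585) (.node (.node .nil (nat_lit 40) (nat_lit 129) (nat_lit 16) .nil)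
  (nat_lit 45) (nat_lit 113) (nat_lit 851) .nil)) (nat_lit 87) (nat_lit 17) (nat_lit 1320) (.node (.node
  (.node .nil (nat_lit 100) (nat_lit 145) (nat_lit 1726) .nil) (nat_lit 121) (nat_lit 144) (nat_lit 1393)
  .nil) (nat_lit 130) (nat_lit 113) (nat_lit 750) (.node (.node .nil (nat_lit 140) (nat_lit 81) (nat_lit 1289)
  .nil) (nat_lit 142) (nat_lit 161) (nat_lit 1687) .nil))) (nat_lit 145) (nat_lit 176) (nat_lit 419) (.node
  (.node (.node (.node .nil (nat_lit 147) (nat_lit 129) (nat_lit 888) .nil) (nat_lit 177) (nat_lit 128)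
  (nat_lit 739) (.node .nil (nat_lit 187) (nat_lit 177) (nat_lit 514) .nil)) (nat_lit 189) (nat_lit 193)
  (nat_lit 145) (.node (.node .nil (nat_lit 230) (nat_lit 160) (nat_lit 970) .nil) (nat_lit 283) (nat_lit 145)
  (nat_lit 40) .nil)) (nat_lit 300) (nat_lit 80) (nat_lit 1289) (.node (.node (.node .nil (nat_lit 306)
  (nat_lit 144) (nat_lit 1364) .nil) (nat_lit 310) (nat_lit 49) (nat_lit 578) .nil) (nat_lit 318) (nat_lit
  129) (nat_lit 862) (.node (.node .nil (nat_lit 323) (nat_lit 129) (nat_lit 841) .nil) (nat_lit 328) (nat_lit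
  177) (nat_lit 869) .nil)))) (nat_lit 334) (nat_lit 128) (nat_lit 1744) (.node (.node (.node (.node (.node
  .nil (nat_lit 374) (nat_lit 81) (nat_lit 1594) .nil) (nat_lit 389) (nat_lit 160) (nat_lit 283) (.node .nil
  (nat_lit 413) (nat_lit 161) (nat_lit 1747) .nil)) (nat_lit 419) (nat_lit 161) (nat_lit 793) (.node (.node
  .nil (nat_lit 448) (nat_lit 160) (nat_lit 1560) .nil) (nat_lit 506) (nat_lit 177) (nat_lit 389) .nil))
  (nat_lit 513) (nat_lit 49) (nat_lit 1294) (.node (.node (.node .nil (nat_lit 514) (nat_lit 161) (nat_lit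
  1521) .nil) (nat_lit 548) (nat_lit 113) (nat_lit 788) .nil) (nat_lit 578) (nat_lit 32) (nat_lit 87) (.node
  (.node .nil (nat_lit 631) (nat_lit 48) (nat_lit 1294) .nil) (nat_lit 652) (nat_lit 192) (nat_lit 1777)
  .nil))) (nat_lit 658) (nat_lit 97) (nat_lit 300) (.node (.node (.node (.node .nil (nat_lit 714) (nat_lit 96)
  (nat_lit 374) .nil) (nat_lit 717) (nat_lit 161) (nat_lit 306) .nil) (nat_lit 720) (nat_lit 177) (nat_lit 2)
  (.node (.node .nil (nat_lit 739) (nat_lit 113) (nat_lit 714) .nil) (nat_lit 746) (nat_lit 193) (nat_lit 874)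
  .nil)) (nat_lit 750) (nat_lit 96) (nat_lit 140) (.node (.node (.node .nil (nat_lit 788) (nat_lit 97)
  (nat_lit 1166) .nil) (nat_lit 793) (nat_lit 144) (nat_lit 147) .nil) (nat_lit 798) (nat_lit 161) (nat_lit
  121) (.node (.node .nil (nat_lit 841) (nat_lit 112) (nat_lit 658) .nil) (nat_lit 850) (nat_lit 144) (nat_lit
  40) .nil))))) (nat_lit 851) (nat_lit 97) (nat_lit 1264) (.node (.node (.node (.node (.node (.node .nil
  (nat_lit 862) (nat_lit 112) (nat_lit 788) .nil) (nat_lit 869) (nat_lit 160) (nat_lit 1172) (.node .nil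
  (nat_lit 874) (nat_lit 176) (nat_lit 514) .nil)) (nat_lit 878) (nat_lit 209) (nat_lit 1013) (.node (.node
  .nil (nat_lit 888) (nat_lit 112) (nat_lit 851) .nil) (nat_lit 938) (nat_lit 145) (nat_lit 1349) .nil))
  (nat_lit 947) (nat_lit 177) (nat_lit 230) (.node (.node (.node .nil (nat_lit 970) (nat_lit 145) (nat_lit
  1393) .nil) (nat_lit 1009) (nat_lit 113) (nat_lit 658) .nil) (nat_lit 1013) (nat_lit 192) (nat_lit 947)
  (.node (.node .nil (nat_lit 1065) (nat_lit 112) (nat_lit 1585) .nil) (nat_lit 1087) (nat_lit 144) (nat_lit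
  318) .nil))) (nat_lit 1106) (nat_lit 160) (nat_lit 1648) (.node (.node (.node (.node .nil (nat_lit 1118)
  (nat_lit 161) (nat_lit 100) .nil) (nat_lit 1146) (nat_lit 81) (nat_lit 1490) .nil) (nat_lit 1166) (nat_lit
  80) (nat_lit 1325) (.node (.node .nil (nat_lit 1172) (nat_lit 145) (nat_lit 334) .nil) (nat_lit 1181)
  (nat_lit 97) (nat_lit 140) .nil)) (nat_lit 1190) (nat_lit 145) (nat_lit 177) (.node (.node (.node .nil
  (nat_lit 1264) (nat_lit 81) (nat_lit 1325) .nil) (nat_lit 1273) (nat_lit 160) (nat_lit 1190) .nil) (nat_lit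
  1276) (nat_lit 96) (nat_lit 1146) (.node (.node .nil (nat_lit 1289) (nat_lit 65) (nat_lit 631) .nil)
  (nat_lit 1294) (nat_lit 33) (nat_lit 87) .nil)))) (nat_lit 1320) (nat_lit 0) (nat_lit 1320) (.node (.node
  (.node (.node (.node .nil (nat_lit 1325) (nat_lit 65) (nat_lit 310) .nil) (nat_lit 1349) (nat_lit 128)
  (nat_lit 548) (.node .nil (nat_lit 1364) (nat_lit 129) (nat_lit 1744) .nil)) (nat_lit 1393) (nat_lit 129)
  (nat_lit 739) (.node (.node .nil (nat_lit 1394) (nat_lit 192) (nat_lit 328) .nil) (nat_lit 1417) (nat_lit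
  96) (nat_lit 1264) .nil)) (nat_lit 1454) (nat_lit 176) (nat_lit 1118) (.node (.node (.node .nil (nat_lit
  1477) (nat_lit 16) (nat_lit 1320) .nil) (nat_lit 1490) (nat_lit 64) (nat_lit 513) .nil) (nat_lit 1521)
  (nat_lit 145) (nat_lit 147) (.node (.node .nil (nat_lit 1560) (nat_lit 145) (nat_lit 1653) .nil) (nat_lit
  1585) (nat_lit 97) (nat_lit 1146) .nil))) (nat_lit 1594) (nat_lit 64) (nat_lit 310) (.node (.node (.node
  (.node .nil (nat_lit 1601) (nat_lit 112) (nat_lit 1181) .nil) (nat_lit 1648) (nat_lit 145) (nat_lit 1745)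
  .nil) (nat_lit 1653) (nat_lit 129) (nat_lit 1601) (.node (.node .nil (nat_lit 1675) (nat_lit 176) (nat_lit
  717) .nil) (nat_lit 1681) (nat_lit 144) (nat_lit 1745) .nil)) (nat_lit 1687) (nat_lit 144) (nat_lit 323)
  (.node (.node (.node .nil (nat_lit 1726) (nat_lit 129) (nat_lit 1009) .nil) (nat_lit 1744) (nat_lit 113)
  (nat_lit 1276) .nil) (nat_lit 1745) (nat_lit 129) (nat_lit 1065) (.node (.node .nil (nat_lit 1747) (nat_lit
  145) (nat_lit 318) .nil) (nat_lit 1777) (nat_lit 177) (nat_lit 717) .nil))))))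
def x72 : Lvl := ⟨nat_lit 1320, [nat_lit 179, nat_lit 0x87ba47], [], x72t⟩
def x73t : T := (.node (.node (.node (.node (.node (.node .nil (nat_lit 12) (nat_lit 80) (nat_lit 177) .nil)
  (nat_lit 40) (nat_lit 113) (nat_lit 798) .nil) (nat_lit 121) (nat_lit 49) (nat_lit 1560) (.node .nil
  (nat_lit 145) (nat_lit 66) (nat_lit 147) .nil)) (nat_lit 147) (nat_lit 48) (nat_lit 631) (.node (.node
  (.node .nil (nat_lit 177) (nat_lit 65) (nat_lit 147) .nil) (nat_lit 189) (nat_lit 97) (nat_lit 1013) .nil)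
  (nat_lit 230) (nat_lit 114) (nat_lit 189) (.node .nil (nat_lit 328) (nat_lit 50) (nat_lit 631) .nil)))
  (nat_lit 374) (nat_lit 97) (nat_lit 12) (.node (.node (.node (.node .nil (nat_lit 413) (nat_lit 80) (nat_lit
  1490) .nil) (nat_lit 419) (nat_lit 64) (nat_lit 328) .nil) (nat_lit 506) (nat_lit 66) (nat_lit 578) (.node
  .nil (nat_lit 548) (nat_lit 65) (nat_lit 328) .nil)) (nat_lit 578) (nat_lit 50) (nat_lit 1560) (.node (.node
  .nil (nat_lit 631) (nat_lit 34) (nat_lit 874) .nil) (nat_lit 652) (nat_lit 80) (nat_lit 506) (.node .nil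
  (nat_lit 720) (nat_lit 114) (nat_lit 947) .nil)))) (nat_lit 739) (nat_lit 82) (nat_lit 419) (.node (.node
  (.node (.node (.node .nil (nat_lit 746) (nat_lit 113) (nat_lit 374) .nil) (nat_lit 793) (nat_lit 98)
  (nat_lit 739) .nil) (nat_lit 798) (nat_lit 97) (nat_lit 413) (.node .nil (nat_lit 851) (nat_lit 96) (nat_lit
  1745) .nil)) (nat_lit 874) (nat_lit 16) (nat_lit 1477) (.node (.node .nil (nat_lit 947) (nat_lit 98)
  (nat_lit 970) .nil) (nat_lit 970) (nat_lit 81) (nat_lit 419) (.node .nil (nat_lit 1013) (nat_lit 80)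
  (nat_lit 1726) .nil))) (nat_lit 1273) (nat_lit 96) (nat_lit 970) (.node (.node (.node (.node .nil (nat_lit
  1364) (nat_lit 113) (nat_lit 851) .nil) (nat_lit 1477) (nat_lit 0) (nat_lit 1477) .nil) (nat_lit 1490)
  (nat_lit 66) (nat_lit 121) (.node .nil (nat_lit 1560) (nat_lit 33) (nat_lit 874) .nil)) (nat_lit 1675)
  (nat_lit 49) (nat_lit 631) (.node (.node .nil (nat_lit 1726) (nat_lit 65) (nat_lit 1675) .nil) (nat_lit
  1745) (nat_lit 81) (nat_lit 506) (.node .nil (nat_lit 1777) (nat_lit 112) (nat_lit 374) .nil)))))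
def x73 : Lvl := ⟨nat_lit 1477, [nat_lit 0x5b36cda1, nat_lit 0x216e385c1, nat_lit 0x64f705c1], [], x73t⟩
def x7 : List Lvl := [x70, x71, x72, x73]
def s70t : T := (.node (.node (.node .nil (nat_lit 293) (nat_lit 0) (nat_lit 293) .nil) (nat_lit 568) (nat_lit
  17) (nat_lit 293) .nil) (nat_lit 1320) (nat_lit 33) (nat_lit 1477) (.node .nil (nat_lit 1477) (nat_lit 16)
  (nat_lit 293) .nil))
def s70 : Lvl := ⟨nat_lit 293, [nat_lit 2, nat_lit 3], [], s70t⟩
def s71t : T := (.node (.node .nil (nat_lit 568) (nat_lit 0) (nat_lit 568) .nil) (nat_lit 1320) (nat_lit 16)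
  (nat_lit 568) (.node .nil (nat_lit 1477) (nat_lit 32) (nat_lit 1320) .nil))
def s71 : Lvl := ⟨nat_lit 568, [nat_lit 68], [], s71t⟩
def s72t : T := (.node (.node .nil (nat_lit 1320) (nat_lit 0) (nat_lit 1320) .nil) (nat_lit 1477) (nat_lit 16)
  (nat_lit 1320) .nil)
def s72 : Lvl := ⟨nat_lit 1320, [nat_lit 179], [], s72t⟩
def s73t : T := (.node .nil (nat_lit 1477) (nat_lit 0) (nat_lit 1477) .nil)
def s73 : Lvl := ⟨nat_lit 1477, [], [], s73t⟩
def s7 : List Lvl := [s70, s71, s72, s73]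
def tA4 : T := (.node (.node (.node (.node .nil (nat_lit 0x905a4dab385) (nat_lit 5) (nat_lit 0) .nil) (nat_lit
  0x905a4dcd9e0) (nat_lit 68) (nat_lit 0) (.node .nil (nat_lit 0x905a4e22645) (nat_lit 98) (nat_lit 98) .nil))
  (nat_lit 0x905a4e29560) (nat_lit 2) (nat_lit 2) (.node (.node .nil (nat_lit 0x905a4efb56d) (nat_lit 3)
  (nat_lit 3) .nil) (nat_lit 0x905a4f1e6d4) (nat_lit 0) (nat_lit 0) .nil)) (nat_lit 0x905a4f327d7) (nat_lit
  163) (nat_lit 0) (.node (.node (.node .nil (nat_lit 0x905a4f46524) (nat_lit 131) (nat_lit 0) .nil) (nat_lit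
  0x905a4f6c2e7) (nat_lit 162) (nat_lit 0) .nil) (nat_lit 0x905a4fb2d27) (nat_lit 4) (nat_lit 0) (.node (.node
  .nil (nat_lit 0x905a4fbbc88) (nat_lit 101) (nat_lit 0) .nil) (nat_lit 0x905a5022030) (nat_lit 130) (nat_lit
  0) .nil)))
def tV : T := (.node (.node (.node .nil (nat_lit 0x905a4e22645) (nat_lit 98) (nat_lit 0) .nil) (nat_lit
  0x905a4e29560) (nat_lit 2) (nat_lit 0) .nil) (nat_lit 0x905a4efb56d) (nat_lit 3) (nat_lit 0) (.node .nil
  (nat_lit 0x905a4f1e6d4) (nat_lit 0) (nat_lit 0) .nil))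
def tL : T := (.node (.node (.node (.node (.node (.node (.node (.node .nil (nat_lit 0x79620e760d) (nat_lit
  21010) (nat_lit 0) .nil) (nat_lit 0x796218ae17) (nat_lit 672272) (nat_lit 0) .nil) (nat_lit 0x7962290321)
  (nat_lit 21040) (nat_lit 0) (.node (.node .nil (nat_lit 0x7962d2fd25) (nat_lit 542351) (nat_lit 0) .nil)
  (nat_lit 0x7962d9b4da) (nat_lit 0x108522f) (nat_lit 0) .nil)) (nat_lit 0x7962dd3fe5) (nat_lit 542353)
  (nat_lit 0) (.node (.node (.node .nil (nat_lit 0x79630e689a) (nat_lit 573072) (nat_lit 0) .nil) (nat_lit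
  0x79631f14da) (nat_lit 510610) (nat_lit 0) .nil) (nat_lit 0x79632174c3) (nat_lit 0xf95210) (nat_lit 0)
  (.node .nil (nat_lit 0x7a87ccfdf4) (nat_lit 578064) (nat_lit 0) .nil))) (nat_lit 0x7a87d3e233) (nat_lit
  18066) (nat_lit 0) (.node (.node (.node (.node .nil (nat_lit 0x7a87eabedf) (nat_lit 17040) (nat_lit 0) .nil)
  (nat_lit 0x152095c56c2) (nat_lit 0x1485211) (nat_lit 0) .nil) (nat_lit 0x152095e69ea) (nat_lit 21012)
  (nat_lit 0) (.node (.node .nil (nat_lit 0x152097c087f) (nat_lit 0x148d1ef) (nat_lit 0) .nil) (nat_lit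
  0x152099c0b1e) (nat_lit 672340) (nat_lit 0) .nil)) (nat_lit 0x15209b20aad) (nat_lit 510607) (nat_lit 0)
  (.node (.node (.node .nil (nat_lit 0x15209ba37c4) (nat_lit 510609) (nat_lit 0) .nil) (nat_lit 0x15209c07aed)
  (nat_lit 655) (nat_lit 0) .nil) (nat_lit 0x15209c7eae2) (nat_lit 671311) (nat_lit 0) (.node .nil (nat_lit
  0x15209cadd23) (nat_lit 657) (nat_lit 0) .nil)))) (nat_lit 0x1529b6cb222) (nat_lit 574097) (nat_lit 0)
  (.node (.node (.node (.node (.node .nil (nat_lit 0x1529b6db7c1) (nat_lit 574095) (nat_lit 0) .nil) (nat_lit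
  0x1529b6e7c8d) (nat_lit 19088) (nat_lit 0) .nil) (nat_lit 0x22ebf2d4040) (nat_lit 672304) (nat_lit 0) (.node
  (.node .nil (nat_lit 0x22ebf318fa8) (nat_lit 671215) (nat_lit 0) .nil) (nat_lit 0x22ebf352a15) (nat_lit
  21072) (nat_lit 0) .nil)) (nat_lit 0x22ecefc42d0) (nat_lit 15855) (nat_lit 15855) (.node (.node (.node .nil
  (nat_lit 0x22ecf164732) (nat_lit 16944) (nat_lit 16944) .nil) (nat_lit 0x22ecf23c83e) (nat_lit 592) (nat_lit
  592) .nil) (nat_lit 0x22f62157567) (nat_lit 500) (nat_lit 0) (.node .nil (nat_lit 0x22f6224c7d6) (nat_lit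
  512529) (nat_lit 0) .nil))) (nat_lit 0x22f6236266f) (nat_lit 512591) (nat_lit 0) (.node (.node (.node (.node
  .nil (nat_lit 0x22ff195d977) (nat_lit 20980) (nat_lit 0) .nil) (nat_lit 0x22ff1a47e8b) (nat_lit 15956)
  (nat_lit 0) .nil) (nat_lit 0x22ff1af3098) (nat_lit 0xf9524f) (nat_lit 0) (.node .nil (nat_lit 0x24a6ace8cc9)
  (nat_lit 610863) (nat_lit 0) .nil)) (nat_lit 0x24a6ad84da2) (nat_lit 19090) (nat_lit 0) (.node (.node (.node
  .nil (nat_lit 0x24a6aeaa56d) (nat_lit 610832) (nat_lit 0) .nil) (nat_lit 0x24a7a45ca3a) (nat_lit 605840)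
  (nat_lit 0) .nil) (nat_lit 0x24a7a47d317) (nat_lit 0x1485230) (nat_lit 0) (.node .nil (nat_lit
  0x24a7a6c51bd) (nat_lit 0xf8be8f) (nat_lit 0) .nil))))) (nat_lit 0x24b0d97c09c) (nat_lit 0x149522f) (nat_lit
  0) (.node (.node (.node (.node (.node (.node .nil (nat_lit 0x24b0d9c2812) (nat_lit 542354) (nat_lit 0) .nil)
  (nat_lit 0x24b0dac19f6) (nat_lit 541328) (nat_lit 0) .nil) (nat_lit 0x24b9c6f8792) (nat_lit 578096) (nat_lit
  0) (.node (.node .nil (nat_lit 0x24b9c8b4497) (nat_lit 545328) (nat_lit 0) .nil) (nat_lit 0x24b9c992e2d)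
  (nat_lit 545298) (nat_lit 0) .nil)) (nat_lit 0x2b7c5417cd4) (nat_lit 674447) (nat_lit 0) (.node (.node
  (.node .nil (nat_lit 0x2b7c55e3993) (nat_lit 674449) (nat_lit 0) .nil) (nat_lit 0x2b7c560dac7) (nat_lit
  0x11a4a8f) (nat_lit 0) .nil) (nat_lit 0x2b7c5ca5abe) (nat_lit 510608) (nat_lit 0) (.node .nil (nat_lit
  0x2b7c5d6c49b) (nat_lit 573071) (nat_lit 0) .nil))) (nat_lit 0x2b7c5d6ddcc) (nat_lit 573073) (nat_lit 0)
  (.node (.node (.node (.node .nil (nat_lit 0x2b7ce206f6a) (nat_lit 672401) (nat_lit 0) .nil) (nat_lit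
  0x2b7ce26c9af) (nat_lit 605839) (nat_lit 0) .nil) (nat_lit 0x2b7ce317757) (nat_lit 672399) (nat_lit 0)
  (.node .nil (nat_lit 0x2b8fa429168) (nat_lit 0x109522f) (nat_lit 0) .nil)) (nat_lit 0x2b8fa4599f8) (nat_lit
  16017) (nat_lit 0) (.node (.node (.node .nil (nat_lit 0x2b8fa480601) (nat_lit 16015) (nat_lit 0) .nil)
  (nat_lit 0x3645e31be51) (nat_lit 0x12a3def) (nat_lit 0) .nil) (nat_lit 0x3645e39c8ff) (nat_lit 0x11851ef)
  (nat_lit 0) (.node .nil (nat_lit 0x3645e5d2326) (nat_lit 15860) (nat_lit 0) .nil)))) (nat_lit 0x364640efcb9)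
  (nat_lit 673426) (nat_lit 0) (.node (.node (.node (.node (.node .nil (nat_lit 0x36464127525) (nat_lit
  672400) (nat_lit 0) .nil) (nat_lit 0x364643c10c5) (nat_lit 18932) (nat_lit 0) .nil) (nat_lit 0x365015ebf16)
  (nat_lit 560) (nat_lit 560) (.node (.node .nil (nat_lit 0x36501638bb2) (nat_lit 530) (nat_lit 530) .nil)
  (nat_lit 0x3650173c6d0) (nat_lit 16912) (nat_lit 16912) .nil)) (nat_lit 0x365908a484c) (nat_lit 512592)
  (nat_lit 0) (.node (.node (.node .nil (nat_lit 0x365908ae72b) (nat_lit 0x10951ef) (nat_lit 0) .nil) (nat_lit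
  0x365908fa15e) (nat_lit 610804) (nat_lit 0) .nil) (nat_lit 0x36ee92ed950) (nat_lit 17) (nat_lit 17) (.node
  .nil (nat_lit 0x36ee93072d5) (nat_lit 15951) (nat_lit 15951) .nil))) (nat_lit 0x36ee931f662) (nat_lit 15)
  (nat_lit 15) (.node (.node (.node (.node .nil (nat_lit 0x36eee5e8a56) (nat_lit 578132) (nat_lit 0) .nil)
  (nat_lit 0x36eee6a7b25) (nat_lit 674448) (nat_lit 0) .nil) (nat_lit 0x36eee6ef870) (nat_lit 16948) (nat_lit
  0) (.node .nil (nat_lit 0x36ef7ae7e5c) (nat_lit 16980) (nat_lit 0) .nil)) (nat_lit 0x36ef7c4fd4a) (nat_lit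
  0xfa49ef) (nat_lit 0) (.node (.node (.node .nil (nat_lit 0x36ef7d28099) (nat_lit 512495) (nat_lit 0) .nil)
  (nat_lit 0x3701b002c40) (nat_lit 532) (nat_lit 0) .nil) (nat_lit 0x3701b18614c) (nat_lit 578031) (nat_lit 0)
  (.node .nil (nat_lit 0x3701b1e833b) (nat_lit 545297) (nat_lit 0) .nil)))))) (nat_lit 0x3f7eea4b5d2) (nat_lit
  0x11a3def) (nat_lit 0) (.node (.node (.node (.node (.node (.node (.node .nil (nat_lit 0x3f7eeab7ab4)
  (nat_lit 578128) (nat_lit 0) .nil) (nat_lit 0x3f7eec8d1db) (nat_lit 545263) (nat_lit 0) .nil) (nat_lit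
  0x3f7fdc8f0a1) (nat_lit 673425) (nat_lit 0) (.node (.node .nil (nat_lit 0x3f7fdeb4deb) (nat_lit 673423)
  (nat_lit 0) .nil) (nat_lit 0x3f7fdf33220) (nat_lit 541204) (nat_lit 0) .nil)) (nat_lit 0x3f892021745)
  (nat_lit 16) (nat_lit 16) (.node (.node (.node .nil (nat_lit 0x3f8920b500b) (nat_lit 15919) (nat_lit 15919)
  .nil) (nat_lit 0x3f89216a8f0) (nat_lit 498) (nat_lit 498) .nil) (nat_lit 0x3f923014d90) (nat_lit 545332)
  (nat_lit 0) (.node .nil (nat_lit 0x3f923044c59) (nat_lit 0x147d230) (nat_lit 0) .nil))) (nat_lit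
  0x3f9231e420f) (nat_lit 17908) (nat_lit 0) (.node (.node (.node (.node .nil (nat_lit 0x40bb2905d08) (nat_lit
  671279) (nat_lit 0) .nil) (nat_lit 0x40bb2b469f4) (nat_lit 20978) (nat_lit 0) .nil) (nat_lit 0x40bb2b6fea0)
  (nat_lit 656) (nat_lit 0) (.node .nil (nat_lit 0x40bc1e34c49) (nat_lit 0x14851ef) (nat_lit 0) .nil))
  (nat_lit 0x40bc1e52ceb) (nat_lit 0x127d210) (nat_lit 0) (.node (.node (.node .nil (nat_lit 0x40bc1f3a832)
  (nat_lit 605842) (nat_lit 0) .nil) (nat_lit 0x40c5534aaaa) (nat_lit 18065) (nat_lit 0) .nil) (nat_lit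
  0x40c5538acd1) (nat_lit 545327) (nat_lit 0) (.node .nil (nat_lit 0x40c55474c09) (nat_lit 18063) (nat_lit 0)
  .nil)))) (nat_lit 0x40ce654ad12) (nat_lit 512530) (nat_lit 0) (.node (.node (.node (.node (.node .nil
  (nat_lit 0x40ce65ec925) (nat_lit 512560) (nat_lit 0) .nil) (nat_lit 0x40ce6734887) (nat_lit 673268) (nat_lit
  0) .nil) (nat_lit 0x4a1eae7620a) (nat_lit 0x117d212) (nat_lit 0) (.node (.node .nil (nat_lit 0x4a1eafe2959)
  (nat_lit 671375) (nat_lit 0) .nil) (nat_lit 0x4a1eafe82ca) (nat_lit 671377) (nat_lit 0) .nil)) (nat_lit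
  0x4a1edeb513e) (nat_lit 17041) (nat_lit 0) (.node (.node (.node .nil (nat_lit 0x4a1edeff5b4) (nat_lit 17039)
  (nat_lit 0) .nil) (nat_lit 0x4a1ee02279a) (nat_lit 18064) (nat_lit 0) .nil) (nat_lit 0x4a1f4f23750) (nat_lit
  507536) (nat_lit 0) (.node .nil (nat_lit 0x4a1f4fe24a7) (nat_lit 19089) (nat_lit 0) .nil))) (nat_lit
  0x4a1f5026154) (nat_lit 19087) (nat_lit 0) (.node (.node (.node (.node .nil (nat_lit 0x4a2886039da) (nat_lit
  512559) (nat_lit 0) .nil) (nat_lit 0x4a28876aa64) (nat_lit 512528) (nat_lit 0) .nil) (nat_lit 0x4a288791589)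
  (nat_lit 16018) (nat_lit 0) (.node .nil (nat_lit 0x4c42c6daec3) (nat_lit 21009) (nat_lit 0) .nil)) (nat_lit
  0x4c42c6e4904) (nat_lit 20) (nat_lit 0) (.node (.node (.node .nil (nat_lit 0x4c42c88542e) (nat_lit 21071)
  (nat_lit 0) .nil) (nat_lit 0x4c436af5d5d) (nat_lit 495) (nat_lit 495) .nil) (nat_lit 0x4c436b5a8b8) (nat_lit
  18927) (nat_lit 18927) (.node .nil (nat_lit 0x4c436cc46fd) (nat_lit 497) (nat_lit 497) .nil))))) (nat_lit
  0x4c4c9ab47ad) (nat_lit 578065) (nat_lit 0) (.node (.node (.node (.node (.node (.node .nil (nat_lit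
  0x4c4c9acebea) (nat_lit 578127) (nat_lit 0) .nil) (nat_lit 0x4c4c9b107dd) (nat_lit 564) (nat_lit 0) .nil)
  (nat_lit 0x4c55aeacb38) (nat_lit 610833) (nat_lit 0) (.node (.node .nil (nat_lit 0x4c55b0af80d) (nat_lit
  610895) (nat_lit 0) .nil) (nat_lit 0x4c55b0d9050) (nat_lit 596) (nat_lit 0) .nil)) (nat_lit 0x4dd38025f4f)
  (nat_lit 658) (nat_lit 0) (.node (.node (.node .nil (nat_lit 0x4dd3807d720) (nat_lit 21008) (nat_lit 0)
  .nil) (nat_lit 0x4dd38107297) (nat_lit 21039) (nat_lit 0) .nil) (nat_lit 0x4dd3f28b644) (nat_lit 16016)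
  (nat_lit 0) (.node .nil (nat_lit 0x4dd3f2d35cd) (nat_lit 543377) (nat_lit 0) .nil))) (nat_lit 0x4dd3f40e207)
  (nat_lit 543375) (nat_lit 0) (.node (.node (.node (.node .nil (nat_lit 0x4ddd238ba7b) (nat_lit 542352)
  (nat_lit 0) .nil) (nat_lit 0x4ddd2471c9d) (nat_lit 541329) (nat_lit 0) .nil) (nat_lit 0x4ddd262b6b5)
  (nat_lit 541327) (nat_lit 0) (.node .nil (nat_lit 0x4de6187e6de) (nat_lit 610834) (nat_lit 0) .nil))
  (nat_lit 0x4de618e174e) (nat_lit 0x12a4210) (nat_lit 0) (.node (.node (.node .nil (nat_lit 0x4de619e3ba6)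
  (nat_lit 610864) (nat_lit 0) .nil) (nat_lit 0x4f791cd408e) (nat_lit 18) (nat_lit 18) .nil) (nat_lit
  0x4f791d8d663) (nat_lit 528) (nat_lit 528) (.node .nil (nat_lit 0x4f791dababc) (nat_lit 559) (nat_lit 559)
  .nil)))) (nat_lit 0x4f7980d8f73) (nat_lit 610799) (nat_lit 0) (.node (.node (.node (.node (.node .nil
  (nat_lit 0x4f798110235) (nat_lit 17940) (nat_lit 0) .nil) (nat_lit 0x4f79813a6d7) (nat_lit 0x12a49ef)
  (nat_lit 0) .nil) (nat_lit 0x4f82bd6425a) (nat_lit 510452) (nat_lit 0) (.node (.node .nil (nat_lit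
  0x4f82be5760a) (nat_lit 0x10851ef) (nat_lit 0) .nil) (nat_lit 0x4f82bffcb80) (nat_lit 610900) (nat_lit 0)
  .nil)) (nat_lit 0x4f8bb219dd5) (nat_lit 671376) (nat_lit 0) (.node (.node (.node .nil (nat_lit
  0x4f8bb264ab3) (nat_lit 0x10a468f) (nat_lit 0) .nil) (nat_lit 0x4f8bb43cc7a) (nat_lit 507380) (nat_lit 0)
  .nil) (nat_lit 0x905a23dfbc3) (nat_lit 674287) (nat_lit 0) (.node .nil (nat_lit 0x905a246b9a9) (nat_lit
  20975) (nat_lit 0) .nil))) (nat_lit 0x905a2568ca2) (nat_lit 20977) (nat_lit 0) (.node (.node (.node (.node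
  .nil (nat_lit 0x905a27162c2) (nat_lit 21044) (nat_lit 0) .nil) (nat_lit 0x905a2795ef1) (nat_lit 509428)
  (nat_lit 0) .nil) (nat_lit 0x905a287e3d6) (nat_lit 0x148d24f) (nat_lit 0) (.node .nil (nat_lit
  0x905a455aee6) (nat_lit 0x108d1ef) (nat_lit 0) .nil)) (nat_lit 0x905a46825aa) (nat_lit 16916) (nat_lit 0)
  (.node (.node (.node .nil (nat_lit 0x905a46ac14c) (nat_lit 21076) (nat_lit 0) .nil) (nat_lit 0x905a4dc1dbb)
  (nat_lit 591) (nat_lit 591) .nil) (nat_lit 0x905a4f1e6d4) (nat_lit 0) (nat_lit 0) (.node .nil (nat_lit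
  0x905a4fa67e2) (nat_lit 529) (nat_lit 529) .nil)))))))
def t21 : T := (.node (.node (.node (.node (.node .nil (nat_lit 0x22ecefc42d0) (nat_lit 15855) (nat_lit 0)
  .nil) (nat_lit 0x22ecf164732) (nat_lit 16944) (nat_lit 0) .nil) (nat_lit 0x22ecf23c83e) (nat_lit 592)
  (nat_lit 0) (.node (.node .nil (nat_lit 0x365015ebf16) (nat_lit 560) (nat_lit 0) .nil) (nat_lit
  0x36501638bb2) (nat_lit 530) (nat_lit 0) .nil)) (nat_lit 0x3650173c6d0) (nat_lit 16912) (nat_lit 0) (.node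
  (.node (.node .nil (nat_lit 0x36ee92ed950) (nat_lit 17) (nat_lit 0) .nil) (nat_lit 0x36ee93072d5) (nat_lit
  15951) (nat_lit 0) .nil) (nat_lit 0x36ee931f662) (nat_lit 15) (nat_lit 0) (.node .nil (nat_lit
  0x3f892021745) (nat_lit 16) (nat_lit 0) .nil))) (nat_lit 0x3f8920b500b) (nat_lit 15919) (nat_lit 0) (.node
  (.node (.node (.node .nil (nat_lit 0x3f89216a8f0) (nat_lit 498) (nat_lit 0) .nil) (nat_lit 0x4c436af5d5d)
  (nat_lit 495) (nat_lit 0) .nil) (nat_lit 0x4c436b5a8b8) (nat_lit 18927) (nat_lit 0) (.node (.node .nil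
  (nat_lit 0x4c436cc46fd) (nat_lit 497) (nat_lit 0) .nil) (nat_lit 0x4f791cd408e) (nat_lit 18) (nat_lit 0)
  .nil)) (nat_lit 0x4f791d8d663) (nat_lit 528) (nat_lit 0) (.node (.node (.node .nil (nat_lit 0x4f791dababc)
  (nat_lit 559) (nat_lit 0) .nil) (nat_lit 0x905a4dc1dbb) (nat_lit 591) (nat_lit 0) .nil) (nat_lit
  0x905a4f1e6d4) (nat_lit 0) (nat_lit 0) (.node .nil (nat_lit 0x905a4fa67e2) (nat_lit 529) (nat_lit 0)
  .nil))))
def tb : T := (.node (.node (.node .nil (nat_lit 0x22ecefc42d0) (nat_lit 15855) (nat_lit 0) .nil) (nat_lit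
  0x3650173c6d0) (nat_lit 16912) (nat_lit 0) (.node .nil (nat_lit 0x36ee931f662) (nat_lit 15) (nat_lit 0)
  .nil)) (nat_lit 0x3f892021745) (nat_lit 16) (nat_lit 0) (.node (.node .nil (nat_lit 0x4c436af5d5d) (nat_lit
  495) (nat_lit 0) .nil) (nat_lit 0x4f791d8d663) (nat_lit 528) (nat_lit 0) (.node .nil (nat_lit 0x905a4f1e6d4)
  (nat_lit 0) (nat_lit 0) .nil)))
def tN_0 : T := (.node (.node (.node (.node (.node (.node (.node .nil (nat_lit 0xc4b41f39a2) (nat_lit 641155)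
  (nat_lit 0) .nil) (nat_lit 0xc4b421a7fd) (nat_lit 640482) (nat_lit 0) (.node .nil (nat_lit 0xc4b4234981)
  (nat_lit 626) (nat_lit 0) .nil)) (nat_lit 0xc4b423d12a) (nat_lit 20034) (nat_lit 0) (.node (.node .nil
  (nat_lit 0xc4b425bde8) (nat_lit 0x138bca2) (nat_lit 0) .nil) (nat_lit 0xc4b425dd18) (nat_lit 118288)
  (nat_lit 0) (.node .nil (nat_lit 0xc4b42802d4) (nat_lit 639492) (nat_lit 0) .nil))) (nat_lit 0xc4b4287610)
  (nat_lit 3698) (nat_lit 0) (.node (.node (.node .nil (nat_lit 0xc4b42a6ae4) (nat_lit 640485) (nat_lit 0)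
  .nil) (nat_lit 0xc4b42ae80f) (nat_lit 641125) (nat_lit 0) (.node .nil (nat_lit 0xc4b42d5034) (nat_lit
  639493) (nat_lit 0) .nil)) (nat_lit 0xc4b42dbf69) (nat_lit 0x13840a2) (nat_lit 0) (.node (.node .nil
  (nat_lit 0xc4b42e37e4) (nat_lit 641092) (nat_lit 0) .nil) (nat_lit 0xc4b42f810e) (nat_lit 20015) (nat_lit 0)
  (.node .nil (nat_lit 0xc4b4313e7c) (nat_lit 20036) (nat_lit 0) .nil)))) (nat_lit 0xc4b4353f0e) (nat_lit
  641186) (nat_lit 0) (.node (.node (.node (.node .nil (nat_lit 0xc4b436dd1c) (nat_lit 20037) (nat_lit 0)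
  .nil) (nat_lit 0xc4b438c683) (nat_lit 641187) (nat_lit 0) (.node .nil (nat_lit 0xc4b439e27c) (nat_lit
  641154) (nat_lit 0) .nil)) (nat_lit 0xc4b43a441a) (nat_lit 640483) (nat_lit 0) (.node (.node .nil (nat_lit
  0xc4b43aa941) (nat_lit 20035) (nat_lit 0) .nil) (nat_lit 0xc4b43ae1a8) (nat_lit 0x13840a3) (nat_lit 0)
  (.node .nil (nat_lit 0xc4b43c7dc7) (nat_lit 0x138bc65) (nat_lit 0) .nil))) (nat_lit 0xc4b43cb11a) (nat_lit
  0x138bc44) (nat_lit 0) (.node (.node (.node .nil (nat_lit 0xc4b43d12ee) (nat_lit 0x1384065) (nat_lit 0)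
  .nil) (nat_lit 0xc4b43e5570) (nat_lit 639491) (nat_lit 0) (.node .nil (nat_lit 0xc4b43f8dcc) (nat_lit
  0x1384083) (nat_lit 0) .nil)) (nat_lit 0xc4b441eb92) (nat_lit 639490) (nat_lit 0) (.node (.node .nil
  (nat_lit 0xc4b4425dec) (nat_lit 0x138bc82) (nat_lit 0) .nil) (nat_lit 0xc4b4465b04) (nat_lit 0x1384044)
  (nat_lit 0) (.node .nil (nat_lit 0xc4b446e9a2) (nat_lit 19984) (nat_lit 0) .nil))))) (nat_lit 0xc4b449b2a5)
  (nat_lit 0x138bc83) (nat_lit 0) (.node (.node (.node (.node (.node .nil (nat_lit 0xc4b44cd24d) (nat_lit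
  0x138bca3) (nat_lit 0) .nil) (nat_lit 0xc4b44d4820) (nat_lit 0x1384082) (nat_lit 0) (.node .nil (nat_lit
  0xc4b44dc901) (nat_lit 118319) (nat_lit 0) .nil)) (nat_lit 0xc4b44dfedc) (nat_lit 640484) (nat_lit 0) (.node
  (.node .nil (nat_lit 0xedd28e6e96) (nat_lit 19619) (nat_lit 0) .nil) (nat_lit 0xedd28e8521) (nat_lit
  0x1393c83) (nat_lit 0) (.node .nil (nat_lit 0xedd28f19b7) (nat_lit 641507) (nat_lit 0) .nil))) (nat_lit
  0xedd2900b95) (nat_lit 19586) (nat_lit 0) (.node (.node (.node .nil (nat_lit 0xedd290ba64) (nat_lit 610)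
  (nat_lit 0) .nil) (nat_lit 0xedd291aee4) (nat_lit 639524) (nat_lit 0) (.node .nil (nat_lit 0xedd2935dac)
  (nat_lit 0x1384465) (nat_lit 0) .nil)) (nat_lit 0xedd294f512) (nat_lit 639523) (nat_lit 0) (.node (.node
  .nil (nat_lit 0xedd294ffd0) (nat_lit 118289) (nat_lit 0) .nil) (nat_lit 0xedd29508db) (nat_lit 0x1384482)
  (nat_lit 0) (.node .nil (nat_lit 0xedd29511d8) (nat_lit 641506) (nat_lit 0) .nil)))) (nat_lit 0xedd2953131)
  (nat_lit 0x1393c82) (nat_lit 0) (.node (.node (.node (.node .nil (nat_lit 0xedd29540ca) (nat_lit 0x13844a3)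
  (nat_lit 0) .nil) (nat_lit 0xedd2981585) (nat_lit 611) (nat_lit 0) (.node .nil (nat_lit 0xedd298267c)
  (nat_lit 19587) (nat_lit 0) .nil)) (nat_lit 0xedd2982c61) (nat_lit 612) (nat_lit 0) (.node (.node .nil
  (nat_lit 0xedd2984a23) (nat_lit 19) (nat_lit 0) .nil) (nat_lit 0xedd2988db1) (nat_lit 613) (nat_lit 0)
  (.node .nil (nat_lit 0xedd29b6d1e) (nat_lit 19557) (nat_lit 0) .nil))) (nat_lit 0xedd29b78db) (nat_lit
  19618) (nat_lit 0) (.node (.node (.node .nil (nat_lit 0xedd29be118) (nat_lit 19524) (nat_lit 0) .nil)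
  (nat_lit 0xedd29c16bc) (nat_lit 115) (nat_lit 0) (.node .nil (nat_lit 0xedd29cf772) (nat_lit 0x1393c44)
  (nat_lit 0) .nil)) (nat_lit 0xedd29d0b46) (nat_lit 641508) (nat_lit 0) (.node (.node .nil (nat_lit
  0xedd29d150c) (nat_lit 20047) (nat_lit 0) .nil) (nat_lit 0xedd29d1fd1) (nat_lit 118351) (nat_lit 0) (.node
  .nil (nat_lit 0xedd29d732c) (nat_lit 639522) (nat_lit 0) .nil)))))) (nat_lit 0xedd29d8216) (nat_lit
  0x1384444) (nat_lit 0) (.node (.node (.node (.node (.node (.node .nil (nat_lit 0xedd29d8fd7) (nat_lit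
  0x1384483) (nat_lit 0) .nil) (nat_lit 0xedd29dacc0) (nat_lit 19985) (nat_lit 0) (.node .nil (nat_lit
  0xedd29dc703) (nat_lit 639525) (nat_lit 0) .nil)) (nat_lit 0xedd29dd668) (nat_lit 0x13844a2) (nat_lit 0)
  (.node (.node .nil (nat_lit 0xedd2ad339d) (nat_lit 0x1393c65) (nat_lit 0) .nil) (nat_lit 0xedd2ad3bdf)
  (nat_lit 641509) (nat_lit 0) (.node .nil (nat_lit 0xedd2ad541c) (nat_lit 0x1393ca2) (nat_lit 0) .nil)))
  (nat_lit 0xedd2ad5ad1) (nat_lit 0x1393ca3) (nat_lit 0) (.node (.node (.node .nil (nat_lit 0x12dc8c873ee)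
  (nat_lit 0x119bc82) (nat_lit 0) .nil) (nat_lit 0x12dc8c973d3) (nat_lit 0x119bca2) (nat_lit 0) (.node .nil
  (nat_lit 0x12dc8ca6a81) (nat_lit 576996) (nat_lit 0) .nil)) (nat_lit 0x12dc8cde612) (nat_lit 0x119bca3)
  (nat_lit 0) (.node (.node .nil (nat_lit 0x12dc8ce291a) (nat_lit 0x137bde4) (nat_lit 0) .nil) (nat_lit
  0x12dc8d013e3) (nat_lit 0x1394065) (nat_lit 0) (.node .nil (nat_lit 0x12dc8d1a52f) (nat_lit 641539) (nat_lit
  0) .nil)))) (nat_lit 0x12dc8d1db8d) (nat_lit 0x26f7bc65) (nat_lit 0) (.node (.node (.node (.node .nil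
  (nat_lit 0x12dc8d3c146) (nat_lit 0x26f7bca2) (nat_lit 0) .nil) (nat_lit 0x12dc8d5b6af) (nat_lit 0x26f7bc83)
  (nat_lit 0) (.node .nil (nat_lit 0x12dc8d5ee60) (nat_lit 0x26f7bca3) (nat_lit 0) .nil)) (nat_lit
  0x12dc8d764ad) (nat_lit 0x1394083) (nat_lit 0) (.node (.node .nil (nat_lit 0x12dc8d7c58d) (nat_lit 0x39bdef)
  (nat_lit 0) .nil) (nat_lit 0x12dc8d7fa2e) (nat_lit 0x26f7bc82) (nat_lit 0) (.node .nil (nat_lit
  0x12dc8d82ea1) (nat_lit 0x1394044) (nat_lit 0) .nil))) (nat_lit 0x12dc8d969c3) (nat_lit 576997) (nat_lit 0)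
  (.node (.node (.node .nil (nat_lit 0x12dc8d9f487) (nat_lit 0x119bc83) (nat_lit 0) .nil) (nat_lit
  0x12dc8dd620b) (nat_lit 18031) (nat_lit 0) (.node .nil (nat_lit 0x12dc8de36f8) (nat_lit 576994) (nat_lit 0)
  .nil)) (nat_lit 0x12dc8de6eb8) (nat_lit 560751) (nat_lit 0) (.node (.node .nil (nat_lit 0x12dc8dfd458)
  (nat_lit 576995) (nat_lit 0) .nil) (nat_lit 0x12dc8e23307) (nat_lit 0x119bc44) (nat_lit 0) (.node .nil
  (nat_lit 0x12dc8e38aa5) (nat_lit 0x119bc65) (nat_lit 0) .nil))))) (nat_lit 0x12dc8e3a57d) (nat_lit 118352)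
  (nat_lit 0) (.node (.node (.node (.node (.node .nil (nat_lit 0x12dc8e5cc8c) (nat_lit 638447) (nat_lit 0)
  .nil) (nat_lit 0x12dc8e9b90d) (nat_lit 641540) (nat_lit 0) (.node .nil (nat_lit 0x12dc8ed8184) (nat_lit
  0x26f7bc44) (nat_lit 0) .nil)) (nat_lit 0x12dc8eda6f4) (nat_lit 0x13940a3) (nat_lit 0) (.node (.node .nil
  (nat_lit 0x12dc8ede6e6) (nat_lit 0x137bde5) (nat_lit 0) .nil) (nat_lit 0x12dc8ef1b6d) (nat_lit 0x1394082)
  (nat_lit 0) (.node .nil (nat_lit 0x12dc8ef3d52) (nat_lit 0x13940a2) (nat_lit 0) .nil))) (nat_lit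
  0x12dc8f1ebae) (nat_lit 641538) (nat_lit 0) (.node (.node (.node .nil (nat_lit 0x12dc8f219de) (nat_lit
  0x137bde3) (nat_lit 0) .nil) (nat_lit 0x12dc8f3302b) (nat_lit 0x137bde2) (nat_lit 0) (.node .nil (nat_lit
  0x12dc8f42d9a) (nat_lit 20048) (nat_lit 0) .nil)) (nat_lit 0x12dc8f4d636) (nat_lit 641541) (nat_lit 0)
  (.node (.node .nil (nat_lit 0x22ecefb2c6b) (nat_lit 0x108c082) (nat_lit 0) .nil) (nat_lit 0x22ecefb3431)
  (nat_lit 507364) (nat_lit 146927) (.node .nil (nat_lit 0x22ecefc2cd3) (nat_lit 542210) (nat_lit 0) .nil))))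
  (nat_lit 0x22ecefc42d0) (nat_lit 15855) (nat_lit 15855) (.node (.node (.node (.node .nil (nat_lit
  0x22ecefd2890) (nat_lit 0x108c044) (nat_lit 0) .nil) (nat_lit 0x22ecefe62bc) (nat_lit 0xf7bc83) (nat_lit
  0x41bdef) (.node .nil (nat_lit 0x22ecf00a249) (nat_lit 542211) (nat_lit 0) .nil)) (nat_lit 0x22ecf00ce80)
  (nat_lit 0xf7bc62) (nat_lit 0x313def) (.node (.node .nil (nat_lit 0x22ecf0518c7) (nat_lit 606339) (nat_lit
  0) .nil) (nat_lit 0x22ecf05adb5) (nat_lit 606371) (nat_lit 0) (.node .nil (nat_lit 0x22ecf095f04) (nat_lit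
  0xf7bca2) (nat_lit 0x513def) .nil))) (nat_lit 0x22ecf0b1a5e) (nat_lit 507365) (nat_lit 179695) (.node (.node
  (.node .nil (nat_lit 0x22ecf0baac0) (nat_lit 606370) (nat_lit 0) .nil) (nat_lit 0x22ecf0bc3de) (nat_lit
  606338) (nat_lit 0) (.node .nil (nat_lit 0x22ecf0c22e8) (nat_lit 0x108c062) (nat_lit 0) .nil)) (nat_lit
  0x22ecf0c2bac) (nat_lit 507363) (nat_lit 114159) (.node (.node .nil (nat_lit 0x22ecf0caf3f) (nat_lit
  0x108c083) (nat_lit 0) .nil) (nat_lit 0x22ecf0cb496) (nat_lit 0xf7bc44) (nat_lit 0x223def) .nil))))))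
def tN_1 : T := (.node (.node (.node (.node (.node (.node (.node .nil (nat_lit 0x22ecf101b62) (nat_lit
  0x108c065) (nat_lit 0) .nil) (nat_lit 0x22ecf1046e0) (nat_lit 0xf7bc65) (nat_lit 0x32bdef) (.node .nil
  (nat_lit 0x22ecf10f330) (nat_lit 0x108c0a2) (nat_lit 0) .nil)) (nat_lit 0x22ecf112adf) (nat_lit 542213)
  (nat_lit 0) (.node (.node .nil (nat_lit 0x22ecf128ddd) (nat_lit 0x108c0a3) (nat_lit 0) .nil) (nat_lit
  0x22ecf138ddd) (nat_lit 18948) (nat_lit 0) (.node .nil (nat_lit 0x22ecf13a238) (nat_lit 606276) (nat_lit 0)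
  .nil))) (nat_lit 0x22ecf13adb7) (nat_lit 606309) (nat_lit 0) (.node (.node (.node .nil (nat_lit
  0x22ecf13b2a7) (nat_lit 18949) (nat_lit 0) .nil) (nat_lit 0x22ecf14e672) (nat_lit 0xf7bc82) (nat_lit
  0x413def) (.node .nil (nat_lit 0x22ecf14ec67) (nat_lit 542212) (nat_lit 0) .nil)) (nat_lit 0x22ecf1645ae)
  (nat_lit 507362) (nat_lit 81391) (.node (.node .nil (nat_lit 0x22ecf164732) (nat_lit 16944) (nat_lit 0)
  .nil) (nat_lit 0x22ecf23c83e) (nat_lit 592) (nat_lit 0) (.node .nil (nat_lit 0x22ecf23d365) (nat_lit 606306)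
  (nat_lit 0) .nil)))) (nat_lit 0x22ecf23eb96) (nat_lit 18946) (nat_lit 0) (.node (.node (.node (.node .nil
  (nat_lit 0x22ecf23ef51) (nat_lit 18947) (nat_lit 0) .nil) (nat_lit 0x365015e46c9) (nat_lit 0x1084082)
  (nat_lit 0x414210) (.node .nil (nat_lit 0x365015e79c9) (nat_lit 573570) (nat_lit 0) .nil)) (nat_lit
  0x365015ebf16) (nat_lit 560) (nat_lit 0) (.node (.node .nil (nat_lit 0x3650161ba2e) (nat_lit 542883)
  (nat_lit 0) .nil) (nat_lit 0x36501638bb2) (nat_lit 530) (nat_lit 0) (.node .nil (nat_lit 0x36501656290)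
  (nat_lit 573508) (nat_lit 0) .nil))) (nat_lit 0x3650166d40f) (nat_lit 542788) (nat_lit 0) (.node (.node
  (.node .nil (nat_lit 0x36501696944) (nat_lit 573538) (nat_lit 0) .nil) (nat_lit 0x3650171d57a) (nat_lit
  542850) (nat_lit 0) (.node .nil (nat_lit 0x36501733ba8) (nat_lit 541188) (nat_lit 147984) .nil)) (nat_lit
  0x36501738553) (nat_lit 16962) (nat_lit 0) (.node (.node .nil (nat_lit 0x3650173c151) (nat_lit 16963)
  (nat_lit 0) .nil) (nat_lit 0x3650173c6d0) (nat_lit 16912) (nat_lit 16912) (.node .nil (nat_lit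
  0x365017539ad) (nat_lit 0x1084065) (nat_lit 0x32c210) .nil))))) (nat_lit 0x3650175f2a8) (nat_lit 17922)
  (nat_lit 0) (.node (.node (.node (.node (.node .nil (nat_lit 0x3650175fb4d) (nat_lit 17925) (nat_lit 0)
  .nil) (nat_lit 0x36501761872) (nat_lit 0x10840a3) (nat_lit 0x51c210) (.node .nil (nat_lit 0x3650177a36c)
  (nat_lit 0x1084062) (nat_lit 0x314210) .nil)) (nat_lit 0x3650177b216) (nat_lit 573571) (nat_lit 0) (.node
  (.node .nil (nat_lit 0x365017898a6) (nat_lit 17923) (nat_lit 0) .nil) (nat_lit 0x36501796fe7) (nat_lit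
  0x10840a2) (nat_lit 0x514210) (.node .nil (nat_lit 0x365017af4a3) (nat_lit 541186) (nat_lit 82448) .nil)))
  (nat_lit 0x365017bc436) (nat_lit 573602) (nat_lit 0) (.node (.node (.node .nil (nat_lit 0x365017bd21c)
  (nat_lit 17924) (nat_lit 0) .nil) (nat_lit 0x365017bed2a) (nat_lit 573541) (nat_lit 0) (.node .nil (nat_lit
  0x365017cc422) (nat_lit 542821) (nat_lit 0) .nil)) (nat_lit 0x365017f7882) (nat_lit 16964) (nat_lit 0)
  (.node (.node .nil (nat_lit 0x365017f986c) (nat_lit 16965) (nat_lit 0) .nil) (nat_lit 0x3650180fd02)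
  (nat_lit 542882) (nat_lit 0) (.node .nil (nat_lit 0x365018118b3) (nat_lit 542851) (nat_lit 0) .nil))))
  (nat_lit 0x3650181fa96) (nat_lit 0x1084083) (nat_lit 0x41c210) (.node (.node (.node (.node .nil (nat_lit
  0x3650182e43c) (nat_lit 542818) (nat_lit 0) .nil) (nat_lit 0x365018313b9) (nat_lit 573603) (nat_lit 0)
  (.node .nil (nat_lit 0x3650183961a) (nat_lit 541189) (nat_lit 180752) .nil)) (nat_lit 0x3650183efd7)
  (nat_lit 0x1084044) (nat_lit 0x224210) (.node (.node .nil (nat_lit 0x36501850385) (nat_lit 541187) (nat_lit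
  115216) .nil) (nat_lit 0x36ee91401f7) (nat_lit 17570) (nat_lit 0) (.node .nil (nat_lit 0x36ee91819df)
  (nat_lit 546) (nat_lit 0) .nil))) (nat_lit 0x36ee919cdc9) (nat_lit 483) (nat_lit 111) (.node (.node (.node
  .nil (nat_lit 0x36ee91cc45a) (nat_lit 17506) (nat_lit 0) .nil) (nat_lit 0x36ee91ea3fd) (nat_lit 510435)
  (nat_lit 0) (.node .nil (nat_lit 0x36ee91eba3e) (nat_lit 0xf93c83) (nat_lit 0) .nil)) (nat_lit
  0x36ee91ee575) (nat_lit 15522) (nat_lit 5199) (.node (.node .nil (nat_lit 0x36ee91ef9c6) (nat_lit 0xf93c44)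
  (nat_lit 0) .nil) (nat_lit 0x36ee91f0954) (nat_lit 15523) (nat_lit 5231) .nil))))) (nat_lit 0x36ee921ddbf)
  (nat_lit 17509) (nat_lit 0) (.node (.node (.node (.node (.node (.node .nil (nat_lit 0x36ee92213bf) (nat_lit
  15490) (nat_lit 4175) .nil) (nat_lit 0x36ee926ba30) (nat_lit 15458) (nat_lit 3151) (.node .nil (nat_lit
  0x36ee927ac1c) (nat_lit 0xf93c82) (nat_lit 0) .nil)) (nat_lit 0x36ee92ca0f1) (nat_lit 17571) (nat_lit 0)
  (.node (.node .nil (nat_lit 0x36ee92dc7f4) (nat_lit 0xf93c62) (nat_lit 0) .nil) (nat_lit 0x36ee92e0113)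
  (nat_lit 0xf93ca2) (nat_lit 0) (.node .nil (nat_lit 0x36ee92ed950) (nat_lit 17) (nat_lit 0) .nil))) (nat_lit
  0x36ee92f0d0d) (nat_lit 548) (nat_lit 0) (.node (.node (.node .nil (nat_lit 0x36ee92fb7bb) (nat_lit 510437)
  (nat_lit 0) .nil) (nat_lit 0x36ee93072d5) (nat_lit 15951) (nat_lit 0) (.node .nil (nat_lit 0x36ee93187e7)
  (nat_lit 484) (nat_lit 143) .nil)) (nat_lit 0x36ee931db42) (nat_lit 15461) (nat_lit 3247) (.node (.node .nil
  (nat_lit 0x36ee931f662) (nat_lit 15) (nat_lit 15) .nil) (nat_lit 0x36ee934bbc1) (nat_lit 17538) (nat_lit 0)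
  (.node .nil (nat_lit 0x36ee93668e4) (nat_lit 15491) (nat_lit 4207) .nil)))) (nat_lit 0x36ee93809c0) (nat_lit
  15428) (nat_lit 2191) (.node (.node (.node (.node .nil (nat_lit 0x36ee939d14f) (nat_lit 485) (nat_lit 175)
  .nil) (nat_lit 0x36ee93a2d31) (nat_lit 482) (nat_lit 79) (.node .nil (nat_lit 0x36ee93b46ac) (nat_lit
  0xf93ca3) (nat_lit 0) .nil)) (nat_lit 0x36ee93c0ffe) (nat_lit 17539) (nat_lit 0) (.node (.node .nil (nat_lit
  0x36ee93c6ff9) (nat_lit 0xf93c65) (nat_lit 0) .nil) (nat_lit 0x36ee93d2c79) (nat_lit 510434) (nat_lit 0)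
  (.node .nil (nat_lit 0x36ee93d4a78) (nat_lit 510436) (nat_lit 0) .nil))) (nat_lit 0x36ee93f3384) (nat_lit
  547) (nat_lit 0) (.node (.node (.node .nil (nat_lit 0x36ee9402924) (nat_lit 549) (nat_lit 0) .nil) (nat_lit
  0x36ee9405b7d) (nat_lit 17476) (nat_lit 0) (.node .nil (nat_lit 0x3f891ff31b4) (nat_lit 517) (nat_lit 176)
  .nil)) (nat_lit 0x3f891ff3c2f) (nat_lit 510114) (nat_lit 0) (.node (.node .nil (nat_lit 0x3f891ff8f19)
  (nat_lit 510053) (nat_lit 0) .nil) (nat_lit 0x3f891ffa112) (nat_lit 16547) (nat_lit 5232) (.node .nil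
  (nat_lit 0x3f891fff852) (nat_lit 515) (nat_lit 112) .nil))))) (nat_lit 0x3f891fffbd1) (nat_lit 510050)
  (nat_lit 0) (.node (.node (.node (.node (.node .nil (nat_lit 0x3f892010ec0) (nat_lit 16482) (nat_lit 3152)
  .nil) (nat_lit 0x3f8920126f9) (nat_lit 15939) (nat_lit 0) (.node .nil (nat_lit 0x3f892020cb6) (nat_lit
  15938) (nat_lit 0) .nil)) (nat_lit 0x3f892021745) (nat_lit 16) (nat_lit 16) (.node (.node .nil (nat_lit
  0x3f89206a0db) (nat_lit 510115) (nat_lit 0) .nil) (nat_lit 0x3f89206abf3) (nat_lit 16485) (nat_lit 3248)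
  (.node .nil (nat_lit 0x3f892099fcf) (nat_lit 0xf8bc44) (nat_lit 0) .nil))) (nat_lit 0x3f8920b500b) (nat_lit
  15919) (nat_lit 0) (.node (.node (.node .nil (nat_lit 0x3f8920ce7ef) (nat_lit 0xf8bca3) (nat_lit 0) .nil)
  (nat_lit 0x3f8920cf1a0) (nat_lit 509413) (nat_lit 0) (.node .nil (nat_lit 0x3f8920d011a) (nat_lit 0xf8bc82)
  (nat_lit 0) .nil)) (nat_lit 0x3f8920d37c6) (nat_lit 509411) (nat_lit 0) (.node (.node .nil (nat_lit
  0x3f89210ede4) (nat_lit 510082) (nat_lit 0) .nil) (nat_lit 0x3f89210fe0d) (nat_lit 16452) (nat_lit 2192)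
  (.node .nil (nat_lit 0x3f8921112ee) (nat_lit 516) (nat_lit 144) .nil)))) (nat_lit 0x3f89212fd5a) (nat_lit
  510083) (nat_lit 0) (.node (.node (.node (.node .nil (nat_lit 0x3f89214563d) (nat_lit 16515) (nat_lit 4208)
  .nil) (nat_lit 0x3f8921470b7) (nat_lit 510020) (nat_lit 0) (.node .nil (nat_lit 0x3f892156422) (nat_lit
  0xf8bca2) (nat_lit 0) .nil)) (nat_lit 0x3f892157640) (nat_lit 509412) (nat_lit 0) (.node (.node .nil
  (nat_lit 0x3f892157ebd) (nat_lit 0xf8bc83) (nat_lit 0) .nil) (nat_lit 0x3f89215a02e) (nat_lit 0xf8bc65)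
  (nat_lit 0) (.node .nil (nat_lit 0x3f89215b97f) (nat_lit 640115) (nat_lit 0) .nil))) (nat_lit 0x3f89215c9f4)
  (nat_lit 509410) (nat_lit 0) (.node (.node (.node .nil (nat_lit 0x3f89216a8f0) (nat_lit 498) (nat_lit 0)
  .nil) (nat_lit 0x3f89216baa1) (nat_lit 514) (nat_lit 80) (.node .nil (nat_lit 0x3f89216d2c1) (nat_lit 16546)
  (nat_lit 5200) .nil)) (nat_lit 0x3f89216dd59) (nat_lit 15941) (nat_lit 0) (.node (.node .nil (nat_lit
  0x3f892256f80) (nat_lit 15940) (nat_lit 0) .nil) (nat_lit 0x3f892258c82) (nat_lit 16514) (nat_lit 4176)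
  .nil))))))
def tN_2 : T := (.node (.node (.node (.node (.node (.node (.node .nil (nat_lit 0x4c436aba4bf) (nat_lit 506948)
  (nat_lit 70127) .nil) (nat_lit 0x4c436ac35bb) (nat_lit 0x127bc44) (nat_lit 0) (.node .nil (nat_lit
  0x4c436ad0d61) (nat_lit 605667) (nat_lit 0) .nil)) (nat_lit 0x4c436adef63) (nat_lit 509029) (nat_lit 0)
  (.node (.node .nil (nat_lit 0x4c436af113b) (nat_lit 509058) (nat_lit 0) .nil) (nat_lit 0x4c436af5d5d)
  (nat_lit 495) (nat_lit 495) (.node .nil (nat_lit 0x4c436b1435b) (nat_lit 15842) (nat_lit 2543) .nil)))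
  (nat_lit 0x4c436b3292f) (nat_lit 0x127bca3) (nat_lit 0) (.node (.node (.node .nil (nat_lit 0x4c436b33757)
  (nat_lit 507011) (nat_lit 134639) .nil) (nat_lit 0x4c436b370f8) (nat_lit 15843) (nat_lit 3567) (.node .nil
  (nat_lit 0x4c436b46317) (nat_lit 641139) (nat_lit 0) .nil)) (nat_lit 0x4c436b4c991) (nat_lit 15909) (nat_lit
  0) (.node (.node .nil (nat_lit 0x4c436b506e8) (nat_lit 15906) (nat_lit 0) .nil) (nat_lit 0x4c436b54832)
  (nat_lit 15845) (nat_lit 5615) (.node .nil (nat_lit 0x4c436b57b5f) (nat_lit 507010) (nat_lit 133615)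
  .nil)))) (nat_lit 0x4c436b5a8b8) (nat_lit 18927) (nat_lit 0) (.node (.node (.node (.node .nil (nat_lit
  0x4c436bf4f25) (nat_lit 509090) (nat_lit 0) .nil) (nat_lit 0x4c436c08bd3) (nat_lit 509026) (nat_lit 0)
  (.node .nil (nat_lit 0x4c436c0af67) (nat_lit 605669) (nat_lit 0) .nil)) (nat_lit 0x4c436c3502f) (nat_lit
  506981) (nat_lit 103919) (.node (.node .nil (nat_lit 0x4c436c527d8) (nat_lit 509059) (nat_lit 0) .nil)
  (nat_lit 0x4c436c71b5e) (nat_lit 605666) (nat_lit 0) (.node .nil (nat_lit 0x4c436c75d66) (nat_lit 605668)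
  (nat_lit 0) .nil))) (nat_lit 0x4c436c8dfdb) (nat_lit 0x127bc82) (nat_lit 0) (.node (.node (.node .nil
  (nat_lit 0x4c436cb020a) (nat_lit 15844) (nat_lit 4591) .nil) (nat_lit 0x4c436cb54cf) (nat_lit 15907)
  (nat_lit 0) (.node .nil (nat_lit 0x4c436cb6b82) (nat_lit 506978) (nat_lit 100847) .nil)) (nat_lit
  0x4c436cc46fd) (nat_lit 497) (nat_lit 0) (.node (.node .nil (nat_lit 0x4c436cc6a9b) (nat_lit 15908) (nat_lit
  0) .nil) (nat_lit 0x4c436cc72d7) (nat_lit 0x127bc83) (nat_lit 0) (.node .nil (nat_lit 0x4c436cf9cca)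
  (nat_lit 507043) (nat_lit 167407) .nil))))) (nat_lit 0x4c436cfc518) (nat_lit 0x127bca2) (nat_lit 0) (.node
  (.node (.node (.node (.node .nil (nat_lit 0x4c436d0b17f) (nat_lit 507042) (nat_lit 166383) .nil) (nat_lit
  0x4c436d15b51) (nat_lit 509091) (nat_lit 0) (.node .nil (nat_lit 0x4c436d22069) (nat_lit 508996) (nat_lit 0)
  .nil)) (nat_lit 0x4f791c18824) (nat_lit 572484) (nat_lit 0) (.node (.node .nil (nat_lit 0x4f791c192da)
  (nat_lit 18563) (nat_lit 0) .nil) (nat_lit 0x4f791c47cf8) (nat_lit 572579) (nat_lit 0) (.node .nil (nat_lit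
  0x4f791c59fcc) (nat_lit 18533) (nat_lit 0) .nil))) (nat_lit 0x4f791c62b05) (nat_lit 18594) (nat_lit 0)
  (.node (.node (.node .nil (nat_lit 0x4f791c641f7) (nat_lit 17893) (nat_lit 0) .nil) (nat_lit 0x4f791caca5c)
  (nat_lit 581) (nat_lit 0) (.node .nil (nat_lit 0x4f791cadf4c) (nat_lit 572578) (nat_lit 0) .nil)) (nat_lit
  0x4f791cbd732) (nat_lit 16899) (nat_lit 3600) (.node (.node .nil (nat_lit 0x4f791cd408e) (nat_lit 18)
  (nat_lit 0) .nil) (nat_lit 0x4f791cd6ee8) (nat_lit 540802) (nat_lit 133648) (.node .nil (nat_lit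
  0x4f791ce2182) (nat_lit 540834) (nat_lit 166416) .nil)))) (nat_lit 0x4f791d08285) (nat_lit 572546) (nat_lit
  0) (.node (.node (.node (.node .nil (nat_lit 0x4f791d08e53) (nat_lit 580) (nat_lit 0) .nil) (nat_lit
  0x4f791d392f9) (nat_lit 18500) (nat_lit 0) (.node .nil (nat_lit 0x4f791d3b127) (nat_lit 572547) (nat_lit 0)
  .nil)) (nat_lit 0x4f791d57e5d) (nat_lit 540835) (nat_lit 167440) (.node (.node .nil (nat_lit 0x4f791d58c4a)
  (nat_lit 540803) (nat_lit 134672) .nil) (nat_lit 0x4f791d59491) (nat_lit 540740) (nat_lit 70160) (.node .nil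
  (nat_lit 0x4f791d5af1a) (nat_lit 540773) (nat_lit 103952) .nil))) (nat_lit 0x4f791d5f289) (nat_lit 540770)
  (nat_lit 100880) (.node (.node (.node .nil (nat_lit 0x4f791d6ba33) (nat_lit 17890) (nat_lit 0) .nil)
  (nat_lit 0x4f791d72a48) (nat_lit 17891) (nat_lit 0) (.node .nil (nat_lit 0x4f791d79caf) (nat_lit 578)
  (nat_lit 0) .nil)) (nat_lit 0x4f791d86a68) (nat_lit 572514) (nat_lit 0) (.node (.node .nil (nat_lit
  0x4f791d8d663) (nat_lit 528) (nat_lit 528) .nil) (nat_lit 0x4f791d8da82) (nat_lit 16898) (nat_lit 2576)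
  .nil))))) (nat_lit 0x4f791d93760) (nat_lit 18530) (nat_lit 0) (.node (.node (.node (.node (.node (.node .nil
  (nat_lit 0x4f791d945b6) (nat_lit 16900) (nat_lit 4624) .nil) (nat_lit 0x4f791d97f5c) (nat_lit 16901)
  (nat_lit 5648) (.node .nil (nat_lit 0x4f791dababc) (nat_lit 559) (nat_lit 0) .nil)) (nat_lit 0x4f791db1ea3)
  (nat_lit 579) (nat_lit 0) (.node (.node .nil (nat_lit 0x4f791dc388e) (nat_lit 18562) (nat_lit 0) .nil)
  (nat_lit 0x4f791dc64f0) (nat_lit 17892) (nat_lit 0) (.node .nil (nat_lit 0x4f791dcf5ae) (nat_lit 572517)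
  (nat_lit 0) .nil))) (nat_lit 0x4f791dd0231) (nat_lit 18595) (nat_lit 0) (.node (.node (.node .nil (nat_lit
  0x532e72a65fa) (nat_lit 3696) (nat_lit 0) .nil) (nat_lit 0x532e72ad65c) (nat_lit 19971) (nat_lit 0) (.node
  .nil (nat_lit 0x532e72b27f3) (nat_lit 639139) (nat_lit 0) .nil)) (nat_lit 0x532e72c40a9) (nat_lit 19973)
  (nat_lit 0) (.node (.node .nil (nat_lit 0x532e72d4373) (nat_lit 639077) (nat_lit 0) .nil) (nat_lit
  0x532e72f9ac2) (nat_lit 576580) (nat_lit 0) (.node .nil (nat_lit 0x532e730c784) (nat_lit 576674) (nat_lit 0)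
  .nil)))) (nat_lit 0x532e731e081) (nat_lit 624) (nat_lit 0) (.node (.node (.node (.node .nil (nat_lit
  0x532e7326871) (nat_lit 638531) (nat_lit 0) .nil) (nat_lit 0x532e7343e4a) (nat_lit 0x137c865) (nat_lit 0)
  (.node .nil (nat_lit 0x532e7369d41) (nat_lit 563) (nat_lit 0) .nil)) (nat_lit 0x532e736fffc) (nat_lit 18018)
  (nat_lit 0) (.node (.node .nil (nat_lit 0x532e73781b0) (nat_lit 638532) (nat_lit 0) .nil) (nat_lit
  0x532e73c2dff) (nat_lit 19972) (nat_lit 0) (.node .nil (nat_lit 0x532e73c4259) (nat_lit 639044) (nat_lit 0)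
  .nil))) (nat_lit 0x532e73df01f) (nat_lit 18021) (nat_lit 0) (.node (.node (.node .nil (nat_lit
  0x532e73f87ec) (nat_lit 639107) (nat_lit 0) .nil) (nat_lit 0x532e741ea22) (nat_lit 639138) (nat_lit 0)
  (.node .nil (nat_lit 0x532e7420893) (nat_lit 19970) (nat_lit 0) .nil)) (nat_lit 0x532e7428055) (nat_lit
  0x137c882) (nat_lit 0) (.node (.node .nil (nat_lit 0x532e7430589) (nat_lit 576642) (nat_lit 0) .nil)
  (nat_lit 0x532e74434e3) (nat_lit 0x137c8a2) (nat_lit 0) (.node .nil (nat_lit 0x532e7446eb5) (nat_lit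
  0x137c8a3) (nat_lit 0) .nil))))) (nat_lit 0x532e746f57c) (nat_lit 18019) (nat_lit 0) (.node (.node (.node
  (.node (.node .nil (nat_lit 0x532e74d72d8) (nat_lit 19954) (nat_lit 0) .nil) (nat_lit 0x532e74da8a4)
  (nat_lit 576613) (nat_lit 0) (.node .nil (nat_lit 0x532e74ec998) (nat_lit 18020) (nat_lit 0) .nil)) (nat_lit
  0x532e74f791c) (nat_lit 576643) (nat_lit 0) (.node (.node .nil (nat_lit 0x532e75028bf) (nat_lit 0x137c844)
  (nat_lit 0) .nil) (nat_lit 0x532e7504379) (nat_lit 118258) (nat_lit 0) (.node .nil (nat_lit 0x532e750bbca)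
  (nat_lit 639106) (nat_lit 0) .nil))) (nat_lit 0x532e751a940) (nat_lit 638530) (nat_lit 0) (.node (.node
  (.node .nil (nat_lit 0x532e751c451) (nat_lit 0x137c883) (nat_lit 0) .nil) (nat_lit 0x532e7531ee5) (nat_lit
  576675) (nat_lit 0) (.node .nil (nat_lit 0x532e7538ea6) (nat_lit 638533) (nat_lit 0) .nil)) (nat_lit
  0x532e753f4bc) (nat_lit 17523) (nat_lit 0) (.node (.node .nil (nat_lit 0x905a4dab385) (nat_lit 5) (nat_lit
  5) .nil) (nat_lit 0x905a4dc1dbb) (nat_lit 591) (nat_lit 0) (.node .nil (nat_lit 0x905a4dc5b2a) (nat_lit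
  16932) (nat_lit 0) .nil)))) (nat_lit 0x905a4dcd9e0) (nat_lit 68) (nat_lit 68) (.node (.node (.node (.node
  .nil (nat_lit 0x905a4dd8670) (nat_lit 16930) (nat_lit 0) .nil) (nat_lit 0x905a4ddb081) (nat_lit 605347)
  (nat_lit 0) (.node .nil (nat_lit 0x905a4e22645) (nat_lit 98) (nat_lit 98) .nil)) (nat_lit 0x905a4e29560)
  (nat_lit 2) (nat_lit 2) (.node (.node .nil (nat_lit 0x905a4e3604e) (nat_lit 541797) (nat_lit 0) .nil)
  (nat_lit 0x905a4e36ebe) (nat_lit 605315) (nat_lit 0) (.node .nil (nat_lit 0x905a4e3c08e) (nat_lit 541858)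
  (nat_lit 0) .nil))) (nat_lit 0x905a4e43796) (nat_lit 18916) (nat_lit 0) (.node (.node (.node .nil (nat_lit
  0x905a4eaad50) (nat_lit 541794) (nat_lit 0) .nil) (nat_lit 0x905a4efb1a2) (nat_lit 18917) (nat_lit 0) (.node
  .nil (nat_lit 0x905a4efb56d) (nat_lit 3) (nat_lit 3) .nil)) (nat_lit 0x905a4efc6f7) (nat_lit 541826)
  (nat_lit 0) (.node (.node .nil (nat_lit 0x905a4f1e6d4) (nat_lit 0) (nat_lit 0) .nil) (nat_lit 0x905a4f327d7)
  (nat_lit 163) (nat_lit 163) .nil))))))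
def tN_3 : T := (.node (.node (.node (.node (.node (.node (.node .nil (nat_lit 0x905a4f46524) (nat_lit 131)
  (nat_lit 131) .nil) (nat_lit 0x905a4f5c15e) (nat_lit 605252) (nat_lit 0) (.node .nil (nat_lit 0x905a4f6c2e7)
  (nat_lit 162) (nat_lit 162) .nil)) (nat_lit 0x905a4f9b21e) (nat_lit 18915) (nat_lit 0) (.node (.node .nil
  (nat_lit 0x905a4fa67e2) (nat_lit 529) (nat_lit 0) .nil) (nat_lit 0x905a4fb1fdd) (nat_lit 605314) (nat_lit 0)
  (.node .nil (nat_lit 0x905a4fb2d27) (nat_lit 4) (nat_lit 4) .nil))) (nat_lit 0x905a4fb466e) (nat_lit 18914)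
  (nat_lit 0) (.node (.node (.node .nil (nat_lit 0x905a4fb8896) (nat_lit 541764) (nat_lit 0) .nil) (nat_lit
  0x905a4fbbc88) (nat_lit 101) (nat_lit 101) (.node .nil (nat_lit 0x905a4fc3925) (nat_lit 541827) (nat_lit 0)
  .nil)) (nat_lit 0x905a4fdf2ae) (nat_lit 605346) (nat_lit 0) (.node (.node .nil (nat_lit 0x905a4ffdece)
  (nat_lit 16931) (nat_lit 0) .nil) (nat_lit 0x905a5003656) (nat_lit 605285) (nat_lit 0) (.node .nil (nat_lit
  0x905a500b5e2) (nat_lit 16933) (nat_lit 0) .nil)))) (nat_lit 0x905a500dc3a) (nat_lit 605282) (nat_lit 0)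
  (.node (.node (.node (.node .nil (nat_lit 0x905a5022030) (nat_lit 130) (nat_lit 130) .nil) (nat_lit
  0x9186b509050) (nat_lit 609762) (nat_lit 0) (.node .nil (nat_lit 0x9186b50e3db) (nat_lit 19055) (nat_lit 0)
  .nil)) (nat_lit 0x9186b514fbe) (nat_lit 609765) (nat_lit 0) (.node (.node .nil (nat_lit 0x9186b527b14)
  (nat_lit 0x129bca3) (nat_lit 0) .nil) (nat_lit 0x9186b5360c9) (nat_lit 0x129bca2) (nat_lit 0) (.node .nil
  (nat_lit 0x9186b55abd6) (nat_lit 0x129c4a3) (nat_lit 0) .nil))) (nat_lit 0x9186b55de7e) (nat_lit 20016)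
  (nat_lit 0) (.node (.node (.node .nil (nat_lit 0x9186b5702d8) (nat_lit 0x138c082) (nat_lit 0) .nil) (nat_lit
  0x9186b57f5b1) (nat_lit 609763) (nat_lit 0) (.node .nil (nat_lit 0x9186b5abf5e) (nat_lit 609826) (nat_lit 0)
  .nil)) (nat_lit 0x9186b5ae1a5) (nat_lit 609827) (nat_lit 0) (.node (.node .nil (nat_lit 0x9186b5cb66e)
  (nat_lit 118320) (nat_lit 0) .nil) (nat_lit 0x9186b5cf758) (nat_lit 0x138c0a2) (nat_lit 0) (.node .nil
  (nat_lit 0x9186b5df0c8) (nat_lit 0x129c482) (nat_lit 0) .nil))))) (nat_lit 0x9186b62402c) (nat_lit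
  0x129bc82) (nat_lit 0) (.node (.node (.node (.node (.node .nil (nat_lit 0x9186b629631) (nat_lit 609829)
  (nat_lit 0) .nil) (nat_lit 0x9186b645135) (nat_lit 0x129bc83) (nat_lit 0) (.node .nil (nat_lit
  0x9186b65c227) (nat_lit 609764) (nat_lit 0) .nil)) (nat_lit 0x9186b673f76) (nat_lit 640514) (nat_lit 0)
  (.node (.node .nil (nat_lit 0x9186b67fd29) (nat_lit 0x129bc65) (nat_lit 0) .nil) (nat_lit 0x9186b683160)
  (nat_lit 593519) (nat_lit 0) (.node .nil (nat_lit 0x9186b687983) (nat_lit 640517) (nat_lit 0) .nil)))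
  (nat_lit 0x9186b6d12d6) (nat_lit 0x138c083) (nat_lit 0) (.node (.node (.node .nil (nat_lit 0x9186b6d618b)
  (nat_lit 0x129c444) (nat_lit 0) .nil) (nat_lit 0x9186b6db347) (nat_lit 19057) (nat_lit 0) (.node .nil
  (nat_lit 0x9186b6dd137) (nat_lit 0x129c465) (nat_lit 0) .nil)) (nat_lit 0x9186b724688) (nat_lit 0x129c483)
  (nat_lit 0) (.node (.node .nil (nat_lit 0x9186b734313) (nat_lit 0x138c0a3) (nat_lit 0) .nil) (nat_lit
  0x9186b73e773) (nat_lit 609828) (nat_lit 0) (.node .nil (nat_lit 0x9186b74342c) (nat_lit 0x138c065) (nat_lit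
  0) .nil)))) (nat_lit 0x9186b745af8) (nat_lit 0x138c044) (nat_lit 0) (.node (.node (.node (.node .nil
  (nat_lit 0x9186b75aada) (nat_lit 593521) (nat_lit 0) .nil) (nat_lit 0x9186b760540) (nat_lit 0x129c4a2)
  (nat_lit 0) (.node .nil (nat_lit 0x9186b76c0bc) (nat_lit 0x129bc44) (nat_lit 0) .nil)) (nat_lit
  0x9186b794d4c) (nat_lit 640515) (nat_lit 0) (.node (.node .nil (nat_lit 0x9186b7a0f90) (nat_lit 640516)
  (nat_lit 0) .nil) (nat_lit 0x91a1b3ae944) (nat_lit 20004) (nat_lit 0) (.node .nil (nat_lit 0x91a1b3cd761)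
  (nat_lit 15955) (nat_lit 0) .nil))) (nat_lit 0x91a1b3ddfab) (nat_lit 20003) (nat_lit 0) (.node (.node (.node
  .nil (nat_lit 0x91a1b3fa446) (nat_lit 3697) (nat_lit 0) .nil) (nat_lit 0x91a1b41a14f) (nat_lit 510564)
  (nat_lit 0) (.node .nil (nat_lit 0x91a1b427a50) (nat_lit 0xf94ca3) (nat_lit 0) .nil)) (nat_lit
  0x91a1b42a003) (nat_lit 638082) (nat_lit 0) (.node (.node .nil (nat_lit 0x91a1b44437e) (nat_lit 20002)
  (nat_lit 0) .nil) (nat_lit 0x91a1b489727) (nat_lit 510563) (nat_lit 0) .nil))))) (nat_lit 0x91a1b49d17c)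
  (nat_lit 510565) (nat_lit 0) (.node (.node (.node (.node (.node (.node .nil (nat_lit 0x91a1b49e4bd) (nat_lit
  640130) (nat_lit 0) .nil) (nat_lit 0x91a1b4b19d0) (nat_lit 0xf94c65) (nat_lit 0) (.node .nil (nat_lit
  0x91a1b4d1327) (nat_lit 640131) (nat_lit 0) .nil)) (nat_lit 0x91a1b501fb7) (nat_lit 640162) (nat_lit 0)
  (.node (.node .nil (nat_lit 0x91a1b508f19) (nat_lit 640163) (nat_lit 0) .nil) (nat_lit 0x91a1b51cf51)
  (nat_lit 20005) (nat_lit 0) (.node .nil (nat_lit 0x91a1b541efe) (nat_lit 640101) (nat_lit 0) .nil)))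
  (nat_lit 0x91a1b55c6a8) (nat_lit 640068) (nat_lit 0) (.node (.node (.node .nil (nat_lit 0x91a1b561976)
  (nat_lit 510067) (nat_lit 0) .nil) (nat_lit 0x91a1b5658a5) (nat_lit 625) (nat_lit 0) (.node .nil (nat_lit
  0x91a1b57965e) (nat_lit 638020) (nat_lit 0) .nil)) (nat_lit 0x91a1b58228e) (nat_lit 638053) (nat_lit 0)
  (.node (.node .nil (nat_lit 0x91a1b59923a) (nat_lit 623) (nat_lit 0) .nil) (nat_lit 0x91a1b5a6ee5) (nat_lit
  19939) (nat_lit 0) (.node .nil (nat_lit 0x91a1b5bfde0) (nat_lit 19941) (nat_lit 0) .nil)))) (nat_lit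
  0x91a1b5c8dfc) (nat_lit 0xf94ca2) (nat_lit 0) (.node (.node (.node (.node .nil (nat_lit 0x91a1b5cc9ed)
  (nat_lit 0xf94c44) (nat_lit 0) .nil) (nat_lit 0x91a1b5dc4a8) (nat_lit 19938) (nat_lit 0) (.node .nil
  (nat_lit 0x91a1b5e5137) (nat_lit 0xf94c82) (nat_lit 0) .nil)) (nat_lit 0x91a1b5f4b1d) (nat_lit 638114)
  (nat_lit 0) (.node (.node .nil (nat_lit 0x91a1b61e1a4) (nat_lit 0xf94c83) (nat_lit 0) .nil) (nat_lit
  0x91a1b65317d) (nat_lit 510562) (nat_lit 0) (.node .nil (nat_lit 0x91a1b664f33) (nat_lit 638083) (nat_lit 0)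
  .nil))) (nat_lit 0x91a1b67eddf) (nat_lit 3695) (nat_lit 0) (.node (.node (.node .nil (nat_lit 0x91a1b68489b)
  (nat_lit 19940) (nat_lit 0) .nil) (nat_lit 0x91a1b695ee2) (nat_lit 638115) (nat_lit 0) (.node .nil (nat_lit
  0x9272a08fc9b) (nat_lit 0x137bc44) (nat_lit 0) .nil)) (nat_lit 0x9272a0a0ffd) (nat_lit 0x137bc65) (nat_lit
  0) (.node (.node .nil (nat_lit 0x9272a0c2b0a) (nat_lit 0x137bc83) (nat_lit 0) .nil) (nat_lit 0x9272a0e9a74)
  (nat_lit 638437) (nat_lit 0) (.node .nil (nat_lit 0x9272a1064bb) (nat_lit 0x119c082) (nat_lit 0) .nil)))))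
  (nat_lit 0x9272a10aa55) (nat_lit 0x119c065) (nat_lit 0) (.node (.node (.node (.node (.node .nil (nat_lit
  0x9272a15a0d4) (nat_lit 609443) (nat_lit 0) .nil) (nat_lit 0x9272a15b43b) (nat_lit 609411) (nat_lit 0)
  (.node .nil (nat_lit 0x9272a15ee6c) (nat_lit 19044) (nat_lit 0) .nil)) (nat_lit 0x9272a172af9) (nat_lit
  638434) (nat_lit 0) (.node (.node .nil (nat_lit 0x9272a174c81) (nat_lit 577028) (nat_lit 0) .nil) (nat_lit
  0x9272a18e878) (nat_lit 118255) (nat_lit 0) (.node .nil (nat_lit 0x9272a19f821) (nat_lit 0x137bca3) (nat_lit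
  0) .nil))) (nat_lit 0x9272a1a7f75) (nat_lit 638436) (nat_lit 0) (.node (.node (.node .nil (nat_lit
  0x9272a1ad6b4) (nat_lit 638435) (nat_lit 0) .nil) (nat_lit 0x9272a1b507d) (nat_lit 577029) (nat_lit 0)
  (.node .nil (nat_lit 0x9272a1e130f) (nat_lit 19951) (nat_lit 0) .nil)) (nat_lit 0x9272a1ea75e) (nat_lit
  609410) (nat_lit 0) (.node (.node .nil (nat_lit 0x9272a22aeb4) (nat_lit 0x137bc82) (nat_lit 0) .nil)
  (nat_lit 0x9272a240ea4) (nat_lit 0x137bca2) (nat_lit 0) (.node .nil (nat_lit 0x9272a24c141) (nat_lit 19045)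
  (nat_lit 0) .nil)))) (nat_lit 0x9272a24fd3d) (nat_lit 19042) (nat_lit 0) (.node (.node (.node (.node .nil
  (nat_lit 0x9272a26af16) (nat_lit 18547) (nat_lit 0) .nil) (nat_lit 0x9272a276f32) (nat_lit 609381) (nat_lit
  0) (.node .nil (nat_lit 0x9272a27dc01) (nat_lit 0x119c0a2) (nat_lit 0) .nil)) (nat_lit 0x9272a27ed13)
  (nat_lit 560752) (nat_lit 0) (.node (.node .nil (nat_lit 0x9272a299e49) (nat_lit 0x119c083) (nat_lit 0)
  .nil) (nat_lit 0x9272a2a85fc) (nat_lit 0x119c0a3) (nat_lit 0) (.node .nil (nat_lit 0x9272a2dacd5) (nat_lit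
  577026) (nat_lit 0) .nil))) (nat_lit 0x9272a2dbb8f) (nat_lit 0x119c044) (nat_lit 0) (.node (.node (.node
  .nil (nat_lit 0x9272a2dd61e) (nat_lit 18032) (nat_lit 0) .nil) (nat_lit 0x9272a324110) (nat_lit 19043)
  (nat_lit 0) (.node .nil (nat_lit 0x9272a336cf6) (nat_lit 595) (nat_lit 0) .nil)) (nat_lit 0x9272a3428f0)
  (nat_lit 609442) (nat_lit 0) (.node (.node .nil (nat_lit 0x9272a3441c4) (nat_lit 609348) (nat_lit 0) .nil)
  (nat_lit 0x9272a34fec7) (nat_lit 577027) (nat_lit 0) .nil))))))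
def tN : T := (.node (.node tN_0 (nat_lit 0x22ecf0d098a) (nat_lit 0xf7bca3) (nat_lit 0x51bdef) tN_1) (nat_lit
  0x4c436a76c1e) (nat_lit 0x127bc65) (nat_lit 0) (.node tN_2 (nat_lit 0x905a4f3b244) (nat_lit 541859) (nat_lit
  0) tN_3))
def tU_0 : T := (.node (.node (.node (.node (.node (.node (.node (.node .nil (nat_lit 0x905a4d5f937) (nat_lit
  203971) (nat_lit 0) .nil) (nat_lit 0x905a4d6148c) (nat_lit 205026) (nat_lit 0) .nil) (nat_lit 0x905a4d63758)
  (nat_lit 268514) (nat_lit 0) (.node .nil (nat_lit 0x905a4d6a705) (nat_lit 8481) (nat_lit 0) .nil)) (nat_lit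
  0x905a4d74e23) (nat_lit 8385) (nat_lit 0) (.node (.node .nil (nat_lit 0x905a4da3000) (nat_lit 200) (nat_lit
  0) .nil) (nat_lit 0x905a4da4c13) (nat_lit 227) (nat_lit 0) (.node .nil (nat_lit 0x905a4da8abb) (nat_lit
  7265) (nat_lit 0) .nil))) (nat_lit 0x905a4da91a4) (nat_lit 0x639861) (nat_lit 0) (.node (.node (.node .nil
  (nat_lit 0x905a4daf326) (nat_lit 301283) (nat_lit 0) .nil) (nat_lit 0x905a4dafa13) (nat_lit 302275) (nat_lit
  0) (.node .nil (nat_lit 0x905a4db00f8) (nat_lit 238787) (nat_lit 0) .nil)) (nat_lit 0x905a4db0802) (nat_lit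
  204067) (nat_lit 0) (.node (.node .nil (nat_lit 0x905a4db2187) (nat_lit 0xa40d41) (nat_lit 0) .nil) (nat_lit
  0x905a4db2632) (nat_lit 0x930c41) (nat_lit 0) (.node .nil (nat_lit 0x905a4db4c2d) (nat_lit 301154) (nat_lit
  0) .nil)))) (nat_lit 0x905a4db5324) (nat_lit 335978) (nat_lit 0) (.node (.node (.node (.node .nil (nat_lit
  0x905a4db5a15) (nat_lit 9478) (nat_lit 0) .nil) (nat_lit 0x905a4db6108) (nat_lit 8486) (nat_lit 0) (.node
  .nil (nat_lit 0x905a4db8076) (nat_lit 9416) (nat_lit 0) .nil)) (nat_lit 0x905a4db89fe) (nat_lit 6409)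
  (nat_lit 0) (.node (.node .nil (nat_lit 0x905a4db934b) (nat_lit 6406) (nat_lit 209196) .nil) (nat_lit
  0x905a4db9a40) (nat_lit 257) (nat_lit 0x93312c) (.node .nil (nat_lit 0x905a4dba133) (nat_lit 9481) (nat_lit
  307500) .nil))) (nat_lit 0x905a4dba828) (nat_lit 8) (nat_lit 12588) (.node (.node (.node .nil (nat_lit
  0x905a4dbe62d) (nat_lit 269506) (nat_lit 0) .nil) (nat_lit 0x905a4dc08bd) (nat_lit 262) (nat_lit 0) (.node
  .nil (nat_lit 0x905a4dc104a) (nat_lit 6401) (nat_lit 0) .nil)) (nat_lit 0x905a4dc24d5) (nat_lit 235778)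
  (nat_lit 0) (.node (.node .nil (nat_lit 0x905a4dc74aa) (nat_lit 265) (nat_lit 0) .nil) (nat_lit
  0x905a4dc8696) (nat_lit 9473) (nat_lit 0) (.node .nil (nat_lit 0x905a4dc8ba5) (nat_lit 296) (nat_lit 0)
  .nil))))) (nat_lit 0x905a4ddf002) (nat_lit 7363) (nat_lit 0) (.node (.node (.node (.node (.node .nil
  (nat_lit 0x905a4de0587) (nat_lit 235617) (nat_lit 0) .nil) (nat_lit 0x905a4df19a1) (nat_lit 0x1491a901)
  (nat_lit 0) (.node .nil (nat_lit 0x905a4df281a) (nat_lit 0x941c62) (nat_lit 0) .nil)) (nat_lit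
  0x905a4df36fe) (nat_lit 290) (nat_lit 0) (.node (.node .nil (nat_lit 0x905a4df3ea0) (nat_lit 203969)
  (nat_lit 0x6624cc) .nil) (nat_lit 0x905a4dfc2c5) (nat_lit 268518) (nat_lit 300) (.node .nil (nat_lit
  0x905a4dfcf04) (nat_lit 6407) (nat_lit 0) .nil))) (nat_lit 0x905a4dffc34) (nat_lit 235750) (nat_lit
  0xb42ceb) (.node (.node (.node .nil (nat_lit 0x905a4e1098c) (nat_lit 0x63a4c3) (nat_lit 0) .nil) (nat_lit
  0x905a4e1181a) (nat_lit 6371) (nat_lit 0) (.node .nil (nat_lit 0x905a4e133f6) (nat_lit 203873) (nat_lit 0)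
  .nil)) (nat_lit 0x905a4e15db5) (nat_lit 7459) (nat_lit 0) (.node (.node .nil (nat_lit 0x905a4e1627a)
  (nat_lit 7462) (nat_lit 0) .nil) (nat_lit 0x905a4e1718d) (nat_lit 6369) (nat_lit 0) (.node .nil (nat_lit
  0x905a4e17e2b) (nat_lit 233) (nat_lit 0) .nil)))) (nat_lit 0x905a4e1bd22) (nat_lit 6403) (nat_lit 0) (.node
  (.node (.node (.node .nil (nat_lit 0x905a4e20358) (nat_lit 0xa38d49) (nat_lit 0) .nil) (nat_lit
  0x905a4e20a71) (nat_lit 3137) (nat_lit 0) (.node .nil (nat_lit 0x905a4e21f50) (nat_lit 0xa48d47) (nat_lit 0)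
  .nil)) (nat_lit 0x905a4e22645) (nat_lit 98) (nat_lit 0) (.node (.node .nil (nat_lit 0x905a4e29560) (nat_lit
  2) (nat_lit 0) .nil) (nat_lit 0x905a4e2ce74) (nat_lit 269507) (nat_lit 0) (.node .nil (nat_lit
  0x905a4e2e1af) (nat_lit 6241) (nat_lit 0) .nil))) (nat_lit 0x905a4e2e5ee) (nat_lit 204994) (nat_lit 0)
  (.node (.node (.node .nil (nat_lit 0x905a4e346bf) (nat_lit 269603) (nat_lit 0) .nil) (nat_lit 0x905a4e35206)
  (nat_lit 8483) (nat_lit 0) (.node .nil (nat_lit 0x905a4e35f5c) (nat_lit 335171) (nat_lit 0) .nil)) (nat_lit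
  0x905a4e36ec8) (nat_lit 6242) (nat_lit 0) (.node (.node .nil (nat_lit 0x905a4e37cb7) (nat_lit 199745)
  (nat_lit 0) .nil) (nat_lit 0x905a4e383ae) (nat_lit 0x832062) (nat_lit 0) (.node .nil (nat_lit 0x905a4e39856)
  (nat_lit 0x731c62) (nat_lit 0) .nil)))))) (nat_lit 0x905a4e3a57e) (nat_lit 0xa38d41) (nat_lit 0) (.node
  (.node (.node (.node (.node (.node .nil (nat_lit 0x905a4e3ac73) (nat_lit 9314) (nat_lit 0) .nil) (nat_lit
  0x905a4e3c237) (nat_lit 334954) (nat_lit 0) (.node .nil (nat_lit 0x905a4e3c8ff) (nat_lit 298049) (nat_lit 0)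
  .nil)) (nat_lit 0x905a4e3d9e2) (nat_lit 271555) (nat_lit 0) (.node (.node .nil (nat_lit 0x905a4e3fbf0)
  (nat_lit 204898) (nat_lit 0) .nil) (nat_lit 0x905a4e41157) (nat_lit 9442) (nat_lit 0) (.node .nil (nat_lit
  0x905a4e42d8b) (nat_lit 204995) (nat_lit 0) .nil))) (nat_lit 0x905a4e4347d) (nat_lit 6) (nat_lit 8427)
  (.node (.node (.node .nil (nat_lit 0x905a4e47c5a) (nat_lit 0x730c41) (nat_lit 0) .nil) (nat_lit
  0x905a4e4bcda) (nat_lit 0x931cc3) (nat_lit 0) (.node .nil (nat_lit 0x905a4e4c3cf) (nat_lit 9443) (nat_lit 0)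
  .nil)) (nat_lit 0x905a4e94c1e) (nat_lit 0x751c6a) (nat_lit 0) (.node (.node .nil (nat_lit 0x905a4ea2439)
  (nat_lit 0x638c41) (nat_lit 0) .nil) (nat_lit 0x905a4ea7c07) (nat_lit 0x731cc2) (nat_lit 0) (.node .nil
  (nat_lit 0x905a4eaa283) (nat_lit 9475) (nat_lit 0) .nil)))) (nat_lit 0x905a4eafb7b) (nat_lit 268385)
  (nat_lit 0) (.node (.node (.node (.node .nil (nat_lit 0x905a4edd7fb) (nat_lit 8482) (nat_lit 0) .nil)
  (nat_lit 0x905a4eeeedf) (nat_lit 6209) (nat_lit 0) (.node .nil (nat_lit 0x905a4ef2487) (nat_lit 7266)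
  (nat_lit 0) .nil)) (nat_lit 0x905a4ef4e73) (nat_lit 301286) (nat_lit 0) (.node (.node .nil (nat_lit
  0x905a4efb56d) (nat_lit 3) (nat_lit 0) .nil) (nat_lit 0x905a4efc9ad) (nat_lit 271425) (nat_lit 0) (.node
  .nil (nat_lit 0x905a4eff546) (nat_lit 0xa48d48) (nat_lit 0) .nil))) (nat_lit 0x905a4effce8) (nat_lit
  0x74a062) (nat_lit 0) (.node (.node (.node .nil (nat_lit 0x905a4f01cac) (nat_lit 232513) (nat_lit 0) .nil)
  (nat_lit 0x905a4f02e60) (nat_lit 199) (nat_lit 0) (.node .nil (nat_lit 0x905a4f05004) (nat_lit 9446)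
  (nat_lit 0) .nil)) (nat_lit 0x905a4f06d5b) (nat_lit 301315) (nat_lit 0) (.node (.node .nil (nat_lit
  0x905a4f07440) (nat_lit 97) (nat_lit 0) .nil) (nat_lit 0x905a4f0b9eb) (nat_lit 9474) (nat_lit 0) (.node .nil
  (nat_lit 0x905a4f0c571) (nat_lit 303169) (nat_lit 0) .nil))))) (nat_lit 0x905a4f0e808) (nat_lit 0x83a462)
  (nat_lit 0) (.node (.node (.node (.node (.node .nil (nat_lit 0x905a4f0f783) (nat_lit 0x849c62) (nat_lit 0)
  .nil) (nat_lit 0x905a4f119f4) (nat_lit 333930) (nat_lit 0) (.node .nil (nat_lit 0x905a4f135ca) (nat_lit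
  269410) (nat_lit 0) .nil)) (nat_lit 0x905a4f14399) (nat_lit 337002) (nat_lit 0) (.node (.node .nil (nat_lit
  0x905a4f15183) (nat_lit 0xa48d41) (nat_lit 0) .nil) (nat_lit 0x905a4f160aa) (nat_lit 7361) (nat_lit 0)
  (.node .nil (nat_lit 0x905a4f1679d) (nat_lit 230) (nat_lit 0) .nil))) (nat_lit 0x905a4f1ccd5) (nat_lit
  271618) (nat_lit 0) (.node (.node (.node .nil (nat_lit 0x905a4f1e5d3) (nat_lit 225) (nat_lit 402636) .nil)
  (nat_lit 0x905a4f1e6d4) (nat_lit 0) (nat_lit 0) (.node .nil (nat_lit 0x905a4f252f8) (nat_lit 9415) (nat_lit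
  0) .nil)) (nat_lit 0x905a4f267c0) (nat_lit 6377) (nat_lit 0) (.node (.node .nil (nat_lit 0x905a4f27327)
  (nat_lit 0x830c41) (nat_lit 0) .nil) (nat_lit 0x905a4f28541) (nat_lit 303299) (nat_lit 0) (.node .nil
  (nat_lit 0x905a4f28c55) (nat_lit 0x8320c3) (nat_lit 0) .nil)))) (nat_lit 0x905a4f290d8) (nat_lit 0x731cc3)
  (nat_lit 0) (.node (.node (.node (.node .nil (nat_lit 0x905a4f29987) (nat_lit 205091) (nat_lit 0) .nil)
  (nat_lit 0x905a4f2ad9d) (nat_lit 204070) (nat_lit 0) (.node .nil (nat_lit 0x905a4f2b93c) (nat_lit 0x931cc2)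
  (nat_lit 0) .nil)) (nat_lit 0x905a4f2ce86) (nat_lit 7367) (nat_lit 267) (.node (.node .nil (nat_lit
  0x905a4f2fa20) (nat_lit 235618) (nat_lit 0) .nil) (nat_lit 0x905a4f2fe8b) (nat_lit 203874) (nat_lit 0)
  (.node .nil (nat_lit 0x905a4f3b79e) (nat_lit 335170) (nat_lit 0) .nil))) (nat_lit 0x905a4f3bde2) (nat_lit
  9281) (nat_lit 0) (.node (.node (.node .nil (nat_lit 0x905a4f3e1f7) (nat_lit 6374) (nat_lit 0x126624cc)
  .nil) (nat_lit 0x905a4f3e8ee) (nat_lit 7) (nat_lit 0x9624cc) (.node .nil (nat_lit 0x905a4f43a3a) (nat_lit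
  302178) (nat_lit 0) .nil)) (nat_lit 0x905a4f44cb4) (nat_lit 238690) (nat_lit 0) (.node (.node .nil (nat_lit
  0x905a4f4563e) (nat_lit 0xa38d47) (nat_lit 0) .nil) (nat_lit 0x905a4f47f93) (nat_lit 295) (nat_lit 0) (.node
  .nil (nat_lit 0x905a4f50b83) (nat_lit 7368) (nat_lit 0) .nil)))))))
def tU_1 : T := (.node (.node (.node (.node (.node (.node (.node .nil (nat_lit 0x905a4f51b16) (nat_lit 235782)
  (nat_lit 9420) .nil) (nat_lit 0x905a4f51d80) (nat_lit 8422) (nat_lit 0) (.node .nil (nat_lit 0x905a4f5273b)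
  (nat_lit 8391) (nat_lit 0) .nil)) (nat_lit 0x905a4f52ff7) (nat_lit 8417) (nat_lit 12) (.node (.node .nil
  (nat_lit 0x905a4f59a83) (nat_lit 265281) (nat_lit 0) .nil) (nat_lit 0x905a4f5a17a) (nat_lit 0x641862)
  (nat_lit 0) (.node .nil (nat_lit 0x905a4f5bb20) (nat_lit 235746) (nat_lit 0) .nil))) (nat_lit 0x905a4f5c215)
  (nat_lit 194) (nat_lit 0) (.node (.node (.node .nil (nat_lit 0x905a4f5d6f4) (nat_lit 268546) (nat_lit 0)
  .nil) (nat_lit 0x905a4f6a5a2) (nat_lit 291) (nat_lit 0) (.node .nil (nat_lit 0x905a4f6b455) (nat_lit 258)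
  (nat_lit 0) .nil)) (nat_lit 0x905a4f6baea) (nat_lit 235747) (nat_lit 0) (.node (.node .nil (nat_lit
  0x905a4f6e15d) (nat_lit 268550) (nat_lit 0xb3ad0b) .nil) (nat_lit 0x905a4f6e852) (nat_lit 1) (nat_lit 0)
  (.node .nil (nat_lit 0x905a4f76ce2) (nat_lit 0x942462) (nat_lit 0) .nil)))) (nat_lit 0x905a4f781c3) (nat_lit
  8290) (nat_lit 0) (.node (.node (.node (.node .nil (nat_lit 0x905a4f7ef6f) (nat_lit 0x849cc3) (nat_lit 0)
  .nil) (nat_lit 0x905a4f8202c) (nat_lit 0x941cc3) (nat_lit 0) (.node .nil (nat_lit 0x905a4f82754) (nat_lit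
  0x831cc3) (nat_lit 0) .nil)) (nat_lit 0x905a4f82999) (nat_lit 10506) (nat_lit 0x83aceb) (.node (.node .nil
  (nat_lit 0x905a4f8308e) (nat_lit 294) (nat_lit 11499) .nil) (nat_lit 0x905a4f83780) (nat_lit 9409) (nat_lit
  273643) (.node .nil (nat_lit 0x905a4f83e77) (nat_lit 336193) (nat_lit 240875) .nil))) (nat_lit
  0x905a4f857f8) (nat_lit 0x83a4c3) (nat_lit 0) (.node (.node (.node .nil (nat_lit 0x905a4f85ef3) (nat_lit
  0x74a0c3) (nat_lit 0) .nil) (nat_lit 0x905a4f865ed) (nat_lit 8419) (nat_lit 0) (.node .nil (nat_lit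
  0x905a4f86cef) (nat_lit 269409) (nat_lit 0) .nil)) (nat_lit 0x905a4f873db) (nat_lit 0x7320c3) (nat_lit 0)
  (.node (.node .nil (nat_lit 0x905a4f8841e) (nat_lit 0xa42861) (nat_lit 0) .nil) (nat_lit 0x905a4f8b799)
  (nat_lit 301153) (nat_lit 0) (.node .nil (nat_lit 0x905a4f8bf4c) (nat_lit 8289) (nat_lit 0) .nil)))))
  (nat_lit 0x905a4f8efa1) (nat_lit 336195) (nat_lit 0) (.node (.node (.node (.node (.node .nil (nat_lit
  0x905a4f8f6ae) (nat_lit 9411) (nat_lit 0) .nil) (nat_lit 0x905a4f8fe04) (nat_lit 303395) (nat_lit 0) (.node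
  .nil (nat_lit 0x905a4f90459) (nat_lit 259) (nat_lit 0) .nil)) (nat_lit 0x905a4f90ac1) (nat_lit 0x641c62)
  (nat_lit 0) (.node (.node .nil (nat_lit 0x905a4f91141) (nat_lit 0x732062) (nat_lit 0) .nil) (nat_lit
  0x905a4f9342a) (nat_lit 0x831c62) (nat_lit 0) (.node .nil (nat_lit 0x905a4f93b79) (nat_lit 0x839862)
  (nat_lit 0) .nil))) (nat_lit 0x905a4f95fe1) (nat_lit 204865) (nat_lit 0) (.node (.node (.node .nil (nat_lit
  0x905a4f982ac) (nat_lit 268353) (nat_lit 0) .nil) (nat_lit 0x905a4f989a1) (nat_lit 6402) (nat_lit 0) (.node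
  .nil (nat_lit 0x905a4f9ac74) (nat_lit 8386) (nat_lit 0) .nil)) (nat_lit 0x905a4fa137c) (nat_lit 7464)
  (nat_lit 0) (.node (.node .nil (nat_lit 0x905a4fa19d2) (nat_lit 271590) (nat_lit 0) .nil) (nat_lit
  0x905a4fa20f2) (nat_lit 303334) (nat_lit 0) (.node .nil (nat_lit 0x905a4fa285d) (nat_lit 8425) (nat_lit 0)
  .nil)))) (nat_lit 0x905a4fa2eff) (nat_lit 9479) (nat_lit 0) (.node (.node (.node (.node .nil (nat_lit
  0x905a4fa3390) (nat_lit 269606) (nat_lit 0) .nil) (nat_lit 0x905a4fa3ccc) (nat_lit 238854) (nat_lit 0)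
  (.node .nil (nat_lit 0x905a4fa422b) (nat_lit 8487) (nat_lit 0) .nil)) (nat_lit 0x905a4fa8980) (nat_lit
  204897) (nat_lit 0) (.node (.node .nil (nat_lit 0x905a4fa90aa) (nat_lit 268547) (nat_lit 0) .nil) (nat_lit
  0x905a4fa9768) (nat_lit 8257) (nat_lit 0) (.node .nil (nat_lit 0x905a4fadd8f) (nat_lit 65) (nat_lit 0)
  .nil))) (nat_lit 0x905a4fb0104) (nat_lit 271457) (nat_lit 0) (.node (.node (.node .nil (nat_lit
  0x905a4fb075f) (nat_lit 9313) (nat_lit 0) .nil) (nat_lit 0x905a4fb1bfe) (nat_lit 303394) (nat_lit 0) (.node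
  .nil (nat_lit 0x905a4fb1fe8) (nat_lit 195) (nat_lit 0) .nil)) (nat_lit 0x905a4fb2956) (nat_lit 8387)
  (nat_lit 0) (.node (.node .nil (nat_lit 0x905a4fb7daa) (nat_lit 0x8320c2) (nat_lit 0) .nil) (nat_lit
  0x905a4fb9331) (nat_lit 303201) (nat_lit 0) (.node .nil (nat_lit 0x905a4fba776) (nat_lit 271619) (nat_lit 0)
  .nil)))))) (nat_lit 0x905a4fbae62) (nat_lit 301314) (nat_lit 0) (.node (.node (.node (.node (.node (.node
  .nil (nat_lit 0x905a4fbb45a) (nat_lit 205090) (nat_lit 0) .nil) (nat_lit 0x905a4fbca3e) (nat_lit 271554)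
  (nat_lit 0) (.node .nil (nat_lit 0x905a4fbd133) (nat_lit 303298) (nat_lit 0) .nil)) (nat_lit 0x905a4fc142a)
  (nat_lit 289) (nat_lit 11531) (.node (.node .nil (nat_lit 0x905a4fc1a47) (nat_lit 303202) (nat_lit 0) .nil)
  (nat_lit 0x905a4fc2537) (nat_lit 7362) (nat_lit 0) (.node .nil (nat_lit 0x905a4fc450e) (nat_lit 7458)
  (nat_lit 0) .nil))) (nat_lit 0x905a4fcaa4c) (nat_lit 205027) (nat_lit 0) (.node (.node (.node .nil (nat_lit
  0x905a4fcac31) (nat_lit 271587) (nat_lit 0) .nil) (nat_lit 0x905a4fcc61f) (nat_lit 268515) (nat_lit 0)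
  (.node .nil (nat_lit 0x905a4fccd1b) (nat_lit 235779) (nat_lit 0) .nil)) (nat_lit 0x905a4fcffd0) (nat_lit
  303331) (nat_lit 0) (.node (.node .nil (nat_lit 0x905a4fd05de) (nat_lit 238851) (nat_lit 0) .nil) (nat_lit
  0x905a4fe3585) (nat_lit 9410) (nat_lit 0) (.node .nil (nat_lit 0x905a4fe3ae9) (nat_lit 336194) (nat_lit 0)
  .nil)))) (nat_lit 0x905a4fe515e) (nat_lit 301121) (nat_lit 0) (.node (.node (.node (.node .nil (nat_lit
  0x905a4fe5857) (nat_lit 0xa42841) (nat_lit 0) .nil) (nat_lit 0x905a4fe607d) (nat_lit 269602) (nat_lit 0)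
  (.node .nil (nat_lit 0x905a4fe6777) (nat_lit 303330) (nat_lit 0) .nil)) (nat_lit 0x905a4fe6ab2) (nat_lit
  271586) (nat_lit 0) (.node (.node .nil (nat_lit 0x905a4fe7566) (nat_lit 238850) (nat_lit 0) .nil) (nat_lit
  0x905a4fe93f5) (nat_lit 0x931c62) (nat_lit 0) (.node .nil (nat_lit 0x905a4fe9d97) (nat_lit 0x939862)
  (nat_lit 0) .nil))) (nat_lit 0x905a4fea4c7) (nat_lit 0x749862) (nat_lit 0) (.node (.node (.node .nil
  (nat_lit 0x905a4feabbe) (nat_lit 0x63a462) (nat_lit 0) .nil) (nat_lit 0x905a4ff59f6) (nat_lit 0x14830d41)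
  (nat_lit 0) (.node .nil (nat_lit 0x905a4ff60eb) (nat_lit 0x14640d41) (nat_lit 0) .nil)) (nat_lit
  0x905a4ff8101) (nat_lit 0xa3206a) (nat_lit 0) (.node (.node .nil (nat_lit 0x905a4ff894c) (nat_lit 0xa4186a)
  (nat_lit 0) .nil) (nat_lit 0x905a4ff9d19) (nat_lit 193) (nat_lit 11) (.node .nil (nat_lit 0x905a4ffb518)
  (nat_lit 6370) (nat_lit 0) .nil))))) (nat_lit 0x905a4ffbc10) (nat_lit 235585) (nat_lit 0) (.node (.node
  (.node (.node (.node .nil (nat_lit 0x905a4ffc303) (nat_lit 203841) (nat_lit 0) .nil) (nat_lit 0x905a4ffc5fe)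
  (nat_lit 0x848c41) (nat_lit 0) (.node .nil (nat_lit 0x905a4ffccf3) (nat_lit 0x940c41) (nat_lit 0) .nil))
  (nat_lit 0x905a4ffe1da) (nat_lit 271458) (nat_lit 0) (.node (.node .nil (nat_lit 0x905a4fff0a4) (nat_lit
  8392) (nat_lit 235) .nil) (nat_lit 0x905a5001a8b) (nat_lit 0x63a4c2) (nat_lit 0) (.node .nil (nat_lit
  0x905a500277b) (nat_lit 268386) (nat_lit 0) .nil))) (nat_lit 0x905a5002e72) (nat_lit 0x640c41) (nat_lit 0)
  (.node (.node (.node .nil (nat_lit 0x905a500b383) (nat_lit 10474) (nat_lit 273675) .nil) (nat_lit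
  0x905a500ba77) (nat_lit 8488) (nat_lit 0x83ad0b) (.node .nil (nat_lit 0x905a500cf5f) (nat_lit 9) (nat_lit
  240907) .nil)) (nat_lit 0x905a500f0ec) (nat_lit 204066) (nat_lit 0) (.node (.node .nil (nat_lit
  0x905a50109c7) (nat_lit 0x941cc2) (nat_lit 0) .nil) (nat_lit 0x905a50110da) (nat_lit 0x83a4c2) (nat_lit 0)
  (.node .nil (nat_lit 0x905a5012f83) (nat_lit 301282) (nat_lit 0) .nil)))) (nat_lit 0x905a5013d9e) (nat_lit
  203970) (nat_lit 0) (.node (.node (.node (.node .nil (nat_lit 0x905a501a609) (nat_lit 0x639841) (nat_lit 0)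
  .nil) (nat_lit 0x905a501bae9) (nat_lit 226) (nat_lit 0) (.node .nil (nat_lit 0x905a501f29c) (nat_lit 7233)
  (nat_lit 0) .nil)) (nat_lit 0x905a502075f) (nat_lit 0x642462) (nat_lit 0) (.node (.node .nil (nat_lit
  0x905a5020e5c) (nat_lit 0x932062) (nat_lit 0) .nil) (nat_lit 0x905a502233c) (nat_lit 0x941862) (nat_lit 0)
  (.node .nil (nat_lit 0x905a5022a33) (nat_lit 0x849862) (nat_lit 0) .nil))) (nat_lit 0x905a502731d) (nat_lit
  8418) (nat_lit 0) (.node (.node (.node .nil (nat_lit 0x905a5027ad0) (nat_lit 0x7320c2) (nat_lit 0) .nil)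
  (nat_lit 0x905a502a07f) (nat_lit 238786) (nat_lit 0) (.node .nil (nat_lit 0x905a502c06b) (nat_lit 269377)
  (nat_lit 0) .nil)) (nat_lit 0x905a502c423) (nat_lit 0x831cc2) (nat_lit 0) (.node (.node .nil (nat_lit
  0x905a5031aeb) (nat_lit 0x74a0c2) (nat_lit 0) .nil) (nat_lit 0x905a50321de) (nat_lit 0x849cc2) (nat_lit 0)
  (.node .nil (nat_lit 0x905a5032b93) (nat_lit 302274) (nat_lit 0) .nil)))))))
def tU_2 : T := (.node (.node (.node (.node (.node (.node (.node .nil (nat_lit 0x92bd4c05d59) (nat_lit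
  0x9520c2) (nat_lit 0) .nil) (nat_lit 0x92bd4c4143b) (nat_lit 232769) (nat_lit 0) (.node .nil (nat_lit
  0x92bd4c4aa70) (nat_lit 10499) (nat_lit 0) .nil)) (nat_lit 0x92bd4c4b06f) (nat_lit 108833) (nat_lit 0)
  (.node (.node .nil (nat_lit 0x92bd4c4fdf5) (nat_lit 0x932861) (nat_lit 0) .nil) (nat_lit 0x92bd4c504ea)
  (nat_lit 335969) (nat_lit 0) (.node .nil (nat_lit 0x92bd4c511e4) (nat_lit 7274) (nat_lit 0) .nil))) (nat_lit
  0x92bd4c518dd) (nat_lit 3401) (nat_lit 0) (.node (.node (.node .nil (nat_lit 0x92bd4c52cf6) (nat_lit 10534)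
  (nat_lit 0) .nil) (nat_lit 0x92bd4c54fdf) (nat_lit 337089) (nat_lit 0) (.node .nil (nat_lit 0x92bd4c55722)
  (nat_lit 266) (nat_lit 0) .nil)) (nat_lit 0x92bd4c55e19) (nat_lit 8513) (nat_lit 0) (.node (.node .nil
  (nat_lit 0x92bd4c5f161) (nat_lit 108840) (nat_lit 0) .nil) (nat_lit 0x92bd4c5f856) (nat_lit 232776) (nat_lit
  0) (.node .nil (nat_lit 0x92bd4c5ff48) (nat_lit 108809) (nat_lit 0) .nil)))) (nat_lit 0x92bd4c6063f)
  (nat_lit 0x352501) (nat_lit 0) (.node (.node (.node (.node .nil (nat_lit 0x92bd4c60a19) (nat_lit 0x651841)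
  (nat_lit 0) .nil) (nat_lit 0x92bd4c6897a) (nat_lit 207042) (nat_lit 0) (.node .nil (nat_lit 0x92bd4c6ab03)
  (nat_lit 0xa39902) (nat_lit 0) .nil)) (nat_lit 0x92bd4c7158d) (nat_lit 336166) (nat_lit 0) (.node (.node
  .nil (nat_lit 0x92bd4c71c84) (nat_lit 8520) (nat_lit 0) .nil) (nat_lit 0x92bd4c73156) (nat_lit 239878)
  (nat_lit 0) (.node .nil (nat_lit 0x92bd4c73853) (nat_lit 272641) (nat_lit 0) .nil))) (nat_lit 0x92bd4c7cac5)
  (nat_lit 6410) (nat_lit 0) (.node (.node (.node .nil (nat_lit 0x92bd4c7ce54) (nat_lit 268609) (nat_lit 0)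
  .nil) (nat_lit 0x92bd4c7e610) (nat_lit 205121) (nat_lit 0) (.node .nil (nat_lit 0x92bd4c7eda8) (nat_lit
  8394) (nat_lit 0) .nil)) (nat_lit 0x92bd4c7f3f9) (nat_lit 271681) (nat_lit 0) (.node (.node .nil (nat_lit
  0x92bd4c7fba7) (nat_lit 8519) (nat_lit 0) .nil) (nat_lit 0x92bd4c81072) (nat_lit 8490) (nat_lit 0) (.node
  .nil (nat_lit 0x92bd4c81402) (nat_lit 9482) (nat_lit 0) .nil))))) (nat_lit 0x92bd4c91195) (nat_lit 337153)
  (nat_lit 0) (.node (.node (.node (.node (.node .nil (nat_lit 0x92bd4c9272b) (nat_lit 239841) (nat_lit 0)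
  .nil) (nat_lit 0x92bd4c92a8c) (nat_lit 0xa39861) (nat_lit 0) (.node .nil (nat_lit 0x92bd4c9620d) (nat_lit
  6473) (nat_lit 0) .nil)) (nat_lit 0x92bd4c97423) (nat_lit 9538) (nat_lit 0) (.node (.node .nil (nat_lit
  0x92bd4c987f5) (nat_lit 10529) (nat_lit 0) .nil) (nat_lit 0x92bd4ca4fd4) (nat_lit 272481) (nat_lit 0) (.node
  .nil (nat_lit 0x92bd4cae0b3) (nat_lit 0x351901) (nat_lit 0) .nil))) (nat_lit 0x92bd4caedc2) (nat_lit 3400)
  (nat_lit 0) (.node (.node (.node .nil (nat_lit 0x92bd4caf8dd) (nat_lit 0x81a901) (nat_lit 0) .nil) (nat_lit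
  0x92bd4cb3e04) (nat_lit 0x638d41) (nat_lit 0) (.node .nil (nat_lit 0x92bd4cb9575) (nat_lit 0x61a921)
  (nat_lit 0) .nil)) (nat_lit 0x92bd4cbbd20) (nat_lit 333921) (nat_lit 0) (.node (.node .nil (nat_lit
  0x92bd4cbe5a5) (nat_lit 321) (nat_lit 0) .nil) (nat_lit 0x92bd4cc1fe2) (nat_lit 272673) (nat_lit 0) (.node
  .nil (nat_lit 0x92bd4cc5553) (nat_lit 10337) (nat_lit 0) .nil)))) (nat_lit 0x92bd4cc5ba7) (nat_lit 305379)
  (nat_lit 0) (.node (.node (.node (.node .nil (nat_lit 0x92bd4cc6db1) (nat_lit 323) (nat_lit 0) .nil)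
  (nat_lit 0x92bd4cc780e) (nat_lit 239907) (nat_lit 0) (.node .nil (nat_lit 0x92bd4cca857) (nat_lit 305378)
  (nat_lit 0) .nil)) (nat_lit 0x92bd4cccc4f) (nat_lit 0x830d41) (nat_lit 0) (.node (.node .nil (nat_lit
  0x92bd4cd08e9) (nat_lit 0x61a8c1) (nat_lit 0) .nil) (nat_lit 0x92bd4cd1abb) (nat_lit 298312) (nat_lit 0)
  (.node .nil (nat_lit 0x92bd4cd3078) (nat_lit 8514) (nat_lit 0) .nil))) (nat_lit 0x92bd4cdaa29) (nat_lit
  305411) (nat_lit 0) (.node (.node (.node .nil (nat_lit 0x92bd4cdb81b) (nat_lit 0x952061) (nat_lit 0) .nil)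
  (nat_lit 0x92bd4cdccfc) (nat_lit 206945) (nat_lit 0) (.node .nil (nat_lit 0x92bd4cdd3f8) (nat_lit 6467)
  (nat_lit 0) .nil)) (nat_lit 0x92bd4cde031) (nat_lit 305249) (nat_lit 0) (.node (.node .nil (nat_lit
  0x92bd4cdf57d) (nat_lit 10467) (nat_lit 0) .nil) (nat_lit 0x92bd4cdfc51) (nat_lit 9539) (nat_lit 0) (.node
  .nil (nat_lit 0x92bd4ce1157) (nat_lit 334945) (nat_lit 0) .nil)))))) (nat_lit 0x92bd4ce1532) (nat_lit
  0x852041) (nat_lit 0) (.node (.node (.node (.node (.node (.node .nil (nat_lit 0x92bd4ce49be) (nat_lit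
  268611) (nat_lit 0) .nil) (nat_lit 0x92bd4cee9c2) (nat_lit 203882) (nat_lit 0) (.node .nil (nat_lit
  0x92bd4cef0b7) (nat_lit 200009) (nat_lit 0) .nil)) (nat_lit 0x92bd4d07f03) (nat_lit 0x651861) (nat_lit 0)
  (.node (.node .nil (nat_lit 0x92bd4d13458) (nat_lit 301378) (nat_lit 0) .nil) (nat_lit 0x92bd4d370e6)
  (nat_lit 6470) (nat_lit 0) (.node .nil (nat_lit 0x92bd4d3935e) (nat_lit 232777) (nat_lit 0) .nil))) (nat_lit
  0x92bd4d4d227) (nat_lit 10498) (nat_lit 0) (.node (.node (.node .nil (nat_lit 0x92bd4d4f4a3) (nat_lit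
  204906) (nat_lit 0) .nil) (nat_lit 0x92bd4d564f1) (nat_lit 326) (nat_lit 0) (.node .nil (nat_lit
  0x92bd4d84dc7) (nat_lit 0x652461) (nat_lit 0) .nil)) (nat_lit 0x92bd4d9377d) (nat_lit 108838) (nat_lit 0)
  (.node (.node .nil (nat_lit 0x92bd4d95561) (nat_lit 6466) (nat_lit 0) .nil) (nat_lit 0x92bd4d97f84) (nat_lit
  10531) (nat_lit 0) (.node .nil (nat_lit 0x92bd4d987ba) (nat_lit 334081) (nat_lit 0) .nil)))) (nat_lit
  0x92bd4d9f163) (nat_lit 0x84a841) (nat_lit 0) (.node (.node (.node (.node .nil (nat_lit 0x92bd4d9feee)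
  (nat_lit 305345) (nat_lit 0) .nil) (nat_lit 0x92bd4da1e20) (nat_lit 10536) (nat_lit 0) (.node .nil (nat_lit
  0x92bd4da25b4) (nat_lit 207137) (nat_lit 0) .nil)) (nat_lit 0x92bd4da3475) (nat_lit 336993) (nat_lit 0)
  (.node (.node .nil (nat_lit 0x92bd4da51b9) (nat_lit 207139) (nat_lit 0) .nil) (nat_lit 0x92bd4da5e0d)
  (nat_lit 10435) (nat_lit 0) (.node .nil (nat_lit 0x92bd4da7b5b) (nat_lit 10440) (nat_lit 0) .nil))) (nat_lit
  0x92bd4da9f6d) (nat_lit 271682) (nat_lit 0) (.node (.node (.node .nil (nat_lit 0x92bd4dabb68) (nat_lit 9542)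
  (nat_lit 0) .nil) (nat_lit 0x92bd4dadab1) (nat_lit 10473) (nat_lit 0) (.node .nil (nat_lit 0x92bd4dae0f8)
  (nat_lit 10505) (nat_lit 0) .nil)) (nat_lit 0x92bd4daeef3) (nat_lit 7496) (nat_lit 0) (.node (.node .nil
  (nat_lit 0x92bd4db3082) (nat_lit 0x63a861) (nat_lit 0) .nil) (nat_lit 0x92bd4db3d94) (nat_lit 204099)
  (nat_lit 0) (.node .nil (nat_lit 0x92bd4db4af1) (nat_lit 239713) (nat_lit 0) .nil))))) (nat_lit
  0x92bd4db5800) (nat_lit 6378) (nat_lit 0) (.node (.node (.node (.node (.node .nil (nat_lit 0x92bd4db66be)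
  (nat_lit 7491) (nat_lit 0) .nil) (nat_lit 0x92bd4db73d9) (nat_lit 204097) (nat_lit 0) (.node .nil (nat_lit
  0x92bd4db827b) (nat_lit 0x852461) (nat_lit 0) .nil)) (nat_lit 0x92bd4db906f) (nat_lit 272675) (nat_lit 0)
  (.node (.node .nil (nat_lit 0x92bd4dbb49b) (nat_lit 336065) (nat_lit 0) .nil) (nat_lit 0x92bd4dbc284)
  (nat_lit 10502) (nat_lit 0) (.node .nil (nat_lit 0x92bd4dbdbb8) (nat_lit 9543) (nat_lit 0) .nil))) (nat_lit
  0x92bd4dc1b58) (nat_lit 334913) (nat_lit 0) (.node (.node (.node .nil (nat_lit 0x92bd4dc2134) (nat_lit 7489)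
  (nat_lit 0) .nil) (nat_lit 0x92bd4dc32fd) (nat_lit 337091) (nat_lit 0) (.node .nil (nat_lit 0x92bd4dc5811)
  (nat_lit 0x3520c1) (nat_lit 0) .nil)) (nat_lit 0x92bd4dc5fde) (nat_lit 0x71a906) (nat_lit 0) (.node (.node
  .nil (nat_lit 0x92bd4dc67e8) (nat_lit 0xa39903) (nat_lit 0) .nil) (nat_lit 0x92bd4dc73f5) (nat_lit 305347)
  (nat_lit 0) (.node .nil (nat_lit 0x92bd4dc78c4) (nat_lit 303426) (nat_lit 0) .nil)))) (nat_lit
  0x92bd4dc86ac) (nat_lit 272610) (nat_lit 0) (.node (.node (.node (.node .nil (nat_lit 0x92bd4dce3c3)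
  (nat_lit 0x642861) (nat_lit 0) .nil) (nat_lit 0x92bd4dd26ef) (nat_lit 335041) (nat_lit 0) (.node .nil
  (nat_lit 0x92bd4dd345e) (nat_lit 10470) (nat_lit 0) .nil)) (nat_lit 0x92bd4dd4d1e) (nat_lit 335043) (nat_lit
  0) (.node (.node .nil (nat_lit 0x92bd4dd54a1) (nat_lit 0x951861) (nat_lit 0) .nil) (nat_lit 0x92bd4dda7b8)
  (nat_lit 7495) (nat_lit 0) (.node .nil (nat_lit 0x92bd4ddaafb) (nat_lit 10535) (nat_lit 0) .nil))) (nat_lit
  0x92bd4ddb4fb) (nat_lit 234) (nat_lit 0) (.node (.node (.node .nil (nat_lit 0x92bd4ddbbf0) (nat_lit 329)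
  (nat_lit 0) .nil) (nat_lit 0x92bd4dddfd1) (nat_lit 305217) (nat_lit 0) (.node .nil (nat_lit 0x92bd4dde63c)
  (nat_lit 10466) (nat_lit 0) .nil)) (nat_lit 0x92bd4de35e2) (nat_lit 305414) (nat_lit 0) (.node (.node .nil
  (nat_lit 0x92bd4de4a53) (nat_lit 207041) (nat_lit 0) .nil) (nat_lit 0x92bd4de51be) (nat_lit 335048) (nat_lit
  0) (.node .nil (nat_lit 0x92bd4de81a9) (nat_lit 106) (nat_lit 0) .nil)))))))
def tU_3 : T := (.node (.node (.node (.node (.node (.node (.node .nil (nat_lit 0x92bd4de9d84) (nat_lit 298311)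
  (nat_lit 0) .nil) (nat_lit 0x92bd4dea894) (nat_lit 265544) (nat_lit 0) (.node .nil (nat_lit 0x92bd4deb01b)
  (nat_lit 207043) (nat_lit 0) .nil)) (nat_lit 0x92bd4deb794) (nat_lit 0x9520c3) (nat_lit 0) (.node (.node
  .nil (nat_lit 0x92bd4debd75) (nat_lit 0x352126) (nat_lit 0) .nil) (nat_lit 0x92bd4df0cbb) (nat_lit 8521)
  (nat_lit 0) (.node .nil (nat_lit 0x92bd4df13b2) (nat_lit 10433) (nat_lit 0) .nil))) (nat_lit 0x92bd4dfacf3)
  (nat_lit 301162) (nat_lit 0) (.node (.node (.node .nil (nat_lit 0x92bd4dfd3ca) (nat_lit 10305) (nat_lit 0)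
  .nil) (nat_lit 0x92bd4e01cfe) (nat_lit 265537) (nat_lit 0) (.node .nil (nat_lit 0x92bd4e02350) (nat_lit
  0x930d41) (nat_lit 0) .nil)) (nat_lit 0x92bd4e02a45) (nat_lit 108801) (nat_lit 0) (.node (.node .nil
  (nat_lit 0x92bd4e0352b) (nat_lit 0x3524c1) (nat_lit 0) .nil) (nat_lit 0x92bd4e03c20) (nat_lit 8298) (nat_lit
  0) (.node .nil (nat_lit 0x92bd4e0673a) (nat_lit 305410) (nat_lit 0) .nil)))) (nat_lit 0x92bd4e07a23)
  (nat_lit 206913) (nat_lit 0) (.node (.node (.node (.node .nil (nat_lit 0x92bd4e07f05) (nat_lit 0x952041)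
  (nat_lit 0) .nil) (nat_lit 0x92bd4e0b87e) (nat_lit 10497) (nat_lit 0) (.node .nil (nat_lit 0x92bd4e0bff4)
  (nat_lit 0x81a921) (nat_lit 0) .nil)) (nat_lit 0x92bd4e0c2ce) (nat_lit 200001) (nat_lit 0) (.node (.node
  .nil (nat_lit 0x92bd4e0cb53) (nat_lit 337090) (nat_lit 0) .nil) (nat_lit 0x92bd4e10ff4) (nat_lit 0xa424c2)
  (nat_lit 0) (.node .nil (nat_lit 0x92bd4e16df9) (nat_lit 3398) (nat_lit 0) .nil))) (nat_lit 0x92bd4e174b6)
  (nat_lit 108806) (nat_lit 0) (.node (.node (.node .nil (nat_lit 0x92bd4e17b62) (nat_lit 108744) (nat_lit 0)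
  .nil) (nat_lit 0x92bd4e18292) (nat_lit 265545) (nat_lit 0) (.node .nil (nat_lit 0x92bd4e186da) (nat_lit
  108737) (nat_lit 0) .nil)) (nat_lit 0x92bd4e19095) (nat_lit 9418) (nat_lit 0) (.node (.node .nil (nat_lit
  0x92bd4e19570) (nat_lit 328) (nat_lit 0) .nil) (nat_lit 0x92bd4e1ac70) (nat_lit 301377) (nat_lit 0) (.node
  .nil (nat_lit 0x92bd4e1d085) (nat_lit 8515) (nat_lit 0) .nil))))) (nat_lit 0x92bd4e1e550) (nat_lit 0xa49861)
  (nat_lit 0) (.node (.node (.node (.node (.node .nil (nat_lit 0x92bd4e1fde6) (nat_lit 10) (nat_lit 0) .nil)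
  (nat_lit 0x92bd4e207d0) (nat_lit 7497) (nat_lit 0) (.node .nil (nat_lit 0x92bd4e23817) (nat_lit 239906)
  (nat_lit 0) .nil)) (nat_lit 0x92bd4e2d832) (nat_lit 322) (nat_lit 0) (.node (.node .nil (nat_lit
  0x92bd4e35db7) (nat_lit 335139) (nat_lit 0) .nil) (nat_lit 0x92bd4e364ac) (nat_lit 0x751c61) (nat_lit 0)
  (.node .nil (nat_lit 0x92bd4e36ba4) (nat_lit 239843) (nat_lit 0) .nil))) (nat_lit 0x92bd4e37297) (nat_lit
  337123) (nat_lit 0) (.node (.node (.node .nil (nat_lit 0x92bd4e386db) (nat_lit 232775) (nat_lit 0) .nil)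
  (nat_lit 0x92bd4e38dd5) (nat_lit 0x71a8e1) (nat_lit 0) (.node .nil (nat_lit 0x92bd4e394ce) (nat_lit 108777)
  (nat_lit 0) .nil)) (nat_lit 0x92bd4e39bc0) (nat_lit 108839) (nat_lit 0) (.node (.node .nil (nat_lit
  0x92bd4e42027) (nat_lit 202) (nat_lit 0) .nil) (nat_lit 0x92bd4e42706) (nat_lit 9544) (nat_lit 0) (.node
  .nil (nat_lit 0x92bd4e48c24) (nat_lit 0x642841) (nat_lit 0) .nil)))) (nat_lit 0x92bd4e49314) (nat_lit
  268610) (nat_lit 0) (.node (.node (.node (.node .nil (nat_lit 0x92bd4e4a7f9) (nat_lit 205122) (nat_lit 0)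
  .nil) (nat_lit 0x92bd4e4aeee) (nat_lit 0x832841) (nat_lit 0) (.node .nil (nat_lit 0x92bd4e4f357) (nat_lit
  0x7520c2) (nat_lit 0) .nil)) (nat_lit 0x92bd4e50937) (nat_lit 0xa49841) (nat_lit 0) (.node (.node .nil
  (nat_lit 0x92bd4e50f50) (nat_lit 6250) (nat_lit 0) .nil) (nat_lit 0x92bd4e51773) (nat_lit 268394) (nat_lit
  0) (.node .nil (nat_lit 0x92bd4e53e8a) (nat_lit 0x932841) (nat_lit 0) .nil))) (nat_lit 0x92bd4e570a9)
  (nat_lit 272642) (nat_lit 0) (.node (.node (.node .nil (nat_lit 0x92bd4e59a44) (nat_lit 0x91a901) (nat_lit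
  0) .nil) (nat_lit 0x92bd4e5a4c4) (nat_lit 0x640d41) (nat_lit 0) (.node .nil (nat_lit 0x92bd4e5b04a) (nat_lit
  272449) (nat_lit 0) .nil)) (nat_lit 0x92bd4e5dea5) (nat_lit 335937) (nat_lit 0) (.node (.node .nil (nat_lit
  0x92bd4e645c9) (nat_lit 204098) (nat_lit 0) .nil) (nat_lit 0x92bd4e64bf6) (nat_lit 271683) (nat_lit 0)
  (.node .nil (nat_lit 0x92bd4e65286) (nat_lit 335138) (nat_lit 0) .nil)))))) (nat_lit 0x92bd4e6e4c4) (nat_lit
  200006) (nat_lit 0) (.node (.node (.node (.node (.node (.node .nil (nat_lit 0x92bd4e6fe51) (nat_lit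
  0x351cc8) (nat_lit 0) .nil) (nat_lit 0x92bd4e71551) (nat_lit 0x91a906) (nat_lit 0) (.node .nil (nat_lit
  0x92bd4e7fba6) (nat_lit 0x351cc1) (nat_lit 0) .nil)) (nat_lit 0x92bd4e801dd) (nat_lit 298310) (nat_lit 0)
  (.node (.node .nil (nat_lit 0x92bd4e8094f) (nat_lit 0x91a8c1) (nat_lit 0) .nil) (nat_lit 0x92bd4e80dcd)
  (nat_lit 108774) (nat_lit 0) (.node .nil (nat_lit 0x92bd4e83518) (nat_lit 265543) (nat_lit 0) .nil)))
  (nat_lit 0x92bd4e83c11) (nat_lit 0x848d41) (nat_lit 0) (.node (.node (.node .nil (nat_lit 0x92bd4e83dce)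
  (nat_lit 298305) (nat_lit 0) .nil) (nat_lit 0x92bd4e844c7) (nat_lit 3399) (nat_lit 0) (.node .nil (nat_lit
  0x92bd4e850ef) (nat_lit 303210) (nat_lit 0) .nil)) (nat_lit 0x92bd4e8573b) (nat_lit 271466) (nat_lit 0)
  (.node (.node .nil (nat_lit 0x92bd4e858d0) (nat_lit 9322) (nat_lit 0) .nil) (nat_lit 0x92bd4e8609e) (nat_lit
  108769) (nat_lit 0) (.node .nil (nat_lit 0x92bd4e8ce4d) (nat_lit 336067) (nat_lit 0) .nil)))) (nat_lit
  0x92bd4e8d58c) (nat_lit 334083) (nat_lit 0) (.node (.node (.node (.node .nil (nat_lit 0x92bd4e8f846)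
  (nat_lit 0xa32061) (nat_lit 0) .nil) (nat_lit 0x92bd4e8fefe) (nat_lit 0xa41861) (nat_lit 0) (.node .nil
  (nat_lit 0x92bd4e902cc) (nat_lit 6465) (nat_lit 0) .nil)) (nat_lit 0x92bd4e92c52) (nat_lit 305346) (nat_lit
  0) (.node (.node .nil (nat_lit 0x92bd4e950b5) (nat_lit 335042) (nat_lit 0) .nil) (nat_lit 0x92bd4e957ac)
  (nat_lit 0x951841) (nat_lit 0) (.node .nil (nat_lit 0x92bd4e95e9e) (nat_lit 0xa39841) (nat_lit 0) .nil)))
  (nat_lit 0x92bd4e97b84) (nat_lit 10465) (nat_lit 0) (.node (.node (.node .nil (nat_lit 0x92bd4e9ad08)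
  (nat_lit 239875) (nat_lit 0) .nil) (nat_lit 0x92bd4e9b449) (nat_lit 337155) (nat_lit 0) (.node .nil (nat_lit
  0x92bd4e9baf3) (nat_lit 0xa4a061) (nat_lit 0) .nil)) (nat_lit 0x92bd4e9c236) (nat_lit 336163) (nat_lit 0)
  (.node (.node .nil (nat_lit 0x92bd4ea19cd) (nat_lit 0x832861) (nat_lit 0) .nil) (nat_lit 0x92bd4ea21c1)
  (nat_lit 205123) (nat_lit 0) (.node .nil (nat_lit 0x92bd4ea41ac) (nat_lit 305409) (nat_lit 0) .nil)))))
  (nat_lit 0x92bd4ea670f) (nat_lit 303427) (nat_lit 0) (.node (.node (.node (.node (.node .nil (nat_lit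
  0x92bd4ea78ff) (nat_lit 0x84a861) (nat_lit 0) .nil) (nat_lit 0x92bd4ea82a1) (nat_lit 272611) (nat_lit 0)
  (.node .nil (nat_lit 0x92bd4ea8aa1) (nat_lit 0x652441) (nat_lit 0) .nil)) (nat_lit 0x92bd4ea9198) (nat_lit
  0x63a841) (nat_lit 0) (.node (.node .nil (nat_lit 0x92bd4eaa680) (nat_lit 207138) (nat_lit 0) .nil) (nat_lit
  0x92bd4eaa9b7) (nat_lit 0x751c41) (nat_lit 0) (.node .nil (nat_lit 0x92bd4eac126) (nat_lit 337122) (nat_lit
  0) .nil))) (nat_lit 0x92bd4eac7fa) (nat_lit 239842) (nat_lit 0) (.node (.node (.node .nil (nat_lit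
  0x92bd4eaf353) (nat_lit 298) (nat_lit 0) .nil) (nat_lit 0x92bd4eb04ce) (nat_lit 9537) (nat_lit 0) (.node
  .nil (nat_lit 0x92bd4eb0cd1) (nat_lit 327) (nat_lit 0) .nil)) (nat_lit 0x92bd4eb7a89) (nat_lit 7490)
  (nat_lit 0) (.node (.node .nil (nat_lit 0x92bd4eba1f9) (nat_lit 239874) (nat_lit 0) .nil) (nat_lit
  0x92bd4ebaddf) (nat_lit 10434) (nat_lit 0) (.node .nil (nat_lit 0x92bd4ebc273) (nat_lit 0x852441) (nat_lit
  0) .nil)))) (nat_lit 0x92bd4ebd2ba) (nat_lit 336162) (nat_lit 0) (.node (.node (.node (.node .nil (nat_lit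
  0x92bd4ebf34b) (nat_lit 239681) (nat_lit 0) .nil) (nat_lit 0x92bd4ec0857) (nat_lit 10530) (nat_lit 0) (.node
  .nil (nat_lit 0x92bd4ec1f46) (nat_lit 337154) (nat_lit 0) .nil)) (nat_lit 0x92bd4ec2d37) (nat_lit 0xa4a041)
  (nat_lit 0) (.node (.node .nil (nat_lit 0x92bd4ec321f) (nat_lit 336961) (nat_lit 0) .nil) (nat_lit
  0x92bd4ec5dc2) (nat_lit 0xa424c3) (nat_lit 0) (.node .nil (nat_lit 0x92bd4ec64b7) (nat_lit 272643) (nat_lit
  0) .nil))) (nat_lit 0x92bd4ec799e) (nat_lit 0x7520c3) (nat_lit 0) (.node (.node (.node .nil (nat_lit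
  0x92bd4ec8093) (nat_lit 0x852061) (nat_lit 0) .nil) (nat_lit 0x92bd4ec85ab) (nat_lit 333889) (nat_lit 0)
  (.node .nil (nat_lit 0x92bd4eca84d) (nat_lit 272674) (nat_lit 0) .nil)) (nat_lit 0x92bd4ecc63c) (nat_lit
  0xa41841) (nat_lit 0) (.node (.node .nil (nat_lit 0x92bd4ecd426) (nat_lit 334082) (nat_lit 0) .nil) (nat_lit
  0x92bd4ed19c1) (nat_lit 336066) (nat_lit 0) (.node .nil (nat_lit 0x92bd4ed20b9) (nat_lit 0xa32041) (nat_lit
  0) .nil)))))))
def tU : T := (.node (.node tU_0 (nat_lit 0x905a4f51426) (nat_lit 263) (nat_lit 204) tU_1) (nat_lit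
  0x92bd4c042c5) (nat_lit 301379) (nat_lit 0) (.node tU_2 (nat_lit 0x92bd4de88a1) (nat_lit 3393) (nat_lit 0)
  tU_3))
def pfa : List ℕ := [nat_lit 6, nat_lit 0, nat_lit 0, nat_lit 0, nat_lit 0, nat_lit 0x20eb32ce8, nat_lit
  0x2589330cc32589, nat_lit 0x312c3312c, nat_lit 0x75a1665a167, nat_lit 0, nat_lit 0x20eb330cc32ce8, nat_lit
  0x60b1665b026]
def pfb : List ℕ := [nat_lit 263, nat_lit 0, nat_lit 0, nat_lit 0, nat_lit 0, nat_lit 0x41d683ace8, nat_lit
  0x4b126620ec32589, nat_lit 0x625883b12c, nat_lit 0xeb42d075a167, nat_lit 0, nat_lit 0x41d66620ec32ce8,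
  nat_lit 0xc162d075b026]
def nE : List (List ℕ) := [[0], [5], [6], [7], [8], [5, 10], [0, 11, 0], [10], [11], [5, 6, 5], [5, 7, 5], [5,
  11, 5], [6, 5, 6], [0, 8], [6, 10, 6], [6, 11, 6], [7, 5, 7], [7, 8, 7], [7, 10, 7], [0, 6], [8, 7, 8], [8,
  10, 8], [8, 11, 8], [0, 6, 7], [0, 7, 8, 7], [5, 7, 8, 7], [0, 7, 5, 11, 5], [8, 10, 6, 7, 10], [0, 5], [10,
  6, 10], [10, 7, 10], [10, 8, 10], [10, 11, 10], [11, 6, 11], [11, 7, 11], [11, 8, 11], [11, 10, 11]]
def nD : List (List ℕ) := [[0], [5], [6], [7], [8], [5, 10], [0, 11, 0], [1], [10], [11], [5, 6, 5], [5, 7,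
  5], [5, 11, 5], [6, 5, 6], [0, 8], [6, 10, 6], [6, 11, 6], [7, 5, 7], [7, 8, 7], [7, 10, 7], [0, 6], [8, 7,
  8], [8, 10, 8], [8, 11, 8], [0, 6, 7], [0, 7, 8, 7], [5, 7, 8, 7], [0, 7, 5, 11, 5], [8, 10, 6, 7, 10], [0,
  5], [10, 6, 10], [10, 7, 10], [10, 8, 10], [10, 11, 10], [11, 6, 11], [11, 7, 11], [11, 8, 11], [11, 10,
  11]]
def cD : List (List ℕ) := [[], [5], [6, 7], [1], [11, 6, 11], [10, 8, 10], [5, 6, 7], [5, 11], [0], [5, 6, 5,
  8], [10, 6, 10, 6], [5, 6, 5], [5, 7, 8], [10, 7, 10, 7], [0, 7, 8, 7], [11, 8, 11, 8], [6, 7, 5], [5, 8, 6,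
  5], [8, 7, 5], [0, 8, 10, 7, 11, 5], [7, 11, 10, 6, 5, 7], [6, 10, 6, 10], [7, 10, 7, 10], [0, 6, 5, 11, 10,
  0], [11, 10, 11, 10], [11, 5], [8, 11, 8, 11], [7, 5, 6, 10, 11, 7], [10, 11, 10, 11]]
def cE : List (List ℕ) := [[], [5], [6, 7], [11, 6, 11], [10, 8, 10], [5, 11], [0], [10, 6, 10, 6], [5, 6, 5],
  [10, 7, 10, 7], [0, 7, 8, 7], [11, 8, 11, 8], [6, 10, 6, 10], [7, 10, 7, 10], [11, 10, 11, 10], [11, 5], [8,
  11, 8, 11], [10, 11, 10, 11]]
def w8 : List ℕ := [5, 9]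
def w5 : List ℕ := [6, 10]
def w7 : List ℕ := [6, 10, 11]
def w84 : List ℕ := [nat_lit 0, nat_lit 0, nat_lit 0, nat_lit 0, nat_lit 0, nat_lit 0, nat_lit 0, nat_lit 3,
  nat_lit 111, nat_lit 3567, nat_lit 114159, nat_lit 0x37bdef, nat_lit 0x6f7bdef, nat_lit 0xdef7bdef, nat_lit
  130, nat_lit 4175, nat_lit 133615, nat_lit 0x413def, nat_lit 0x827bdef, nat_lit 0x104f7bdef, nat_lit
  0x209ef7bdef, nat_lit 4164, nat_lit 133263, nat_lit 0x4111ef, nat_lit 0x8223def, nat_lit 0x10447bdef,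
  nat_lit 0x2088f7bdef, nat_lit 0x4111ef7bdef, nat_lit 0, nat_lit 15, nat_lit 495, nat_lit 15855, nat_lit
  507375, nat_lit 0xf7bdef, nat_lit 0x1ef7bdef, nat_lit 0, nat_lit 0, nat_lit 0, nat_lit 0, nat_lit 0, nat_lit
  0, nat_lit 0, nat_lit 132, nat_lit 4239, nat_lit 135663, nat_lit 0x423def, nat_lit 0x847bdef, nat_lit
  0x108f7bdef, nat_lit 0x211ef7bdef, nat_lit 4, nat_lit 143, nat_lit 4591, nat_lit 146927, nat_lit 0x47bdef,
  nat_lit 0x8f7bdef, nat_lit 0x11ef7bdef, nat_lit 68, nat_lit 2191, nat_lit 70127, nat_lit 0x223def, nat_lit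
  0x447bdef, nat_lit 0x88f7bdef, nat_lit 0x111ef7bdef, nat_lit 4227, nat_lit 135279, nat_lit 0x420def, nat_lit
  0x841bdef, nat_lit 0x10837bdef, nat_lit 0x2106f7bdef, nat_lit 0x420def7bdef, nat_lit 0, nat_lit 0, nat_lit
  0, nat_lit 0, nat_lit 0, nat_lit 0, nat_lit 0, nat_lit 2, nat_lit 79, nat_lit 2543, nat_lit 81391, nat_lit
  0x27bdef, nat_lit 0x4f7bdef, nat_lit 0x9ef7bdef, nat_lit 4226, nat_lit 135247, nat_lit 0x4209ef, nat_lit
  0x8413def, nat_lit 0x10827bdef, nat_lit 0x2104f7bdef, nat_lit 0x4209ef7bdef, nat_lit 131, nat_lit 4207,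
  nat_lit 134639, nat_lit 0x41bdef, nat_lit 0x837bdef, nat_lit 0x106f7bdef, nat_lit 0x20def7bdef, nat_lit 98,
  nat_lit 3151, nat_lit 100847, nat_lit 0x313def, nat_lit 0x627bdef, nat_lit 0xc4f7bdef, nat_lit 0x189ef7bdef,
  nat_lit 0, nat_lit 0, nat_lit 0, nat_lit 0, nat_lit 0, nat_lit 0, nat_lit 0]

end Cfsg.Agent.SZ
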