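import Cfsg.Agent.M24.Chain

/-! # The model of `Suz`: Sylow 5-subgroups -/

set_option autoImplicit false
set_option maxRecDepth 100000

namespace Cfsg.Agent.SZ

open Cfsg.Agent.M24

def cG0 : ℕ := nat_lit 0x1301c174779f3719eae25283e3fc3dd3fa4e0cc9d75360c1d63342ab6b815dcc2ea546346a13576d24282a35d96e3f352c7e80229a21748f2305be2d6a7deec72343cd317e4435791b046417a882ca6a4bd9b13b8bd4e199cfdbb1b69281ebe8e1179564f811a6c9623e14131fa9f5d58ebaed759d92b80b1095e6715450de00c97d84482f2d02c28917421b57bc3b181d2001f41212a4895ba2cfed1d27162dceb457f25851bc6b0df3b04250c056ce6191c080ca52aa48f4e2748ec44abecfb9b7b6445cc445599d4a9700a5cb3dcadcdedd8a7a0589139aa1df0d371858bee82802e4f77d60cc44f08571bcbe27f95cf08ac4dab3c18b678f9584fa67550ac9a31952b3ca7f4355d19f8fcd5b402ad40bb7e6303e712cd6c04cbb930389882f7a7b75a6b433968f75e3abd0e2533e6d642b36517e7991a95d0c4d173d6041bbd92b724480d0eb6eb05a3840886b8185bbf15e095b8244b9b61773cfdc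a4c567fb38cb257cfb5ef96c1c00de9f428865275cc7c113cb1d6583e3bb3137c1d4e89f6c40b9c3ee4951ca461d043608beb50e43b04ab5a6958d994dae4a2a0d4a7bb815833ea0a947166a9c67691860fecd38743be266afa3472e37a8a2d48423581ef699d6f5d96c25319af074303483f638e7a9de5ae6f352722db31bea4c6723ecca3e27c0f3c1c21515a03c7d4cb6d808049098e708fad96749d479be4fc9b08a09081396325f5521b64b036b531f49543d00197e7bca95d0e8355ce2c966b57c217b1b599d7a871b69d452172d587d0c0bdf3b2e64f4ba5046bc589832b1ef470f5ee36f89d115fb5f4548253e72512031b61fa2ee7c0d0839e241e3633464c511c3e1513d9c885461c14d94d8e39633a29ac0c91a6ed508122743041996a3329805ee03b53fa82cc0b437b070562c709b5114d51b018f1e74e9486d496ce06b43598541ea85ad325fddfd8299073d66db10b60db2beb8a16ed28c316d4d6c30f7d9b61359c77cdf9e06586190afb3080043ff0fea0e9d10f0a824a97a4f0e230559230591bfd2acff5a816da1a3051cd01047033d8f053b51746834cd07660f59b0faa74ea4fad694689d26c697d5c3f261b104738917be2b098ca157cb4c0e568b2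9ed9df2aabbce6c37ada832fe28490f22341c404ca225389655d8ea94699f4b55daf6a44a49038b76be38adb14e64f5e078e85350ae5b4b9482cdc82e12f5e8de1e4de107396ca88d9bba408653f123f52c4bebd27a79d71d4a9711e31c4d7142b213f3f42988ce72208d8994c031de700205146ad13169f2d12daf240ea391c7c57e2afe7b7cca92d82910bcc62d6aaeb54bae1d631c44eeb4157c3c665f68c2128741c01b4b61af319057ddb2259dc1128dced9bead503d658c3e05cc77fa71eeb4dd3b639b31b79aef6c2683de8c01c2df52b3c96a47284f385d20be27f82569170dc2f1940b712fe0757911b942a394210c332f14d96989d14c7026a6aaa2ff35dff79ad8b2608c558fadf201fb8262e44553c2318ac665e18efbe2adc231aac85707b1b8c7324b666d6f76116c02a0581926de7645517ae1a0a15cc212cca588184e20172f8733f48c93112d6701c4f361dda4bd4965a468456ddd8f2b15fcca14ccbd4ee35c670ef88e75b9aa4ce068c67e6fd0567347201fbc330c4c1b60c5c1819acf8792af38199c9e8b253438c032803c361e60307a65fc0a5cb11a9a569231cfc14caff22e5b41523cde4c6e4ed2e6dc5ce8ce21a537b2fc8e3d83aa9a93ea3477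78e5129a129a6d918021269d3e4534f08aa098653f9a9022a0fa24e3d67a6c8cf5f99548ba9eaaeee3758b114a2e2095fa6edff1939e65141336dcae00b1a9c51797510b24f12289a0eec8705562d793e69990866e8f24d30a5ad141705d8de55c0a603839cdc8223ca3a200aad28aece192aa39ecaaec4707347ad57a430002094fc26c19a9eedb7e02f183c08bf498c49144a171a4d0d1030cadf9a49891358dc0bb7fb7cc19b1d72170d725da9589da58afc2b20d28fed334368099b83547b1a2dad97eed035a6bf72b4f31eef467e44590eccc1a57362cab00e4f14eabf66e9ce95d341fa9c88f1107a8b96d66d4188b682420d3d701165e68a3cda0c26d27317a98b6a5684feb21b762bc28eb72f0166b8b63bc8b21625aa56dc519985cc099368ed32c17b348b0fb8937165236569ece0a01b5156ab6c0570ce5de1066434af70a27f79d4665f8a962388b056e720348814708355727262a0182b8ae010ea89e179f64a638cf67aba8832b7b8914512adbd38fd583ac98e040154441052f8406d37841990b5a1f4cc1457722dac3a44e32114b778a40c9343677647696bcd39f49dd6dd21b8b741b47ed8e3fd644b47e15ee4a0d98bb5c97824f72177b8d2765d0ea402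0c93298d0a29150b65d623acea17649794b31794816f75437a6421c71d5a3012aa08ed70da46565c361446b58103054dcbc54cc232734f8b4390ebc764fa9022329cad6494aeea169c15d5aa0c693ac873495c2f40c00c398da7326f9f30968827d21348d9465259b02164d6e0894f6985dc85563d6e8b53d5425302188dac24b775807f8483b42fbe539f1a2df2dec5274d20ded2a7858453a641c799bd076c641ca11d110c168cd9dd16452ed73262191036f45241d7296e58ad8c99d9436b187d8eda20d622c169bf6b8dd5abd413ced6e19dce6748ba66c056f1050f6217386b760836e0882d168a51e95bc0f10d14dd88b65253bff04ef4aba9fe3e26e94688d0330b0ed4f587757576b5baa171e0943c5e7350bd83c75d792eae5d16336cb3937bb6a82623c11d0a3c172b4043a049b60b972d7a5b98262f77c9237797d4bea72d368cef6898687597ad62db5c8d762d88dddaaede26ee808865b44bbb0f0464539be83d91d322caafe6307032c7602004857a43cb4089e2f5af030591fa0baa283d37456d420c8e5c14d40701a023494c18050b580456270638d2e3018da6c5ad9f12a47629124970c2dc848e5f90ed195bcc2de93c462973d3e4aab47680d28e2654a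482220b24153a4c7ac6b087975866b0ed5c0b09e7b2bda041259d50ea4d1342675f5280589ac7fe8834a99ee55f4dc565d25312474d46145913a2c8f2b5a8a2a2c06ad392691d777ae9104acdd3835c1f6f67e3caba646a182cd1367243ea899bcc960d231028971464ce61e7c9cdc893867704eb96bc6599294831c2f2e581ab2ef29890d407504e4c92565f6641aa8f43733307b1719f35826913553d80198686c310d42945702f9dd3d1f04df0a76701612aa86dc54c0131ea7a3027d1a6e3307502752187542ac642e62c079a67414c0e90a894cd81e5be089217cc1388be52ec4c2d8deea95740fd1433ec47330ca5f19bfc74d6741dd0904e124a223b9ed808ed16ca876cf4012615335190a921ae294b12c2fb1ef24673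
def cG1 : ℕ := nat_lit 0x2d62cc4eadccbc27b132ebd806c884060d1791cbf3b7f2f8dfcaa2ae03dc6c5cf3311171b1bb6617c19dc38608fab45b8aa21c8d1c8213679ac8b56a1506b2c532b5962c5f70ba5db3bd05a02d63861d835a95109842ff298fc2d19e2778c61b93052ee2c55fadad9ae0508d4cfd152352a49af8f251ebd8a1272253085739c13f89788d0b6510462df11f5a5649ac2db0dbd0d4b88c8b0c36162446910330f49d6319aeef410e198994070a4ee0a46385d17c0014db4e2839dfbc6806ba7e2e8addaacd6ca4acba4684778685384ae4f80a40f88f5156f9b7f66e2875700f8bd7dce73abca07c71dbedad6891ea80122448ececa1542c9a8126dda963d66bae31406e98469b695159aedcb7e68e202fd20888873dc19689c8d7a93a9d6e072cb64210fdb649fa89546dd3be94ef21880573b66aa9c6936066edf1ce912764d63b932714ce055d495ee82123f51ea8069105a7e108a823aca98e75b4c4eca79aee98ac5d560f6582fbe1540d636a24ca986c195de48cf4a94a0ee8ea3e16b264d8a3bb45286b9188922d468c0a4b3211fb38ce01802776efdde83222b713a1e2a4bda7da575ccf71f3e625fe6c44941b2e670937049c0f23492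6b3b38d7490c4965368222ab518310ebb8a08ac3a27cdbe33c5ba6a2da72390ec350d398a2ee651d1550998696639497852297aa7a92b3be1d059714b4ff76d3d6fd4f2c9c9bf0762921ed2a1843c17a42229c8a953268b082478c9a377a631b4a754a5873cf35a6020241f59af2228076eb51f85e89bb08ab31c4ff73e6e32a610c4df9e717c80953095368e4b7730488e51b2cf03e8a29d2d9d16ba40f27286cc6e352e3ace99930c4e49c491aae7b2bc755639fb0f225cdc24b3c357b361b58b49bebea87194baf24d83e8c5baaaf425d8a29329b6cd3a860404fb20252d3cd06cfd8d8231b6781e18f1af8fa86d296e1e8a3b5a507b6d1bebbaafc091d927442fd95ae3338ac04567704a9fe4c956ea20f67adcf8f688bf74652a13e4618435b20738e3aa21cb431828d9130b4bd8d0bbb6d14e06e177084c892e20005062c5085a832054bb8b41c941972c88161be1ba4bdda1f43348449bc6b26b7bd90cb0cc126d708714f191f43ae35892aab86dd2ca1b8c91cd2dac49ffeb2d5ae31b8ee951ebd5d0bbbd315e4ee015471767050cace08d709bbc69084c3e3e5ba29e675d7f0e805d1cd464538cebb6a900411ac246a9e07b04d31583b04067a4fc950acebd3dcf8d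f8759b2696104fe18f73ef8a9a4dd5f6828bdb415aa7bdc5b430a8ec1eedc96b0d092b022bcc3b48e8287759b0712ef0407a4b3c9dc07a79265dc9cc62eba1502af104ec4ded3543c2b6561879d4de88d05a5d50915ac97388270a581f62b449b7342f461c247bc644d96d1a4582153d6e551920f6bd036aa5458bd26b5f898cb1021809ad481f70719cf4faae7108634cb062c8cf575eeca0aa8b3fb815a7691294645e360a3a37a7bd9aaeecea7d4d931f043a9112cda3e903b13d255e7ab9a3de9521cbb6bb06176d6231ce02b7c4658aa965b4be601f7c320e42423ea98a25019fd16a731918a02fcc0193c955a12310f8e2c2d23d0aa953b598ef2f5a10baca52dd1927c3881e6106b12a6a2ac40dde777a93d6ea8583f4097d0fae6ead2a777e1e167c844cf72b63ae769c80d0e0ea50e01b15a70a725d13b8165b0cae67c5b9b261614de004c696cfc7e260a81a20fccbd20a025fdcd2dbd9c3957a6a0642aaa1ccf5299668454fbac081291e4db511fe2a9b280d52db6f8c832a95602d94536db3e078f10b27868df4efa6cc0a4af40189c40a8e502d25977112de38d436b73b5f457f3171553c71b4960e0594e67ef6a90c5e4d240f4b29174ec433cd14466d64c31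da470d743d66e485697c46266a96fb0e3aaa2a3334b80fe0f619dbdc0202ed51f24a2c0b665d0d1a1113f0f16f12919fae00cf52c1556996b251e4c7f29f006ab29c43a904aab0c8849684c56f1aa6655b2e58daa693ee028286c0dd1c94a8ac96a4fe20741e144112590246910669aee4463c455a44128466a315f492a711858ff030ef5813f112e9d92b8d6432644b03ecf093c12cf6ae6dc5963113183eb68c802bda4d1927cf1cc4a5afa6c25142a3e16d609e83eb455bc8359c001609e72b3524a2420927cff8ae8819963f8441f9ac8635073fda1260602a82c91194f5b5938e145dbb57d72b8ab14be57caeb37eb709f07ee5b4c165af1af41815c90d46911b52660e36f5af9aec1488247689d05eaac241a069e630641d6e12f76617a45c0c87662a5786881c873f495fc945b60d69ea4576630f37451c29e5bb0bcfbb06d84bf8c402442416c2b99d2028ab22d5b68459cb2cb92a82e029537619d248841c5ca0446f42ef5611ad0cc70bdeb3a06fd1e5296a069d581e0d7f949a0460922f0b178bcb203d1e03149ce58342b53d6a401cf2265137c660d5e3a81f8af85082fbae560be55f68aac80d8dc698186cd87635d304cd74b1711b07a01c566ade6d3dbb924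ca1935d9b851836367625851d6c3ed844539ab468f59a02b0f69ab7a6740384528db1d67c57831aeda9f3f7481fd33afe698831b50e9eb50c60e196369c876b5b14578f36c65a56dcd1c69bc3323a62f5b8dfd81f874468675236781a47c866d4ededed90e7cc3597ce4d84ae5c6caa97064d2aeb5c807b1001e4929aea5062200dec786221a6dd580304084108b5bb02748a705d916f28a1da56cdabcb96b3f3cebe4a7cf2ac6c172b96fe4571ea0187bca35752a3cbcf609231c5463cc3bb866a869a52619d53a86f28f54387816ca237ac2437614356832884e42e09b5b327b12b969003862a004d415d5b054743ec8cf31311bd4a036e968e6ae408c508002388b4db6ee61c772f820b0b1652b818a37003bfc0754d5addb1a7c96465cd08a51db04a4e1636f15dcbabb5313205969e818584864b28c5a44b86caf788db68e32777c1a13f61c776da9ee6d12383990db36818903d7ac66f23c1fadac6204edc8a563417a3b14b966592ee89db1d6961977bf8e9ca2b39f0380fb5a67e50335c3335d9b7948b1f9213ded951c536404a389ebfef64c8519ccbb880426622a3ddc056153c85233d804ed4dc3cbc11162dc5b4578e30b825e1a5102ed97909b10e90ae3ecd5e6a4e41709c7756c9679a8025e2d10a37008c44eed7b03f5c8117b72690205d6632689c4deecf68babd223a189a6649282fce49aa2171d990a7619f36b11c7fc819f461b5ee543c4e70e2033636155213c717f5fa8bcb33a752670ab13ffb01a891b4c4f1582e047338b26314ca4169e3dc15c1b5e04a2de5d355074a65c484f66a8b3ceedd5259772c6ce6ff58baae3309d9727d109e013b8bdb504adaf30a61337008307e033561cbd16c6924d135fc5e423d8c58717728ce886acd8ecd73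
def cG2 : ℕ := nat_lit 0xcca0e221839c91ad6639091a41803e1c401b4e87d5e0233b95e09c92edf9915b8cda6d65a4f3d2fa8c98ec25bb2f7cb070f5455a4f89a9c02db676eb3066e5628b71bb9e6be9a1963c5562dae92b4326e0cf9b6c8bb92bca16a516bb35e81c9ab487a1ebbef5895652cced46f9f6e21f16659b2141ac5732f333a6b21885427d5f0b14da22541c8f84c9d4131b15d83cc1b3bd0dd443df11b1731c6819e8df586c73d3c7ed7c852107bbcad1c7b961ca5db45ce73be055efa9819a621bb0becfce448165724b1adc7b61afcfad0fd8072b6e85d7a4fe8e8bbb0c32514e4a04c3878e716304fb893287a2aa69318b0249a9ea08becc3767dacb364a04c81302c51a2a40320216ab06d30d71724720ec3a72a84c8199c19c4fd5f3884480a0815d32927f6c890ecda1af3ae952b80d02adaa3fc5182b4ae1aa806328d17e05f8d01d714cc88ea196410e8c85253aa56d0c1d4b4454faed8476013e0c58e7aa33e400ecc14765e79cffb114d2c6486346c3141349b038a5574cc45f7896868dd46ab55ded53b73d733491ba92849591a3b27094fa986cf85f76b2a0720ef25060bf0da4572e0aae785d320b5224a7025647342ea9c1772dee40f65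b2740a9189a77c96b694bbfbd43089a189105ad49aad135dcf0e35ab2555a1d8bd6e669adeac5fa66a2c4584cbd89a284b89c93d93a04bd36953494b27f8684cc619441546ac33a73a1adc8dca18698bc602c25c4190d1304eae6f410b6ad9929d538b4b61f7ddb314852159a9da2051499067ac27bda2dc0d1d801b075c4935a2e5f0060971887a862bc99c0b81b0f16403b656c878e93c303500b74af613d4fd7db727ed2fd8ef089cb9c7ad2ac2486e33760c0945db6fa69b551cc58ead92d3341b46dd2525c10e0f7adbc73e319cea07210b8a33610c3bb459bdb1cd0d3e3fce5da70354ea7b85d30417c1e1150f4119431200684c941c912c31694b7b3a9c32e889953856c9318b74eb511dc09168d57d71774ded7a2f392122207eb67ab19f3d9405605f06f98402c2326de1c50994ca867c9d307f6834d0230399d299806a6b416216b0b5dde105c8d689f13d4adafb5df65401a56c9182b26823e3f59986d1e0085cc8c0aa2183335632aa4fbe558d006ba6ee10f8527567f1b8650b817d8d4a867dcb3d58a04ba4eb5b0c46611c196db0d73b105f1a24904692bdb5e25d9c9b4ba357c7707e876cf1069a85889bb7c92b2e9666902850c4038680ec6e10e1b6cef78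07a3fddc198ed393b1a76a2536e434c718259b26a104b376b15a73555146fd3f9918ac3bb00c3b47d40b0f84b5c85eda95ee700887a3a5db7b2dd0b0aa14e117fcdba846746346a72e2f6a6fab836863af89d326b1f5da28429d8d8dc51c49d35892350e03e8dd32c651a764517f440c7a8f2591d9bca66130d239bd857132c7b74b1c866d5bb40530188f1f7a9cc0537c8fc7b7aeaf2680fdb222144d29e030190210b454cdad4d49cbf47e98e96e4d6efae43515b0758ea3f828311b61b317a74da6095168236b12829a4620318baa10ae43dd03a2148065582d5c2a4adea24f1b7635abb106534cf15f45b35acb8cc0ed87098880f95b2864f8a68c183eda64c2cc889ffbca5e8f519ebc2b769163e594b2f64ef3a577fecad96bbce891b122a4dbcab0db33db58d0028f4b6e1cead23de2e9cca92d26c310566c6c562fc8ea0f2305ac0bb032d3b99b42ef7c108575683b26c76045ce1121f4208a410c9e5f32fea31372f905c0458c17dbebc485e62525eaef7f194dec2d1ba02cc7076057c72b403e08ed159beb8d20985d6910006c8fa5a318919fcdf1498bf0935685ab641e5b059d9230743199be2384fd47a14070b6e5f7e48e2b58d9228e45559fa4545bb199216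3c998c9684378601abaa91c8536d2b0a77fa4d491c4c82d084f040dd5596ff0d2b599c0d0bc813aa0c85cbf89052a20d3fd8b4532ceaa6f121425013129608c35d288f17a88075d84a7a7406927cc232295871a3bce5e372a915ea137f91cf6b75cb43667276dc20609b2ee12a547e4b99c9a7190316dfa549a3ac0985cdc5eb25d6d01cf4ebae0a2e70c3020ac8488d67682cb59016b83e267a2ca24cba39c752913607ba516f5c525739ecb253c388c7192b16ce46795c719b078201527e6f4e1766b00c16fc850955842fee2e951a52f10fc939f4be1a61dbc9760c0eb0fdafad516b70cdda32b015c64cc7902efdc540e127262cc0bd4f300565b958211ded7f8b0adb3c2e68054ba968c264616e981e9c057daa42351655515aaff250a01ec669af2842a18c708654a46809cf305d050c94b9615d41381448e8c14fe313835c2eab35e328893ff86ae0953c59104331cc9d29f46fdf38f3c0a7419c0ad46467c104996882597627ecbb455ae6322338ef058cd41287dc99671e48f4fb1d6753b61b63a1a72a1b599cd16faed9e45677157457a1276bb363100f124340558502a26605e211a894b05e84d0fe1e0b08a551d80ee1945c031a01ba1a2c04248d8fa408b3ae2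8bbb8064353116a95625d7d3c3b117e6ce6a9ad3b839e40487b7942ddc314adebd4a57800f17ae949ed3194a9938d8badb00549f998b293e19c9260d51ba48845f6fd9a8a01d0712293c49069ed1f45a924f90fb2e754cefd0e42e0923de8c43668a731da9c457513830c1f04122b487136f9fc592c4e496136803a690222dca4462a25f2b37364f30c4bd398e6271c9db6db2aeb59b71d8a2beacd808f159741acca532bae8e6a3b49adad467b33f67ca9d3b13a5cbe3c35864d725553618b506224dc13101a0601d37865b5ea64614b33216eb0ccf00f71bc8304d9b13dd492065e7bbb81c9edd0bda7e1563f19ced8dcb0be0a382aaae725400e1921e36bef90fcb84cbce788aa585c22e087b94c6c56664572db36e2d4d56c698e53eacf33a3f0f99560eea1c78019b0c44c010ff2482d81298d5165ec6e9751ec3b81ec7d0c975d74b658a534e3b26201688657cd038a9094a2df45941b491811ea7959417107cf72e7d21586e968f38f3d7bd05a5bb47c92aa292f490410f26a4aa08f193d274a4668b91762d546b52baabcca9adcd5cc5cb8e902c85758aa94a3114f6d6b3c717e8d580ab2f57ec725906aa62f120e3f721b51a3e0e96f4fd730a63ab6fa4766767ed859f74d8c92d1a8242c36e38279626a04ec5b169694542e4db73c2aa4f38e444f120ef4461029a65f9b47de1336c5e6b58a36f5ebdb792de67b8576a98fef188b31f1ca28b418863e07c92c1b4644f7bc7bdcc6f5e507d5259437c8913596b12d095caff211e9c3bb74551a251fd0bed0a4ba2261c1889800840419e7ebeb6521e44f4db7ce4b06c6e2ec883d7ed6855c152b4bb479da98d601007822835adeb5b73c241ccfa9e6c39d64f3a8bb64bc96b63ab6b40a25728818b1453822000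
def cG3 : ℕ := nat_lit 0x2908ca740e59c586bcf5292e6bc55b2c2e0fb5602adeb64460dbd9393cc6734a70b2ed3e5aaec085a0690db72ee447a1e56a8b4d12aaa70fb5f45a45a9d0bfaa76e117dd9391cbaead65fcc54fc3284d3fdafa24d59b35391de82340203e2c2c69030cab8497468be025ed19f47445a8c0bbf3c6d59498a79fca98407bb4b8372828841f30e1b8624365eb47489a572f0190abd64a454f8b3db0a1fb1c6e93274217c9400c3534d49c2afd21a618d62330ec38ce64803ab065291670fea20d072126513d3b764afc528cc6b848bbb65845d0bc354d01197ced3534ed9e64bc9ac6b402bb576963a16a74b5f72443cffd2730d72874aedbb9879c40bce91ffa73424aac836855c043f3290764285324b625862be7ed2b7062aaf31662fe20022b5f7c2522645774fb94a8bcd8c8653ca7171b9c2283bca2d2512a1e51830fbc91b6c942248aaa52325d51511dbd3c495cefd5573cc260d35a4e3663705c7ad495817ec3054d95a0283ce013c95b587fc9adef0712602cdd580b0bb789d3c6a7d2e6c979c0bfa07d493c31d45a5e9dd7c48bc01f12c1a2dc1624b0cee5e35bbd1cc8d2ceaea53c2b455e9d35926095352019150c5890aa5e5ac53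6027296d28a6634f8ac80530781386084c628cb8d58aeaf9dd3081cbdac851f55b4842d06925a3dfbe4e71ce82e6e660310b3a81b02e145ed0d200ce75ef8963ed1f28ca64bcaf3c4f4c8090b2c2f88c6f525ee66b7a38aeca5ae6432763ca02f6725fbe66529eda433c14b599855bc724a75caa91d30ff4fd0b011fb4355599b8642090a5232d80efb8bfa8100df866fc0073de4a55660258629eb492b774a44c5f97f8ce9ccacb3c901db9867a5a125eea504fc4da59a789792e9ea73ea2454aa7178e5e92132718e94680ad338336ae52ca4c2d93bb6701aabd0b2fab48f1c1baedcc0652bfd510f4cbc224390983695a885d621fd60544be08e29e9af93289efb5fa0c26deed683be2205e0546ce471b5433792928669ae924e636881ab2da62e7b4456665093c3669b320ce4888d6471e2b47b1cd629638e02ad53c355e4b293deb790ddae6d936e6d8252468526c6005d4b869eceb1d8a8bbc7d723d5a2d89302760f4fe1c3852a4a67a6d2a8aa3db543184de2aa83a1eeeb65495363cb626e0f3ac10e1aa5000a63be56ab199aec4e7800b6d22b36d71b7c244e6a917b17b2b80e4d2b342b3a232d4760953230620bcb290039404d47d00168523548a909dec9b3b432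6e441de9c546708a9e53e7d4384af394bba986869e69e9162635bc7f36027076639c2c9a3058549fc40e90ad7611aff5deadcbce950aefe57ebd550db9e8302d8a18c0082a0d152cd17d87275af2394ad07542f5a88481f0fa1eea1a825f6bc0140836a9bb2d49a542318899d18581e16ec484f2d5cbd7d2116b229869cb33a871314e59c6c6b7176f01abc96399697e5355b4610ee34042b59969a098113022c490a30dacac9460fd582265f6446c00484742044ada65411a2a1304d6377d1157de80d20c8b6a7da4dd5b4de71cc0b1996e21d72db403808a6a67305031b040a0f18b109ab454e94b9bb6272f532cc5cb13af721fb502ee8fbc0882a0983f35339aaf960ecaa542d103a3d71570467525c0ce69025b3a3e45a8ed382e76ed1496eaac4971791041bbc5935b619859d71d53514a94c1e2871caed1a918a448baaeecd5b8a3f414789d424c312f7d8bb549dc0c0f15f813ebb8830eb5ca050114b6e3379b9f5a47400c24c1f5f01b123650359a152b2f1320cc763228ad285f03b698adc5ba25ba26857bad962ef41840d821b3a21bb52c382c350cd5ae8ab9fdd9733566a21a2b902cbd9b959a8f77c13140586202a2ccf731ac8d517aebe9491d4b78289e54b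858c7db909e09d0dd9a3d4b3bafe28ec7b62f624948cad713b40dea692c536b2e67629fd9c2d36f9922015fb4a0da1f733e6c2eff3ec8bda90d0dcce99d1adabd6e36f168e15a19364dd474c8291a98021be815d46889dc41b8f21d36c6d996ba7ac9398c0599d9588afb6eabde1208758b2475744e8d610acd8329c33eab19f5831b27613f8a6a1550bba2af4fa7537c989288202e968255cdf9db796ef12964b67d8c4ae45a2c9685b207b1564d11fba2baa86e5529732a665d0b5b624da8dd0ecc46dfd6772078f1ded81e758d576891fc808e0cd76057a64b24eb1086082ecfa19919b5073b61072b742eb01b8ab6a9380251c15aa9d39b39e0bfc560c7b26d6212039329bdcdb2d7370a3f71ed1354914549af4a62c8c082ef5a63f52afbf23b3f070318cd0c3822d08c29a7386378cf17a59e31d050be69c8e95632ad4ee652a6ed53687c543b2bc6af0cd8db69ac8cd041b3135d41e6272ef7fc7156441d54a3f46d31e7720557c3275c74d28ec5c7e0f624a701bd293936b8090507e07a38510039d728b8e30939175985f113e3cfcc908c92a80882730a842026675234f0a24cdc9db5196ea52c6ae03db106b0c123867ee113932ba2c1fcf0bb6632e99cbc18821c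6e092f68a32ca225479450016f5c39796b669cf11786fb10da574a4842144cd320831bcd86a2bec6e1071b1f8edd5af1709a298466537786a0b046a61b3e759917d4464abd663982e0d43cea081e2ca662eb7a9ee55b821c4c9e368c74291d20b6fb07a343bf26fd1bbb806cbc49f4dcc028e46c31a51783a4e4de1e4ea9af287b702e07849532e2e46a49db6ec8996bbe6fc2ddbdb574184f425416ca11e8f29db6a521cc561b9759e4872e404440325adf7e4918f7cd57ee0098b15e9f8bfb11d6884d858f0584a091ce804e0c54b9c969728c9a469ca3c8f2e1df54b7b0d8fa7a2c5188b39c4054baaa36df24f50acf4bf0f7972e619048968b015c0e323b375109b7f34c7408ab271f48c5d6ef32238804be9b603814ed51b04b1f2620c2c5b894193cd1f00edf69023307602a8562703bc6bc6944882ea60fd5c43baa508d7caf904a335bf004da8b17532685dc8829ba4dc78c9f0cc14d9468fc6807309c228c6c23081f2ac38ad0822a2828c9202cb49147965386b0a971482ba704490f49ed3a96eb199123fe3db1b8c975c94ecb5953f3715103853e360f1d17614f82cf236cbe68ee153e2662c3581d9026a11e80834b22868032f384a7ced450396cccb43cda0b941db7c44946dade7266cf68ae0cb473cefedb72b1551933469e61ff1bd761a238b9db7526f0934d218828c3c27174470b039ba7c8eb86052b2bdc8cd71232e3644b4fcdaae970c18570c9b08539f0919f0d335d0f41468babd69acefbf9b940c80148ef49b6b0c8fe34c769bab949fae591e3bb5340c61a062fd41a988a1353ad3e3c97008603e26c9f8f47a992a0ad8dfa21ddd6069e7b2e68d4087e0046fb36c5086f5e94c667cb13e850e5dbf61c69a52201b8e38e54b033dd23e6fa800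
def cG4 : ℕ := nat_lit 0x1ae8076a944060864129a9ac96c5174afad0c78bea1c3796a325382c8c48faa0608cf06d5a168916b4a930168571fb7f3679b6cc7bf14c71cd00bc2e55501259f403d3e30f28334f6bc5f4211d779e6824069f5410e2bc84e3f2a4bf87752129a56744e61c833005671d4236d0803654f40152429841b02d73dbd607b02c014437bc1b76defc4e95b143282b859a9d947209da12ac5f82766ebd22f3bed6faaa4ecdfc218fdd78f81913a343c8883e9389a1d7474d71abbe6a09b2d9c28553b81485480af1680adc7a20a31b00c42cbda511e802d88e58e6e970689fc090d18d23acf85951867b25ab171cf21e36bb60c664a5d981838be476c3544c59eafb0b592883504ee75893c72db12c2e424c8495cc6adeea72059895c183ea579aa65c344509ec684b91c4f6df5cf85801ee13397ce52f1de4a77fc11d913b7d3b03ebce742fe7f3724e0c10c55569c537bbd2311e2d32fcd62097c2edc447c18678e82fc9eb0162fae0656697a24bc4b3d244b8b4e29a04e95eb3f41f30180d91c782d1e089d5ddb6e96d57c3c0f36e520390b6f9b295a5032258d0a000716d2ad4b78aa0ca11ff376f031aded77b9326eea19ecd90c8ddea4acf545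a1f8e032ad561fb8f7645debed5346c40983c152e888c7742e86374e663a285b71b30baf520d7e4f2711ee9503c653a5b7aa536742992c83b56e0e5a7b69c49aba2258b2058b80f6ea9f261377d1c1b910f2c4a63df4076a258bc579d4c45aab31d0ff5f007b88b56d6ad7f2ab53d8d52019530265bacb1f222898557b2bb94b9e241d0f4af88abc4a4116c60894a980eaa410a8d2ba908b902ca357ed699a107d4891cb4dba431214d0ccd42c6581b79a5602116782ab2649c5bfbb0c9da46b225fc62095c720c2f313d00c09dc4a29d5bcfc680cd3ec96363126e81712e8a593c9b60b16435e9fdb3b24cc5adbca89b12be6f8f33f5698ac9d6cbeb95cc2da188883b4c356eccd64a1e50f493ad4a5c6d35c92cb100455ca669a1bc16b8af41b2d9d169cbb8ac2c7d708b8a0361598a23399206158a71ae435c304cdb85902a7ce2624599986d968589a16e50be5a343b9d76b425186c01d80bd965762871da9b7fae3f664c1665ac077ed5bfb599461c7cae0d993e59439268ab36728827340c8c3c6186201deced858cc6704676b93f22b87d5111da2f6b68b92f652d486a6e9e907de6fa4a8fb4ba4aa761ac1febeeba3232671511fd6e4cf7f811d6274cc3996bfab148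5035cd1ab79b5cc2aa1d077df83e937064c548e63a6c776d937170ea88babd9b3bb0878d969397e0b43a236d6a8b1bf0612a5865fa640e66a0527b46111ea122c26052fa6c90f9a2c2a9d976babf6e0b63d4390101b998c0bd5484b2a4cd937afd9db55ae2bccb97b0decc57d9a8d214be0378c926dc12b380928bbd18d8d88355c942366e2ea4828c3bb3039d37466f07815504ca2ad1e667d838d0339944fb69e0e3a7db9b0332b11953d6cc4d25f51ad6a9cc54c0b299452f5563466cf8113a8982e04c2a49eac304f47dcf69da50e1e2aa867bb15331e89b7039187b17639c29db090d075418ea1c1c30c355a538682c184705e1157be8ea3e5ada635d4918c94894a8cf8671976d68510cd4b1e1366aa6dda2e6b8174d1570520519ee02c561af0ac6905fc922954f36391a0ca6f140ace020faa9f3e7916842844e6e78c70953e849b5c0cc2010042de7ec96e36cf9a4c835a6c2cef99d4d557eb48b2e127fa1b80f0507bcbe0f3092d7b868961004d5fb247885519aaba82771b50d786d4637a0bca2c0d68954c915edd73ca67e8b1d0ec7a74cb11b17bb700264dd0c54b6f4fd2e13601749211a842a5d74a75b338cdc99a612742aa543b120dd456bec48b3546b19f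0955f66e1702294d8755a9ba547960a371a8f25ed65c39f1565ea08bcc89e18e375f9718ec1124b725153ebbaea96a072cc2ab089c8e20310d7f3d3b38587e6e4239771b74d99680272918fc466ad7130ea6a8e60623316ab088c732cd719724aa1cfcd91a19d3ece150e2b3636b7626588e8c29c314726c396b13dc0d68a7b9ad5f8ade1d2338afdff0864c4e4d475be70ad91f83dcc44edb760824eb13274b799f4c62a12161cda320e7f872a65204b2f90afb13596053c519c3aa8142a2bceb82aca1694d2aea3d48ae8c587929babc6a0719a683f775284264daad94b182c52ad15f96e50e988c1209ab6bd16d5b82dda9b901ce1093acfa929373380bd50ea5682ebc0c68b5a512ff6307e27cc2a94d03464e50f8c1e4f0ee70118a7461caa4a23a1f58c2e695cebb037425c8fa13a1fe11b59871431669640003d3e22940e0084376548170dbde29c7420133b3c2b9d25a0f5fcde2c199c7377b87d5ab8e3041094e3aca5618cba9482152b696bd6d58079b8b20cdb2519017a78e0035536a61a682c38ce2bb9e213bc5e122fb8c95fe68a725bf1611f1c4837a5face06589adf0ca0ee2759007531c81c5ad645cb16b6c61b5140acc3b0770be8d573cac3d1923f48f4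00e1baa7d99306ecb6f1d75524b6109cd91771e997606de311aab0702e388f27c301e99ce2a84fa46597b956520a08d3a6eee799fc336541d223357a3453259f505c114c1aafe08991eaf4809e858edb2033091e80d8d7ad44cd750d202b3806283630f419800bddbca507e415c513d71230b8b22b1a3ebb4e24acb180b535df132e57375d861007948409ec7cf8c5e31c044b0e67be412518d5fd5dab8ddc9e5cd8ec2ad778994e03b0a8e55d1afff3220684aa8b410b495d271250c047063cc8551621281764821e2ccd2a5ea1f8d3ae8b2eddd0103ab88636fd4ee0c409ae1ecd1e75cae3069a431fcb0a858c510578272e2899254301e9ac19b4c3a37e5ec4e6c16b28dc13f39c584efa389406836a14690ac5a665cde10f55f588d10bfb219538e63b29713cc0fd94d7998cbecc527a0128a1ad73e4ac42cf50635cd34515cf14e44223c2c505549ede04272eefdc2329294a1ed85a4c62f5bcb77ec84d1d26be5a9414c4a611601c918570a292d3883111bc6d2a479b0c1f313744444b7588878c022c0e643ac20d45bc3cc5637f3e5e55e45f2144b1d060669057678c890d72b5998df000ad85e65b1152a612d645e42a83e5080a4b1e8c25bcca8dedce9a6b8eac2eb9fe266889f61986e96573555c6d66933b4fc37c1a58c98b1956b4db5099a68f93d25c59987883229849c87cb811a657f0feb56d9cd65c4d11fb9214c85770c8fda77b59d6a29c000ad376d29801ddbe805dbe2f6d269e64acc5f72159905f8176e001b64f68ace6d4cd5e913f68081e693bba5b99dec61449b6df49c488ce6a0b7071b72a6683a4c18f7a589b66b691aaf228d4934f661172cdc40e01e475f0bae84889d3e8691848e8fea525b8f0be7824820db4a2f8689312cee51e71115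
def cG5 : ℕ := nat_lit 0x2c8e02d7bb94634e6afa4eeedc522eb602d0a4511efc8db609b3b47cee84409e391774318b2ea4cd8dcd8216a5657523c15020e8b7c0b520dcb1cdda961c2d76889777665b83d364ef246acf6b2868fb600ec676b7dd0684d6136c3e44605ecae86561ab488c3b7a0ad5eb9acbbb869487dc8786de63902613307ce0a7a482ffbb2cb16492465e0637ae954840e8448abbe186cb12f7088cf2b59d44bd1565464e9d5114de1550b1734bd4d80eb00725d23e0c22b85d01c94a0806e332d1741898406bc06d6816e9551f4304efc0589d97ce331039f31a5257994f7c0ac5077cb221a7e91b314ad64dbe6ef3d1c9b4b030f29c355d170a79b9a6ecfc5bde6ba596baa766a0a610d56e0d1b65c1e693d4f3ff608f3a8b166f9ef41243d8ab71558720d5a9ad2f8b6063572a3e4633dc2ebbfbf725a6a0348766652067f802feb4b91fdc569c05607d38fc73506a242947308575791ca55eb36b9112faecf3faa7773c3901634cbc56c76c88ae055a1b250013273ae4c2c580213895cf659261c36e0d8cdfd2d2fad73cfb3757ce9b5790ac5c9ed15d3d2fcb04fc83f756062f1b5ec1a10ae69a038149df13f17499d2ab9ed76815b3f06478d39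0230caad71a1cb6c3249f4a3f4416c58c1951935086284d87fb6b74e666ebb4a85c138144c597cd853f2e3280fc085bb44d50e9ba672b217bb091acf84eb3b25d1b8adf44a4674d8ce0d09e98f5d869467f06e67ab22a17fc791dd3f446cdc3df1d10aa7f0f15a1b927b7172a90dd294951c05ba12c7a6a8b21638ceff6b7be2105089e8a9741152ca46df7dc40937bceb90ca526d9a570fa94ac8e5b21d8d34410fcfcc0f3f50b6d0c753bc512c69b739e2166a3676a13e73bc1ba7ec4f6552ca5f880352db9cc3aceb8868a92fec59dad7cb55524ec4bc823124760f5d5c0166bef24969e1aa33c252ca80ab85052f0902e6f4b179ebb6cc6d26be812d810fb1ebfe1c58d6ec786a41fc76aabd316e18e211c7d9fef78d967a377358929f943800565e08d00e36deb1d82aa02298c35b819191538d840e6344e72d2dbcca0a3c4aa8491847da10ac7c277d5a076580534bcd9186e16c8b69b100ff01b38b26cc1bd88ec5629baa853f4997cd1559a231adc295e06f2ea41afdd4114637c1cf4094e67b28b18ed70e546240b02a14b69d86a2dc0041c7c9c9921bae7678c95346e9d47d58510f466801fad5219f6b2d99281ee8b4857f5f56e5c74f90fdb36a245f24c0f9a40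8b299a905eb85d53af2cd804498bbd81a1604cdbb955c1b5914838e61874769a69f165692a45a51f60896be3428b03037eba2a9d85af598037c9948323e790b46511316420446931f206247567b984bd898460948af372d56e0c8ad395864a9b62d50be999896cee950f6e43d401f0c65f84c7134733664eb052eea1ec1cbf4e29f173e782903df6cf789cc93a0328b5bd18b2ad84e59aa32091b3699a20c350c9b5e4bfc61d60c61906125fb324c3a9aa301dc9979c0359682dc8e003418d2a8c316ac3c3cc460e835309795ecc3d4160f60819da38a52eb4201b0d218909939c29ee3a016a6426efdc21afa12dfe15070a0d292efc2192219cf85e840167d2ccfad242ce37a3b1590c1935ab1bef353c49f385a2df61e6e0a0226d44620e21465c3196b6525665a3357ce32965495bb12e420b48fa938264d8065b6ac52695e5990a5a470288a2d31a74c4a262c4ac1930c04d130efd271a6b33b68a0e5a00fec46a7940092e8dba721039e2cbb5ec65b7ae72917128f32c7ce2b9dd1ef340ee99a9287b124f942869bdfb6227992bbca95d0862981505dd83b68efeedb5f745963dfc66dd0f0981f0752852bc2559c9fc4f236b427e08cec9bfe94a74425c168f18446b443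5d22522d16c26f7350c8dac987930318f04a01159147d891b9df445c78968368cf184ee93ea7669cf9a99e9a3f689e123078f441f2101731446d3368613e2bea92622ba808bf14502c73598a8c4558bc97d4638018d9c3dc56eb0138279a11765f68a09caecc334f0a0236da6edb34e10347afc36e6d71d9ebabc1ec865fd2d44a98ae1b2cbbaa2a28896f52274e90b169d0523bdd5ea48c04de6dae77029c2a61192148986022719deb46b2549546c9710e4735be8969ac015571665449d680e1caf6946d6351da34104a9b6b47aae6997a68f736384b8cffee7cdacad2468cec5c44f5e88a53227a39982ac7078b29715b84a1543bd062f2b90470ed8e73a2b005f3d21e9edd61a512263fa44606bfac6d74a0a992e4941b209a403988c6d9d8198284525340fc081886e191d3f259ac50bcd58eaed32e8e891b9cd7814b628d06a241a92695d6f01191922b6cb469202742c6236158fea70a64982fc82e3ab6955532ca36d004a9cda2b476782446ad6c87605ebf450a9271d246a06d34630c074551192a0ba867a90ea6b895b68660ada8ce5792b47ac749c4b7f70e25d2ae51aeeacdeae4ebe90bcde198260ff0b928a93780115dd78c526359135562f521a305ce89aee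e3c18b66b2cfa2e61ef1f2c9011c4a895c86c950a1b0217d530ad9e026789120b01c17b8700e1645f74544087cee5da7268bb37b322947a47cc5cd624302ed74cb29a3741aa7ea623f9641b743fa248053d6644952eeb38488df8bd91adc949294e0530aa9a129429daf70e07886657eb51b7b226abc161187c8ae680f8e91ded390f2045d132140728a31c1240b67d89e428b82f4aecc7c8f042181a6e39f19d3657badc2f176ccb7435521a51f2857db4ca9b09cac9225348bd481a4ab08dc4ad5100501df249f1bb71761b8c07896c7b961400ab88d5978b0e914e6758ef4bd5d3dd7d77a85f4ec1e51fb719119e2dfb643356b70f0306bb3ae68166de0896cd0d5ee18ab5400031b342c12d2cf98a3ae1e210354f9a536171aac83f3180903560d0637b8f64ac2e13f900886f1e7c6caf24841c74233cca180c95b01b2095aca4c655fc63c971731ac2e7e987cea1c116424042d7b0102062818e72ec84d1b1325ae572a621758af8d737c5b76c8fe67b04f98894134c9eb337894cd137c82716db5bbacf2c5716b0c1301500e3336629f79c9b5592d002bc6ea2ead378d639c90ca5326165b5cc3725c1ab49e798d74ae4cabf826dc06ef65659cc1b27bf2ee4e1bef174edc0a0c7178e9c788e919049ed49730ce972a0437c348e5b1bd20a52e89c91d54c938166e60fa7436e1978d3035031107a021ab16f0c8f3ea4d1bd728ee19b2496f3b5aa2d0f30c6461aa16a74e708729622c90899a81850c7f181fec246ce9943e57752957b5e5098a2b5d94b18f0ec52363e92985b657a34e3877c47854114bd62b0ad33068b9bd1133e934128e25ac71c2d1fb604f50b9bc2b14552e2973a7e0043a5d795675235d8d5302199abe7a8d9f38ade8824280f6b9797050a3a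
def cG6 : ℕ := nat_lit 0x13021f2c2b7df05a2710c53173d4330fc6a89131a90cd5bee401b2833d5aa73bb8d80b47d28ef0012d516d3da1d8ce130d959684a3de13720ec981ef1147af86d1868ed35b4382121825898d80b19d178034fee2d8c767276312e6d66999c59247d42ea2cd5f22cd18819420548dd00bfdd473c6d7a680c2936225bd88da774aa82624466fecc3be51986eb7892e4085637763eaf04f2941cb91c0ed365e8a97378a28588cdbaa8676d66b1a8b4d0a63aa1b239242bd2947242783843db243aa0d3f9b13eef1cfa34a9337e31b094ad3ab70886b9162f42d8042fef472a8a845a4887714342ba2d97cbec8d7b1a71081568247da302b72920cbdb655034b4aca35e43076c655484a82c535b987619e9d919e8fb411c90d1a7ace35898f71ae7d56d36f8da69906ec81d4e5929e86a10be059c8a626b6e25b695e629b9b0a425e4c786cf62b04d8f9bb5d5dd0b20d96d12787d4911334cdfc3f2c0012d6fa59582934dfbe735eb5c10a285c1e92c05c20c9f7c1312043e1bbafad4f6a366b993c005c30ccb053d689426a1c09ab908e0b56ea6db9fa937b9f86bd32779e4b4e163635ef06377626668783dc56d92aa361ba666b3c0a139888674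ebe315129b7ab026e014a2a5103533856a648d677964a39a394e0a41cebc83dc21c2d4f1b84940488857dc78c538286aeb0d39665a5d87aa28ba71ef157a845bac90409682ed254ac177baa49c33610cd887b0b0de28f15f47c622c9ee48fecc435a4521e2885b9b582d85759a666c40ce6208255899f2b808e7230d86c635f67b8fbb34e9ca466de942ae8680e34442574409312918c7e9d01841d7992610342a37605174357722a40f06f0bf624e1f52a73803ed25c78c01c20e59686c2172dee9b6c9329238c23419583ef228ccb13885d6dd32d7188d976d14798c811600256d843603a99749157721178ed55a7786e16b63a4378b32a064169652d0d1b286d5a69605d2158bd5a5dad4170477dcce6210c0333f058ae54834fb6a5c9636adb70c5b3a6f8e3e5792b0a9368749fed26ea73e0642ca6b63eacfd59b80b38625026912ca0566213b2ee74db707ea2a4a4443c18d1c3d79b05c01fd3041b6cc8595bc38a1c295c0ecd45f328bff2a9145a7c17794e9b7945457cd16142f065a824eecc71da4d8357035c4ba53ed201407f927a367b6d81b4a5230f44c3c9673b36b226bad70289ddd58c77c0ca466795ecfb2770f404f7a3216c62251faf776e20581d069512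3a012433c42f0a71d1a0ee8ddf168a07308db6d2a053cf2f5bc5bb2318c69f57f0f4b966db66dc8c0be6c079b1d0cb496188cbce9a848c7aad9e3af98d105991a10c0b4028e94cba5309079de9aaef4bab9742f14b5248415f1cc6e0a290463b69666124932478bd28d0a2706e799f66d595a45910b392522297229737853acca51850894e8868acaea4b7798090cc41b8d4b67232d189e9dea9b15410057a26f38c64874ead7fb0d79b8904b64426aab1f201f0997fb6c9321f2a74b1577589137551e16a7624b5da64401f0113d3dd86f8404c0c3254ef4e750e9a305362c78d9988a2cc86bb2c4e612cd4580164e66098629e09113e3d6975db5c4ffc3f47bb3f588dfa0e6e08bf0a9eacc8228dadd4d6b0006aa6570965558aee11f922bec9c55bac486bb827d64ce6d193968325952572ca8e3a405b5b202565d066194347ce58af08cbddf49437eb214937948ec109a0318b435dbf208923dc9e2fcbf45621a9994e3362e00c4fb6222c668242f045aaf2ac8a160ba9a7725063f13cc819ff0827c80cabc5251e2e2e9e383e19c4f74d1ea7ac61a48942796cd747d3b03cea5dd94fb5270feaf2086fd823138202233f12db4c97b51e09385baa38e2ad5d9882c5c4afd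c9d65c794bfa60caecdb25bb4d0b6a30a737638f846924636ae6a6b8a3bbadc6b41a4e5d33a25082fcc2937add48027fea51b98c32c9496921809886374ca2565ece3074ce2d1f394462695906d86c21f42b6721adcb6ea2a4121dbf83115ca5a1035402e060aa9338c6d655ac4e4b83873b6caa120727f1d5d60115eba88457804fde4ab298180b40885dac84ce7e1527b868071a8d9476fc8dc9276d836af78ac9b500c00ee10316dc4379ae1ba157cc0ba90924975b8a363a559c045623d4d496d3ef407fd992c539a0f572699ae3dfd8b3546515a77e7ea8d280aab2e239cf22f56ac77b19c1953946ab34ea6c8c3d2d1118790101b0ea7089b2a90f2ae8a595d1b6b51e1bfbb422fe7bcd0da24ece79ac780bbf0b20d432fd411d22584363155f566ef430ecab5b35d0d0ce715559eec0f800fbb5910d1c3f6ba98e6b44fa39ecd78570707523ec415360a393010507b43d81d4d429ddd79bf2c7293ac58ea4291c2e714686a054d479e4f437544d02f881fe5a03c7fc4e9408a4eab259d64dc7907068d4d242d7e14a7588b93f039b01a629b8b38346e2b70b81767ca5e573182b92356d0bb800c046ae2a298ef354120a1beabd906aaf617a8fdaa0a1d7d1c048acd0c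2aa69fb17dfa59899229e9d92e9bc439e411bc149006fd683e30c823e325377b4e438ad746a5a8c7902b62c5cc5663a5d9b05c118b52864ec0c3853c966c64885534891ea2cdecebaa181ca9c29e58cb974a82d866bf77c2fe3e85e01a441254b4b341d41bb9113d4f3aea3b1056463a4ac4a5ef04f80f5c13dbfe2a45f49c8785ec9ca4a975be0c2c41dce38b78ef5a5e46b2404652f0d40a47e4eac2ed20504615d6b5ad45b506f02d16158a00fe36c28a04edf59d82b07d8e0ceed3740bfb6425fca60d1c3df170447271b8ed84db60aad831faae22b99d4280c2e3f64c4fa4ee9593b96dd3c9ba08d9865bcb52d53b7102c7b1a158cbe0fdd1329276a837b54e7c4e8b524e96d2ab23f60f269f83ca0ec611844db5b33739aa9f4f620591afc8daf5156a185f897cd38238c7111c61cc8933d9fc6d46cdcf64c25aaca14a112a175c1e65432567914d9d554e3439cc82df16cd28663cc12d9c11dc4c7d6248285b9486bb2d16d8c54211eb2f8d6a695efa990631dbedadae5767bf92d9445086925d87a1d2e650121d99f5b92202491ea34ab984c8ba04d0d1a3728e8b4183594e219f50e584ef38df2252a35e2682dd4594c12e3116ba9fd09811ca5ca626e920663d902bcf3800e8a11ea9a13f696b0e14656a7570c17836a653c182c9f33db5d8607259cf2e7cbb58cf93d9fc4b3373358b5bf686bed28218d075962a1770bc656d1beb5f36ee24679a81948c6dd129bb75a0673809afd7803361c7b2c39d04653723fdb11c8d9a369d41d86aa414d93941547a276c86f5aa151f7ce40469cc1c00974e257f1d6d1280ee779d20d119aeb580433eb835caa333be3c7f49ea6895e12afdea9494934049923d50f69bf6f5be0160284d3fc8e239d1d19c750f9618dd9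
def cG7 : ℕ := nat_lit 0x1fdc75141482bbd3880ac291f3d3b0cbfe9411f0513bc54ee4dbd852cd4ce562034294e2987399f29550ed216843152991712d9ec182bc20ca8f784b33661495326a143d645ce4fe5d1ac09d6d2e64bb6e26eef02a25c5411d1b08d66ae9cb2c75587a32f4cf274f76bf11c68889d7e231d46b809baa98a98ab4d554c47112fe9fab1d3e34cedb9ae2f0d2c937028d9023cac9d02244d4d4522af3b8930c78b509c396a4ae010cd51ebb842c5b903ab35e64c40a1571fa889d024262844a470efeaab60834f185c3a79375bc9529f6d71666299ba528417c99c80e2032a8e828e159593820dcc7c888f0412b0157b9ad0d92e08bec06ede766b53a8e6504601c18a6121494eb899873cc3ed7a7007d2fa6d9bb552bc8b7e93616a9a66235ea4bee88c3e4521254769b9249abab5b19e7bba2c6955d4ca015cf032eb512419b85327794e71f04b3295eafb0c092897af96102f956f9b4adfca6ede911e62b2d5612637cbe7a4ca2173191738df64a2da405e6a91b947965359f2dd626835c532d0c6401eb768c5c002411d520d93ba4b766682a384c4a5c186e3385e242b898ba6189b5caa40fd414d84820d00334e4580b57485a30925d49cae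60289f9b02248dd428e9c38234f5b808b95d950f627f5310bbbc12f8a775e398726296339ea5a9d063d4b1cf2bf725870821e0c10c4891eb836d829ed36209266307d1022576d141fb05840dccc3f8f5621122347c0347032463e17564b17ebf07d46190abe378f2f9c44855983135b686ebac8df6d58cd5920af8833d20c5603c38913fdbd234057749db20e9d94a0c78006bae7ce8654ace60a14cea0d4f2057d75250833b939a1fec85a23f3a131a0855dc1ed1cb1b2d0ed5385f75d34d245d514437d5c6525aa6940692df068d30c3da391ea05c840cd7868db55ef9037645f409b8375e7e0ff85c89965c3b8c71b0ccc9d8bf16c149575fab24e9b2e67028c389194bbb5aed61b8b49f35107a8672709348681c592da918488ef1c0617282d1ee4297be872f03846ba33681e22ebe5855432181f83240ca5cabf6a835565a34478e78e0c4faff08b23d29178183d0639931959f1a2f0c272a7e252cfc9444890ee35474479bb57a88b854912aac0c6b6cf0de7ee4283cbadbdee20f177f5b39893204f31d42d1f724ba8146f19ce8616a6dd1a958456cb75b44f1915bd00e7b50a04c0f445b8608ad5668d74760218dc60c9e12690fb894fb9c003b4913f0a020de1b4e7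b5880aa0dfa4b1c3f45a7ad4b052f3a507ec5b651bcbb756b616fe6d192861b2882d85887314b41ef5fe0d96c86a85952ba6c9ce9d6d365cc310566d4d629488daafcc514b1bcb4ade1d4fdcc70800ec1326aeece67facf50076881681762a64436fd61e76ad99848aaa252d3187df208c66b33a89ed93bd0ca47ddf0d9667f1f08d2b4866c22bc2fed3dc404f9d91a75dba27645f3520084c006c6015602c4d1291d1604dc3755cdbd3558622300b9abc992e5067130013e9c44849a46f1510605a3557c817891a9de58a0d8086ec7a97b72b24a42e09df7d430e4ddf069c9cccf1d55eca4c303daf257507186bfeda44b815abb948df9ec38582d6ece6e1b3cbc86214d9ff7e482a6b003694bcc5c88e8c552e2494bba03c76fd336264209c4ee60ce2c610916db0529dae39bc50071524d626f190eef28b7759439f04050e4bcb95baccca94df344c0252690d1987f3eaa183713a00babb6346c9f0cfad23ce126c7c1610b695be8e75eade1b132e2719f289d8832969628a7938cefad87b70b0dccf252592710b2c1079917b962db9aaa8b02a0cec5ac18510da2d718c7b2a3381ff8d94975f2571d684763e63b83c9b43768d1e6358fc52cacae4aa98c011ce88f63a4ff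d17108d9a22b8f2f53c4559ea1a4676ee11fa5eb9c02b1a12df80752e4c5050ae6a42ab43cbbb8db0eb6edfa7e2529902010cc7642dec88e05dceee83114d728484d4ace72798bb2bea7a1b53d439ad00f9eea32ecef5cf1de52ce2b8d3c264552393c12a57b6c262a0f05c683729a01ccc73c45e38f2d29852491fd103df10493ec05ec8a75d5fbe8aa1699945a33dcab9168cf94e83b9cedb069d541cbbea22838d343f933c75341637715630d0500128625f161d37ed61b4616674b6a5868866f01a09d3ad930e13a81e132551792c43b59f1ad40bcd5a6265a80cd27f5b1b502fa06896d9b8f00e139d4651a5da8ec1c01c81c85bfa6190c901ea060bac9d05a83cc4ce1aef52905b0172cf65a63e64ec0c2460d4c09d8159c6d6065c024774f5265273014e5ff8411f0eb9a78d10ae131c68e38b858d766ec016d221dd4c408b58b0cfc11dfee447547fb2995958728c72ca946f211820f604b2fedb3d7de95b335ec39f486929864c3305727c1dcdea74760bd518eb12a38e87a8bf23334c3d506640ac26c9b752afe41d3625c0f4582a0afd910ccf1e46b6655d87c8e1b11d9eada4704a198ea1fe0ba67636c87a0688119dee5398fd6989892f55db17186323428216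404094b40e320484b3681c8db771e0ef161bdb143e0b782d9789a9191d875af488daa3a7e4b3081f6aa5175d2c8c1e49cb3450fc7609269258b240f8dd61a9cea286ecca68b28522b749d61dca68040d76eae16eb2432782f40db9639e1e6202779d82ab739c36cd755624e356cea90c5df2de26c04cae3f8bd0cb6fa9ee22c9f0c06c8ba495821145a5dee1bf5a9708bf7b249f1ec6099b40669c169c8f8779bbe944061324e9c86a10981585404016a9a679c5ecf38eb355194298984ca8017c5a145b47ed6d6bca1aa1ab20c108e4d0b3544b4458bcd7db5e9a5f589b5a8f917aa2c1fa730779a99b98d8c1599921084c86b061f949afd852266906c14239148f4b54815baad4b3c5dd0d05978b3bcc729cae3a40487b07648868ba0f1d61d53a38193f89235c0ee165c8acf5f1a40b3d5e5db039a2ac76cacbe4f39471c83f05743a6c8a800c3df4384364d2c96720538b40b48afb4c6c3a7da4eb8d5b9d0ee7062c1d1e2b5c5fb51b35dc7fca14d6d1484b564d7896914434f7aa84bd2b72d4663e7ab8da9f4135b5daee783f181191578ce4b6ed4e8dc8e90d5be5439cf260934d437a02dc16176fa2506bc17ec0255ced312efb40be60a6c2c9dc5e77377528c169a26e9a3926fcdb5ee956c22e28ae373d1520ec7003d601f1dd3397854e2d935bcb1c21d15a52e3c48565b603cb859da162bac6372914d45e93334faf632a17e8e135cb374e5a6358544881d4db33ac0613c9230131b673e71b5b42115983824ad6336fb3a33581aa642253ee00e921c634fe54e2b61f24c1460997a96e5450fb3deb43bd2a1a9cb30d42a775afcd4a4a2f55bab307d083f42aca4d96ae3ead65aeaf4dbd3e8ec04aae822a6422371b640160285b9e947e64ad76583d5b66ef512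
def cG8 : ℕ := nat_lit 0x5dd237283bf13c266c2fe32416596f2d6a8cc442b10656eb392a6b86e6bbcd25d1369704aaf3e01118c4127610cfe82ec3af5d595d33c15ee8d2bce910243099e5115fa9a9370f57c687b1ccd12b64cdc166f09cd1cdd3db1e5eadc8d2abce5b56d0ba4b299be1568743fec7ace69e2a5bf837d4fc76318c769aab5c870fb132fe09d7bc6ba9836cdb4ded475555cb6646fadeee99fafad8141a3dc72036ff42d47332542966a86356bed2322f678085f691fce700183d36ba7adda74dd8e0a236fb17848f1c832665cf938f293711b5c662e53d60f260b242b266010d57ecb9271590601a998ac06bc5e68b043eed8d8229b229ed36605fbbdb9265ab53eb557c8f0af991b6e43e3e4443067ae51d4d418e6918a90b7e3c946d64de3a6495d4c2b60e54bed74769b87e8f57bb5ae7340831730ed1d4ad7238708b486dcb885e9d719a5b8f90cab643155e557a547585cd1d55aefae36a3a136c4ff31f006196b68799b5174d46abd2cd1c22959da3ad0310204ec4a8cfa4e38f78855adb08e888cd1c0696d82895a234e86c812cccdf202145419b9389812ef3fb53a2c96363d7f4571cc4a6a98fb532c563ed68b88426e19050bfc6e951252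0874181efd48d128016c88758c6dc60ab2e05a2558aa62c2b760a41ce1b115640a75d741997fb13a60ea090a87caeedad6cd050bafc1f0199af5a9ed07c79c60a8dadc3a620e0e64daff951e2a183baf5b58afd98e430d7858ae7a3b2f281d175bafa9dbc3562a8c46b339599e6e28516a75c3d226d1325c8d4b9dfaab68250c0831dce8d043ea277490a4df72b18624ab9850232d5d209aaa2a14188e02e80706332f45c6a50227252e2415e39c34e86c54f7016a59716b0aa549ea18380c9252841a30dd61ffde95812912d14a847003a9b0a5f8c2d691e068cd34f81c97655b8318f339d3241f3d19fafd9264f5a1820485496c1162a8e469b508915d8da09a7cd140f1ad8d8b467cf364e2eceab615a1d9ca86e16e60155a1d8641ace188173a720a44cf37b365cf1037ce79025b161766ac3f7a89ef5c590d8f00515bef1fc79aaf3c1aeec4b2eee8c2d244184e90032ee9f37297c5264c193dd7227754482a2388abc4789473f72b3360d2aa969c4085039a0c4dc623b4c78244ba7076b652d869a10e4b91c7ab771b1ac7e142611942411aad80eb58e9325b14e67643a822b814603ecedd237cc2d51635d0abd6879a15e1a808d474d01a1222e6bd181527de47ad123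80137d6e04fa1e074b560722635d66e3fef90da44a132e4c0503c542cf41b3b4211aaaaf4ca70e5246110b2bc6acb49600de38e343eec6f734e39a9a6b614659dafc1b1aa09d67bd3080e30c9d18e6c84fdab9398e70094b975dd1259bc1f766765009f6a89ba18cf60ed818a8da40b04ada7966d4c076605180613a03129893b6b62cec469e1882901a2c3d1077b666767246faa3412a15d818cde6eec8291c6907261a1bc9443a9990973aaea03eb904d1359e6581880093f8621a8b3177ede70d892c81625ecad70535e9eacd31f8b1a0215cdb561eb28963a2edf2d07fcccf1abe88e786b5a640737bf7f8162171bda29008a07956482b97121289e0501d23a849d6d253c42d28e596574825616ca5942bdd0db33c865eaa99e3a18b88a1224903d89b6f31785feaeac839633dc6a0e44830190dbcac36e9bf2065225dd93542518e16343054b4dbdef32a13edd8c70080c32f2d54676f583f491408185520d55f6ccd9c25e458720db77dda1e2816300156b0cc84c35b5f84162885f6a6019f083c5259b59d03fbb7ac90ee10bdd3d1a296957256a529bad125a20f67790ed37533038be1912cebe958d69f04133f76a0b68ec028de01a42346ce047b9cd226c89c48b0b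f171f4f4318852529f8e6cd102ed2956b31318f83e529fb49f98238fc400b6032ce32adbe50267173485844b33a62bc357cf5a20b26c147050e3d26cc966de9bc77b981dc19bfb852fb3679f4cc64042e3ea3ab8392d96f4f279d07d84bc0a589a05e7b0f0aa4531034532de9f13c095f3edd43f2e8c67390916f4a80a832cee9488930d8b8ef66e05174e9da1c84a23abf4e0713859453fab08a087aff9ee271a3c09aa3a6770b5212e5511f5fe438d43912b11dc37fb1356694c42b694a9d93a4d3dc1e2c15940314b7fac63cea966ab299f2c786958852ab800b5630bc510e99a541d6f9bb48b79ece43285a53417a28a9f87b6eaf44a351886c9a9bf99227d0d23d6921a9f34be2864fd395c2ded9aa2959daf76ddb6b8748535d5836b790d9c8aa076d497b977ed9e53b8ea2a59629c24027242058e3ac3e8e899af77fec9cb5cff44c65b16989cf088ccde4a99a3e92c2707648ce2db8b45d7784e966aa6ab9a4c99bad9543f57c77845f73d44b76eba8f0a65bae3293e2f27f6e5d35b440ee11af6c9184149dc9faa497e6e5be365e801658b38877046b2e84c18256831186cab0f68c6c654b0d050b5bd32b30b9f282eac592cf2e405ebda9cad914d4a0ccc1980971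999b06a4de5b9b95d681925c471f3b29d1a5bc63e278ca889cace4f5dc5371ff48bf94f0d00b11b05e5a4d2782b49a14e7a9b8aebb88be8e5cf648c28df1baf454e40dba2c4ee3c1e9bcae70bb56745b774ea12973c8c89e4909719ff1c076942dd42ae9fc2e52d183e20fb0ce8c8d1c6761b21656725468d69421543240382e70467406ede22c77dda6dc5c182996b0946b8f9a233e586883762f9b906e448be6c73b2e7e3d0c46d0af6012962c527436a09290e59c5661f221392d2314a0a5d5a10d7048826c65ec5f0f1b6c417198569953450411faabcc0e55f42d94722dc432c0492a9290427c4b798cc3f181b4205b529354e62cac8fce898dd78cb1bb1d4646d842c5cc8ab996473f560910c6d21934d76603541d9a3e111995ab1451517557330a8bd32f0ebd3b7c8a87a1c664ae5b0e0f95158a9afd17de43ba5132c9189113e6a9858c60d651392f2cb0909cd44eec8dee134917020d9fd2a7d624e4f812fd4c255471cb27059d8239820bd119aac7b303543a4c80e95b8ab702a706b93deaaef00d3d26449697baa3f07851eb207457149ea8fbc25ec5f10314e8428fce09069f52f3b86ee1b5108e0840fa433b59014f32d35af112f70b0838090f132f82a08791849907c924c625c52b041aa6d84f790864c3d8807a136fa4f75dc642d6464780fd15a5407e40a04f53428e2094206813366afb3367f57a5b9e506a8b626b2e59d5a042cd7476b3b8c6c6e364808d4c92101a5c3d45a6cb060a988fbbf526f6b0011729c6cd056996343db508060eb1109088cd8a72b295dac22884c14e25e2d3bbd368231eb86e8453ea6c4a06180433b5e87d715dd8462d06b4ec640f3bd065ae32b5525629d8229050d0bac1150025df23742f2d4ad742bbef1a65f800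
def cG9 : ℕ := nat_lit 0x992a621e4485587789c55a7f89856cbff3c27d834fb974807a2e0ec0be170fa0347cb711f9846be60d1b502043b2ad70f80abc7995baf10898508b551c98e9302960ad24d5ced6c6f033b293354aa6a9c4cea3c65820d038d7dd788b0532a50296f95407b7960543d49b3d7ff758f038b7636b67a3e7637163132cc258da69ade43b411221e8eb26685f9b55a77506335f293f217183bfa215df3b986d429e6083454c76a250e220e054b62803c704ece1680ae7891ad300ab78d4512978e153707b60050d3f370999360b8c46aa0632882aa7b790bcdbdc8b36cf38f450383e1596d025a7d728a5cf079201a10eabd88bd0ac5f38dd33c254a8617bd4c4a2657d4af255cba72e50331f774a3e8e028859c5cc7b5296435931d8f25a199d6acef07814a6e9b24763e2e9057370f172ec9dbf2f532945f1c4d79e78513902e1461ed41e7a8ffdc319e3145fa32bca59d6124859793e15219ce16c4ff27645e4a03e13e7d906c72eed97e1bcaf4290209107185e63e84aa955fbef78b13d190fc7e4624a3142c5e895a24a39f6a42b50919d5a35722a3b82f86d4405b8b1ccd8839a69c694532d48d2516632a8e50fe2a22c924cf2bc1842b0fb3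8e75ae1e7c46a0c7947363e9d065c1fc9fb6a636f481342fb2461fa96022bb6ed29d4571f25ad144508f484316c8ebd86fafc7b85e20614c80f35ad056d300662aaa29a415018f15d9095e6b5a5f02cc71b92fd8b909f1e453ce6a601e9f4a5b5893fa5e37378e4c4d424959b4793f1809d703e019992a5c8b97a984df69c7eaa757061bac5a2aba1adb89c99899fc0018f3b36792b62b9316538f33547abb1ab0d409d7123f1b11fc5aa41863424278142f42b4064544b971a6496e152788ce3aa742e74681f23c25cb1f0aa556af693398b2b4f7469235e0088e7dfa36399a9d08dab2c22ce65c43407255c3b4d8d61f23ba94126b3225b468bbc77e4d9588c1f8b135af004724288ed4440507aba7270930eda099672365a202ef0764ce65adc137c4a4390e2c8c36af6a7a23060795348fe14898794e0b968b3fadb5d3de29a6cdb5278a0d3de733569d37606b616b10acc6a6b1dbcd428c469b48a52ac2b49b9ae6f5c471486993e3d905f2ab45b363cf3d9d9900daa7297c8903bc982d55a3b6006933b660c4ba0ba88543a7c1e19f31bb237618eb776d888dcb8bda14e1bd0d5d5259f58fd78524e15eb7ad053ead36d1e116f4e5a523f4df7205f09786e6fe57d0a9d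c15adfb9c1e40ee760119f8dbc7195c51e37e2097439b32cbc7f8f8c0245d09d406a3d08314cc6b2d82634502595e8b9936daebd188863049ce38d77f6f66da83c6962817c896612865928e4f31eb5afdb225a7e5e7b3d76e43131c8717a20e9913b2f7188434c2ffaee5f8b2f0f8eebf7da016e52cd70b334d6a30d8fabc86940950f7f1ba309694f198ee3435c9fa708f146f2c4aa2d3bbe251a1b0a8f54c4939a2274d1c32e6a6d15e2400a3d5e171fdae5358d72460239aa794dd1c35f4a642a49ec8162599878d641b4b69464aab78441b08cb252526ae4b4a10aabd2bb30181a6719840fde02697be5c519c885f050d02e61b160387adfeae93e99943c3f44a9d0609c074cf055b92fe8405cd21a8b7fd06911c74e8a8da0a232e7903207a3a8c4972c1c18ae9c0ac8a016c8575c23e2a2edf97b549776db1142798150060b17a8d7708413a2225f7cfeda592641dabd270176b4676f5b7dbe4af07da090aa4e9732cf463eaa2da2521c81ce48067056cd0d028b2c3d9a041609e6b05a8b2f895b92587ecdad6a5c0a71f9aa2a6a7e39bcb884afed4b5106d64276c7bc4acf9a20d9a94f94e90828dac1d8745165d429ea8350d8bdebeb387095768fbaf1974b06723eb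0219c8f2f157361c7004c9eb32e3a3f8d10dcc280645ea27cde8094a1135da40d11d7ef4965b846b101d5ef0e2a021289ccf366275660471a2b20a7a7f51334261d96109b4389a2b336823281be943972645b8b3f5472037fa108669e948a739310209946f8812474d0065c6224a78e550da6b445819c4a8f4841fc422833ac60ed9c5248ca346317725f58cde57f9b207c8d5997da016fac996c687857dbe73ef368391716883879936a2a0600f4de036232b704d77b1b2f4bd0376ac92b08f4b2f1cef8be4a872dd71a074fa90cfc3ab1d685fad70b9a02c3494a4e2c05a74300ba04dbee21bc039d32546aea3f983530cf73b8c688a34f0ca78b049f6b154dab8d3dbaf74994430d2eb7db7283059382dc41893eeab7e195b2aea6eabecbf8f3187afce985d54b8419ea4730c5f7345ce22da5e484589e4cda3b894b78c7bb60b5e48d6a94f796a7aa288c6495f6687aca23357640b3502a570432194532c08a256c2b06730b823c02c32a8df31d87378a5c02dd14d6f764e02c5165adaac32448d870d27c6e0e4bc91d3a862cc8950122c9956de61ae7b0186ad38349778b11b9f618ebecd198c89bfa9c58cf60501385c2eaf045c4ac037040d0b02a16244e321798bd71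8b727a3a0b4dbb66ef69922cf4298515bbf0b149b886bdb6c32ec4941d89e7244f41578388d8795c94c1875e80253443b343dd85b53b0a9a8a9f5a5a43e1bd4aa1b709587208709d84a554e28d3254816ea92133c5d55d48ae629c0e19e36559afd262e97d77600131f5cd3a056d9a9592ab18a434bc25d97767425a66f59e4e45c494ba4be426e0cb64222094722061870a94b5334db6882d9498f20f86997ee78b363139e94680ddf61411d5190aa4d5e101bbdb3c562c485e01bd34cb25d12e7c38cc617039976ca8191e12441b32e062b0e416b528a5d8295c45d131f6666c6c2c70d584e990c90e2ccc14f9064abc54290c20ea6c2b5f284648e6913241416ef3270f6e6853ec63c783b79e36220bac39dd085f541a08b0809727741cc16db6e486eede102e3bad23dc470da06bace40f2826d714e2247c95c5a8eab8c0f621ad37299058104a79ad9504355b635712eb1e5b4686a531d82ec776af8910bbe6d763cf7ba44118cea15444542c9539d0641705d1abbc005bd1e28a2143048c2042d550e9117e1766749cd283f1bd1d455632e756c1b907256f31639622a8247bc6031d310ed9616855ea24d3f7ec1d6e3c1838a9d2cd6c86dea15dc67fcdf6b272c64137303735c86ed746759308c2c641be9dd61a8e45001cbc77331b1235baa5e202a990dd624083a6909348bf21ffaf9dbb544cd698da9c4c97ab26361c0d0d26b51352c90cd98109d2b87b6ee9bdae7f468a92093a7f672a90ecd66f71d95d93a19dd367d115d81c758322190b1494e442d430249e49332feec8ab39f60462563afdd81bf1e99124132bdb889cb1a4b1d5b443a4b4b3b29ed3cc18c6a8765b2c4bad30b006e8b4d91551a37af95b71812d31a88200d3772692d72a238e64f4b000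
def cG10 : ℕ := nat_lit 0x31f0b22228c4f88ff2a4402f80344c4941309052c022474c7101b729bedce6dd2ec2a8272050f217a360a6dc651dccab2ddc11417a92134f613e032949068941b04533ce4791a5649b83105c1a8daece317336596d38f9339198ea2f2f5e5e07f7d6f30fa062c919803b1574605a49ca8a0fc02b41a2509c98c404750a971a1200b3180042b95c6e6c1436da5acba528cb65952bd9b13135dad6e35af1b56da8c367412118aeb1484de9197dee9d0b192e917cae6d7de25fb11f9951ddad6a8fc0c39b1c4d44a2cd010f3539dc2f806a1ef0cd0c6093a2756b88d803b576b19a5856d70f5bfc5e27e5460c78e5bb234b273a57202a84e5597abdb6934851bd75c52e7ee4e774064433740419c76210e893ac65c778a92796f10920bbc3a759de723759f13c45c69c159780608dc5890b96cdc1300d69ca3425036d123cd244b6c393700ea5d61e1ac2b29c121f756832b00c3744ed21f40a60d4530bc1cbc693d58ae7c89a31a8dcd60012643c3d96269d4cc488587e301e98ad5788bfa777f6465c341d855675e3cc2d69a992aa519df8744310c3df19d41c47c71938830881334b9719e0c10e306313d712ab1070aa3a0669d45504b8e150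4967582e3afd49b8600175108e6e9275a0e7e03a19a3a4b79397614358999f0ac0fd0d69a2555a2fa83682a8debfd270d26eb3e1a4a1c9895e76e71ded4bf6347b8909a015b1318f98a57092d94ed99b627abf3eed0d50539bb3ce774076a844baa76c435cafa174d547b1ef59a26e2a5755b8971dfbc855193556cdf1e687cb532c2c2c2ecaaaf7951790a3566bb3555b490cdcaadd58a29d1d18cc1743374758213993e8d2cfd1f4471b99e8e41134c86f754881fb27047ed2eb7b22c7467f160b4409474f9199b842e5d258364b509cb96e73a676f04b9dc6d8d51d9826976679687d54b9a424353b8cba9b45055331c8d4ebca9ac22938fddade17142d4ceec8945b198d2998bea11ca0dd34e4cc489b99ed4a10abe66184606531446d4f881aee00b5d8daa8310cb388cba95bdc8829629f1d6882535921357c853935f55f62cb5e968731b4184c68a29a6f0c0e08abde5d21145838516db3c88d5e376cc8206cd125ff2ef6d917f67cfba132aaaf64003c6de0abcdbb997b3ed03d16f730c4eecc740958569295208783ce8fcd3ed11011e2916473e5cb01f4ecbbc2570a74557f6ea0a5b03eda7556207d9a678fdf686b91fb3cc2031568b0ce3066b8bb90d99a9a87f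6c25c0dc6e1a35e788c0360c0418a4c2909a2a5778ec04cafe9e08454019d30ae8b019843937fbbd852f286f3804e87196136759c43d2ad0e1296db43069ac3b0a10a20d1cde90b372a89800b49aa9ba7c216868d79308fb7f6f64f4aecbb97e86e6065c324a47ca70ece05c7be5b9c1f8989a2968de6b26aa398ac6811d9ad98458d1fcd6a066d6b16f19b910729a8627b54cd4f0796fc577d2bced4b1483026d4298ed221b27c9c86f3b9959df3902d92d6043d408559b5058ac358d46d277f330d858f38873a561e601f0c596e16298f2222298c239595543268935f25e5b52501b0d0759231fcddbc1d103514dce6917410038910d250c6bb0994a89f5182d648a36d9d543c54a0910b151692b198d018ae7a93bad556e6a93241426458a251cab82a167636d922aeae8aca896d2e2ad1d483cd648f2b644bcb5b272e488dc8a113d29513cb6dcb2dbf562382b421c394096255e76e4e21266963c0e11a73274d3ef2a3260c801255f228e1e6824184a22be6d859c4255061c131348068b4e36da04baccc9f4b40164bd01c2f1a97e5747403397f227c8495ba9aceb5419108bae90db2839f2a11422b7b2ec6270592c2cbe71818051b50b2a212307e8ce1cd2827ab158c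7bcf60602d7ad3f12c41146bb5652a39819f01e0f80eb372cc608244c7efe20450e6649c46ca68083aad3f670dd493abc590486f7e50bbb65564987e46cb50398e5179fc5f6cf04721d20f72c96d86651f42e53ab4f4f19458d0f490825830b9447221d9eed3312c117f83f2a9e273998bcc7e9cbff514c1b901bc79d33302411805ca0e76858ee8f5b8188e498da64393baeea4b497ca5817a1c24d548fc982a3e044261a6193bd11238742c0100d14268d36ace1e84ca6cdef572cd96835ecb6d52140ca924590b855f60d7143010f6308160e4493ca58838d742feadb00b744adcb8bd3414c88d57e2b10962ba0ed3fa599c27187a507599af1e02d393219ca5a75cfeb660fc9eaf95b00bd2fa00f2d49ec626ca55e9a8f4645aaebb0b4acda362036049706dd6005a8afd6ddea6c2b1e9c19ba78c82cb0c1c3e3badf2f77fe819bf4ff77b811cb4fabee5dd20352b3632ec259704d8f0a4ad045cb2c6a93fb7aaba49cdf59b42efe25f29c0f5b49cb2e779b66ba6c16a99d0a572cce70530cf730e65dc8bc5c172daf381c137e4294d5b50ebeef0b3c696d4c4570921491c5c921a23ef061f64558296e65594e935f123c2274aa91ea552327e0c87a143a5c242143dab0c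571ff25acd5bd8c8a2ab688e90451d288df60f00651c4b8647c19d4f9e31058b5986ab952ef86b5e1b8c395c328f999588289bd0d6b00c3bbe7a80d20c21ac4d72ba1d006020fd34928c5136e45b5292f550c9958615f70edfa60004478fe8e82c828d36c423fd13f1ee61499a13664365844a763d8774e2e2d1c387114cd00d8e5785fa4a975c5d489df5aa1854b1ea97146a2ece8cd0c05701ac85b04a53c500154597b6c01b86a1b1575e45da3bb9e4bfd68f9eae79fc8f464e65d8cc9aa001e4d48bcf52e222977447d2dc4aac97d0e9b83cecfcc5a9e4ab4a902e5a4331bd614084576e54bde9ba90eb91cdf67eb3b4bb567a3081d1f11b8e6c75000fa912ad5cd8bd5516ec53b84239bc9d010fde66c8e292c0742fc2c5952c7addab16f1ecb5673ca40d69ca406db2678cb6ee1e14b8b5da82b54b8a2004779fa8ea764e591808f641d24ed16af8cf5bd384d02b19b23b06479deb4db5d9c53b3ef304714bd01103428d25c0ec856e9eb64694d16a22a96af7035ddaab6dc5f563c0aa41bf9d716e925d2e0e3a840e9caa72543291e90855ae36995b6de34829592522a83c9c4af7d99b6ed9e561c6f611afc116bb3326ec1bf0b8d23fa882704fdca0528c1e8829e26a9b1bd3d1daa0fa4a2c50e0cd0ee95358d77f6fdf522f3c2333d8de012c4d02121a4ed7fe7bbdc051eb32b1f14fd4085f63d8d5f8b10b5f25cdb4d88e17a13dbea82c4ea099dac3994b2ebdd90d88b08311a6b14d4e3188df90427dd3432ba765e96840b79be009784daeb8e23dc4c0501192102cfd963c5d8049f2f9f5957989a9a268d21d1a5667a7c627280387c9458d12d856ca8632d0a53f269692a2dc35ecedd344f4032cfdebd5aedb6f5315053c586463dc992959455cf06d03e000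
def cG11 : ℕ := nat_lit 0xea38c220b88bf97d7c06067f84a7d6ad2fbe6dd34bf6a4a018ee5364f9fe49925415c9d299b692fb7faee5b1bb238485139ff6aa1d351aa15e090f494ebcad2ad6104fcca0f341a45d9e81766f5ea748ce5a3492c78b26dd39a6b8c162d25a684c542c14ccc507b419ac3b7feb34e62d06b5376e88e5686dca12251aedb9c40368ae99c31a5d08d9ae608330b3e432fa45402f3af353bfcbe368c885a68d1a1f9e8063acbcb2202b04d85a15e33fafd25f345ce756dd8e96c4966b742786a9a24d2d9d0281423e31e91b6386b479d0f3b136cd658c18de58de6e6c68ee02486a9bad05c88446ba2784d9d036e51dcd36741c062ea7ba3604c064ab02de7d3bdc522f9a9052a5e4444ae95c0232e0ebf026d6ec5456759282f1ddbc7161baeae6f97572ed6c8669c51df68d77a0ca4c6b71bf304a771cf892ee61e184875468f4e0c420c88cca32b68b2aa85c351282319d5cbbd2f5a5ddf0894530bc2cdd33e65fe8d9074c1f3a340f81b00c90ea2c08ca521d838a350f3efcf1788f8eccbf97fc5d421ad86c5e3cc259863f12c75528acf50e946cc62f24378c4500d1665063f06ae296fc082c90493f706662abe28c5caed20b825c0b2063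607b664bacc2455e6a5b10aec53e09d5c961b4e01a288e40eef0eb4651d1fb033456ed7d9b9285b14b28f5900fe534ee8050e0383988698fcd649ed6d2b101c8e6936c62f79ec4cc2d4c92f0b157c07f4de2c3eedafa6d19e97ae65708bc96abd67017ddb29e00db3da1c59598089661e7435c73a56f35bd93600ce4be268e3fb7a9228e9f241caba0fe058025e1b135f16128b72b3b8e9b3862a8e70db349626f6685c0890b599eb591f99eaf4c18a982845a74cac5f2c6f0f8aa3a95207887baa7a4f617653ac194a445db883c87b2aaa0747d8389f3481fb7ae2fdfa62ea48df03582e49eb14d2d5c0c138b3dc8db09862f6070b4c339e3ddb11d1898a7b38f6fb2fa3cd3909a08644a7246fa9c11f8562865ed149693664b3285380c4f67aadc0d5b6c56050b510d18320a8408f50d39722b286981432acb3aa77299a6eac077b11fea976b6f610bb56115760c44d3beb9d6ff57e2eb88cd51b45b212185aff3de684112ef6baa8f644ac4ff2a92eb107a53382c3f8c935282d992dc32436e1ad91cff2369515335c36f4370bc7c248c9e91326f31be5d82cfe47802d9788042a75be67d15b2f0698d262ae6587e6e730305dc6526ea5472f8c70bc8683206c24ce93678b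6c7ce82d76b9c169a2812cba076b3a2a3e1b285307851b5bd790353563ee8c31899ad2cedc9bb495507079c38709ad89fc77452107808139bd16d8f74b975e11d5183c9311f928147299435e30b84f3fa4310cac05f8066978d903e0a81ac44e9d1ab93eee135aa255f18de74e171a6daf5a1ebe484bb7827859fb69100918542808d7e1fa319717af01931c43b9442ea7920d4fb4664c9a4330c18dca461f04584676d0212527e30bc95e30eb75dd6fa023beabe276e462447c6ee0adeef62618b219f338873a7dcc680e6f6718e620529cb1e1b76112d8521acb2a04231e7bb2f18b2b32b44058869c5d10c271e19326f64b093e2828600300d43b462738bcf7027e160d2433e3269639c15683eb016a7467e502394182ab490ba84442bd93b981863bdc3ba03daa2cfd0ac5c358571ef4c4eae89e52072b50d47944b7f6e1d7adddb08d4ef338689106afdcc663b55f601bcafa7b0c4e212661c6cce0262b7cb0698ad373e2eae50215373d01fa9801e578a198fa8c1a15967d3102ce6b03b8e4d61ba62387e66c7fbfa03e3f51809fa0f3a37bd3f9e4de1a8914d5e8446ba91340e8b7c3943af54d3f4cef11bbe90cfd1899688d0debdf0d0417335749c2001f5828c1d95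b8f9933fc727f39597e013a269c98a9007be6d9a7ca87ee56836d0596af35df3f50eb4da3c07f442b1180801968a0b7331957f3e20b55a6554120c2a9b5e20e19c809603fc18dac87b910aaa848cc0c9b201271bbc9c7db76d4079c028c8d56265bc4849b4e92a89ba04579536a4272a93535d723381b15db6d7196d60302418339d6ac55f6848fb223b74e2ad4ab806f204206eaba4016c44df347549cf1334791357a03da50b44602ce95c3b0212a0b561d14ecf044d64e4b9b89916b8dadd345144a9152b70b512f32dc724893019c805d35206ae8d56bf9e50e39560e91d894b141306e66c30a4c2426bcd6ac5a84c1ba8194b2ece9d682584beb06671481657f80babd17901db30aa54a032273aacb9a03ac1956a96b3c23434e5997e202d6bedfd622986255611690ed83e448db4edc97aa7346ecb2ab4fa8eac36d44602f5bf5f0aeb8227ea374c25de99dc90d47608a29304ca6e79a8a578e6d8193d32d796f421c2d2f31fdc2f98a6980a9eb190af866e0b74d54c5e2c3c542c6e0e02a38460a03a14b99f372324265b833b950140e45d13ae0aeaf40e4827b9552f0c929664a5c9d1e4287ab0687a7913dc48d1fa014a929904172df6236557ccecc6ea2ad9295c5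76f5a641d99c973c28f688eea5198cde792880ba159e03db2a45d2c79c0297445eb3410e6d423d298d6cc494acb8c8f0a6ed46e2bb93a4e3519c32e491b401d485b3486655f192592587574e05c0a53364bf04dbe22c87cb94e777928342c6fbac4ef0cc53b9d3f1d94c16dc4e93be106423ef773b6de22db78473b0690238d4e45c40e5d9c23a06560453eb8848a206d64a8e910deba19f591e2e7d7a35f6d436920cb48d7d727c2c39ac53183db1d74d2da6a70e4c1fcad739b716db37f7a63b039c3d168613848693788e205b814651038931c61967b257778be104f55587fdb5a763356c856d4108a2ccf7128a1d0e47b0a93525b9cec00870240e69411e202565a06ae265c8aa294b74f71b6f321f7b1e0e8e8042fe0a8c788857c511e02ecf4d303145dd6528bd8c304c8e34c5ea524966c055ac62a88d80d72c3b83daa266c69f6784b108f53505a4500276255909e3960eca79c95a19b6e42c3998611bb4b1a24a6e2522ceb09089cbc6548dd52132116d6a2a4972e515cfaa52158e91b20da43774ef99dc7c5fa9e0b42557090554b73475496b9074e3c89262d14e928ce4450e4415ae1fbd8b0c4710825a823ac0e414d29ab1aa7c6de348f291e9de2699602148f30e1282510f3d2428e75e42726ce996090281b5ef1da7a361861b4674983a9e37628c1044c65789986dee84c8ae6bc70a026912b640cb4f783c3b50bf24ce3843943a11aaca53ee7187a4278b98e21b66668f10b2627a1d1bb1f94b67d2f2495dfb0b8a85942b5af70a15445b9969f8a450356e1f688359856b9976d0aadaa1e32a65dbb36b56d34b5489c44654bd52c4460716c0b79a99f56e915ef6ce5d16f090ae67630b92b2b6369561c7864549d6448d40c6bd6995940fad522180000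
def cG12 : ℕ := nat_lit 0x5b6372d7bc903a2f7a06b981352d9daf5e0a3b1eb28d9aa8103ef62770705068680198a6cd77da860268036623ed4c891b9a2da94c7bae991fb9985f9d73722f1585e04b386fb0ac7cca0360eb756af9ec3aca5bb329250d81b6a06448c69b73d78c5daebc8af449eeab1104d174cb39190d3588623087f2686a4b85805825941c1bcff9ae08686a54e7fa7dcb4bee822f335a20e55d142c86b136b3fced0daf818668c979231da5709e288cc64f5a0c723f3b4af5a2e24c61a53c82b7465a1965f8fd2d942308ce69586cdb4b1b8c0118dc033325a3e2a9f39736c0d886329d2780e4671c53d0d0e1da9459603036856a5e5f6d38c6ba2e489cba6b88833b47427ea32c45de84551b9fea018b91c2341938c8f25e155aa989554275f6a900c336b72be866200b2d9f261b7bcf698fec2d9c56450155ab01687328dc37b47d683822722ed0616fa67717029e043db60580c8aab4d4b0d3f0457e9795e96591fa1dbda7fa161ffe812af5d470b510a00eefc450c36af9ca50138b78b1621cdb4b845d3c6808562ac3e31f20d75490dc7f4c4c718cae015ce41c094b36720dc65317230325370080d05adda4d6e8820a618f6fa9252727b6d9c6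1a070a5a9aae5699f6a0e1d0680b89b685ae60f86b39a6a83f357090a0a0e9683d4e4130ec2add98796678cb81150eb9f0b25fd831d5751ef58d1f4c44ed80231065aa5412094c9e1377125c4abe139faae2bb7643200af715c6603d0e4dcf53d189f842a8f47992e88a1df59a74a11228ccf6311394e545480afb3385076dd9a785ceffd382cd4aa62b936e0945832d871f92e525187bed9171ba24738a133494bf80529ed577940b907554284042ff371c0fb36e9430194245babaa225548cdaa4b716fe7edb918472d050b5c1c970ec3ac7364916d548018ad1dde887ecd8f3ca616ee39d97e211361e53fe66b3f6b10be8d3ce38ef2633d233fa9288091c690d2b157a5aee1764e2bec74732b69dfb86c40a39d6a4eb28381d199166d9c0d185e42ad227c49811c9c97917ee52676bda8ad11b450ca6a274a8b5e7ddacecb0c3b021329f98f9e2a8b4e8853080aaaacd39154dcdb02489f2be9c2e92d65b1b5d89a65284b0c442510b663d132a9864d0abea76e5d49dccf4c4080b345948364dc52da7a42482afc06972d4067af1ca831f5e33ecfab5a4861103683934da8e70c9958f2613a2e43a37dac530f00f5ae321718410f6c73564acb112abd54c1b4a21ad30d6e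e82eaccca0f3b1cc79c875b8c065f9b46ab536711b46060c3deaf2f0f2c95e4d8a64515e8849345392645b63b0df848daa54b1c34b8db30e1085fd3e58e3b40abeaac417bf1d87a0b49985c483c1445306333d70c3efc8f5b214a69573325bd44f2e0d1e20c77b465f1b7e98124f89f04595ccadd3827c5f4c29e60f16882152c9b06990f07f04f79b926d5ddb07cd36c3c00be3a5af9afe4561a59e00f10544d62af8ce8efa1c56d85824d6a1de7d4fac2984d3640c0e2316bb106abe419a8f161a08995d97d1daee26099ca381009453dd37eef21719a03c11b2f4ecfa6ac925770b42eb8ac72b74ec577efc995854a2b1a86957f3086adece3cd708b1ac59ac4fb255751c5134b11212e2dc731471ea3ab5131d8a71688f8fcac3a3660c8c199232948685e5aa0c9352390a9690462db51eee050a0c6452926d9ace455831c55c33e22b0462736630958f087a1f5e296e6cd61b229a54f83a00532b4a1bfad33091ec3db6c7e546a24a542d9e861735f56e95c4723266bb16651d2d8b541b7bb2f66d95ff3120140b888db1493128459ff68c0f3a44b1eeed7d08ca649bf94501d4ad2265aa1fb72b10ac4d5dbdd73a1a28735df777abbd9f23315647492b923a03008e2cb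920de67908fcc0c6a17852d5cf927c0e9626d23543348f825f37ca96bf048370ffb4f534163d7d6bbb51287c69eff0449b9d1d04c18bf45eebd8350d8d197e64788b654644bcbdb78963414e42b2505e4ac80a8b8faef1f61f09aee028a8974644b54c1a227d9bbed8d93811fe0d1e4e1272c68640b28a0ac190762dfac7273896d6469b26f798592bc26630613e7b82d3c03fd1653873a1d1074e2eb7159291e73003983717d8aac25280e85a47509e9915be532b397b34a295c7c8d26db12949d4d251155d21ee94fc258288b71d5c31b2734cbe842dbe40b72130a12397484140ad9dc3967a3ca0ac6b4816f913557c157a252342c535bd692140099b1505b6c4cd9e10e8846fb219fab4d1e58567a06a8c1631ce38a54b88e5aa74b130e5300f67007e74dc30ce2eb9f40298d91645dc71675a2e785b99ddd075ea1e31c6a5fd1ae306502b4ea6a0de08b8913b27f6e0dc3b3b974ce180ba9408a441420f42180c6ede002db7abb82da0b2b4303891722f2b221f4414e477609b83486c1932de24d802223b858571299c1718d30c9fcd998e9cea8d99cb8246bc9cb040dbf820b184bc598aa32ae9067b60a075a93be2d210440bde04198fb0a69341af9f02d51d4742f5d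1a31494d0e3fb23af6ac89c3a6a44f0ab8dcd28e406f1be5b5a4d4a05cc892243079460806257e65dc380625a4d4cc4f9f2ac0c13bbbb45e8676d1782280601521e7ccfa23f27f26db42236591e200a52609cc0fbb2ba94f58a4b0396d7718f321745225d0111b70dd58949fa021a3b773466a2d46146db2942c1e3c229576ec717e5d923cb7aac4863c423c10e9cb6e67de76c9513c548154f2568787c382fee9a9e71506ad740ccce423ddabde1303b021d2511aaf491cdd94ceea4ed7219f5ba6e38e6f09fa8bd6d4dd649c128b37edb8fa0f61f7059cd57e818e11dc576820122803dcea066b420c58a55605ed5537992d1ad648b4b9071346da19332123605dcbb9948430f1b563ac14accf9e251e0f2ea6a179e428099e35618f736dbd3e4a08e33d4611027343653304f2ebadf7163db73d72556b3e08432ace836acc4ad74a858a4e7a1d3c53f675a0593ef69626d7a5d0ee106a716f6b2f43b69d4aee9dd62ee56bb953d2920969dfb0b4bf17e00b76e21c6d8622d48d5d3222eea9ceb212c15775099ff47bbd69039f3daaf52be01ab82b91937e64e7b0540a97416f0bd1949d9145975a05aca80d7e40a16075ee59b61cb66becae7dd06e971be6381903c37d5e15a17e98b6f1a5207055d14fde50cfc56acd89d3002776768508d0a25559d2a35529e4906e0082c2644c9d8d6bd5fd4e329456f3508eca84ae65a158804a23480d6c27670fdf2b9c9ec423bc7d2c603bdeb81012df415609c0d013c482b3978d4c8a4c4a10379bb49700c0c90ebd5afa444e8551922eb04acb9acd7cbe68734e90c3054ec02174a21093a9ec11319bb7ecaa1f0dc69344d651d7f2581e9b623486e60d3e2132eeca5367f00382e51794069d3402a8f66a122a05dbb5d9b7000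
def cG13 : ℕ := nat_lit 0x2d3aa59c74dd68903ca318bb2cf3aa7d9d59d4758ebdd717510a320488f92f63dc5988f3ce314bc9fd10c24c7a9771623e02c8a42f83e972af15e8771781b437ebd4268c33da7cc5e1eb16a7a8359ef3e22f8f81f216c130f60c41462d07e06a1ec5e05e9e90d82ecf71f41307a02e10016431cbd0fb3cc2542b8e71023a0230210860701284727251094967279a2af968cb63a3b38c88cdfa1af69662384908816a9265b24b92b0f60c8400342ca4687f8842d39cb44e70d0e9cc7483308b725b5dcc9ef7927d5d16ec3aca292a0fc0a0b5e54caf9072ce3fcb790f2265cca65a0188402765187323fb65795155b664e88adee55cad90b2d640cb10a90ba7b4e270a1ad988831622fcd86b11522eb7894e20c780f4124604831052fa950558aa4ae338e60cd3970e6d34669b68d2d146492b1fe2444693e70e42c2e90c428820f31de220438cf1a03b8788ed1e42b4bf05815e94d2888b158958340494aa2a4372524a1a349d0440837bb4291b0849e0895e898d3bb2566666f3ca48cac98302e0ac4481f68230a268bd3659a359b490d3324c895332662e683a26e7352c6b4b18e4d412951168dc4576ef3a322cf084b04d662199c99222a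c999e792f45db03ace5cfd32170ee4dc6a4e6e1876e3dd36d186526dda6dcd896f1282861fc756386ad35a77b3c656d1197b45698d259d33e69ad199834867a2dc5d0c217ea15dbbc87a4911e3bb5770c358a310608f19e6bbe760ed9dcb0860af3de4a189b5301403112fe600ab90b2ac9ad34560591472ae55da7852533d3daaf10ce0a253b69b1762d25f2b5e8d1e2a974bc3ba62834fb1f8bfb7f8fb9f2c1ca774faac55ba7e5704ca6d4d427d3314a2a699531d2ea954c296c6929d0b66a2e84733c64da5f8592626ac5b881028a6d5e4c9535cc3a5738e31c83193487d5849a334c874d89a5532e451eb9f74478171b92478e09c23f07db06dfd3a998999585477ccee994b1dfb6778a935bcb2b799d9a41474ee9d8dbe64cf39e05b777e890de1a8538f59423dcc375aeeb6346d365a90d2967eca9af34365adb5b033165cd56e75d049979ee6cfb6c8df6efd6a776909e0bb2778d01a7b47696d05ceba8732e2dd0b5f652d69b95e04de93ee7dc3c5e8d970317344c598d302c26f6de23d5a4b716da522cfa1f30ba1bcfe9d2f0b7a0e2761913807101f48ce8852983f08a9561cb6983b13c2cc6dba3424dd1e9f224b9f10763abd16d8e91a71586b6dbdae3674c05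6e962d4567871e9e18b8cd9aecb79c6b75f18adfa4170911e36b80b86dae3253aa84ddaa0712df97137f7147e12c6157a9851e65dcaace6b1bd1f3aee518330353ea4f0f3737baf2f1cdd24bc9fd0e38572b842955234818f9e53da73ce9eddb8662496610c1e83f0823b5409fd51cc7964326586eea5db7571165b71bb6da94bb18bbd4794d38f706f417d2ed364bccd9af25b0b64f2543a893f4501902be650b119231c58ea2d0059350a7fd462c06344519153c8faa0c797c2f89f1bd85a0f7a1bcdc93d0a0dd3e050f37a4e4478cb5fe3a406add39abac4586d0a6b6d80afb5d8db49d6aedee5ece59c75d0eccbb97f3aab8d7bb035cabe3339db2f274d73dcdb9778ee7dd3bd27e4b484d3da8c47236b41e58a3ba1109e5ad1738910a59d19b5c9c217c3eb554128551581076ad4d1696512e27c8bb570921850180f4093d48c89913a6129b78524230630b7f98da847d8712b6085a78dd67e67473cd303a6bda38d91890d4c36716793cccd961344e3c6d8df2baea63378765e651a1594a0963b759731c6c5d8f96e716c758897162ac85929a11f25b4ba9a7632c3d9447163594363bc6cc8fe5d5768cda66589b2332e67a28b2734a57b39c8f39d5d2bd549236d62ad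212420e50748fd2868a40c94928915d7990108eb457842d20ebd1ce39b3e688d709030f6b7d77879280c318929e548c418b2a3016a7a205a677b636cb805003666c95debba02551452540515285ceb9b6698aa0b1362b4a58b9674581844f9209ff3ffa9c430c3c685ef540fdbdfdd9bcd495b9822d4df7d5f6a37206ca8d41c14c290da40c8299201b030c950601d04082c399d08ce9f86e19803e069901990aa36d4721332c1500cb2332e07a29450876f9e29cdf6f902685a7281b3d642487874b342506551eaa5621a00243045c8ec7ae886c14dd38cd492e569864ac872adbc78e05b0dea4ee48c8ac92cdca631db969571ee9c552ac54dcfcd61ab34d69951ba635211ac6ba490ce0a28130472611449c477eafbe26bfd7d2fedf39556a2d0cc78f060c348ae39e40c83d7e46f2fa7642bc98f9a84d037413ae93b3b48729930e1a1c42082b0e11bc360698dd62b92575b2c34f762aa4e28b3919432f80f087a87431928d96dc56cc7ac3cde8665502e10899f06eb0c4b2b956caf84b84b180afc138380720441203d0780436c3355a36b534c4a319baa896a8d85ae35deb9d79aa761eb5d81afb566a6db7a7f77bfd21d530dbd069e8bd886ecaaa6e39dec8e87f6bf7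5ee8de4722e5ab448ec3185e21c3ec752d1d26baa0da539bc258eaaa985d8e2250ace18a2f66e55c13c2f15d1ec880300e869b035a6b8d789e11c35868ce044f43e86513a2128daa28c420678ce82206a1bd562b0546a9c46bf682efd1f43f8832fcdf51f75f8b91802fd5aac04e02dc49496f15566acf80713ecfdbfa876ceaeda9bb7721112de5c89e91d2e65b89c67ecbba0339e52d21a133bc187e4fd60b3eb7ee1d84dd3a8d45683ac70acb58c3c87aa66bf97daea5ff4ae8e94c28f4d2ad14829793b30e92b364b49f92e2824f8b8e8fc9f7c74996d26e0f8168e01283507202e074500a1127cf998348d9c25843c92e824ec35c1f8301be408b8683bd99da448fe22e4593a83b1437a4ba68124c78ceead6ac98398fb1e48b8a71460d48c47871ea4cea46000eb1d41b3b706d2dbdabf6ae2cc1980f02e2dc1781b02288cc566736e9ad399353e9312028cd1813423e8bd162b1554b0162a2e2446a86a93245a144d4e07c1188b100150060140a6e2d45bbb6d6b4d8961145207b07aeb56ec1d5561544a12b0dadf5feb2dbba8f69addbfe923015fbc4b892fb00902c0200bed0d66ba489bf9a6c6b0010042ba26a9cea74128374f133dad8af70ef0db86acca806bf8fa4df60ac13b5f71e74c5c8cb4de79b3597e45496cf6550aaa1fa92578acb1c56a0be478703357d403eabd7bac124df90168514800a01a0981180f01c17827ea5001bd768e00d3a8c555aa6584b04690500ba13b62eb6410a46fc00cd29a6735df0d2f7aef7e502424d9001ff2284bd01a0441e0d8cde78cd99eb289200e44c09a82c0540ac14e5e40a18b4aa010c26734c2b755ea895c696578ab952abb14a29c660c9026a2d011fe0c017c318480ce190540a60da2306509c1962747e85b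
def cG14 : ℕ := nat_lit 0x36c6f4dd5bcb7462dddf79ef18061b9bcf74ef1dce01c6dc5f8bb192c5d8f8cd8f31de2bd3f0de07ef5867622c7414994cd26033296cce2a6d27d137a11cd4ad0da168e5b1a637b2a059a9fb9369de73a377bb3bd32cfb4f33dd4397533a624c399b2e67f599a7f6c29ae74c5da9b13623c7178af3637db78b11ae80bd31aeaf4974ef576ade8bac48a6a8d59aa49d644e5ed29a0765a1e8d3b1f6365fcc57ab4569ca679fb5be00d6b5133ce02d734f69f6a8d7982125567cdf9bb36e0b5bb452899172301c087d10819a0ea7528d09a32b0dbf881275aba8793709527c9993993e3b1e4ca58175f40d9c21d8ac95e28f25139521ba913a264307cd796f26dedbb3dd93ea3d41612c2e34c6761ac1e2fc61a9f7869edb98a715628c4fa9400001d4988310e22c3ec5f08e146fedfb0ae0f342e970ce1c69aea70eb4cc313fea15efcd94be97672bdb4e72759ca6d9e2a0e7ca7466c1a99d06c67c1b81234004ccf19c0454d2f8d47c19aeb03ec2ab9a0b4decaddda871f63dddba8992b20bbf77991b243fc61e2dcf01fd39a27e434d311e848ff2dc43444c0b3848b20490e2d86d4c5a059e30b672926cb90be851234db0a4a7a308ad38a2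11682a743f626aa95c4bc981c78e64d49b1382c42289b93e2c058c9eca1a2d4663f604493b03561c88225c8a94b8b22826c9cb7dc1b550699adc2716c4ed632b8cb1ae36c631c8e2194326640c7cb49673666d09f2924a895c4337129a52c902ae4a49407580e70cb895cce14c2a854f441a4f2ea1f8d5a674b5ebd2b1a34852ba93414a596d8a5a3f48d65ac998766c884e9b22abc8abe1516a367ad6983700ec1d579d73b6b6d7b7ff03537a7180f54df2cffae361d66c158269652dab055116e60d98538b5a883fe623221164d0455246c5d76b72cf0a02c967d3ce6acd24b096e64b64558a6a226ed6f6e894628adaeab14c2aa8d9bd25bc1dab75f9618a139093b26c7450c4c89b6d2806e1dd840480c9f9502a2500a110c45575ae0cfa6cb6db258792904d099a709175e6bd0772b04e89ca159a71961b4d0427acb57a0651db4d48cc898e851046b1d610ca2e6d15132fa5ea1240facf57594b21b3cc757caf6648c89202436bd3d43d9069ad3711a2335cab891d23c446d027b88326b2d653caf27b2a47fd309f61f6468e09ce1d5708f49f8809229b752346d4c82a4704221995698e22260931675109fc8f723e3cac64319463a9c6b576091c49341d0e4cb46cd35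57f43d5a58fb7e696e24170d630998dc874771cc1bb2df5191865c36dd179892e954cb7cfbbab90920e412d2de4b3261ba499520481ae96d64fe5b23f256562662372463720adb53463120cdaf308b9e40b7c8eae118a45c892dd25f2d488f2b1134c4448550680922ac5d06616e128350b216616643ed4466616cb999db265f26663b98972e4a3fad6b8173af70a01446a8d25dcb4c1e03d0720e17eae95d47dc3f07d10215d72af53b8bc0c19843da7c0fa1f12e18fcc017f54aa8957a642caab989bd76c6d01e93a17b8f35b3b3e632f658ab476e6e65eb397530ef19731b3c2e19afb88686c454e2866c2e31aebca526a0d9e30d34aed5db30f642e8d95b740101500601703407b09382652c8b0b1a4764ca1ec2e26b8cd92c9d2436ce9e723d7988f9b01a2528cc1af2db68c909873be624975a43c4614f199fab3696ea0d4305c3786a2d15a2634062514a27742d833b079e8f14b25853cb8d501f5a0c6da79ada7aa706719b77b668ddfb9578ae45deb9f60869d35071cb26f18110231a6f584072606c6309e10706a5d8d3897a0e3d8a295786c594fbda70af5183bb9532e6946ece520e794eed2515b4149392612f258829b762a69d3ba2c733e2f0ddcbbae99d9de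063e9198eab5790d25e9b4ec3cd09e8b457bae2de132d768e35dc247616e1d97b5167add5c035b69ed54228bd188105fc8fa1f27355f8d480817df810a19432c823ee0c2ffce72be128fddfc0a180a189f88406dce822bc0624a63335d1a720da0e79d05883d87aac37fc35d422ca01207c85a0034cb4164a768cf1e0132d75a8038078235f2bb046a534a22e437a524a02e18e2b47088703182e7c2f78178ee0c8330768f21e2325f182d060f892236d682dbd9abc1658ca99dbcb694dc5a2393776cc664b3751f32d9ca8c516cce5fd24cb0f00f02d1774450882670f523a4b21a9412b68a9e3d2eb234754b925914dd4dc4632a6dda4e954d66e9d1f5010f2233e090508e24480850811c540aa00969ceb700580ac1482a578ae15dab7caa9b0b38782499c6cdd1d618c7922aa143ae3a26c45810e59cc3722bf0bb64c7126540b4ea3482716537db88ab0ae94dca25d39f492282ba56c9e42a84d4323ed63ac1a2121ab27369f24247742e6e66a4c699f2f02d05c0b71bec6c348c70e2c94c5977332e225e9dd3be792cca4776cfec7c2887e0fc9fa7ec065b63e92f85edf43ea2ee5e1f58c3038084360be04a130146504f0789e3a853ac180223ef144268a09bb36277c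2a816016e722f2d85b2bb57d08b1521b856598b591d2c5581ad572db309520a261a93563b09c50b5736c8daae3106138274eb8a509019c5390820642483b816b4b2ddbba46c4e530bdf7bf57d6fe5f4bfd6320846081d1b6c3d80aff2ca58d7eafb2d5a9adeb8b0b22a522bb5162093ec7da340443e57c821c679f33e40c8199ee3de0d018c5386365ab4be78a373eaa5c7a4b09e25db449b125efd17b4569e7e5a347792113d6844cdf324cd7adf43a81d2ab6765675cecb7349a86d04aaade2bbcdfc8f422839fb9ed3a4eccea9db692d0a256ef35a6ada8b4b6a6d54de9ba8ddbddadb5c8ae88d12aeb5dab756d9f37016fa4bb7923257cb087f28e524868772a253e67cd14828f28284908a51281ccb722e74e859abd0d51ac3526d0dfaf1356d5246900ba175c7e8b4122bf17d893162b596a827022aa153824020ab1548a31901ac5d8c51482d8268af0d23004b85815c25860eebdca3686c83a5a417a00af8077000271822fa230542aa5e4bcd530eb1202f0742ff3d82c06e8e21247a1800c61d30755d2b6836398430fc82f0607b8c21c837c329c983d084e58cd35a1ccd80e71d876d74518af013cd91b39e876a7a9be1c2378e02eb1f02fc7d8c710a1755e8ce39969ae69812fc2d447c850960fdf9843084fd5fa04608e9fe7024c9b192ab606d14cd41ac6665727283a1e91d506471c2035d07056aab562b99779de5ec3584721041e8460b0e07e40f8eabae0a414e0140313c344729e610706a0f9af0f61f1809dd1001fd7f2e4104159fe3fd1a6361fdbfabf37eefe9762f25e8baaa355aac1522574ac9512a9e51e8b14f38f05817ccf501d59cea8101eb030eacfb01b7587500a015bed7e0798ef582b08053ad3a603567bafdcdbb00180400a00b12625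
def cG15 : ℕ := nat_lit 0x37a8fd0b7bcb78eafd4dae75e19bdca83d45ee8dce67375eb4d7fb7f54ec3dc5b776f6ced3fb5356ed8d83ae35dedad3db3f686d1da5b7333e68859153336658251635b6acdc1a876beaadc7adf55eeddabad7776d6d7db175d6e4d61a9f576b3de1ac76cec4d7bb0370ea2d65bbf526a5d41aa3616a3db7b4f1f87a29790b43a7792fa224468b6d770eec5bdba2224a965ed2853cc5696d32614c356ca5573adca7f2bf8cf26b76bdc51f3765abcf7016fde2bc6650c9990cdb9e737e58cb28cd196ccd9bb276422e45e5512e3690eba311f98c3259e335e6c31c634c5991bdf8bcac876c6088b3e9140e47923b547a8848090987311a6a45288d3b47ee9e3bc796ed27637c7026485df1cfc534ab64fca533a66cca6711ba1ca348d988c0f81ec4c02b1080dc3eafdde35257cb11ddb5f586601499bd30860de517f78b5cab9c9c50ef9e18d80afb256864099b7276ba50b4fc0180cdf7bf77d404009bf97dafd0070345871a15eca79ecc7de64e8436aa989cef7b134269ce79d2a9d6abbd77d1d4fb0ef486e56914ec99126d22c7a90347949b2da093aa63b6b766ce14e6c96dd2794ad254a530e765bd6d34815cc74dab40ae1b8c98ae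5dbe2a766eccd9a82b1dce8a19923306615119bf382894f944edf115c2790b219efdc9b656c2d8c4987773e4493a8c49c61a939a6346e4d441a6a4f10bd3293143566cf5a1c82ccbe0849559f03998419596b21151fe84d03601c1b8392dd5a248a35476844d5782aa123afd146bd5794f941a0411e23b1a50f54ba995c28511120499ef4d69bc3426784d99b50288c55bab843daa44cc911e1636478be6e221c33a764949351ca7f23a1f47c3f922ec5cfc477622c796f2e05ce96d2c945a0ee14f322e43920c302b1752ed48fc7c27d3853cb1c5d08e4703c6210894138b3696d442b49360ec3605c01566a914628b589404eb9d92aa54ca594d03e2ed34bb899ad23264da512c21dba5080514d5140680a76d03a093aa749da900f822443c88d08da85a6b4e85104248c0753ea81fe3ff2e25ba7a3f284903c7b2558bb1692b2518b0994795924d099cb99756a6d53324432fa5ec6586d30e624d69aacd24dc608691024cc944e521d0ac8387b40a809132033fe8046a43f4acb51693348370160c96b63658d87d2e9cf034b01409f6d5c68a414e88c910a6d906cae9595d67acf9c795902e224e732a59544d389a045a64546b5d9263ac7487518dbbd1841d8a90562789d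292af4906671925e4668e564d144b4a864c27e93545909a89ec64606d6066ca5b8c96b33242cf1acb5d484f70aacc4e588b38e23c81a8270ac64b20e34e655ce4b2f1cf149968292eec8cb3a804db04d242d0c8d16ecba21128db406b41169a991a9c49e4198320680c5c4335686760d71ad3606bed7c37a29b1c8d9999fc7114145590553b025616b30a1f93f3080104228447e8fd5ce348740d242f8620c2181ff3ff809015a139667ee51d4b4d7c4f8def3e1c148d5d2b4c7d4fadf44e6b3afa5b70b91daa6c789a85746055ea1b6e0a9dbaa9410ea54442976bb8442c0c01821a7078ba16e3d1b09a7538ab54c61dc326f1521061062fc4936c4b2dc94f8c206e751d69d5044005f6b4e71c34df2b4b478159c0bfb022c0d90bfd67c7e1a20a1694fc070bee68ee497a0d75d6e9d9e82f59468c1ec1d70e38cee2da348c61d083f5d8b5d11da25209b9122058e39f1e88b02fcec8c13d30def75543b4d276eb302b311a9bd32dc7552975e0897c30429e58f31dea1a0391f5baa0c4b54984b870824e166cea1f63e4748e5dfd3fc7262506a399836fc595b2c7dee6dc682d05c7e894e2b262d3e0e4b68cf3007233065e3801d3406822b52103e4d93e22945085c0edce9c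363a9198f8521c40e12c3825f2b95832f85c6b40138d83eac1cda0141b2c2984af161cc544101073c3786a8260461457b2ed5f4bed8bb14102bf51f3911d03ad841a25d41f57e37f71ebbd7323d0aeba58b0506260e6dc25fceb6fdabc535a4e116b2d56fcb656c1a10fcb6c12312024002c2a00060e2e638fe5155145ee1ac2e2604a8c4c3d86dea8fb1eef5d4f0f81f8870298da6d02e0bc2993e27d1df2442f65f1b1b6d7a45dcf83b934c7b4770f2762ae4333bf7b4195583bd798341e73d0c2a2bd1bb7b5195b6b728fdd2b1e3ee40c16d68828f06ad03491505d017fe4956389735211164d3175ee6deb92d2bec951d6ccdea7bb2746d5aef25e5aad3e9b2dd6b996dae0a2a5c056db1661ae2915d9b1916c134358bb12224c588b4b8b8e6ea8782af5fe87cdc02ac792d2ac2faca692dd2cbabd5743a3a677743813b5229adf3628cd59a4e0c57cc799216c5bb4298278c61b46810e2b796fb93a5fa1a94757467ab67a8882d612fb126e656cdeaed34908211dd51be4f57bb051b4dd4dd9a35d5bc2269df3ba792cc9af36080537286cea69b9a3bc0d587aae19819157aa519218d510a921040c5608b2121b883e4aa2e7886e9bf3be7dc693859e93a0ecc1a1be759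d63ae3a60f2d68f51ec3e87c8be1861303616690871912c0e6411091880f3c003b0a3ba0948250b5422d90a62b30d1d839c5741782d0660c01c042094143d8780a8c25b83714bc16a19d33c67cd06e6dd927e0857cb030e23fe72ce396f2a670bdb95f2b65ccaba26f4643c89a1743613c24dc5eb616c20dcd21aaa5561a0552b154c12455d1aa5c5b8b6d2fa605c8b89b789b2865042f89e7223f2782b4522f915dcff7c0b05bc4bc58f28d234978c4a8662b67a34a6155d1572319151d37712e8162cf542283cf63f6508a094027e49c9758a471652c812d2590ca2e4c698b3259bc5e4304f49c13799933d9cccb27d4f69f56fad0a0722e466b1582afd1982309246d4da4f1eabc64c951456ac48ca9549af509ac6ad78f39eb3caee142b513d555e539fdaeeb237a2b7578738e6ab857673ce83c26b8a81eca846b6a85ed9b35e40a4152f33640b015b3170cc6dcab2e3aec08f08db1b8ad185b1072020180b4574c7743da9643a218429f3190314f78cb0e61d0652c0396ec1e3bc876c7316286d4a8f11ee2b278695c4625014a29d28b745246c5951e92ea5e4f608f1642405989d13826dcc493a3c1f0520a31444331b2c26c0d5560b464a4ed5298a61501fdb38b53d01e7473cd79e33866d1676ec157b8d611cb4d7709e1a3a704524cbb79432f8c618f92e1fa396de7985e1c94aa19de317a0d4a754d1f23dcfe1fbbf67f210c2105ade6170243c95cee880b81656ac717f2e408c11d2b1ca34a6ecbb05909c13e00c000bc17601403700ca1c49d2644cb57131a75e0d8fb41f8430820f2cb718ced9e0e61ca3a4751a9622c00d52d15feeacd581dc4b890101ac00b7cefe8030aa15123b0c026b3dcfb043806fb1000c01788afc5f9be97f80d804030009d52ce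
noncomputable def cGs_1 (q : ℕ) : ℕ :=
  (@Bool.rec (fun _ => ℕ) cG1 cG0 (Nat.ble q (nat_lit 0)))
noncomputable def cGs_2 (q : ℕ) : ℕ :=
  (@Bool.rec (fun _ => ℕ) cG3 cG2 (Nat.ble q (nat_lit 2)))
noncomputable def cGs_3 (q : ℕ) : ℕ :=
  (@Bool.rec (fun _ => ℕ) cG5 cG4 (Nat.ble q (nat_lit 4)))
noncomputable def cGs_4 (q : ℕ) : ℕ :=
  (@Bool.rec (fun _ => ℕ) cG7 cG6 (Nat.ble q (nat_lit 6)))
noncomputable def cGs_5 (q : ℕ) : ℕ :=
  (@Bool.rec (fun _ => ℕ) cG9 cG8 (Nat.ble q (nat_lit 8)))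
noncomputable def cGs_6 (q : ℕ) : ℕ :=
  (@Bool.rec (fun _ => ℕ) cG11 cG10 (Nat.ble q (nat_lit 10)))
noncomputable def cGs_7 (q : ℕ) : ℕ :=
  (@Bool.rec (fun _ => ℕ) cG13 cG12 (Nat.ble q (nat_lit 12)))
noncomputable def cGs_8 (q : ℕ) : ℕ :=
  (@Bool.rec (fun _ => ℕ) cG15 cG14 (Nat.ble q (nat_lit 14)))
noncomputable def cG (q : ℕ) : ℕ :=
  (@Bool.rec (fun _ => ℕ) (@Bool.rec (fun _ => ℕ) (@Bool.rec (fun _ => ℕ) (cGs_8 q) (cGs_7 q) (Nat.ble q (nat_lit 13))) (@Bool.rec (fun _ => ℕ) (cGs_6 q) (cGs_5 q) (Nat.ble q (nat_lit 9))) (Nat.ble q (nat_lit 11))) (@Bool.rec (fun _ => ℕ) (@Bool.rec (fun _ => ℕ) (cGs_4 q) (cGs_3 q) (Nat.ble q (nat_lit 5))) (@Bool.rec (fun _ => ℕ) (cGs_2 q) (cGs_1 q) (Nat.ble q (nat_lit 1))) (Nat.ble q (nat_lit 3))) (Nat.ble q (nat_lit 7)))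
def wG : List ℕ := [nat_lit 0x154caf289f097e0afc51e6b29ed, nat_lit 0x568fc49e7c3f0fc1861b29ed, nat_lit
  0x4950d87e1ecc12f44bd49, nat_lit 0x1e896092a60cf2e1f81d0ed, nat_lit 0xaa12fc48ccc3f0a7e2d33a5e9, nat_lit
  0x14aca2a661f89ac764bd2d, nat_lit 0x57e132b4f0f361f8b30a2b354f, nat_lit 0x49984ca9879b0f5e1e80ddee, nat_lit
  0x105933126610fc3f085a9ed, nat_lit 0xa724b125cd987e1f8b1e61ba9ee, nat_lit 0x564b0493f0fc24afc24d34bd2d,
  nat_lit 0x152aca386530fc3f0bb4c764bdca, nat_lit 0xa3c978915787e0afc29e553da9, nat_lit 17, nat_lit 534,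
  nat_lit 15]
def x50t_0 : T := (.node (.node (.node (.node (.node (.node (.node .nil (nat_lit 0) (nat_lit 273) (nat_lit 91)
  .nil) (nat_lit 1) (nat_lit 337) (nat_lit 253) (.node .nil (nat_lit 2) (nat_lit 337) (nat_lit 157) .nil))
  (nat_lit 3) (nat_lit 208) (nat_lit 1483) (.node (.node .nil (nat_lit 4) (nat_lit 289) (nat_lit 156) .nil)
  (nat_lit 5) (nat_lit 369) (nat_lit 202) .nil)) (nat_lit 6) (nat_lit 305) (nat_lit 140) (.node (.node (.node
  .nil (nat_lit 7) (nat_lit 224) (nat_lit 1780) .nil) (nat_lit 8) (nat_lit 256) (nat_lit 906) (.node .nil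
  (nat_lit 9) (nat_lit 224) (nat_lit 830) .nil)) (nat_lit 10) (nat_lit 288) (nat_lit 1699) (.node (.node .nil
  (nat_lit 11) (nat_lit 289) (nat_lit 103) .nil) (nat_lit 12) (nat_lit 337) (nat_lit 72) .nil))) (nat_lit 13)
  (nat_lit 304) (nat_lit 67) (.node (.node (.node (.node .nil (nat_lit 14) (nat_lit 304) (nat_lit 1356) .nil)
  (nat_lit 15) (nat_lit 256) (nat_lit 1734) (.node .nil (nat_lit 16) (nat_lit 288) (nat_lit 565) .nil))
  (nat_lit 17) (nat_lit 336) (nat_lit 1258) (.node (.node .nil (nat_lit 18) (nat_lit 273) (nat_lit 651) .nil)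
  (nat_lit 19) (nat_lit 256) (nat_lit 747) .nil)) (nat_lit 20) (nat_lit 320) (nat_lit 1082) (.node (.node
  (.node .nil (nat_lit 21) (nat_lit 352) (nat_lit 1024) .nil) (nat_lit 22) (nat_lit 224) (nat_lit 1695) (.node
  .nil (nat_lit 23) (nat_lit 304) (nat_lit 1209) .nil)) (nat_lit 24) (nat_lit 321) (nat_lit 699) (.node (.node
  .nil (nat_lit 25) (nat_lit 288) (nat_lit 170) .nil) (nat_lit 26) (nat_lit 320) (nat_lit 709) .nil))))
  (nat_lit 27) (nat_lit 336) (nat_lit 1505) (.node (.node (.node (.node (.node .nil (nat_lit 28) (nat_lit 224)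
  (nat_lit 185) .nil) (nat_lit 29) (nat_lit 369) (nat_lit 696) (.node .nil (nat_lit 30) (nat_lit 257) (nat_lit
  674) .nil)) (nat_lit 31) (nat_lit 273) (nat_lit 687) (.node (.node .nil (nat_lit 32) (nat_lit 273) (nat_lit
  695) .nil) (nat_lit 33) (nat_lit 272) (nat_lit 227) .nil)) (nat_lit 34) (nat_lit 321) (nat_lit 412) (.node
  (.node (.node .nil (nat_lit 35) (nat_lit 304) (nat_lit 1137) .nil) (nat_lit 36) (nat_lit 256) (nat_lit 1042)
  (.node .nil (nat_lit 37) (nat_lit 225) (nat_lit 1685) .nil)) (nat_lit 38) (nat_lit 289) (nat_lit 98) (.node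
  (.node .nil (nat_lit 39) (nat_lit 273) (nat_lit 517) .nil) (nat_lit 40) (nat_lit 225) (nat_lit 1630) .nil)))
  (nat_lit 41) (nat_lit 368) (nat_lit 209) (.node (.node (.node (.node .nil (nat_lit 42) (nat_lit 321)
  (nat_lit 43) .nil) (nat_lit 43) (nat_lit 304) (nat_lit 86) (.node .nil (nat_lit 44) (nat_lit 368) (nat_lit
  1579) .nil)) (nat_lit 45) (nat_lit 288) (nat_lit 378) (.node (.node .nil (nat_lit 46) (nat_lit 304) (nat_lit
  69) .nil) (nat_lit 47) (nat_lit 336) (nat_lit 1066) .nil)) (nat_lit 48) (nat_lit 193) (nat_lit 288) (.node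
  (.node (.node .nil (nat_lit 49) (nat_lit 288) (nat_lit 239) .nil) (nat_lit 50) (nat_lit 257) (nat_lit 1658)
  (.node .nil (nat_lit 51) (nat_lit 209) (nat_lit 1644) .nil)) (nat_lit 52) (nat_lit 240) (nat_lit 1623)
  (.node (.node .nil (nat_lit 53) (nat_lit 208) (nat_lit 182) .nil) (nat_lit 54) (nat_lit 320) (nat_lit 1190)
  .nil))))) (nat_lit 55) (nat_lit 241) (nat_lit 527) (.node (.node (.node (.node (.node (.node .nil (nat_lit
  56) (nat_lit 289) (nat_lit 516) .nil) (nat_lit 57) (nat_lit 161) (nat_lit 515) (.node .nil (nat_lit 58)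
  (nat_lit 112) (nat_lit 963) .nil)) (nat_lit 59) (nat_lit 145) (nat_lit 276) (.node (.node .nil (nat_lit 60)
  (nat_lit 160) (nat_lit 1428) .nil) (nat_lit 61) (nat_lit 321) (nat_lit 512) .nil)) (nat_lit 62) (nat_lit
  320) (nat_lit 1576) (.node (.node (.node .nil (nat_lit 63) (nat_lit 305) (nat_lit 289) .nil) (nat_lit 64)
  (nat_lit 321) (nat_lit 1616) (.node .nil (nat_lit 65) (nat_lit 273) (nat_lit 1519) .nil)) (nat_lit 66)
  (nat_lit 224) (nat_lit 1354) (.node (.node .nil (nat_lit 67) (nat_lit 289) (nat_lit 1687) .nil) (nat_lit 68)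
  (nat_lit 321) (nat_lit 1520) .nil))) (nat_lit 69) (nat_lit 289) (nat_lit 1643) (.node (.node (.node (.node
  .nil (nat_lit 70) (nat_lit 353) (nat_lit 1689) .nil) (nat_lit 71) (nat_lit 241) (nat_lit 1684) (.node .nil
  (nat_lit 72) (nat_lit 320) (nat_lit 510) .nil)) (nat_lit 73) (nat_lit 241) (nat_lit 1528) (.node (.node .nil
  (nat_lit 74) (nat_lit 321) (nat_lit 657) .nil) (nat_lit 75) (nat_lit 145) (nat_lit 520) .nil)) (nat_lit 76)
  (nat_lit 145) (nat_lit 1718) (.node (.node (.node .nil (nat_lit 77) (nat_lit 177) (nat_lit 1733) .nil)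
  (nat_lit 78) (nat_lit 240) (nat_lit 578) (.node .nil (nat_lit 79) (nat_lit 241) (nat_lit 93) .nil)) (nat_lit
  80) (nat_lit 384) (nat_lit 662) (.node (.node .nil (nat_lit 81) (nat_lit 352) (nat_lit 270) .nil) (nat_lit
  82) (nat_lit 304) (nat_lit 924) .nil)))) (nat_lit 83) (nat_lit 177) (nat_lit 706) (.node (.node (.node
  (.node (.node .nil (nat_lit 84) (nat_lit 304) (nat_lit 534) .nil) (nat_lit 85) (nat_lit 208) (nat_lit 1077)
  (.node .nil (nat_lit 86) (nat_lit 289) (nat_lit 561) .nil)) (nat_lit 87) (nat_lit 304) (nat_lit 390) (.node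
  (.node .nil (nat_lit 88) (nat_lit 240) (nat_lit 1295) .nil) (nat_lit 89) (nat_lit 305) (nat_lit 1745) .nil))
  (nat_lit 90) (nat_lit 257) (nat_lit 1781) (.node (.node (.node .nil (nat_lit 91) (nat_lit 256) (nat_lit 889)
  .nil) (nat_lit 92) (nat_lit 304) (nat_lit 585) (.node .nil (nat_lit 93) (nat_lit 224) (nat_lit 822) .nil))
  (nat_lit 94) (nat_lit 144) (nat_lit 952) (.node (.node .nil (nat_lit 95) (nat_lit 321) (nat_lit 14) .nil)
  (nat_lit 96) (nat_lit 273) (nat_lit 15) .nil))) (nat_lit 97) (nat_lit 304) (nat_lit 1178) (.node (.node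
  (.node (.node .nil (nat_lit 98) (nat_lit 272) (nat_lit 1274) .nil) (nat_lit 99) (nat_lit 321) (nat_lit 13)
  (.node .nil (nat_lit 100) (nat_lit 305) (nat_lit 10) .nil)) (nat_lit 101) (nat_lit 304) (nat_lit 1378)
  (.node (.node .nil (nat_lit 102) (nat_lit 304) (nat_lit 134) .nil) (nat_lit 103) (nat_lit 272) (nat_lit 976)
  .nil)) (nat_lit 104) (nat_lit 305) (nat_lit 1529) (.node (.node (.node .nil (nat_lit 105) (nat_lit 288)
  (nat_lit 518) .nil) (nat_lit 106) (nat_lit 144) (nat_lit 1037) (.node .nil (nat_lit 107) (nat_lit 288)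
  (nat_lit 1129) .nil)) (nat_lit 108) (nat_lit 97) (nat_lit 1707) (.node (.node .nil (nat_lit 109) (nat_lit
  241) (nat_lit 7) .nil) (nat_lit 110) (nat_lit 289) (nat_lit 1525) .nil))))))
def x50t_1 : T := (.node (.node (.node (.node (.node (.node (.node .nil (nat_lit 112) (nat_lit 304) (nat_lit
  1766) .nil) (nat_lit 113) (nat_lit 321) (nat_lit 1167) (.node .nil (nat_lit 114) (nat_lit 336) (nat_lit 590)
  .nil)) (nat_lit 115) (nat_lit 304) (nat_lit 678) (.node (.node .nil (nat_lit 116) (nat_lit 241) (nat_lit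
  796) .nil) (nat_lit 117) (nat_lit 321) (nat_lit 345) .nil)) (nat_lit 118) (nat_lit 192) (nat_lit 1210)
  (.node (.node (.node .nil (nat_lit 119) (nat_lit 257) (nat_lit 1353) .nil) (nat_lit 120) (nat_lit 289)
  (nat_lit 543) (.node .nil (nat_lit 121) (nat_lit 288) (nat_lit 867) .nil)) (nat_lit 122) (nat_lit 288)
  (nat_lit 569) (.node (.node .nil (nat_lit 123) (nat_lit 225) (nat_lit 1659) .nil) (nat_lit 124) (nat_lit
  305) (nat_lit 1174) .nil))) (nat_lit 125) (nat_lit 321) (nat_lit 1162) (.node (.node (.node (.node .nil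
  (nat_lit 126) (nat_lit 209) (nat_lit 1631) .nil) (nat_lit 127) (nat_lit 225) (nat_lit 1434) (.node .nil
  (nat_lit 128) (nat_lit 288) (nat_lit 371) .nil)) (nat_lit 129) (nat_lit 208) (nat_lit 1449) (.node (.node
  .nil (nat_lit 130) (nat_lit 224) (nat_lit 295) .nil) (nat_lit 131) (nat_lit 240) (nat_lit 200) .nil))
  (nat_lit 132) (nat_lit 257) (nat_lit 1652) (.node (.node (.node .nil (nat_lit 133) (nat_lit 240) (nat_lit
  241) .nil) (nat_lit 134) (nat_lit 288) (nat_lit 935) (.node .nil (nat_lit 135) (nat_lit 321) (nat_lit 1545)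
  .nil)) (nat_lit 136) (nat_lit 304) (nat_lit 199) (.node (.node .nil (nat_lit 137) (nat_lit 321) (nat_lit
  446) .nil) (nat_lit 138) (nat_lit 272) (nat_lit 951) .nil)))) (nat_lit 139) (nat_lit 369) (nat_lit 1532)
  (.node (.node (.node (.node (.node .nil (nat_lit 140) (nat_lit 288) (nat_lit 1007) .nil) (nat_lit 141)
  (nat_lit 272) (nat_lit 451) (.node .nil (nat_lit 142) (nat_lit 273) (nat_lit 427) .nil)) (nat_lit 143)
  (nat_lit 241) (nat_lit 1756) (.node (.node .nil (nat_lit 144) (nat_lit 320) (nat_lit 807) .nil) (nat_lit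
  145) (nat_lit 336) (nat_lit 387) .nil)) (nat_lit 146) (nat_lit 336) (nat_lit 359) (.node (.node (.node .nil
  (nat_lit 147) (nat_lit 272) (nat_lit 811) .nil) (nat_lit 148) (nat_lit 192) (nat_lit 1775) (.node .nil
  (nat_lit 149) (nat_lit 177) (nat_lit 1694) .nil)) (nat_lit 150) (nat_lit 144) (nat_lit 155) (.node (.node
  .nil (nat_lit 151) (nat_lit 368) (nat_lit 1532) .nil) (nat_lit 152) (nat_lit 80) (nat_lit 1226) .nil)))
  (nat_lit 153) (nat_lit 192) (nat_lit 348) (.node (.node (.node (.node .nil (nat_lit 154) (nat_lit 208)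
  (nat_lit 861) .nil) (nat_lit 155) (nat_lit 128) (nat_lit 972) (.node .nil (nat_lit 156) (nat_lit 272)
  (nat_lit 1182) .nil)) (nat_lit 157) (nat_lit 320) (nat_lit 854) (.node (.node .nil (nat_lit 158) (nat_lit
  193) (nat_lit 428) .nil) (nat_lit 159) (nat_lit 257) (nat_lit 1334) .nil)) (nat_lit 160) (nat_lit 273)
  (nat_lit 1017) (.node (.node (.node .nil (nat_lit 161) (nat_lit 336) (nat_lit 1206) .nil) (nat_lit 162)
  (nat_lit 336) (nat_lit 389) (.node .nil (nat_lit 163) (nat_lit 320) (nat_lit 665) .nil)) (nat_lit 164)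
  (nat_lit 321) (nat_lit 1744) (.node (.node .nil (nat_lit 165) (nat_lit 321) (nat_lit 23) .nil) (nat_lit 166)
  (nat_lit 273) (nat_lit 8) .nil))))) (nat_lit 167) (nat_lit 241) (nat_lit 22) (.node (.node (.node (.node
  (.node (.node .nil (nat_lit 168) (nat_lit 241) (nat_lit 9) .nil) (nat_lit 169) (nat_lit 224) (nat_lit 1117)
  (.node .nil (nat_lit 170) (nat_lit 272) (nat_lit 442) .nil)) (nat_lit 171) (nat_lit 208) (nat_lit 350)
  (.node (.node .nil (nat_lit 172) (nat_lit 336) (nat_lit 1280) .nil) (nat_lit 173) (nat_lit 176) (nat_lit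
  805) .nil)) (nat_lit 174) (nat_lit 176) (nat_lit 1749) (.node (.node (.node .nil (nat_lit 175) (nat_lit 304)
  (nat_lit 1252) .nil) (nat_lit 176) (nat_lit 256) (nat_lit 503) (.node .nil (nat_lit 177) (nat_lit 240)
  (nat_lit 1221) .nil)) (nat_lit 178) (nat_lit 256) (nat_lit 1229) (.node (.node .nil (nat_lit 179) (nat_lit
  336) (nat_lit 113) .nil) (nat_lit 180) (nat_lit 320) (nat_lit 336) .nil))) (nat_lit 181) (nat_lit 224)
  (nat_lit 608) (.node (.node (.node (.node .nil (nat_lit 182) (nat_lit 193) (nat_lit 1719) .nil) (nat_lit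
  183) (nat_lit 241) (nat_lit 1414) (.node .nil (nat_lit 184) (nat_lit 320) (nat_lit 1111) .nil)) (nat_lit
  185) (nat_lit 208) (nat_lit 485) (.node (.node .nil (nat_lit 186) (nat_lit 368) (nat_lit 1771) .nil)
  (nat_lit 187) (nat_lit 272) (nat_lit 1453) .nil)) (nat_lit 188) (nat_lit 305) (nat_lit 1729) (.node (.node
  (.node .nil (nat_lit 189) (nat_lit 256) (nat_lit 78) .nil) (nat_lit 190) (nat_lit 209) (nat_lit 1722) (.node
  .nil (nat_lit 191) (nat_lit 192) (nat_lit 1673) .nil)) (nat_lit 192) (nat_lit 145) (nat_lit 519) (.node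
  (.node .nil (nat_lit 193) (nat_lit 305) (nat_lit 650) .nil) (nat_lit 194) (nat_lit 305) (nat_lit 1412)
  .nil)))) (nat_lit 195) (nat_lit 256) (nat_lit 1615) (.node (.node (.node (.node (.node .nil (nat_lit 196)
  (nat_lit 304) (nat_lit 308) .nil) (nat_lit 197) (nat_lit 256) (nat_lit 296) (.node .nil (nat_lit 198)
  (nat_lit 289) (nat_lit 1774) .nil)) (nat_lit 199) (nat_lit 288) (nat_lit 39) (.node (.node .nil (nat_lit
  200) (nat_lit 224) (nat_lit 1659) .nil) (nat_lit 201) (nat_lit 337) (nat_lit 20) .nil)) (nat_lit 202)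
  (nat_lit 352) (nat_lit 1458) (.node (.node (.node .nil (nat_lit 203) (nat_lit 208) (nat_lit 731) .nil)
  (nat_lit 204) (nat_lit 368) (nat_lit 892) (.node .nil (nat_lit 205) (nat_lit 289) (nat_lit 1568) .nil))
  (nat_lit 206) (nat_lit 192) (nat_lit 702) (.node (.node .nil (nat_lit 207) (nat_lit 288) (nat_lit 940) .nil)
  (nat_lit 208) (nat_lit 256) (nat_lit 1569) .nil))) (nat_lit 209) (nat_lit 352) (nat_lit 1620) (.node (.node
  (.node (.node .nil (nat_lit 210) (nat_lit 368) (nat_lit 917) .nil) (nat_lit 211) (nat_lit 240) (nat_lit 301)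
  (.node .nil (nat_lit 212) (nat_lit 257) (nat_lit 306) .nil)) (nat_lit 213) (nat_lit 336) (nat_lit 419)
  (.node (.node .nil (nat_lit 214) (nat_lit 321) (nat_lit 426) .nil) (nat_lit 215) (nat_lit 272) (nat_lit 919)
  .nil)) (nat_lit 216) (nat_lit 288) (nat_lit 398) (.node (.node (.node .nil (nat_lit 217) (nat_lit 288)
  (nat_lit 1104) .nil) (nat_lit 218) (nat_lit 224) (nat_lit 129) .nil) (nat_lit 219) (nat_lit 272) (nat_lit 8)
  (.node (.node .nil (nat_lit 220) (nat_lit 65) (nat_lit 689) .nil) (nat_lit 221) (nat_lit 256) (nat_lit 133)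
  .nil))))))
def x50t_2 : T := (.node (.node (.node (.node (.node (.node (.node .nil (nat_lit 223) (nat_lit 225) (nat_lit
  287) .nil) (nat_lit 224) (nat_lit 305) (nat_lit 308) (.node .nil (nat_lit 225) (nat_lit 336) (nat_lit 468)
  .nil)) (nat_lit 226) (nat_lit 257) (nat_lit 563) (.node (.node .nil (nat_lit 227) (nat_lit 257) (nat_lit
  257) .nil) (nat_lit 228) (nat_lit 209) (nat_lit 305) .nil)) (nat_lit 229) (nat_lit 273) (nat_lit 637) (.node
  (.node (.node .nil (nat_lit 230) (nat_lit 304) (nat_lit 1116) .nil) (nat_lit 231) (nat_lit 337) (nat_lit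
  1692) (.node .nil (nat_lit 232) (nat_lit 209) (nat_lit 1690) .nil)) (nat_lit 233) (nat_lit 257) (nat_lit
  1645) (.node (.node .nil (nat_lit 234) (nat_lit 224) (nat_lit 793) .nil) (nat_lit 235) (nat_lit 304)
  (nat_lit 1618) .nil))) (nat_lit 236) (nat_lit 304) (nat_lit 346) (.node (.node (.node (.node .nil (nat_lit
  237) (nat_lit 177) (nat_lit 1540) .nil) (nat_lit 238) (nat_lit 288) (nat_lit 1030) (.node .nil (nat_lit 239)
  (nat_lit 273) (nat_lit 1547) .nil)) (nat_lit 240) (nat_lit 337) (nat_lit 1581) (.node (.node .nil (nat_lit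
  241) (nat_lit 225) (nat_lit 1541) .nil) (nat_lit 242) (nat_lit 321) (nat_lit 1539) .nil)) (nat_lit 243)
  (nat_lit 241) (nat_lit 1548) (.node (.node (.node .nil (nat_lit 244) (nat_lit 192) (nat_lit 455) .nil)
  (nat_lit 245) (nat_lit 177) (nat_lit 1749) (.node .nil (nat_lit 246) (nat_lit 336) (nat_lit 969) .nil))
  (nat_lit 247) (nat_lit 241) (nat_lit 1758) (.node (.node .nil (nat_lit 248) (nat_lit 272) (nat_lit 1660)
  .nil) (nat_lit 249) (nat_lit 272) (nat_lit 1507) .nil)))) (nat_lit 250) (nat_lit 305) (nat_lit 1742) (.node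
  (.node (.node (.node (.node .nil (nat_lit 251) (nat_lit 209) (nat_lit 1696) .nil) (nat_lit 252) (nat_lit
  192) (nat_lit 319) (.node .nil (nat_lit 253) (nat_lit 320) (nat_lit 92) .nil)) (nat_lit 254) (nat_lit 288)
  (nat_lit 299) (.node (.node .nil (nat_lit 255) (nat_lit 256) (nat_lit 1147) .nil) (nat_lit 256) (nat_lit
  320) (nat_lit 891) .nil)) (nat_lit 257) (nat_lit 240) (nat_lit 524) (.node (.node (.node .nil (nat_lit 258)
  (nat_lit 208) (nat_lit 1411) .nil) (nat_lit 259) (nat_lit 321) (nat_lit 582) (.node .nil (nat_lit 260)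
  (nat_lit 240) (nat_lit 9) .nil)) (nat_lit 261) (nat_lit 288) (nat_lit 1635) (.node (.node .nil (nat_lit 262)
  (nat_lit 240) (nat_lit 527) .nil) (nat_lit 263) (nat_lit 272) (nat_lit 1366) .nil))) (nat_lit 264) (nat_lit
  225) (nat_lit 798) (.node (.node (.node (.node .nil (nat_lit 265) (nat_lit 320) (nat_lit 620) .nil) (nat_lit
  266) (nat_lit 257) (nat_lit 1550) (.node .nil (nat_lit 267) (nat_lit 305) (nat_lit 1380) .nil)) (nat_lit
  268) (nat_lit 336) (nat_lit 259) (.node (.node .nil (nat_lit 269) (nat_lit 304) (nat_lit 964) .nil) (nat_lit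
  270) (nat_lit 337) (nat_lit 483) .nil)) (nat_lit 271) (nat_lit 96) (nat_lit 1105) (.node (.node (.node .nil
  (nat_lit 272) (nat_lit 288) (nat_lit 1273) .nil) (nat_lit 273) (nat_lit 225) (nat_lit 372) (.node .nil
  (nat_lit 274) (nat_lit 321) (nat_lit 1513) .nil)) (nat_lit 275) (nat_lit 353) (nat_lit 161) (.node (.node
  .nil (nat_lit 276) (nat_lit 128) (nat_lit 795) .nil) (nat_lit 277) (nat_lit 288) (nat_lit 0) .nil)))))
  (nat_lit 278) (nat_lit 224) (nat_lit 1360) (.node (.node (.node (.node (.node (.node .nil (nat_lit 279)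
  (nat_lit 272) (nat_lit 1109) .nil) (nat_lit 280) (nat_lit 305) (nat_lit 254) (.node .nil (nat_lit 281)
  (nat_lit 272) (nat_lit 427) .nil)) (nat_lit 282) (nat_lit 320) (nat_lit 820) (.node (.node .nil (nat_lit
  283) (nat_lit 241) (nat_lit 1516) .nil) (nat_lit 284) (nat_lit 144) (nat_lit 1504) .nil)) (nat_lit 285)
  (nat_lit 257) (nat_lit 368) (.node (.node (.node .nil (nat_lit 286) (nat_lit 225) (nat_lit 258) .nil)
  (nat_lit 287) (nat_lit 208) (nat_lit 471) (.node .nil (nat_lit 288) (nat_lit 176) (nat_lit 1723) .nil))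
  (nat_lit 289) (nat_lit 288) (nat_lit 96) (.node (.node .nil (nat_lit 290) (nat_lit 289) (nat_lit 215) .nil)
  (nat_lit 291) (nat_lit 337) (nat_lit 630) .nil))) (nat_lit 292) (nat_lit 337) (nat_lit 1666) (.node (.node
  (.node (.node .nil (nat_lit 293) (nat_lit 272) (nat_lit 1736) .nil) (nat_lit 294) (nat_lit 113) (nat_lit
  271) (.node .nil (nat_lit 295) (nat_lit 209) (nat_lit 300) .nil)) (nat_lit 296) (nat_lit 240) (nat_lit 273)
  (.node (.node .nil (nat_lit 297) (nat_lit 272) (nat_lit 1763) .nil) (nat_lit 298) (nat_lit 144) (nat_lit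
  1150) .nil)) (nat_lit 299) (nat_lit 273) (nat_lit 1660) (.node (.node (.node .nil (nat_lit 300) (nat_lit
  192) (nat_lit 1260) .nil) (nat_lit 301) (nat_lit 224) (nat_lit 190) (.node .nil (nat_lit 302) (nat_lit 369)
  (nat_lit 320) .nil)) (nat_lit 303) (nat_lit 129) (nat_lit 58) (.node (.node .nil (nat_lit 304) (nat_lit 321)
  (nat_lit 46) .nil) (nat_lit 305) (nat_lit 192) (nat_lit 698) .nil)))) (nat_lit 306) (nat_lit 240) (nat_lit
  1327) (.node (.node (.node (.node (.node .nil (nat_lit 307) (nat_lit 209) (nat_lit 148) .nil) (nat_lit 308)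
  (nat_lit 288) (nat_lit 1653) (.node .nil (nat_lit 309) (nat_lit 305) (nat_lit 45) .nil)) (nat_lit 310)
  (nat_lit 337) (nat_lit 62) (.node (.node .nil (nat_lit 311) (nat_lit 96) (nat_lit 1112) .nil) (nat_lit 312)
  (nat_lit 304) (nat_lit 1431) .nil)) (nat_lit 313) (nat_lit 321) (nat_lit 1683) (.node (.node (.node .nil
  (nat_lit 314) (nat_lit 289) (nat_lit 1521) .nil) (nat_lit 315) (nat_lit 257) (nat_lit 1615) (.node .nil
  (nat_lit 316) (nat_lit 273) (nat_lit 1679) .nil)) (nat_lit 317) (nat_lit 225) (nat_lit 369) (.node (.node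
  .nil (nat_lit 318) (nat_lit 272) (nat_lit 603) .nil) (nat_lit 319) (nat_lit 176) (nat_lit 60) .nil)))
  (nat_lit 320) (nat_lit 352) (nat_lit 908) (.node (.node (.node (.node .nil (nat_lit 321) (nat_lit 193)
  (nat_lit 319) .nil) (nat_lit 322) (nat_lit 241) (nat_lit 301) (.node .nil (nat_lit 323) (nat_lit 272)
  (nat_lit 221) .nil)) (nat_lit 324) (nat_lit 273) (nat_lit 1682) (.node (.node .nil (nat_lit 325) (nat_lit
  288) (nat_lit 996) .nil) (nat_lit 326) (nat_lit 257) (nat_lit 1614) .nil)) (nat_lit 327) (nat_lit 321)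
  (nat_lit 331) (.node (.node (.node .nil (nat_lit 328) (nat_lit 336) (nat_lit 1361) .nil) (nat_lit 329)
  (nat_lit 192) (nat_lit 149) (.node .nil (nat_lit 330) (nat_lit 225) (nat_lit 1332) .nil)) (nat_lit 331)
  (nat_lit 304) (nat_lit 1368) (.node (.node .nil (nat_lit 332) (nat_lit 192) (nat_lit 420) .nil) (nat_lit
  333) (nat_lit 304) (nat_lit 656) .nil))))))
def x50t_3 : T := (.node (.node (.node (.node (.node (.node (.node .nil (nat_lit 335) (nat_lit 193) (nat_lit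
  767) .nil) (nat_lit 336) (nat_lit 305) (nat_lit 746) (.node .nil (nat_lit 337) (nat_lit 305) (nat_lit 763)
  .nil)) (nat_lit 338) (nat_lit 224) (nat_lit 1063) (.node (.node .nil (nat_lit 339) (nat_lit 288) (nat_lit
  1357) .nil) (nat_lit 340) (nat_lit 305) (nat_lit 122) .nil)) (nat_lit 341) (nat_lit 305) (nat_lit 121)
  (.node (.node (.node .nil (nat_lit 342) (nat_lit 256) (nat_lit 1185) .nil) (nat_lit 343) (nat_lit 161)
  (nat_lit 1381) (.node .nil (nat_lit 344) (nat_lit 288) (nat_lit 538) .nil)) (nat_lit 345) (nat_lit 304)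
  (nat_lit 1706) (.node (.node .nil (nat_lit 346) (nat_lit 288) (nat_lit 1488) .nil) (nat_lit 347) (nat_lit
  288) (nat_lit 1637) .nil))) (nat_lit 348) (nat_lit 177) (nat_lit 1338) (.node (.node (.node (.node .nil
  (nat_lit 349) (nat_lit 145) (nat_lit 155) .nil) (nat_lit 350) (nat_lit 192) (nat_lit 1719) (.node .nil
  (nat_lit 351) (nat_lit 288) (nat_lit 701) .nil)) (nat_lit 352) (nat_lit 193) (nat_lit 1003) (.node (.node
  .nil (nat_lit 353) (nat_lit 288) (nat_lit 1587) .nil) (nat_lit 354) (nat_lit 352) (nat_lit 231) .nil))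
  (nat_lit 355) (nat_lit 256) (nat_lit 1335) (.node (.node (.node .nil (nat_lit 356) (nat_lit 257) (nat_lit
  1048) .nil) (nat_lit 357) (nat_lit 241) (nat_lit 1655) (.node .nil (nat_lit 358) (nat_lit 240) (nat_lit 572)
  .nil)) (nat_lit 359) (nat_lit 320) (nat_lit 1598) (.node (.node .nil (nat_lit 360) (nat_lit 305) (nat_lit
  1618) .nil) (nat_lit 361) (nat_lit 321) (nat_lit 1651) .nil)))) (nat_lit 362) (nat_lit 320) (nat_lit 736)
  (.node (.node (.node (.node (.node .nil (nat_lit 363) (nat_lit 336) (nat_lit 532) .nil) (nat_lit 364)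
  (nat_lit 208) (nat_lit 158) (.node .nil (nat_lit 365) (nat_lit 321) (nat_lit 312) .nil)) (nat_lit 366)
  (nat_lit 304) (nat_lit 45) (.node (.node .nil (nat_lit 367) (nat_lit 289) (nat_lit 371) .nil) (nat_lit 368)
  (nat_lit 240) (nat_lit 796) .nil)) (nat_lit 369) (nat_lit 208) (nat_lit 1300) (.node (.node (.node .nil
  (nat_lit 370) (nat_lit 240) (nat_lit 28) .nil) (nat_lit 371) (nat_lit 272) (nat_lit 266) (.node .nil
  (nat_lit 372) (nat_lit 208) (nat_lit 1299) .nil)) (nat_lit 373) (nat_lit 337) (nat_lit 1764) (.node (.node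
  .nil (nat_lit 374) (nat_lit 224) (nat_lit 968) .nil) (nat_lit 375) (nat_lit 128) (nat_lit 456) .nil)))
  (nat_lit 376) (nat_lit 257) (nat_lit 1710) (.node (.node (.node (.node .nil (nat_lit 377) (nat_lit 257)
  (nat_lit 1753) .nil) (nat_lit 378) (nat_lit 273) (nat_lit 1697) (.node .nil (nat_lit 379) (nat_lit 176)
  (nat_lit 832) .nil)) (nat_lit 380) (nat_lit 192) (nat_lit 174) (.node (.node .nil (nat_lit 381) (nat_lit
  225) (nat_lit 1575) .nil) (nat_lit 382) (nat_lit 337) (nat_lit 1537) .nil)) (nat_lit 383) (nat_lit 272)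
  (nat_lit 1547) (.node (.node (.node .nil (nat_lit 384) (nat_lit 33) (nat_lit 1382) .nil) (nat_lit 385)
  (nat_lit 289) (nat_lit 1578) (.node .nil (nat_lit 386) (nat_lit 240) (nat_lit 1758) .nil)) (nat_lit 387)
  (nat_lit 320) (nat_lit 1448) (.node (.node .nil (nat_lit 388) (nat_lit 272) (nat_lit 1406) .nil) (nat_lit
  389) (nat_lit 321) (nat_lit 448) .nil))))) (nat_lit 390) (nat_lit 288) (nat_lit 482) (.node (.node (.node
  (.node (.node (.node .nil (nat_lit 391) (nat_lit 320) (nat_lit 112) .nil) (nat_lit 392) (nat_lit 321)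
  (nat_lit 765) (.node .nil (nat_lit 393) (nat_lit 225) (nat_lit 768) .nil)) (nat_lit 394) (nat_lit 321)
  (nat_lit 740) (.node (.node .nil (nat_lit 395) (nat_lit 337) (nat_lit 764) .nil) (nat_lit 396) (nat_lit 224)
  (nat_lit 681) .nil)) (nat_lit 397) (nat_lit 272) (nat_lit 609) (.node (.node (.node .nil (nat_lit 398)
  (nat_lit 272) (nat_lit 897) .nil) (nat_lit 399) (nat_lit 240) (nat_lit 330) (.node .nil (nat_lit 400)
  (nat_lit 208) (nat_lit 329) .nil)) (nat_lit 401) (nat_lit 336) (nat_lit 1465) (.node (.node .nil (nat_lit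
  402) (nat_lit 240) (nat_lit 1606) .nil) (nat_lit 403) (nat_lit 336) (nat_lit 1118) .nil))) (nat_lit 404)
  (nat_lit 225) (nat_lit 1014) (.node (.node (.node (.node .nil (nat_lit 405) (nat_lit 289) (nat_lit 141)
  .nil) (nat_lit 406) (nat_lit 337) (nat_lit 679) (.node .nil (nat_lit 407) (nat_lit 144) (nat_lit 375) .nil))
  (nat_lit 408) (nat_lit 257) (nat_lit 688) (.node (.node .nil (nat_lit 409) (nat_lit 241) (nat_lit 684) .nil)
  (nat_lit 410) (nat_lit 353) (nat_lit 111) .nil)) (nat_lit 411) (nat_lit 225) (nat_lit 53) (.node (.node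
  (.node .nil (nat_lit 412) (nat_lit 304) (nat_lit 548) .nil) (nat_lit 413) (nat_lit 240) (nat_lit 127) (.node
  .nil (nat_lit 414) (nat_lit 368) (nat_lit 1757) .nil)) (nat_lit 415) (nat_lit 256) (nat_lit 800) (.node
  (.node .nil (nat_lit 416) (nat_lit 225) (nat_lit 652) .nil) (nat_lit 417) (nat_lit 353) (nat_lit 852)
  .nil)))) (nat_lit 418) (nat_lit 193) (nat_lit 1187) (.node (.node (.node (.node (.node .nil (nat_lit 419)
  (nat_lit 321) (nat_lit 1296) .nil) (nat_lit 420) (nat_lit 176) (nat_lit 884) (.node .nil (nat_lit 421)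
  (nat_lit 161) (nat_lit 1292) .nil)) (nat_lit 422) (nat_lit 208) (nat_lit 812) (.node (.node .nil (nat_lit
  423) (nat_lit 208) (nat_lit 1722) .nil) (nat_lit 424) (nat_lit 321) (nat_lit 1248) .nil)) (nat_lit 425)
  (nat_lit 336) (nat_lit 1158) (.node (.node (.node .nil (nat_lit 426) (nat_lit 304) (nat_lit 856) .nil)
  (nat_lit 427) (nat_lit 256) (nat_lit 1582) (.node .nil (nat_lit 428) (nat_lit 176) (nat_lit 1148) .nil))
  (nat_lit 429) (nat_lit 208) (nat_lit 244) (.node (.node .nil (nat_lit 430) (nat_lit 336) (nat_lit 165) .nil)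
  (nat_lit 431) (nat_lit 225) (nat_lit 429) .nil))) (nat_lit 432) (nat_lit 288) (nat_lit 823) (.node (.node
  (.node (.node .nil (nat_lit 433) (nat_lit 320) (nat_lit 1303) .nil) (nat_lit 434) (nat_lit 240) (nat_lit
  457) (.node .nil (nat_lit 435) (nat_lit 336) (nat_lit 749) .nil)) (nat_lit 436) (nat_lit 240) (nat_lit 1262)
  (.node (.node .nil (nat_lit 437) (nat_lit 49) (nat_lit 931) .nil) (nat_lit 438) (nat_lit 320) (nat_lit 1296)
  .nil)) (nat_lit 439) (nat_lit 369) (nat_lit 481) (.node (.node (.node .nil (nat_lit 440) (nat_lit 288)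
  (nat_lit 1119) .nil) (nat_lit 441) (nat_lit 304) (nat_lit 1068) .nil) (nat_lit 442) (nat_lit 257) (nat_lit
  985) (.node (.node .nil (nat_lit 443) (nat_lit 97) (nat_lit 1105) .nil) (nat_lit 444) (nat_lit 352) (nat_lit
  1047) .nil))))))
def x50t_4 : T := (.node (.node (.node (.node (.node (.node (.node .nil (nat_lit 446) (nat_lit 304) (nat_lit
  1154) .nil) (nat_lit 447) (nat_lit 224) (nat_lit 1096) (.node .nil (nat_lit 448) (nat_lit 304) (nat_lit 615)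
  .nil)) (nat_lit 449) (nat_lit 320) (nat_lit 960) (.node (.node .nil (nat_lit 450) (nat_lit 208) (nat_lit
  694) .nil) (nat_lit 451) (nat_lit 256) (nat_lit 664) .nil)) (nat_lit 452) (nat_lit 240) (nat_lit 381) (.node
  (.node (.node .nil (nat_lit 453) (nat_lit 113) (nat_lit 842) .nil) (nat_lit 454) (nat_lit 305) (nat_lit 643)
  (.node .nil (nat_lit 455) (nat_lit 176) (nat_lit 1192) .nil)) (nat_lit 456) (nat_lit 112) (nat_lit 108)
  (.node (.node .nil (nat_lit 457) (nat_lit 224) (nat_lit 697) .nil) (nat_lit 458) (nat_lit 256) (nat_lit 674)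
  .nil))) (nat_lit 459) (nat_lit 272) (nat_lit 226) (.node (.node (.node (.node .nil (nat_lit 460) (nat_lit
  257) (nat_lit 1569) .nil) (nat_lit 461) (nat_lit 273) (nat_lit 779) (.node .nil (nat_lit 462) (nat_lit 129)
  (nat_lit 780) .nil)) (nat_lit 463) (nat_lit 288) (nat_lit 783) (.node (.node .nil (nat_lit 464) (nat_lit
  320) (nat_lit 558) .nil) (nat_lit 465) (nat_lit 176) (nat_lit 1439) .nil)) (nat_lit 466) (nat_lit 129)
  (nat_lit 456) (.node (.node (.node .nil (nat_lit 467) (nat_lit 272) (nat_lit 1115) .nil) (nat_lit 468)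
  (nat_lit 321) (nat_lit 1768) (.node .nil (nat_lit 469) (nat_lit 369) (nat_lit 1771) .nil)) (nat_lit 470)
  (nat_lit 288) (nat_lit 619) (.node (.node .nil (nat_lit 471) (nat_lit 193) (nat_lit 1087) .nil) (nat_lit
  472) (nat_lit 288) (nat_lit 773) .nil)))) (nat_lit 473) (nat_lit 320) (nat_lit 1076) (.node (.node (.node
  (.node (.node .nil (nat_lit 474) (nat_lit 272) (nat_lit 980) .nil) (nat_lit 475) (nat_lit 64) (nat_lit 689)
  (.node .nil (nat_lit 476) (nat_lit 320) (nat_lit 309) .nil)) (nat_lit 477) (nat_lit 321) (nat_lit 269)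
  (.node (.node .nil (nat_lit 478) (nat_lit 273) (nat_lit 758) .nil) (nat_lit 479) (nat_lit 304) (nat_lit
  1122) .nil)) (nat_lit 480) (nat_lit 320) (nat_lit 1495) (.node (.node (.node .nil (nat_lit 481) (nat_lit
  352) (nat_lit 555) .nil) (nat_lit 482) (nat_lit 272) (nat_lit 1536) (.node .nil (nat_lit 483) (nat_lit 320)
  (nat_lit 1179) .nil)) (nat_lit 484) (nat_lit 241) (nat_lit 1021) (.node (.node .nil (nat_lit 485) (nat_lit
  193) (nat_lit 1775) .nil) (nat_lit 486) (nat_lit 192) (nat_lit 1020) .nil))) (nat_lit 487) (nat_lit 305)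
  (nat_lit 1755) (.node (.node (.node (.node .nil (nat_lit 488) (nat_lit 272) (nat_lit 408) .nil) (nat_lit
  489) (nat_lit 321) (nat_lit 1708) (.node .nil (nat_lit 490) (nat_lit 353) (nat_lit 1726) .nil)) (nat_lit
  491) (nat_lit 240) (nat_lit 1524) (.node (.node .nil (nat_lit 492) (nat_lit 193) (nat_lit 1717) .nil)
  (nat_lit 493) (nat_lit 209) (nat_lit 1731) .nil)) (nat_lit 494) (nat_lit 289) (nat_lit 1705) (.node (.node
  (.node .nil (nat_lit 495) (nat_lit 241) (nat_lit 1724) .nil) (nat_lit 496) (nat_lit 320) (nat_lit 1617)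
  (.node .nil (nat_lit 497) (nat_lit 144) (nat_lit 597) .nil)) (nat_lit 498) (nat_lit 384) (nat_lit 151)
  (.node (.node .nil (nat_lit 499) (nat_lit 241) (nat_lit 1730) .nil) (nat_lit 500) (nat_lit 288) (nat_lit
  895) .nil))))) (nat_lit 501) (nat_lit 384) (nat_lit 905) (.node (.node (.node (.node (.node (.node .nil
  (nat_lit 502) (nat_lit 144) (nat_lit 466) .nil) (nat_lit 503) (nat_lit 241) (nat_lit 396) (.node .nil
  (nat_lit 504) (nat_lit 289) (nat_lit 1098) .nil)) (nat_lit 505) (nat_lit 305) (nat_lit 617) (.node (.node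
  .nil (nat_lit 506) (nat_lit 240) (nat_lit 825) .nil) (nat_lit 507) (nat_lit 160) (nat_lit 1748) .nil))
  (nat_lit 508) (nat_lit 336) (nat_lit 1546) (.node (.node (.node .nil (nat_lit 509) (nat_lit 97) (nat_lit
  1752) .nil) (nat_lit 510) (nat_lit 305) (nat_lit 16) (.node .nil (nat_lit 511) (nat_lit 177) (nat_lit 60)
  .nil)) (nat_lit 512) (nat_lit 304) (nat_lit 1702) (.node (.node .nil (nat_lit 513) (nat_lit 273) (nat_lit
  36) .nil) (nat_lit 514) (nat_lit 353) (nat_lit 17) .nil))) (nat_lit 515) (nat_lit 144) (nat_lit 1492) (.node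
  (.node (.node (.node .nil (nat_lit 516) (nat_lit 272) (nat_lit 672) .nil) (nat_lit 517) (nat_lit 256)
  (nat_lit 562) (.node .nil (nat_lit 518) (nat_lit 273) (nat_lit 703) .nil)) (nat_lit 519) (nat_lit 128)
  (nat_lit 58) (.node (.node .nil (nat_lit 520) (nat_lit 128) (nat_lit 780) .nil) (nat_lit 521) (nat_lit 352)
  (nat_lit 1676) .nil)) (nat_lit 522) (nat_lit 193) (nat_lit 702) (.node (.node (.node .nil (nat_lit 523)
  (nat_lit 176) (nat_lit 848) .nil) (nat_lit 524) (nat_lit 225) (nat_lit 697) (.node .nil (nat_lit 525)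
  (nat_lit 161) (nat_lit 150) .nil)) (nat_lit 526) (nat_lit 336) (nat_lit 676) (.node (.node .nil (nat_lit
  527) (nat_lit 224) (nat_lit 552) .nil) (nat_lit 528) (nat_lit 256) (nat_lit 1727) .nil)))) (nat_lit 529)
  (nat_lit 288) (nat_lit 1035) (.node (.node (.node (.node (.node .nil (nat_lit 530) (nat_lit 337) (nat_lit
  184) .nil) (nat_lit 531) (nat_lit 113) (nat_lit 680) (.node .nil (nat_lit 532) (nat_lit 321) (nat_lit 102)
  .nil)) (nat_lit 533) (nat_lit 336) (nat_lit 72) (.node (.node .nil (nat_lit 534) (nat_lit 289) (nat_lit 783)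
  .nil) (nat_lit 535) (nat_lit 144) (nat_lit 1443) .nil)) (nat_lit 536) (nat_lit 272) (nat_lit 1442) (.node
  (.node (.node .nil (nat_lit 537) (nat_lit 224) (nat_lit 1337) .nil) (nat_lit 538) (nat_lit 273) (nat_lit
  869) (.node .nil (nat_lit 539) (nat_lit 128) (nat_lit 872) .nil)) (nat_lit 540) (nat_lit 192) (nat_lit 1187)
  (.node (.node .nil (nat_lit 541) (nat_lit 368) (nat_lit 613) .nil) (nat_lit 542) (nat_lit 352) (nat_lit
  1365) .nil))) (nat_lit 543) (nat_lit 272) (nat_lit 1460) (.node (.node (.node (.node .nil (nat_lit 544)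
  (nat_lit 240) (nat_lit 1594) .nil) (nat_lit 545) (nat_lit 304) (nat_lit 261) (.node .nil (nat_lit 546)
  (nat_lit 208) (nat_lit 191) .nil)) (nat_lit 547) (nat_lit 256) (nat_lit 588) (.node (.node .nil (nat_lit
  548) (nat_lit 288) (nat_lit 166) .nil) (nat_lit 549) (nat_lit 177) (nat_lit 1364) .nil)) (nat_lit 550)
  (nat_lit 256) (nat_lit 1599) (.node (.node (.node .nil (nat_lit 551) (nat_lit 225) (nat_lit 423) .nil)
  (nat_lit 552) (nat_lit 209) (nat_lit 812) (.node .nil (nat_lit 553) (nat_lit 257) (nat_lit 747) .nil))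
  (nat_lit 554) (nat_lit 336) (nat_lit 157) (.node (.node .nil (nat_lit 555) (nat_lit 337) (nat_lit 789) .nil)
  (nat_lit 556) (nat_lit 240) (nat_lit 838) .nil))))))
def x50t_5 : T := (.node (.node (.node (.node (.node (.node (.node .nil (nat_lit 558) (nat_lit 305) (nat_lit
  216) .nil) (nat_lit 559) (nat_lit 256) (nat_lit 1164) (.node .nil (nat_lit 560) (nat_lit 352) (nat_lit 17)
  .nil)) (nat_lit 561) (nat_lit 272) (nat_lit 734) (.node (.node .nil (nat_lit 562) (nat_lit 241) (nat_lit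
  130) .nil) (nat_lit 563) (nat_lit 240) (nat_lit 1171) .nil)) (nat_lit 564) (nat_lit 289) (nat_lit 1562)
  (.node (.node (.node .nil (nat_lit 565) (nat_lit 273) (nat_lit 609) .nil) (nat_lit 566) (nat_lit 321)
  (nat_lit 1190) (.node .nil (nat_lit 567) (nat_lit 225) (nat_lit 579) .nil)) (nat_lit 568) (nat_lit 273)
  (nat_lit 827) (.node (.node .nil (nat_lit 569) (nat_lit 272) (nat_lit 752) .nil) (nat_lit 570) (nat_lit 273)
  (nat_lit 1259) .nil))) (nat_lit 571) (nat_lit 273) (nat_lit 928) (.node (.node (.node (.node .nil (nat_lit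
  572) (nat_lit 224) (nat_lit 232) .nil) (nat_lit 573) (nat_lit 336) (nat_lit 1629) (.node .nil (nat_lit 574)
  (nat_lit 193) (nat_lit 998) .nil)) (nat_lit 575) (nat_lit 305) (nat_lit 1612) (.node (.node .nil (nat_lit
  576) (nat_lit 289) (nat_lit 1067) .nil) (nat_lit 577) (nat_lit 160) (nat_lit 535) .nil)) (nat_lit 578)
  (nat_lit 224) (nat_lit 1713) (.node (.node (.node .nil (nat_lit 579) (nat_lit 208) (nat_lit 300) .nil)
  (nat_lit 580) (nat_lit 240) (nat_lit 1343) (.node .nil (nat_lit 581) (nat_lit 289) (nat_lit 263) .nil))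
  (nat_lit 582) (nat_lit 304) (nat_lit 440) (.node (.node .nil (nat_lit 583) (nat_lit 305) (nat_lit 463) .nil)
  (nat_lit 584) (nat_lit 193) (nat_lit 174) .nil)))) (nat_lit 585) (nat_lit 288) (nat_lit 31) (.node (.node
  (.node (.node (.node .nil (nat_lit 586) (nat_lit 320) (nat_lit 333) .nil) (nat_lit 587) (nat_lit 272)
  (nat_lit 553) (.node .nil (nat_lit 588) (nat_lit 240) (nat_lit 40) .nil)) (nat_lit 589) (nat_lit 224)
  (nat_lit 51) (.node (.node .nil (nat_lit 590) (nat_lit 321) (nat_lit 1448) .nil) (nat_lit 591) (nat_lit 17)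
  (nat_lit 1194) .nil)) (nat_lit 592) (nat_lit 321) (nat_lit 1523) (.node (.node (.node .nil (nat_lit 593)
  (nat_lit 240) (nat_lit 7) .nil) (nat_lit 594) (nat_lit 241) (nat_lit 1524) (.node .nil (nat_lit 595)
  (nat_lit 353) (nat_lit 1534) .nil)) (nat_lit 596) (nat_lit 208) (nat_lit 321) (.node (.node .nil (nat_lit
  597) (nat_lit 129) (nat_lit 1527) .nil) (nat_lit 598) (nat_lit 352) (nat_lit 612) .nil))) (nat_lit 599)
  (nat_lit 273) (nat_lit 1571) (.node (.node (.node (.node .nil (nat_lit 600) (nat_lit 288) (nat_lit 1396)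
  .nil) (nat_lit 601) (nat_lit 257) (nat_lit 1058) (.node .nil (nat_lit 602) (nat_lit 241) (nat_lit 457)
  .nil)) (nat_lit 603) (nat_lit 257) (nat_lit 386) (.node (.node .nil (nat_lit 604) (nat_lit 209) (nat_lit
  641) .nil) (nat_lit 605) (nat_lit 288) (nat_lit 1151) .nil)) (nat_lit 606) (nat_lit 304) (nat_lit 1161)
  (.node (.node (.node .nil (nat_lit 607) (nat_lit 256) (nat_lit 1320) .nil) (nat_lit 608) (nat_lit 209)
  (nat_lit 1131) (.node .nil (nat_lit 609) (nat_lit 256) (nat_lit 987) .nil)) (nat_lit 610) (nat_lit 241)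
  (nat_lit 1352) (.node (.node .nil (nat_lit 611) (nat_lit 321) (nat_lit 1329) .nil) (nat_lit 612) (nat_lit
  336) (nat_lit 95) .nil))))) (nat_lit 613) (nat_lit 353) (nat_lit 1330) (.node (.node (.node (.node (.node
  (.node .nil (nat_lit 614) (nat_lit 209) (nat_lit 1333) .nil) (nat_lit 615) (nat_lit 289) (nat_lit 1369)
  (.node .nil (nat_lit 616) (nat_lit 192) (nat_lit 237) .nil)) (nat_lit 617) (nat_lit 288) (nat_lit 142)
  (.node (.node .nil (nat_lit 618) (nat_lit 257) (nat_lit 1335) .nil) (nat_lit 619) (nat_lit 272) (nat_lit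
  377) .nil)) (nat_lit 620) (nat_lit 305) (nat_lit 1362) (.node (.node (.node .nil (nat_lit 621) (nat_lit 272)
  (nat_lit 119) .nil) (nat_lit 622) (nat_lit 224) (nat_lit 85) (.node .nil (nat_lit 623) (nat_lit 320)
  (nat_lit 1061) .nil)) (nat_lit 624) (nat_lit 273) (nat_lit 918) (.node (.node .nil (nat_lit 625) (nat_lit
  304) (nat_lit 1326) .nil) (nat_lit 626) (nat_lit 224) (nat_lit 1580) .nil))) (nat_lit 627) (nat_lit 272)
  (nat_lit 899) (.node (.node (.node (.node .nil (nat_lit 628) (nat_lit 240) (nat_lit 684) .nil) (nat_lit 629)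
  (nat_lit 288) (nat_lit 816) (.node .nil (nat_lit 630) (nat_lit 320) (nat_lit 1678) .nil)) (nat_lit 631)
  (nat_lit 368) (nat_lit 275) (.node (.node .nil (nat_lit 632) (nat_lit 368) (nat_lit 595) .nil) (nat_lit 633)
  (nat_lit 288) (nat_lit 1297) .nil)) (nat_lit 634) (nat_lit 240) (nat_lit 983) (.node (.node (.node .nil
  (nat_lit 635) (nat_lit 224) (nat_lit 1570) .nil) (nat_lit 636) (nat_lit 176) (nat_lit 1733) (.node .nil
  (nat_lit 637) (nat_lit 256) (nat_lit 1305) .nil)) (nat_lit 638) (nat_lit 257) (nat_lit 690) (.node (.node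
  .nil (nat_lit 639) (nat_lit 321) (nat_lit 1074) .nil) (nat_lit 640) (nat_lit 336) (nat_lit 1242) .nil))))
  (nat_lit 641) (nat_lit 192) (nat_lit 1487) (.node (.node (.node (.node (.node .nil (nat_lit 642) (nat_lit
  288) (nat_lit 1023) .nil) (nat_lit 643) (nat_lit 288) (nat_lit 1478) (.node .nil (nat_lit 644) (nat_lit 304)
  (nat_lit 900) .nil)) (nat_lit 645) (nat_lit 208) (nat_lit 1644) (.node (.node .nil (nat_lit 646) (nat_lit
  321) (nat_lit 545) .nil) (nat_lit 647) (nat_lit 208) (nat_lit 979) .nil)) (nat_lit 648) (nat_lit 321)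
  (nat_lit 236) (.node (.node (.node .nil (nat_lit 649) (nat_lit 225) (nat_lit 185) .nil) (nat_lit 650)
  (nat_lit 288) (nat_lit 1310) (.node .nil (nat_lit 651) (nat_lit 256) (nat_lit 1461) .nil)) (nat_lit 652)
  (nat_lit 208) (nat_lit 1193) (.node (.node .nil (nat_lit 653) (nat_lit 288) (nat_lit 32) .nil) (nat_lit 654)
  (nat_lit 192) (nat_lit 1677) .nil))) (nat_lit 655) (nat_lit 208) (nat_lit 654) (.node (.node (.node (.node
  .nil (nat_lit 656) (nat_lit 288) (nat_lit 1379) .nil) (nat_lit 657) (nat_lit 304) (nat_lit 653) (.node .nil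
  (nat_lit 658) (nat_lit 224) (nat_lit 986) .nil)) (nat_lit 659) (nat_lit 288) (nat_lit 229) (.node (.node
  .nil (nat_lit 660) (nat_lit 320) (nat_lit 14) .nil) (nat_lit 661) (nat_lit 336) (nat_lit 941) .nil))
  (nat_lit 662) (nat_lit 369) (nat_lit 1269) (.node (.node (.node .nil (nat_lit 663) (nat_lit 145) (nat_lit
  1037) .nil) (nat_lit 664) (nat_lit 241) (nat_lit 626) .nil) (nat_lit 665) (nat_lit 305) (nat_lit 1291)
  (.node (.node .nil (nat_lit 666) (nat_lit 176) (nat_lit 1712) .nil) (nat_lit 667) (nat_lit 336) (nat_lit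
  1204) .nil))))))
def x50t_6 : T := (.node (.node (.node (.node (.node (.node (.node .nil (nat_lit 669) (nat_lit 273) (nat_lit
  1107) .nil) (nat_lit 670) (nat_lit 240) (nat_lit 913) (.node .nil (nat_lit 671) (nat_lit 273) (nat_lit 1083)
  .nil)) (nat_lit 672) (nat_lit 256) (nat_lit 1737) (.node (.node .nil (nat_lit 673) (nat_lit 112) (nat_lit
  680) .nil) (nat_lit 674) (nat_lit 240) (nat_lit 338) .nil)) (nat_lit 675) (nat_lit 161) (nat_lit 407) (.node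
  (.node (.node .nil (nat_lit 676) (nat_lit 321) (nat_lit 803) .nil) (nat_lit 677) (nat_lit 272) (nat_lit 827)
  (.node .nil (nat_lit 678) (nat_lit 288) (nat_lit 156) .nil)) (nat_lit 679) (nat_lit 320) (nat_lit 769)
  (.node (.node .nil (nat_lit 680) (nat_lit 96) (nat_lit 152) .nil) (nat_lit 681) (nat_lit 209) (nat_lit 654)
  .nil))) (nat_lit 682) (nat_lit 272) (nat_lit 1124) (.node (.node (.node (.node .nil (nat_lit 683) (nat_lit
  225) (nat_lit 85) .nil) (nat_lit 684) (nat_lit 224) (nat_lit 450) (.node .nil (nat_lit 685) (nat_lit 224)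
  (nat_lit 1541) .nil)) (nat_lit 686) (nat_lit 337) (nat_lit 26) (.node (.node .nil (nat_lit 687) (nat_lit
  256) (nat_lit 877) .nil) (nat_lit 688) (nat_lit 240) (nat_lit 1246) .nil)) (nat_lit 689) (nat_lit 48)
  (nat_lit 384) (.node (.node (.node .nil (nat_lit 690) (nat_lit 240) (nat_lit 658) .nil) (nat_lit 691)
  (nat_lit 336) (nat_lit 1711) (.node .nil (nat_lit 692) (nat_lit 336) (nat_lit 957) .nil)) (nat_lit 693)
  (nat_lit 321) (nat_lit 115) (.node (.node .nil (nat_lit 694) (nat_lit 193) (nat_lit 523) .nil) (nat_lit 695)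
  (nat_lit 256) (nat_lit 1419) .nil)))) (nat_lit 696) (nat_lit 352) (nat_lit 1680) (.node (.node (.node (.node
  (.node .nil (nat_lit 697) (nat_lit 208) (nat_lit 1257) .nil) (nat_lit 698) (nat_lit 177) (nat_lit 805)
  (.node .nil (nat_lit 699) (nat_lit 304) (nat_lit 1207) .nil)) (nat_lit 700) (nat_lit 336) (nat_lit 648)
  (.node (.node .nil (nat_lit 701) (nat_lit 272) (nat_lit 1108) .nil) (nat_lit 702) (nat_lit 176) (nat_lit
  1770) .nil)) (nat_lit 703) (nat_lit 256) (nat_lit 357) (.node (.node (.node .nil (nat_lit 704) (nat_lit 241)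
  (nat_lit 218) .nil) (nat_lit 705) (nat_lit 321) (nat_lit 82) (.node .nil (nat_lit 706) (nat_lit 160)
  (nat_lit 298) .nil)) (nat_lit 707) (nat_lit 336) (nat_lit 362) (.node (.node .nil (nat_lit 708) (nat_lit
  272) (nat_lit 1533) .nil) (nat_lit 709) (nat_lit 305) (nat_lit 217) .nil))) (nat_lit 710) (nat_lit 240)
  (nat_lit 123) (.node (.node (.node (.node .nil (nat_lit 711) (nat_lit 336) (nat_lit 1374) .nil) (nat_lit
  712) (nat_lit 193) (nat_lit 1375) (.node .nil (nat_lit 713) (nat_lit 289) (nat_lit 1007) .nil)) (nat_lit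
  714) (nat_lit 64) (nat_lit 437) (.node (.node .nil (nat_lit 715) (nat_lit 369) (nat_lit 1041) .nil) (nat_lit
  716) (nat_lit 337) (nat_lit 1465) .nil)) (nat_lit 717) (nat_lit 241) (nat_lit 658) (.node (.node (.node .nil
  (nat_lit 718) (nat_lit 337) (nat_lit 1779) .nil) (nat_lit 719) (nat_lit 161) (nat_lit 1772) (.node .nil
  (nat_lit 720) (nat_lit 241) (nat_lit 991) .nil)) (nat_lit 721) (nat_lit 177) (nat_lit 507) (.node (.node
  .nil (nat_lit 722) (nat_lit 225) (nat_lit 1360) .nil) (nat_lit 723) (nat_lit 288) (nat_lit 1281) .nil)))))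
  (nat_lit 724) (nat_lit 272) (nat_lit 1264) (.node (.node (.node (.node (.node (.node .nil (nat_lit 725)
  (nat_lit 320) (nat_lit 102) .nil) (nat_lit 726) (nat_lit 352) (nat_lit 947) (.node .nil (nat_lit 727)
  (nat_lit 241) (nat_lit 1358) .nil)) (nat_lit 728) (nat_lit 288) (nat_lit 160) (.node (.node .nil (nat_lit
  729) (nat_lit 240) (nat_lit 1005) .nil) (nat_lit 730) (nat_lit 304) (nat_lit 1497) .nil)) (nat_lit 731)
  (nat_lit 193) (nat_lit 636) (.node (.node (.node .nil (nat_lit 732) (nat_lit 289) (nat_lit 388) .nil)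
  (nat_lit 733) (nat_lit 273) (nat_lit 176) (.node .nil (nat_lit 734) (nat_lit 256) (nat_lit 704) .nil))
  (nat_lit 735) (nat_lit 272) (nat_lit 695) (.node (.node .nil (nat_lit 736) (nat_lit 305) (nat_lit 1189)
  .nil) (nat_lit 737) (nat_lit 257) (nat_lit 1110) .nil))) (nat_lit 738) (nat_lit 336) (nat_lit 99) (.node
  (.node (.node (.node .nil (nat_lit 739) (nat_lit 289) (nat_lit 1285) .nil) (nat_lit 740) (nat_lit 304)
  (nat_lit 1350) (.node .nil (nat_lit 741) (nat_lit 144) (nat_lit 303) .nil)) (nat_lit 742) (nat_lit 208)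
  (nat_lit 1583) (.node (.node .nil (nat_lit 743) (nat_lit 352) (nat_lit 554) .nil) (nat_lit 744) (nat_lit
  224) (nat_lit 652) .nil)) (nat_lit 745) (nat_lit 352) (nat_lit 817) (.node (.node (.node .nil (nat_lit 746)
  (nat_lit 288) (nat_lit 461) .nil) (nat_lit 747) (nat_lit 240) (nat_lit 22) (.node .nil (nat_lit 748)
  (nat_lit 304) (nat_lit 325) .nil)) (nat_lit 749) (nat_lit 321) (nat_lit 1028) (.node (.node .nil (nat_lit
  750) (nat_lit 368) (nat_lit 514) .nil) (nat_lit 751) (nat_lit 160) (nat_lit 349) .nil)))) (nat_lit 752)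
  (nat_lit 256) (nat_lit 610) (.node (.node (.node (.node (.node .nil (nat_lit 753) (nat_lit 304) (nat_lit
  1362) .nil) (nat_lit 754) (nat_lit 320) (nat_lit 175) (.node .nil (nat_lit 755) (nat_lit 272) (nat_lit 159)
  .nil)) (nat_lit 756) (nat_lit 321) (nat_lit 1739) (.node (.node .nil (nat_lit 757) (nat_lit 224) (nat_lit
  614) .nil) (nat_lit 758) (nat_lit 256) (nat_lit 283) .nil)) (nat_lit 759) (nat_lit 305) (nat_lit 723) (.node
  (.node (.node .nil (nat_lit 760) (nat_lit 257) (nat_lit 544) .nil) (nat_lit 761) (nat_lit 257) (nat_lit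
  1359) (.node .nil (nat_lit 762) (nat_lit 225) (nat_lit 1029) .nil)) (nat_lit 763) (nat_lit 288) (nat_lit
  1146) (.node (.node .nil (nat_lit 764) (nat_lit 320) (nat_lit 775) .nil) (nat_lit 765) (nat_lit 304)
  (nat_lit 1060) .nil))) (nat_lit 766) (nat_lit 241) (nat_lit 338) (.node (.node (.node (.node .nil (nat_lit
  767) (nat_lit 176) (nat_lit 507) .nil) (nat_lit 768) (nat_lit 208) (nat_lit 1690) (.node .nil (nat_lit 769)
  (nat_lit 305) (nat_lit 390) .nil)) (nat_lit 770) (nat_lit 192) (nat_lit 998) (.node (.node .nil (nat_lit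
  771) (nat_lit 304) (nat_lit 846) .nil) (nat_lit 772) (nat_lit 305) (nat_lit 1399) .nil)) (nat_lit 773)
  (nat_lit 272) (nat_lit 637) (.node (.node (.node .nil (nat_lit 774) (nat_lit 320) (nat_lit 954) .nil)
  (nat_lit 775) (nat_lit 305) (nat_lit 1153) (.node .nil (nat_lit 776) (nat_lit 304) (nat_lit 207) .nil))
  (nat_lit 777) (nat_lit 256) (nat_lit 109) (.node (.node .nil (nat_lit 778) (nat_lit 256) (nat_lit 602) .nil)
  (nat_lit 779) (nat_lit 256) (nat_lit 1596) .nil))))))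
def x50t_7 : T := (.node (.node (.node (.node (.node (.node (.node .nil (nat_lit 781) (nat_lit 289) (nat_lit
  1402) .nil) (nat_lit 782) (nat_lit 240) (nat_lit 1134) (.node .nil (nat_lit 783) (nat_lit 272) (nat_lit
  1732) .nil)) (nat_lit 784) (nat_lit 305) (nat_lit 1400) (.node (.node .nil (nat_lit 785) (nat_lit 257)
  (nat_lit 1384) .nil) (nat_lit 786) (nat_lit 304) (nat_lit 4) .nil)) (nat_lit 787) (nat_lit 240) (nat_lit 37)
  (.node (.node (.node .nil (nat_lit 788) (nat_lit 256) (nat_lit 399) .nil) (nat_lit 789) (nat_lit 320)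
  (nat_lit 1542) (.node .nil (nat_lit 790) (nat_lit 256) (nat_lit 484) .nil)) (nat_lit 791) (nat_lit 304)
  (nat_lit 1612) (.node (.node .nil (nat_lit 792) (nat_lit 177) (nat_lit 1036) .nil) (nat_lit 793) (nat_lit
  209) (nat_lit 1300) .nil))) (nat_lit 794) (nat_lit 224) (nat_lit 1485) (.node (.node (.node (.node .nil
  (nat_lit 795) (nat_lit 112) (nat_lit 311) .nil) (nat_lit 796) (nat_lit 224) (nat_lit 364) (.node .nil
  (nat_lit 797) (nat_lit 273) (nat_lit 458) .nil)) (nat_lit 798) (nat_lit 208) (nat_lit 148) (.node (.node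
  .nil (nat_lit 799) (nat_lit 337) (nat_lit 265) .nil) (nat_lit 800) (nat_lit 241) (nat_lit 685) .nil))
  (nat_lit 801) (nat_lit 336) (nat_lit 214) (.node (.node (.node .nil (nat_lit 802) (nat_lit 256) (nat_lit
  1553) .nil) (nat_lit 803) (nat_lit 304) (nat_lit 1144) (.node .nil (nat_lit 804) (nat_lit 289) (nat_lit 701)
  .nil)) (nat_lit 805) (nat_lit 160) (nat_lit 75) (.node (.node .nil (nat_lit 806) (nat_lit 129) (nat_lit
  1255) .nil) (nat_lit 807) (nat_lit 304) (nat_lit 1189) .nil)))) (nat_lit 808) (nat_lit 241) (nat_lit 825)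
  (.node (.node (.node (.node (.node .nil (nat_lit 809) (nat_lit 193) (nat_lit 1199) .nil) (nat_lit 810)
  (nat_lit 193) (nat_lit 1234) (.node .nil (nat_lit 811) (nat_lit 257) (nat_lit 1427) .nil)) (nat_lit 812)
  (nat_lit 192) (nat_lit 834) (.node (.node .nil (nat_lit 813) (nat_lit 353) (nat_lit 1231) .nil) (nat_lit
  814) (nat_lit 257) (nat_lit 1227) .nil)) (nat_lit 815) (nat_lit 241) (nat_lit 1425) (.node (.node (.node
  .nil (nat_lit 816) (nat_lit 272) (nat_lit 1436) .nil) (nat_lit 817) (nat_lit 336) (nat_lit 74) (.node .nil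
  (nat_lit 818) (nat_lit 192) (nat_lit 1199) .nil)) (nat_lit 819) (nat_lit 257) (nat_lit 948) (.node (.node
  .nil (nat_lit 820) (nat_lit 305) (nat_lit 1493) .nil) (nat_lit 821) (nat_lit 336) (nat_lit 62) .nil)))
  (nat_lit 822) (nat_lit 209) (nat_lit 818) (.node (.node (.node (.node .nil (nat_lit 823) (nat_lit 273)
  (nat_lit 1507) .nil) (nat_lit 824) (nat_lit 256) (nat_lit 1645) (.node .nil (nat_lit 825) (nat_lit 224)
  (nat_lit 1016) .nil)) (nat_lit 826) (nat_lit 321) (nat_lit 1421) (.node (.node .nil (nat_lit 827) (nat_lit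
  256) (nat_lit 556) .nil) (nat_lit 828) (nat_lit 128) (nat_lit 1527) .nil)) (nat_lit 829) (nat_lit 320)
  (nat_lit 1462) (.node (.node (.node .nil (nat_lit 830) (nat_lit 209) (nat_lit 1420) .nil) (nat_lit 831)
  (nat_lit 257) (nat_lit 1235) (.node .nil (nat_lit 832) (nat_lit 160) (nat_lit 59) .nil)) (nat_lit 833)
  (nat_lit 320) (nat_lit 955) (.node (.node .nil (nat_lit 834) (nat_lit 177) (nat_lit 1148) .nil) (nat_lit
  835) (nat_lit 145) (nat_lit 1232) .nil))))) (nat_lit 836) (nat_lit 273) (nat_lit 1426) (.node (.node (.node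
  (.node (.node (.node .nil (nat_lit 837) (nat_lit 384) (nat_lit 929) .nil) (nat_lit 838) (nat_lit 225)
  (nat_lit 1418) (.node .nil (nat_lit 839) (nat_lit 272) (nat_lit 1502) .nil)) (nat_lit 840) (nat_lit 256)
  (nat_lit 402) (.node (.node .nil (nat_lit 841) (nat_lit 337) (nat_lit 1422) .nil) (nat_lit 842) (nat_lit 96)
  (nat_lit 1752) .nil)) (nat_lit 843) (nat_lit 272) (nat_lit 1519) (.node (.node (.node .nil (nat_lit 844)
  (nat_lit 304) (nat_lit 105) .nil) (nat_lit 845) (nat_lit 224) (nat_lit 645) (.node .nil (nat_lit 846)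
  (nat_lit 288) (nat_lit 318) .nil)) (nat_lit 847) (nat_lit 305) (nat_lit 1209) (.node (.node .nil (nat_lit
  848) (nat_lit 161) (nat_lit 885) .nil) (nat_lit 849) (nat_lit 320) (nat_lit 850) .nil))) (nat_lit 850)
  (nat_lit 305) (nat_lit 642) (.node (.node (.node (.node .nil (nat_lit 851) (nat_lit 81) (nat_lit 714) .nil)
  (nat_lit 852) (nat_lit 336) (nat_lit 1779) (.node .nil (nat_lit 853) (nat_lit 48) (nat_lit 931) .nil))
  (nat_lit 854) (nat_lit 305) (nat_lit 1431) (.node (.node .nil (nat_lit 855) (nat_lit 113) (nat_lit 963)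
  .nil) (nat_lit 856) (nat_lit 289) (nat_lit 1587) .nil)) (nat_lit 857) (nat_lit 145) (nat_lit 1492) (.node
  (.node (.node .nil (nat_lit 858) (nat_lit 225) (nat_lit 1198) .nil) (nat_lit 859) (nat_lit 352) (nat_lit
  1163) (.node .nil (nat_lit 860) (nat_lit 352) (nat_lit 1650) .nil)) (nat_lit 861) (nat_lit 193) (nat_lit
  455) (.node (.node .nil (nat_lit 862) (nat_lit 321) (nat_lit 1233) .nil) (nat_lit 863) (nat_lit 272)
  (nat_lit 758) .nil)))) (nat_lit 864) (nat_lit 257) (nat_lit 1229) (.node (.node (.node (.node (.node .nil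
  (nat_lit 865) (nat_lit 305) (nat_lit 633) .nil) (nat_lit 866) (nat_lit 321) (nat_lit 1438) (.node .nil
  (nat_lit 867) (nat_lit 273) (nat_lit 824) .nil)) (nat_lit 868) (nat_lit 288) (nat_lit 1466) (.node (.node
  .nil (nat_lit 869) (nat_lit 256) (nat_lit 1489) .nil) (nat_lit 870) (nat_lit 272) (nat_lit 36) .nil))
  (nat_lit 871) (nat_lit 224) (nat_lit 1184) (.node (.node (.node .nil (nat_lit 872) (nat_lit 112) (nat_lit
  1703) .nil) (nat_lit 873) (nat_lit 288) (nat_lit 1416) (.node .nil (nat_lit 874) (nat_lit 320) (nat_lit 63)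
  .nil)) (nat_lit 875) (nat_lit 256) (nat_lit 720) (.node (.node .nil (nat_lit 876) (nat_lit 321) (nat_lit
  1139) .nil) (nat_lit 877) (nat_lit 241) (nat_lit 1230) .nil))) (nat_lit 878) (nat_lit 177) (nat_lit 1439)
  (.node (.node (.node (.node .nil (nat_lit 879) (nat_lit 208) (nat_lit 1333) .nil) (nat_lit 880) (nat_lit
  320) (nat_lit 625) (.node .nil (nat_lit 881) (nat_lit 384) (nat_lit 1530) .nil)) (nat_lit 882) (nat_lit 304)
  (nat_lit 1219) (.node (.node .nil (nat_lit 883) (nat_lit 208) (nat_lit 616) .nil) (nat_lit 884) (nat_lit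
  160) (nat_lit 192) .nil)) (nat_lit 885) (nat_lit 144) (nat_lit 806) (.node (.node (.node .nil (nat_lit 886)
  (nat_lit 256) (nat_lit 688) .nil) (nat_lit 887) (nat_lit 321) (nat_lit 1471) .nil) (nat_lit 888) (nat_lit
  272) (nat_lit 550) (.node (.node .nil (nat_lit 889) (nat_lit 240) (nat_lit 393) .nil) (nat_lit 890) (nat_lit
  336) (nat_lit 1693) .nil))))))
def x50t_8 : T := (.node (.node (.node (.node (.node (.node (.node .nil (nat_lit 892) (nat_lit 353) (nat_lit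
  667) .nil) (nat_lit 893) (nat_lit 368) (nat_lit 81) (.node .nil (nat_lit 894) (nat_lit 160) (nat_lit 284)
  .nil)) (nat_lit 895) (nat_lit 272) (nat_lit 1325) (.node (.node .nil (nat_lit 896) (nat_lit 224) (nat_lit
  400) .nil) (nat_lit 897) (nat_lit 257) (nat_lit 634) .nil)) (nat_lit 898) (nat_lit 176) (nat_lit 421) (.node
  (.node (.node .nil (nat_lit 899) (nat_lit 257) (nat_lit 1031) .nil) (nat_lit 900) (nat_lit 289) (nat_lit
  1281) (.node .nil (nat_lit 901) (nat_lit 224) (nat_lit 203) .nil)) (nat_lit 902) (nat_lit 272) (nat_lit 864)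
  (.node (.node .nil (nat_lit 903) (nat_lit 256) (nat_lit 306) .nil) (nat_lit 904) (nat_lit 320) (nat_lit 312)
  .nil))) (nat_lit 905) (nat_lit 369) (nat_lit 1103) (.node (.node (.node (.node .nil (nat_lit 906) (nat_lit
  240) (nat_lit 722) .nil) (nat_lit 907) (nat_lit 272) (nat_lit 528) (.node .nil (nat_lit 908) (nat_lit 337)
  (nat_lit 1302) .nil)) (nat_lit 909) (nat_lit 209) (nat_lit 1449) (.node (.node .nil (nat_lit 910) (nat_lit
  289) (nat_lit 474) .nil) (nat_lit 911) (nat_lit 257) (nat_lit 1032) .nil)) (nat_lit 912) (nat_lit 288)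
  (nat_lit 1586) (.node (.node (.node .nil (nat_lit 913) (nat_lit 225) (nat_lit 1290) .nil) (nat_lit 914)
  (nat_lit 304) (nat_lit 205) (.node .nil (nat_lit 915) (nat_lit 337) (nat_lit 1450) .nil)) (nat_lit 916)
  (nat_lit 337) (nat_lit 1086) (.node (.node .nil (nat_lit 917) (nat_lit 352) (nat_lit 1738) .nil) (nat_lit
  918) (nat_lit 256) (nat_lit 1626) .nil)))) (nat_lit 919) (nat_lit 256) (nat_lit 1560) (.node (.node (.node
  (.node (.node .nil (nat_lit 920) (nat_lit 224) (nat_lit 1125) .nil) (nat_lit 921) (nat_lit 192) (nat_lit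
  1090) (.node .nil (nat_lit 922) (nat_lit 193) (nat_lit 1090) .nil)) (nat_lit 923) (nat_lit 257) (nat_lit
  452) (.node (.node .nil (nat_lit 924) (nat_lit 288) (nat_lit 621) .nil) (nat_lit 925) (nat_lit 320) (nat_lit
  1028) .nil)) (nat_lit 926) (nat_lit 192) (nat_lit 898) (.node (.node (.node .nil (nat_lit 927) (nat_lit 257)
  (nat_lit 1288) .nil) (nat_lit 928) (nat_lit 256) (nat_lit 1526) (.node .nil (nat_lit 929) (nat_lit 369)
  (nat_lit 1201) .nil)) (nat_lit 930) (nat_lit 384) (nat_lit 1249) (.node (.node .nil (nat_lit 931) (nat_lit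
  32) (nat_lit 591) .nil) (nat_lit 932) (nat_lit 337) (nat_lit 1138) .nil))) (nat_lit 933) (nat_lit 256)
  (nat_lit 1510) (.node (.node (.node (.node .nil (nat_lit 934) (nat_lit 353) (nat_lit 1270) .nil) (nat_lit
  935) (nat_lit 273) (nat_lit 1062) (.node .nil (nat_lit 936) (nat_lit 337) (nat_lit 1204) .nil)) (nat_lit
  937) (nat_lit 288) (nat_lit 536) (.node (.node .nil (nat_lit 938) (nat_lit 225) (nat_lit 1780) .nil)
  (nat_lit 939) (nat_lit 273) (nat_lit 1769) .nil)) (nat_lit 940) (nat_lit 273) (nat_lit 1767) (.node (.node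
  (.node .nil (nat_lit 941) (nat_lit 321) (nat_lit 1777) .nil) (nat_lit 942) (nat_lit 353) (nat_lit 1765)
  (.node .nil (nat_lit 943) (nat_lit 305) (nat_lit 1766) .nil)) (nat_lit 944) (nat_lit 288) (nat_lit 1324)
  (.node (.node .nil (nat_lit 945) (nat_lit 176) (nat_lit 719) .nil) (nat_lit 946) (nat_lit 321) (nat_lit
  1212) .nil))))) (nat_lit 947) (nat_lit 336) (nat_lit 756) (.node (.node (.node (.node (.node (.node .nil
  (nat_lit 948) (nat_lit 240) (nat_lit 1272) .nil) (nat_lit 949) (nat_lit 304) (nat_lit 1075) (.node .nil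
  (nat_lit 950) (nat_lit 241) (nat_lit 1394) .nil)) (nat_lit 951) (nat_lit 257) (nat_lit 1409) (.node (.node
  .nil (nat_lit 952) (nat_lit 129) (nat_lit 1403) .nil) (nat_lit 953) (nat_lit 256) (nat_lit 594) .nil))
  (nat_lit 954) (nat_lit 304) (nat_lit 643) (.node (.node (.node .nil (nat_lit 955) (nat_lit 304) (nat_lit 56)
  .nil) (nat_lit 956) (nat_lit 240) (nat_lit 1557) (.node .nil (nat_lit 957) (nat_lit 320) (nat_lit 1471)
  .nil)) (nat_lit 958) (nat_lit 272) (nat_lit 1668) (.node (.node .nil (nat_lit 959) (nat_lit 225) (nat_lit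
  1251) .nil) (nat_lit 960) (nat_lit 305) (nat_lit 1253) .nil))) (nat_lit 961) (nat_lit 321) (nat_lit 1213)
  (.node (.node (.node (.node .nil (nat_lit 962) (nat_lit 321) (nat_lit 891) .nil) (nat_lit 963) (nat_lit 96)
  (nat_lit 851) (.node .nil (nat_lit 964) (nat_lit 288) (nat_lit 513) .nil)) (nat_lit 965) (nat_lit 304)
  (nat_lit 1479) (.node (.node .nil (nat_lit 966) (nat_lit 256) (nat_lit 167) .nil) (nat_lit 967) (nat_lit
  144) (nat_lit 462) .nil)) (nat_lit 968) (nat_lit 208) (nat_lit 153) (.node (.node (.node .nil (nat_lit 969)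
  (nat_lit 320) (nat_lit 786) .nil) (nat_lit 970) (nat_lit 273) (nat_lit 1065) (.node .nil (nat_lit 971)
  (nat_lit 289) (nat_lit 1078) .nil)) (nat_lit 972) (nat_lit 113) (nat_lit 1093) (.node (.node .nil (nat_lit
  973) (nat_lit 209) (nat_lit 1397) .nil) (nat_lit 974) (nat_lit 336) (nat_lit 660) .nil)))) (nat_lit 975)
  (nat_lit 320) (nat_lit 1308) (.node (.node (.node (.node (.node .nil (nat_lit 976) (nat_lit 256) (nat_lit
  413) .nil) (nat_lit 977) (nat_lit 369) (nat_lit 1140) (.node .nil (nat_lit 978) (nat_lit 336) (nat_lit 61)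
  .nil)) (nat_lit 979) (nat_lit 192) (nat_lit 523) (.node (.node .nil (nat_lit 980) (nat_lit 257) (nat_lit
  1095) .nil) (nat_lit 981) (nat_lit 256) (nat_lit 985) .nil)) (nat_lit 982) (nat_lit 241) (nat_lit 1246)
  (.node (.node (.node .nil (nat_lit 983) (nat_lit 225) (nat_lit 647) .nil) (nat_lit 984) (nat_lit 224)
  (nat_lit 53) (.node .nil (nat_lit 985) (nat_lit 240) (nat_lit 1053) .nil)) (nat_lit 986) (nat_lit 209)
  (nat_lit 1064) (.node (.node .nil (nat_lit 987) (nat_lit 240) (nat_lit 1566) .nil) (nat_lit 988) (nat_lit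
  305) (nat_lit 1244) .nil))) (nat_lit 989) (nat_lit 321) (nat_lit 1079) (.node (.node (.node (.node .nil
  (nat_lit 990) (nat_lit 368) (nat_lit 560) .nil) (nat_lit 991) (nat_lit 224) (nat_lit 1685) (.node .nil
  (nat_lit 992) (nat_lit 241) (nat_lit 984) .nil)) (nat_lit 993) (nat_lit 320) (nat_lit 6) (.node (.node .nil
  (nat_lit 994) (nat_lit 288) (nat_lit 568) .nil) (nat_lit 995) (nat_lit 320) (nat_lit 366) .nil)) (nat_lit
  996) (nat_lit 273) (nat_lit 1145) (.node (.node (.node .nil (nat_lit 997) (nat_lit 241) (nat_lit 1345) .nil)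
  (nat_lit 998) (nat_lit 176) (nat_lit 1648) (.node .nil (nat_lit 999) (nat_lit 256) (nat_lit 1227) .nil))
  (nat_lit 1000) (nat_lit 336) (nat_lit 476) (.node (.node .nil (nat_lit 1001) (nat_lit 272) (nat_lit 1120)
  .nil) (nat_lit 1002) (nat_lit 272) (nat_lit 618) .nil))))))
def x50t_9 : T := (.node (.node (.node (.node (.node (.node (.node .nil (nat_lit 1004) (nat_lit 305) (nat_lit
  1350) .nil) (nat_lit 1005) (nat_lit 224) (nat_lit 1014) (.node .nil (nat_lit 1006) (nat_lit 225) (nat_lit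
  1346) .nil)) (nat_lit 1007) (nat_lit 272) (nat_lit 1155) (.node (.node .nil (nat_lit 1008) (nat_lit 304)
  (nat_lit 1121) .nil) (nat_lit 1009) (nat_lit 336) (nat_lit 705) .nil)) (nat_lit 1010) (nat_lit 273) (nat_lit
  355) (.node (.node (.node .nil (nat_lit 1011) (nat_lit 289) (nat_lit 398) .nil) (nat_lit 1012) (nat_lit 257)
  (nat_lit 402) (.node .nil (nat_lit 1013) (nat_lit 352) (nat_lit 310) .nil)) (nat_lit 1014) (nat_lit 208)
  (nat_lit 1347) (.node (.node .nil (nat_lit 1015) (nat_lit 305) (nat_lit 351) .nil) (nat_lit 1016) (nat_lit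
  208) (nat_lit 418) .nil))) (nat_lit 1017) (nat_lit 256) (nat_lit 1747) (.node (.node (.node (.node .nil
  (nat_lit 1018) (nat_lit 225) (nat_lit 1277) .nil) (nat_lit 1019) (nat_lit 256) (nat_lit 260) (.node .nil
  (nat_lit 1020) (nat_lit 176) (nat_lit 675) .nil)) (nat_lit 1021) (nat_lit 224) (nat_lit 1203) (.node (.node
  .nil (nat_lit 1022) (nat_lit 257) (nat_lit 729) .nil) (nat_lit 1023) (nat_lit 272) (nat_lit 342) .nil))
  (nat_lit 1024) (nat_lit 337) (nat_lit 754) (.node (.node (.node .nil (nat_lit 1025) (nat_lit 352) (nat_lit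
  890) .nil) (nat_lit 1026) (nat_lit 272) (nat_lit 557) (.node .nil (nat_lit 1027) (nat_lit 257) (nat_lit 434)
  .nil)) (nat_lit 1028) (nat_lit 304) (nat_lit 314) (.node (.node .nil (nat_lit 1029) (nat_lit 208) (nat_lit
  921) .nil) (nat_lit 1030) (nat_lit 273) (nat_lit 976) .nil)))) (nat_lit 1031) (nat_lit 240) (nat_lit 871)
  (.node (.node (.node (.node (.node .nil (nat_lit 1032) (nat_lit 240) (nat_lit 991) .nil) (nat_lit 1033)
  (nat_lit 193) (nat_lit 666) (.node .nil (nat_lit 1034) (nat_lit 289) (nat_lit 1310) .nil)) (nat_lit 1035)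
  (nat_lit 272) (nat_lit 927) (.node (.node .nil (nat_lit 1036) (nat_lit 160) (nat_lit 497) .nil) (nat_lit
  1037) (nat_lit 128) (nat_lit 453) .nil)) (nat_lit 1038) (nat_lit 320) (nat_lit 765) (.node (.node (.node
  .nil (nat_lit 1039) (nat_lit 256) (nat_lit 1550) .nil) (nat_lit 1040) (nat_lit 368) (nat_lit 542) (.node
  .nil (nat_lit 1041) (nat_lit 352) (nat_lit 1501) .nil)) (nat_lit 1042) (nat_lit 241) (nat_lit 1476) (.node
  (.node .nil (nat_lit 1043) (nat_lit 289) (nat_lit 1466) .nil) (nat_lit 1044) (nat_lit 288) (nat_lit 870)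
  .nil))) (nat_lit 1045) (nat_lit 320) (nat_lit 230) (.node (.node (.node (.node .nil (nat_lit 1046) (nat_lit
  305) (nat_lit 353) .nil) (nat_lit 1047) (nat_lit 336) (nat_lit 611) (.node .nil (nat_lit 1048) (nat_lit 240)
  (nat_lit 1528) .nil)) (nat_lit 1049) (nat_lit 240) (nat_lit 396) (.node (.node .nil (nat_lit 1050) (nat_lit
  320) (nat_lit 124) .nil) (nat_lit 1051) (nat_lit 208) (nat_lit 1696) .nil)) (nat_lit 1052) (nat_lit 352)
  (nat_lit 1603) (.node (.node (.node .nil (nat_lit 1053) (nat_lit 224) (nat_lit 493) .nil) (nat_lit 1054)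
  (nat_lit 177) (nat_lit 1056) (.node .nil (nat_lit 1055) (nat_lit 240) (nat_lit 1655) .nil)) (nat_lit 1056)
  (nat_lit 160) (nat_lit 150) (.node (.node .nil (nat_lit 1057) (nat_lit 272) (nat_lit 819) .nil) (nat_lit
  1058) (nat_lit 240) (nat_lit 762) .nil))))) (nat_lit 1059) (nat_lit 320) (nat_lit 1704) (.node (.node (.node
  (.node (.node (.node .nil (nat_lit 1060) (nat_lit 289) (nat_lit 902) .nil) (nat_lit 1061) (nat_lit 304)
  (nat_lit 339) (.node .nil (nat_lit 1062) (nat_lit 256) (nat_lit 1561) .nil)) (nat_lit 1063) (nat_lit 209)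
  (nat_lit 926) (.node (.node .nil (nat_lit 1064) (nat_lit 192) (nat_lit 173) .nil) (nat_lit 1065) (nat_lit
  256) (nat_lit 1049) .nil)) (nat_lit 1066) (nat_lit 321) (nat_lit 1598) (.node (.node (.node .nil (nat_lit
  1067) (nat_lit 272) (nat_lit 918) .nil) (nat_lit 1068) (nat_lit 288) (nat_lit 755) (.node .nil (nat_lit
  1069) (nat_lit 320) (nat_lit 657) .nil)) (nat_lit 1070) (nat_lit 256) (nat_lit 386) (.node (.node .nil
  (nat_lit 1071) (nat_lit 369) (nat_lit 917) .nil) (nat_lit 1072) (nat_lit 241) (nat_lit 901) .nil))) (nat_lit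
  1073) (nat_lit 209) (nat_lit 540) (.node (.node (.node (.node .nil (nat_lit 1074) (nat_lit 304) (nat_lit
  494) .nil) (nat_lit 1075) (nat_lit 288) (nat_lit 939) (.node .nil (nat_lit 1076) (nat_lit 304) (nat_lit
  1572) .nil)) (nat_lit 1077) (nat_lit 193) (nat_lit 1593) (.node (.node .nil (nat_lit 1078) (nat_lit 272)
  (nat_lit 1223) .nil) (nat_lit 1079) (nat_lit 304) (nat_lit 564) .nil)) (nat_lit 1080) (nat_lit 225) (nat_lit
  883) (.node (.node (.node .nil (nat_lit 1081) (nat_lit 208) (nat_lit 712) .nil) (nat_lit 1082) (nat_lit 304)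
  (nat_lit 1100) (.node .nil (nat_lit 1083) (nat_lit 256) (nat_lit 808) .nil)) (nat_lit 1084) (nat_lit 321)
  (nat_lit 771) (.node (.node .nil (nat_lit 1085) (nat_lit 304) (nat_lit 1266) .nil) (nat_lit 1086) (nat_lit
  320) (nat_lit 1167) .nil)))) (nat_lit 1087) (nat_lit 176) (nat_lit 577) (.node (.node (.node (.node (.node
  .nil (nat_lit 1088) (nat_lit 256) (nat_lit 1177) .nil) (nat_lit 1089) (nat_lit 337) (nat_lit 1591) (.node
  .nil (nat_lit 1090) (nat_lit 176) (nat_lit 1632) .nil)) (nat_lit 1091) (nat_lit 273) (nat_lit 1366) (.node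
  (.node .nil (nat_lit 1092) (nat_lit 385) (nat_lit 1500) .nil) (nat_lit 1093) (nat_lit 96) (nat_lit 1363)
  .nil)) (nat_lit 1094) (nat_lit 240) (nat_lit 744) (.node (.node (.node .nil (nat_lit 1095) (nat_lit 240)
  (nat_lit 447) .nil) (nat_lit 1096) (nat_lit 208) (nat_lit 48) (.node .nil (nat_lit 1097) (nat_lit 305)
  (nat_lit 600) .nil)) (nat_lit 1098) (nat_lit 272) (nat_lit 208) (.node (.node .nil (nat_lit 1099) (nat_lit
  257) (nat_lit 906) .nil) (nat_lit 1100) (nat_lit 289) (nat_lit 895) .nil))) (nat_lit 1101) (nat_lit 320)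
  (nat_lit 1004) (.node (.node (.node (.node .nil (nat_lit 1102) (nat_lit 177) (nat_lit 894) .nil) (nat_lit
  1103) (nat_lit 352) (nat_lit 1314) (.node .nil (nat_lit 1104) (nat_lit 273) (nat_lit 672) .nil)) (nat_lit
  1105) (nat_lit 80) (nat_lit 714) (.node (.node .nil (nat_lit 1106) (nat_lit 129) (nat_lit 673) .nil)
  (nat_lit 1107) (nat_lit 256) (nat_lit 1235) .nil)) (nat_lit 1108) (nat_lit 256) (nat_lit 1142) (.node (.node
  (.node .nil (nat_lit 1109) (nat_lit 257) (nat_lit 1461) .nil) (nat_lit 1110) (nat_lit 240) (nat_lit 920)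
  .nil) (nat_lit 1111) (nat_lit 305) (nat_lit 1472) (.node (.node .nil (nat_lit 1112) (nat_lit 81) (nat_lit
  1590) .nil) (nat_lit 1113) (nat_lit 273) (nat_lit 547) .nil))))))
def x50t_10 : T := (.node (.node (.node (.node (.node (.node (.node .nil (nat_lit 1115) (nat_lit 257) (nat_lit
  1312) .nil) (nat_lit 1116) (nat_lit 289) (nat_lit 735) (.node .nil (nat_lit 1117) (nat_lit 208) (nat_lit
  1033) .nil)) (nat_lit 1118) (nat_lit 321) (nat_lit 1495) (.node (.node .nil (nat_lit 1119) (nat_lit 272)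
  (nat_lit 1728) .nil) (nat_lit 1120) (nat_lit 257) (nat_lit 889) .nil)) (nat_lit 1121) (nat_lit 288) (nat_lit
  147) (.node (.node (.node .nil (nat_lit 1122) (nat_lit 289) (nat_lit 870) .nil) (nat_lit 1123) (nat_lit 256)
  (nat_lit 358) (.node .nil (nat_lit 1124) (nat_lit 257) (nat_lit 1560) .nil)) (nat_lit 1125) (nat_lit 209)
  (nat_lit 979) (.node (.node .nil (nat_lit 1126) (nat_lit 225) (nat_lit 1564) .nil) (nat_lit 1127) (nat_lit
  352) (nat_lit 47) .nil))) (nat_lit 1128) (nat_lit 289) (nat_lit 724) (.node (.node (.node (.node .nil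
  (nat_lit 1129) (nat_lit 272) (nat_lit 1619) .nil) (nat_lit 1130) (nat_lit 305) (nat_lit 347) (.node .nil
  (nat_lit 1131) (nat_lit 192) (nat_lit 1234) .nil)) (nat_lit 1132) (nat_lit 241) (nat_lit 871) (.node (.node
  .nil (nat_lit 1133) (nat_lit 368) (nat_lit 1609) .nil) (nat_lit 1134) (nat_lit 225) (nat_lit 879) .nil))
  (nat_lit 1135) (nat_lit 336) (nat_lit 849) (.node (.node (.node .nil (nat_lit 1136) (nat_lit 305) (nat_lit
  344) .nil) (nat_lit 1137) (nat_lit 288) (nat_lit 543) (.node .nil (nat_lit 1138) (nat_lit 320) (nat_lit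
  1342) .nil)) (nat_lit 1139) (nat_lit 304) (nat_lit 739) (.node (.node .nil (nat_lit 1140) (nat_lit 352)
  (nat_lit 1390) .nil) (nat_lit 1141) (nat_lit 352) (nat_lit 1726) .nil)))) (nat_lit 1142) (nat_lit 241)
  (nat_lit 1053) (.node (.node (.node (.node (.node .nil (nat_lit 1143) (nat_lit 208) (nat_lit 1444) .nil)
  (nat_lit 1144) (nat_lit 289) (nat_lit 587) (.node .nil (nat_lit 1145) (nat_lit 256) (nat_lit 1283) .nil))
  (nat_lit 1146) (nat_lit 272) (nat_lit 1636) (.node (.node .nil (nat_lit 1147) (nat_lit 241) (nat_lit 622)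
  .nil) (nat_lit 1148) (nat_lit 160) (nat_lit 502) .nil)) (nat_lit 1149) (nat_lit 177) (nat_lit 884) (.node
  (.node (.node .nil (nat_lit 1150) (nat_lit 129) (nat_lit 795) .nil) (nat_lit 1151) (nat_lit 272) (nat_lit
  15) (.node .nil (nat_lit 1152) (nat_lit 257) (nat_lit 787) .nil)) (nat_lit 1153) (nat_lit 288) (nat_lit 488)
  (.node (.node .nil (nat_lit 1154) (nat_lit 288) (nat_lit 324) .nil) (nat_lit 1155) (nat_lit 257) (nat_lit
  782) .nil))) (nat_lit 1156) (nat_lit 352) (nat_lit 1351) (.node (.node (.node (.node .nil (nat_lit 1157)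
  (nat_lit 224) (nat_lit 1491) .nil) (nat_lit 1158) (nat_lit 320) (nat_lit 1233) (.node .nil (nat_lit 1159)
  (nat_lit 304) (nat_lit 1610) .nil)) (nat_lit 1160) (nat_lit 272) (nat_lit 1656) (.node (.node .nil (nat_lit
  1161) (nat_lit 289) (nat_lit 281) .nil) (nat_lit 1162) (nat_lit 304) (nat_lit 110) .nil)) (nat_lit 1163)
  (nat_lit 337) (nat_lit 904) (.node (.node (.node .nil (nat_lit 1164) (nat_lit 241) (nat_lit 896) .nil)
  (nat_lit 1165) (nat_lit 273) (nat_lit 802) (.node .nil (nat_lit 1166) (nat_lit 304) (nat_lit 16) .nil))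
  (nat_lit 1167) (nat_lit 304) (nat_lit 1760) (.node (.node .nil (nat_lit 1168) (nat_lit 320) (nat_lit 1698)
  .nil) (nat_lit 1169) (nat_lit 304) (nat_lit 944) .nil))))) (nat_lit 1170) (nat_lit 257) (nat_lit 628) (.node
  (.node (.node (.node (.node (.node .nil (nat_lit 1171) (nat_lit 224) (nat_lit 1290) .nil) (nat_lit 1172)
  (nat_lit 145) (nat_lit 539) (.node .nil (nat_lit 1173) (nat_lit 304) (nat_lit 1153) .nil)) (nat_lit 1174)
  (nat_lit 288) (nat_lit 1304) (.node (.node .nil (nat_lit 1175) (nat_lit 305) (nat_lit 1661) .nil) (nat_lit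
  1176) (nat_lit 320) (nat_lit 1751) .nil)) (nat_lit 1177) (nat_lit 240) (nat_lit 1585) (.node (.node (.node
  .nil (nat_lit 1178) (nat_lit 288) (nat_lit 1186) .nil) (nat_lit 1179) (nat_lit 305) (nat_lit 1317) (.node
  .nil (nat_lit 1180) (nat_lit 256) (nat_lit 334) .nil)) (nat_lit 1181) (nat_lit 305) (nat_lit 964) (.node
  (.node .nil (nat_lit 1182) (nat_lit 257) (nat_lit 987) .nil) (nat_lit 1183) (nat_lit 289) (nat_lit 1555)
  .nil))) (nat_lit 1184) (nat_lit 209) (nat_lit 770) (.node (.node (.node (.node .nil (nat_lit 1185) (nat_lit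
  241) (nat_lit 794) .nil) (nat_lit 1186) (nat_lit 273) (nat_lit 790) (.node .nil (nat_lit 1187) (nat_lit 176)
  (nat_lit 525) .nil)) (nat_lit 1188) (nat_lit 304) (nat_lit 746) (.node (.node .nil (nat_lit 1189) (nat_lit
  288) (nat_lit 222) .nil) (nat_lit 1190) (nat_lit 304) (nat_lit 1400) .nil)) (nat_lit 1191) (nat_lit 209)
  (nat_lit 1583) (.node (.node (.node .nil (nat_lit 1192) (nat_lit 161) (nat_lit 1475) .nil) (nat_lit 1193)
  (nat_lit 193) (nat_lit 1487) (.node .nil (nat_lit 1194) (nat_lit 0) (nat_lit 1194) .nil)) (nat_lit 1195)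
  (nat_lit 304) (nat_lit 1674) (.node (.node .nil (nat_lit 1196) (nat_lit 145) (nat_lit 1504) .nil) (nat_lit
  1197) (nat_lit 321) (nat_lit 882) .nil)))) (nat_lit 1198) (nat_lit 208) (nat_lit 335) (.node (.node (.node
  (.node (.node .nil (nat_lit 1199) (nat_lit 176) (nat_lit 1364) .nil) (nat_lit 1200) (nat_lit 289) (nat_lit
  863) (.node .nil (nat_lit 1201) (nat_lit 352) (nat_lit 172) .nil)) (nat_lit 1202) (nat_lit 288) (nat_lit
  571) (.node (.node .nil (nat_lit 1203) (nat_lit 209) (nat_lit 921) .nil) (nat_lit 1204) (nat_lit 320)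
  (nat_lit 1217) .nil)) (nat_lit 1205) (nat_lit 320) (nat_lit 1613) (.node (.node (.node .nil (nat_lit 1206)
  (nat_lit 320) (nat_lit 1250) .nil) (nat_lit 1207) (nat_lit 289) (nat_lit 843) (.node .nil (nat_lit 1208)
  (nat_lit 272) (nat_lit 255) .nil)) (nat_lit 1209) (nat_lit 288) (nat_lit 1568) (.node (.node .nil (nat_lit
  1210) (nat_lit 177) (nat_lit 832) .nil) (nat_lit 1211) (nat_lit 257) (nat_lit 956) .nil))) (nat_lit 1212)
  (nat_lit 304) (nat_lit 1558) (.node (.node (.node (.node .nil (nat_lit 1213) (nat_lit 304) (nat_lit 781)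
  .nil) (nat_lit 1214) (nat_lit 241) (nat_lit 578) (.node .nil (nat_lit 1215) (nat_lit 320) (nat_lit 606)
  .nil)) (nat_lit 1216) (nat_lit 192) (nat_lit 83) (.node (.node .nil (nat_lit 1217) (nat_lit 304) (nat_lit
  1200) .nil) (nat_lit 1218) (nat_lit 384) (nat_lit 29) .nil)) (nat_lit 1219) (nat_lit 288) (nat_lit 1709)
  (.node (.node (.node .nil (nat_lit 1220) (nat_lit 353) (nat_lit 1275) .nil) (nat_lit 1221) (nat_lit 225)
  (nat_lit 1485) (.node .nil (nat_lit 1222) (nat_lit 257) (nat_lit 1511) .nil)) (nat_lit 1223) (nat_lit 257)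
  (nat_lit 588) (.node (.node .nil (nat_lit 1224) (nat_lit 256) (nat_lit 71) .nil) (nat_lit 1225) (nat_lit
  353) (nat_lit 1486) .nil))))))
def x50t_11 : T := (.node (.node (.node (.node (.node (.node (.node .nil (nat_lit 1227) (nat_lit 240) (nat_lit
  1573) .nil) (nat_lit 1228) (nat_lit 336) (nat_lit 163) (.node .nil (nat_lit 1229) (nat_lit 240) (nat_lit
  404) .nil)) (nat_lit 1230) (nat_lit 224) (nat_lit 879) (.node (.node .nil (nat_lit 1231) (nat_lit 336)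
  (nat_lit 361) .nil) (nat_lit 1232) (nat_lit 128) (nat_lit 1255) .nil)) (nat_lit 1233) (nat_lit 304) (nat_lit
  1128) (.node (.node (.node .nil (nat_lit 1234) (nat_lit 176) (nat_lit 57) .nil) (nat_lit 1235) (nat_lit 240)
  (nat_lit 1730) (.node .nil (nat_lit 1236) (nat_lit 272) (nat_lit 1336) .nil)) (nat_lit 1237) (nat_lit 272)
  (nat_lit 802) (.node (.node .nil (nat_lit 1238) (nat_lit 305) (nat_lit 1430) .nil) (nat_lit 1239) (nat_lit
  305) (nat_lit 873) .nil))) (nat_lit 1240) (nat_lit 272) (nat_lit 195) (.node (.node (.node (.node .nil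
  (nat_lit 1241) (nat_lit 209) (nat_lit 1494) .nil) (nat_lit 1242) (nat_lit 321) (nat_lit 1387) (.node .nil
  (nat_lit 1243) (nat_lit 305) (nat_lit 1563) .nil)) (nat_lit 1244) (nat_lit 288) (nat_lit 797) (.node (.node
  .nil (nat_lit 1245) (nat_lit 320) (nat_lit 1469) .nil) (nat_lit 1246) (nat_lit 224) (nat_lit 909) .nil))
  (nat_lit 1247) (nat_lit 352) (nat_lit 1664) (.node (.node (.node .nil (nat_lit 1248) (nat_lit 304) (nat_lit
  1544) .nil) (nat_lit 1249) (nat_lit 369) (nat_lit 444) (.node .nil (nat_lit 1250) (nat_lit 305) (nat_lit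
  548) .nil)) (nat_lit 1251) (nat_lit 208) (nat_lit 540) (.node (.node .nil (nat_lit 1252) (nat_lit 289)
  (nat_lit 1463) .nil) (nat_lit 1253) (nat_lit 288) (nat_lit 293) .nil)))) (nat_lit 1254) (nat_lit 320)
  (nat_lit 1238) (.node (.node (.node (.node (.node .nil (nat_lit 1255) (nat_lit 112) (nat_lit 443) .nil)
  (nat_lit 1256) (nat_lit 256) (nat_lit 1658) (.node .nil (nat_lit 1257) (nat_lit 193) (nat_lit 945) .nil))
  (nat_lit 1258) (nat_lit 321) (nat_lit 954) (.node (.node .nil (nat_lit 1259) (nat_lit 256) (nat_lit 1279)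
  .nil) (nat_lit 1260) (nat_lit 177) (nat_lit 577) .nil)) (nat_lit 1261) (nat_lit 336) (nat_lit 1059) (.node
  (.node (.node .nil (nat_lit 1262) (nat_lit 224) (nat_lit 1592) .nil) (nat_lit 1263) (nat_lit 337) (nat_lit
  1429) (.node .nil (nat_lit 1264) (nat_lit 257) (nat_lit 1468) .nil)) (nat_lit 1265) (nat_lit 256) (nat_lit
  1367) (.node (.node .nil (nat_lit 1266) (nat_lit 288) (nat_lit 474) .nil) (nat_lit 1267) (nat_lit 304)
  (nat_lit 254) .nil))) (nat_lit 1268) (nat_lit 321) (nat_lit 479) (.node (.node (.node (.node .nil (nat_lit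
  1269) (nat_lit 352) (nat_lit 240) .nil) (nat_lit 1270) (nat_lit 336) (nat_lit 1467) (.node .nil (nat_lit
  1271) (nat_lit 256) (nat_lit 710) .nil)) (nat_lit 1272) (nat_lit 225) (nat_lit 1143) (.node (.node .nil
  (nat_lit 1273) (nat_lit 273) (nat_lit 778) .nil) (nat_lit 1274) (nat_lit 256) (nat_lit 1735) .nil)) (nat_lit
  1275) (nat_lit 336) (nat_lit 135) (.node (.node (.node .nil (nat_lit 1276) (nat_lit 305) (nat_lit 937) .nil)
  (nat_lit 1277) (nat_lit 208) (nat_lit 1282) (.node .nil (nat_lit 1278) (nat_lit 225) (nat_lit 1051) .nil))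
  (nat_lit 1279) (nat_lit 241) (nat_lit 1005) (.node (.node .nil (nat_lit 1280) (nat_lit 321) (nat_lit 1008)
  .nil) (nat_lit 1281) (nat_lit 272) (nat_lit 1398) .nil))))) (nat_lit 1282) (nat_lit 193) (nat_lit 898)
  (.node (.node (.node (.node (.node (.node .nil (nat_lit 1283) (nat_lit 241) (nat_lit 572) .nil) (nat_lit
  1284) (nat_lit 321) (nat_lit 914) (.node .nil (nat_lit 1285) (nat_lit 272) (nat_lit 517) .nil)) (nat_lit
  1286) (nat_lit 337) (nat_lit 480) (.node (.node .nil (nat_lit 1287) (nat_lit 384) (nat_lit 41) .nil)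
  (nat_lit 1288) (nat_lit 240) (nat_lit 901) .nil)) (nat_lit 1289) (nat_lit 353) (nat_lit 573) (.node (.node
  (.node .nil (nat_lit 1290) (nat_lit 208) (nat_lit 810) .nil) (nat_lit 1291) (nat_lit 288) (nat_lit 297)
  (.node .nil (nat_lit 1292) (nat_lit 144) (nat_lit 828) .nil)) (nat_lit 1293) (nat_lit 337) (nat_lit 433)
  (.node (.node .nil (nat_lit 1294) (nat_lit 385) (nat_lit 541) .nil) (nat_lit 1295) (nat_lit 225) (nat_lit
  422) .nil))) (nat_lit 1296) (nat_lit 304) (nat_lit 1778) (.node (.node (.node (.node .nil (nat_lit 1297)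
  (nat_lit 273) (nat_lit 777) .nil) (nat_lit 1298) (nat_lit 384) (nat_lit 5) (.node .nil (nat_lit 1299)
  (nat_lit 193) (nat_lit 420) .nil)) (nat_lit 1300) (nat_lit 192) (nat_lit 245) (.node (.node .nil (nat_lit
  1301) (nat_lit 305) (nat_lit 912) .nil) (nat_lit 1302) (nat_lit 320) (nat_lit 1097) .nil)) (nat_lit 1303)
  (nat_lit 305) (nat_lit 924) (.node (.node (.node .nil (nat_lit 1304) (nat_lit 273) (nat_lit 933) .nil)
  (nat_lit 1305) (nat_lit 241) (nat_lit 920) (.node .nil (nat_lit 1306) (nat_lit 256) (nat_lit 1353) .nil))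
  (nat_lit 1307) (nat_lit 336) (nat_lit 1450) (.node (.node .nil (nat_lit 1308) (nat_lit 304) (nat_lit 1404)
  .nil) (nat_lit 1309) (nat_lit 320) (nat_lit 949) .nil)))) (nat_lit 1310) (nat_lit 272) (nat_lit 790) (.node
  (.node (.node (.node (.node .nil (nat_lit 1311) (nat_lit 273) (nat_lit 1088) .nil) (nat_lit 1312) (nat_lit
  240) (nat_lit 169) (.node .nil (nat_lit 1313) (nat_lit 289) (nat_lit 1237) .nil)) (nat_lit 1314) (nat_lit
  337) (nat_lit 1176) (.node (.node .nil (nat_lit 1315) (nat_lit 304) (nat_lit 470) .nil) (nat_lit 1316)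
  (nat_lit 272) (nat_lit 460) .nil)) (nat_lit 1317) (nat_lit 288) (nat_lit 1463) (.node (.node (.node .nil
  (nat_lit 1318) (nat_lit 272) (nat_lit 212) .nil) (nat_lit 1319) (nat_lit 272) (nat_lit 1088) (.node .nil
  (nat_lit 1320) (nat_lit 241) (nat_lit 744) .nil)) (nat_lit 1321) (nat_lit 272) (nat_lit 601) (.node (.node
  .nil (nat_lit 1322) (nat_lit 337) (nat_lit 1069) .nil) (nat_lit 1323) (nat_lit 224) (nat_lit 1575) .nil)))
  (nat_lit 1324) (nat_lit 272) (nat_lit 638) (.node (.node (.node (.node .nil (nat_lit 1325) (nat_lit 256)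
  (nat_lit 55) .nil) (nat_lit 1326) (nat_lit 289) (nat_lit 1328) (.node .nil (nat_lit 1327) (nat_lit 225)
  (nat_lit 1354) .nil)) (nat_lit 1328) (nat_lit 272) (nat_lit 1697) (.node (.node .nil (nat_lit 1329) (nat_lit
  304) (nat_lit 1742) .nil) (nat_lit 1330) (nat_lit 336) (nat_lit 424) .nil)) (nat_lit 1331) (nat_lit 305)
  (nat_lit 339) (.node (.node (.node .nil (nat_lit 1332) (nat_lit 208) (nat_lit 926) .nil) (nat_lit 1333)
  (nat_lit 192) (nat_lit 878) .nil) (nat_lit 1334) (nat_lit 240) (nat_lit 794) (.node (.node .nil (nat_lit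
  1335) (nat_lit 240) (nat_lit 649) .nil) (nat_lit 1336) (nat_lit 256) (nat_lit 956) .nil))))))
def x50t_12 : T := (.node (.node (.node (.node (.node (.node (.node .nil (nat_lit 1338) (nat_lit 160) (nat_lit
  835) .nil) (nat_lit 1339) (nat_lit 241) (nat_lit 1343) (.node .nil (nat_lit 1340) (nat_lit 368) (nat_lit
  1013) .nil)) (nat_lit 1341) (nat_lit 272) (nat_lit 30) (.node (.node .nil (nat_lit 1342) (nat_lit 304)
  (nat_lit 1011) .nil) (nat_lit 1343) (nat_lit 224) (nat_lit 126) .nil)) (nat_lit 1344) (nat_lit 352) (nat_lit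
  1089) (.node (.node (.node .nil (nat_lit 1345) (nat_lit 224) (nat_lit 422) .nil) (nat_lit 1346) (nat_lit
  208) (nat_lit 118) (.node .nil (nat_lit 1347) (nat_lit 193) (nat_lit 1020) .nil)) (nat_lit 1348) (nat_lit
  273) (nat_lit 1019) (.node (.node .nil (nat_lit 1349) (nat_lit 353) (nat_lit 1009) .nil) (nat_lit 1350)
  (nat_lit 288) (nat_lit 1002) .nil))) (nat_lit 1351) (nat_lit 337) (nat_lit 1050) (.node (.node (.node (.node
  .nil (nat_lit 1352) (nat_lit 224) (nat_lit 1434) .nil) (nat_lit 1353) (nat_lit 240) (nat_lit 589) (.node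
  .nil (nat_lit 1354) (nat_lit 208) (nat_lit 809) .nil)) (nat_lit 1355) (nat_lit 272) (nat_lit 1480) (.node
  (.node .nil (nat_lit 1356) (nat_lit 289) (nat_lit 482) .nil) (nat_lit 1357) (nat_lit 273) (nat_lit 1306)
  .nil)) (nat_lit 1358) (nat_lit 224) (nat_lit 258) (.node (.node (.node .nil (nat_lit 1359) (nat_lit 240)
  (nat_lit 1006) .nil) (nat_lit 1360) (nat_lit 208) (nat_lit 1759) (.node .nil (nat_lit 1361) (nat_lit 321)
  (nat_lit 748) .nil)) (nat_lit 1362) (nat_lit 288) (nat_lit 1355) (.node (.node .nil (nat_lit 1363) (nat_lit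
  81) (nat_lit 475) .nil) (nat_lit 1364) (nat_lit 160) (nat_lit 663) .nil)))) (nat_lit 1365) (nat_lit 337)
  (nat_lit 449) (.node (.node (.node (.node (.node .nil (nat_lit 1366) (nat_lit 256) (nat_lit 1058) .nil)
  (nat_lit 1367) (nat_lit 240) (nat_lit 130) (.node .nil (nat_lit 1368) (nat_lit 289) (nat_lit 1341) .nil))
  (nat_lit 1369) (nat_lit 272) (nat_lit 1391) (.node (.node .nil (nat_lit 1370) (nat_lit 209) (nat_lit 329)
  .nil) (nat_lit 1371) (nat_lit 368) (nat_lit 1127) .nil)) (nat_lit 1372) (nat_lit 272) (nat_lit 355) (.node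
  (.node (.node .nil (nat_lit 1373) (nat_lit 272) (nat_lit 356) .nil) (nat_lit 1374) (nat_lit 321) (nat_lit
  1308) (.node .nil (nat_lit 1375) (nat_lit 176) (nat_lit 1597) .nil)) (nat_lit 1376) (nat_lit 352) (nat_lit
  530) (.node (.node .nil (nat_lit 1377) (nat_lit 209) (nat_lit 616) .nil) (nat_lit 1378) (nat_lit 289)
  (nat_lit 619) .nil))) (nat_lit 1379) (nat_lit 273) (nat_lit 342) (.node (.node (.node (.node .nil (nat_lit
  1380) (nat_lit 288) (nat_lit 1321) .nil) (nat_lit 1381) (nat_lit 144) (nat_lit 539) (.node .nil (nat_lit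
  1382) (nat_lit 16) (nat_lit 1194) .nil)) (nat_lit 1383) (nat_lit 289) (nat_lit 383) (.node (.node .nil
  (nat_lit 1384) (nat_lit 240) (nat_lit 635) .nil) (nat_lit 1385) (nat_lit 320) (nat_lit 882) .nil)) (nat_lit
  1386) (nat_lit 209) (nat_lit 1216) (.node (.node (.node .nil (nat_lit 1387) (nat_lit 304) (nat_lit 120)
  .nil) (nat_lit 1388) (nat_lit 289) (nat_lit 536) (.node .nil (nat_lit 1389) (nat_lit 337) (nat_lit 969)
  .nil)) (nat_lit 1390) (nat_lit 337) (nat_lit 975) (.node (.node .nil (nat_lit 1391) (nat_lit 256) (nat_lit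
  495) .nil) (nat_lit 1392) (nat_lit 304) (nat_lit 1244) .nil))))) (nat_lit 1393) (nat_lit 273) (nat_lit 953)
  (.node (.node (.node (.node (.node (.node .nil (nat_lit 1394) (nat_lit 224) (nat_lit 1277) .nil) (nat_lit
  1395) (nat_lit 305) (nat_lit 944) (.node .nil (nat_lit 1396) (nat_lit 272) (nat_lit 1145) .nil)) (nat_lit
  1397) (nat_lit 192) (nat_lit 767) (.node (.node .nil (nat_lit 1398) (nat_lit 256) (nat_lit 168) .nil)
  (nat_lit 1399) (nat_lit 288) (nat_lit 1369) .nil)) (nat_lit 1400) (nat_lit 288) (nat_lit 1639) (.node (.node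
  (.node .nil (nat_lit 1401) (nat_lit 273) (nat_lit 788) .nil) (nat_lit 1402) (nat_lit 272) (nat_lit 415)
  (.node .nil (nat_lit 1403) (nat_lit 112) (nat_lit 842) .nil)) (nat_lit 1404) (nat_lit 288) (nat_lit 1496)
  (.node (.node .nil (nat_lit 1405) (nat_lit 161) (nat_lit 967) .nil) (nat_lit 1406) (nat_lit 257) (nat_lit
  580) .nil))) (nat_lit 1407) (nat_lit 320) (nat_lit 104) (.node (.node (.node (.node .nil (nat_lit 1408)
  (nat_lit 208) (nat_lit 206) .nil) (nat_lit 1409) (nat_lit 240) (nat_lit 1691) (.node .nil (nat_lit 1410)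
  (nat_lit 225) (nat_lit 645) .nil)) (nat_lit 1411) (nat_lit 192) (nat_lit 549) (.node (.node .nil (nat_lit
  1412) (nat_lit 288) (nat_lit 735) .nil) (nat_lit 1413) (nat_lit 385) (nat_lit 186) .nil)) (nat_lit 1414)
  (nat_lit 224) (nat_lit 372) (.node (.node (.node .nil (nat_lit 1415) (nat_lit 336) (nat_lit 473) .nil)
  (nat_lit 1416) (nat_lit 272) (nat_lit 1259) (.node .nil (nat_lit 1417) (nat_lit 289) (nat_lit 816) .nil))
  (nat_lit 1418) (nat_lit 208) (nat_lit 1131) (.node (.node .nil (nat_lit 1419) (nat_lit 241) (nat_lit 845)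
  .nil) (nat_lit 1420) (nat_lit 192) (nat_lit 379) .nil)))) (nat_lit 1421) (nat_lit 304) (nat_lit 1380) (.node
  (.node (.node (.node (.node .nil (nat_lit 1422) (nat_lit 320) (nat_lit 412) .nil) (nat_lit 1423) (nat_lit
  321) (nat_lit 844) (.node .nil (nat_lit 1424) (nat_lit 400) (nat_lit 1294) .nil)) (nat_lit 1425) (nat_lit
  224) (nat_lit 154) (.node (.node .nil (nat_lit 1426) (nat_lit 256) (nat_lit 1773) .nil) (nat_lit 1427)
  (nat_lit 240) (nat_lit 66) .nil)) (nat_lit 1428) (nat_lit 145) (nat_lit 828) (.node (.node (.node .nil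
  (nat_lit 1429) (nat_lit 320) (nat_lit 1616) .nil) (nat_lit 1430) (nat_lit 288) (nat_lit 1208) (.node .nil
  (nat_lit 1431) (nat_lit 288) (nat_lit 671) .nil)) (nat_lit 1432) (nat_lit 225) (nat_lit 1592) (.node (.node
  .nil (nat_lit 1433) (nat_lit 241) (nat_lit 234) .nil) (nat_lit 1434) (nat_lit 208) (nat_lit 305) .nil)))
  (nat_lit 1435) (nat_lit 289) (nat_lit 323) (.node (.node (.node (.node .nil (nat_lit 1436) (nat_lit 257)
  (nat_lit 296) .nil) (nat_lit 1437) (nat_lit 273) (nat_lit 734) (.node .nil (nat_lit 1438) (nat_lit 304)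
  (nat_lit 1746) .nil)) (nat_lit 1439) (nat_lit 160) (nat_lit 885) (.node (.node .nil (nat_lit 1440) (nat_lit
  273) (nat_lit 1498) .nil) (nat_lit 1441) (nat_lit 241) (nat_lit 589) .nil)) (nat_lit 1442) (nat_lit 257)
  (nat_lit 1561) (.node (.node (.node .nil (nat_lit 1443) (nat_lit 129) (nat_lit 872) .nil) (nat_lit 1444)
  (nat_lit 192) (nat_lit 77) (.node .nil (nat_lit 1445) (nat_lit 272) (nat_lit 197) .nil)) (nat_lit 1446)
  (nat_lit 177) (nat_lit 1565) (.node (.node .nil (nat_lit 1447) (nat_lit 337) (nat_lit 880) .nil) (nat_lit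
  1448) (nat_lit 304) (nat_lit 405) .nil))))))
def x50t_13 : T := (.node (.node (.node (.node (.node (.node (.node .nil (nat_lit 1450) (nat_lit 320) (nat_lit
  1457) .nil) (nat_lit 1451) (nat_lit 256) (nat_lit 544) (.node .nil (nat_lit 1452) (nat_lit 320) (nat_lit
  575) .nil)) (nat_lit 1453) (nat_lit 257) (nat_lit 506) (.node (.node .nil (nat_lit 1454) (nat_lit 273)
  (nat_lit 919) .nil) (nat_lit 1455) (nat_lit 305) (nat_lit 470) .nil)) (nat_lit 1456) (nat_lit 288) (nat_lit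
  459) (.node (.node (.node .nil (nat_lit 1457) (nat_lit 304) (nat_lit 1588) .nil) (nat_lit 1458) (nat_lit
  336) (nat_lit 693) (.node .nil (nat_lit 1459) (nat_lit 320) (nat_lit 101) .nil)) (nat_lit 1460) (nat_lit
  257) (nat_lit 1177) (.node (.node .nil (nat_lit 1461) (nat_lit 240) (nat_lit 626) .nil) (nat_lit 1462)
  (nat_lit 305) (nat_lit 1608) .nil))) (nat_lit 1463) (nat_lit 272) (nat_lit 50) (.node (.node (.node (.node
  .nil (nat_lit 1464) (nat_lit 241) (nat_lit 537) .nil) (nat_lit 1465) (nat_lit 320) (nat_lit 43) (.node .nil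
  (nat_lit 1466) (nat_lit 272) (nat_lit 1498) .nil)) (nat_lit 1467) (nat_lit 321) (nat_lit 1061) (.node (.node
  .nil (nat_lit 1468) (nat_lit 240) (nat_lit 683) .nil) (nat_lit 1469) (nat_lit 305) (nat_lit 1605) .nil))
  (nat_lit 1470) (nat_lit 273) (nat_lit 1256) (.node (.node (.node .nil (nat_lit 1471) (nat_lit 304) (nat_lit
  504) .nil) (nat_lit 1472) (nat_lit 288) (nat_lit 1521) (.node .nil (nat_lit 1473) (nat_lit 305) (nat_lit
  440) .nil)) (nat_lit 1474) (nat_lit 320) (nat_lit 224) (.node (.node .nil (nat_lit 1475) (nat_lit 144)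
  (nat_lit 1232) .nil) (nat_lit 1476) (nat_lit 224) (nat_lit 742) .nil)))) (nat_lit 1477) (nat_lit 288)
  (nat_lit 1057) (.node (.node (.node (.node (.node .nil (nat_lit 1478) (nat_lit 273) (nat_lit 1123) .nil)
  (nat_lit 1479) (nat_lit 289) (nat_lit 1445) (.node .nil (nat_lit 1480) (nat_lit 257) (nat_lit 710) .nil))
  (nat_lit 1481) (nat_lit 176) (nat_lit 1036) (.node (.node .nil (nat_lit 1482) (nat_lit 304) (nat_lit 1493)
  .nil) (nat_lit 1483) (nat_lit 193) (nat_lit 465) .nil)) (nat_lit 1484) (nat_lit 257) (nat_lit 1640) (.node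
  (.node (.node .nil (nat_lit 1485) (nat_lit 208) (nat_lit 352) .nil) (nat_lit 1486) (nat_lit 336) (nat_lit
  1215) (.node .nil (nat_lit 1487) (nat_lit 176) (nat_lit 1694) .nil)) (nat_lit 1488) (nat_lit 273) (nat_lit
  1224) (.node (.node .nil (nat_lit 1489) (nat_lit 240) (nat_lit 317) .nil) (nat_lit 1490) (nat_lit 321)
  (nat_lit 1076) .nil))) (nat_lit 1491) (nat_lit 209) (nat_lit 1444) (.node (.node (.node (.node .nil (nat_lit
  1492) (nat_lit 128) (nat_lit 855) .nil) (nat_lit 1493) (nat_lit 288) (nat_lit 467) (.node .nil (nat_lit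
  1494) (nat_lit 192) (nat_lit 1375) .nil)) (nat_lit 1495) (nat_lit 304) (nat_lit 1435) (.node (.node .nil
  (nat_lit 1496) (nat_lit 273) (nat_lit 550) .nil) (nat_lit 1497) (nat_lit 288) (nat_lit 1454) .nil)) (nat_lit
  1498) (nat_lit 256) (nat_lit 1214) (.node (.node (.node .nil (nat_lit 1499) (nat_lit 256) (nat_lit 1686)
  .nil) (nat_lit 1500) (nat_lit 368) (nat_lit 1247) (.node .nil (nat_lit 1501) (nat_lit 337) (nat_lit 1045)
  .nil)) (nat_lit 1502) (nat_lit 256) (nat_lit 1464) (.node (.node .nil (nat_lit 1503) (nat_lit 321) (nat_lit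
  1217) .nil) (nat_lit 1504) (nat_lit 128) (nat_lit 294) .nil))))) (nat_lit 1505) (nat_lit 321) (nat_lit 1169)
  (.node (.node (.node (.node (.node (.node .nil (nat_lit 1506) (nat_lit 305) (nat_lit 1266) .nil) (nat_lit
  1507) (nat_lit 256) (nat_lit 452) (.node .nil (nat_lit 1508) (nat_lit 288) (nat_lit 33) .nil)) (nat_lit
  1509) (nat_lit 272) (nat_lit 176) (.node (.node .nil (nat_lit 1510) (nat_lit 241) (nat_lit 1262) .nil)
  (nat_lit 1511) (nat_lit 240) (nat_lit 1394) .nil)) (nat_lit 1512) (nat_lit 288) (nat_lit 627) (.node (.node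
  (.node .nil (nat_lit 1513) (nat_lit 304) (nat_lit 38) .nil) (nat_lit 1514) (nat_lit 368) (nat_lit 320)
  (.node .nil (nat_lit 1515) (nat_lit 241) (nat_lit 66) .nil)) (nat_lit 1516) (nat_lit 224) (nat_lit 1370)
  (.node (.node .nil (nat_lit 1517) (nat_lit 304) (nat_lit 1472) .nil) (nat_lit 1518) (nat_lit 224) (nat_lit
  546) .nil))) (nat_lit 1519) (nat_lit 256) (nat_lit 950) (.node (.node (.node (.node .nil (nat_lit 1520)
  (nat_lit 304) (nat_lit 1388) .nil) (nat_lit 1521) (nat_lit 272) (nat_lit 376) (.node .nil (nat_lit 1522)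
  (nat_lit 193) (nat_lit 1677) .nil)) (nat_lit 1523) (nat_lit 304) (nat_lit 11) (.node (.node .nil (nat_lit
  1524) (nat_lit 224) (nat_lit 1081) .nil) (nat_lit 1525) (nat_lit 272) (nat_lit 1767) .nil)) (nat_lit 1526)
  (nat_lit 241) (nat_lit 169) (.node (.node (.node .nil (nat_lit 1527) (nat_lit 112) (nat_lit 509) .nil)
  (nat_lit 1528) (nat_lit 224) (nat_lit 1743) (.node .nil (nat_lit 1529) (nat_lit 288) (nat_lit 1525) .nil))
  (nat_lit 1530) (nat_lit 369) (nat_lit 598) (.node (.node .nil (nat_lit 1531) (nat_lit 353) (nat_lit 172)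
  .nil) (nat_lit 1532) (nat_lit 352) (nat_lit 1715) .nil)))) (nat_lit 1533) (nat_lit 257) (nat_lit 593) (.node
  (.node (.node (.node (.node .nil (nat_lit 1534) (nat_lit 336) (nat_lit 1138) .nil) (nat_lit 1535) (nat_lit
  321) (nat_lit 175) (.node .nil (nat_lit 1536) (nat_lit 257) (nat_lit 88) .nil)) (nat_lit 1537) (nat_lit 320)
  (nat_lit 1633) (.node (.node .nil (nat_lit 1538) (nat_lit 193) (nat_lit 173) .nil) (nat_lit 1539) (nat_lit
  304) (nat_lit 289) .nil)) (nat_lit 1540) (nat_lit 160) (nat_lit 106) (.node (.node (.node .nil (nat_lit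
  1541) (nat_lit 208) (nat_lit 1642) .nil) (nat_lit 1542) (nat_lit 305) (nat_lit 238) (.node .nil (nat_lit
  1543) (nat_lit 273) (nat_lit 208) .nil)) (nat_lit 1544) (nat_lit 288) (nat_lit 1543) (.node (.node .nil
  (nat_lit 1545) (nat_lit 304) (nat_lit 10) .nil) (nat_lit 1546) (nat_lit 321) (nat_lit 136) .nil))) (nat_lit
  1547) (nat_lit 256) (nat_lit 1762) (.node (.node (.node (.node .nil (nat_lit 1548) (nat_lit 224) (nat_lit
  287) .nil) (nat_lit 1549) (nat_lit 257) (nat_lit 260) (.node .nil (nat_lit 1550) (nat_lit 240) (nat_lit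
  1018) .nil)) (nat_lit 1551) (nat_lit 337) (nat_lit 1158) (.node (.node .nil (nat_lit 1552) (nat_lit 256)
  (nat_lit 1663) .nil) (nat_lit 1553) (nat_lit 241) (nat_lit 1157) .nil)) (nat_lit 1554) (nat_lit 256)
  (nat_lit 409) (.node (.node (.node .nil (nat_lit 1555) (nat_lit 272) (nat_lit 1083) .nil) (nat_lit 1556)
  (nat_lit 256) (nat_lit 52) .nil) (nat_lit 1557) (nat_lit 225) (nat_lit 1096) (.node (.node .nil (nat_lit
  1558) (nat_lit 289) (nat_lit 1151) .nil) (nat_lit 1559) (nat_lit 321) (nat_lit 1173) .nil))))))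
def x50t_14 : T := (.node (.node (.node (.node (.node (.node (.node .nil (nat_lit 1561) (nat_lit 240) (nat_lit
  93) .nil) (nat_lit 1562) (nat_lit 272) (nat_lit 1271) (.node .nil (nat_lit 1563) (nat_lit 288) (nat_lit 561)
  .nil)) (nat_lit 1564) (nat_lit 208) (nat_lit 574) (.node (.node .nil (nat_lit 1565) (nat_lit 160) (nat_lit
  741) .nil) (nat_lit 1566) (nat_lit 225) (nat_lit 1081) .nil)) (nat_lit 1567) (nat_lit 289) (nat_lit 459)
  (.node (.node (.node .nil (nat_lit 1568) (nat_lit 272) (nat_lit 760) .nil) (nat_lit 1569) (nat_lit 240)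
  (nat_lit 858) (.node .nil (nat_lit 1570) (nat_lit 209) (nat_lit 206) .nil)) (nat_lit 1571) (nat_lit 256)
  (nat_lit 262) (.node (.node .nil (nat_lit 1572) (nat_lit 289) (nat_lit 170) .nil) (nat_lit 1573) (nat_lit
  225) (nat_lit 171) .nil))) (nat_lit 1574) (nat_lit 225) (nat_lit 596) (.node (.node (.node (.node .nil
  (nat_lit 1575) (nat_lit 208) (nat_lit 492) .nil) (nat_lit 1576) (nat_lit 305) (nat_lit 261) (.node .nil
  (nat_lit 1577) (nat_lit 257) (nat_lit 262) .nil)) (nat_lit 1578) (nat_lit 272) (nat_lit 999) (.node (.node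
  .nil (nat_lit 1579) (nat_lit 353) (nat_lit 146) .nil) (nat_lit 1580) (nat_lit 209) (nat_lit 244) .nil))
  (nat_lit 1581) (nat_lit 320) (nat_lit 487) (.node (.node (.node .nil (nat_lit 1582) (nat_lit 240) (nat_lit
  1410) .nil) (nat_lit 1583) (nat_lit 192) (nat_lit 511) (.node .nil (nat_lit 1584) (nat_lit 256) (nat_lit
  1359) .nil)) (nat_lit 1585) (nat_lit 225) (nat_lit 1117) (.node (.node .nil (nat_lit 1586) (nat_lit 273)
  (nat_lit 1108) .nil) (nat_lit 1587) (nat_lit 272) (nat_lit 814) .nil)))) (nat_lit 1588) (nat_lit 289)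
  (nat_lit 1240) (.node (.node (.node (.node (.node .nil (nat_lit 1589) (nat_lit 289) (nat_lit 1119) .nil)
  (nat_lit 1590) (nat_lit 64) (nat_lit 853) (.node .nil (nat_lit 1591) (nat_lit 320) (nat_lit 776) .nil))
  (nat_lit 1592) (nat_lit 208) (nat_lit 522) (.node (.node .nil (nat_lit 1593) (nat_lit 176) (nat_lit 1741)
  .nil) (nat_lit 1594) (nat_lit 225) (nat_lit 450) .nil)) (nat_lit 1595) (nat_lit 321) (nat_lit 625) (.node
  (.node (.node .nil (nat_lit 1596) (nat_lit 241) (nat_lit 635) .nil) (nat_lit 1597) (nat_lit 161) (nat_lit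
  535) (.node .nil (nat_lit 1598) (nat_lit 304) (nat_lit 367) .nil)) (nat_lit 1599) (nat_lit 240) (nat_lit
  1662) (.node (.node .nil (nat_lit 1600) (nat_lit 240) (nat_lit 622) .nil) (nat_lit 1601) (nat_lit 224)
  (nat_lit 883) .nil))) (nat_lit 1602) (nat_lit 256) (nat_lit 670) (.node (.node (.node (.node .nil (nat_lit
  1603) (nat_lit 337) (nat_lit 1622) .nil) (nat_lit 1604) (nat_lit 288) (nat_lit 1373) (.node .nil (nat_lit
  1605) (nat_lit 288) (nat_lit 902) .nil)) (nat_lit 1606) (nat_lit 225) (nat_lit 546) (.node (.node .nil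
  (nat_lit 1607) (nat_lit 321) (nat_lit 807) .nil) (nat_lit 1608) (nat_lit 288) (nat_lit 843) .nil)) (nat_lit
  1609) (nat_lit 352) (nat_lit 915) (.node (.node (.node .nil (nat_lit 1610) (nat_lit 289) (nat_lit 1509)
  .nil) (nat_lit 1611) (nat_lit 336) (nat_lit 887) (.node .nil (nat_lit 1612) (nat_lit 288) (nat_lit 1470)
  .nil)) (nat_lit 1613) (nat_lit 304) (nat_lit 713) (.node (.node .nil (nat_lit 1614) (nat_lit 240) (nat_lit
  1323) .nil) (nat_lit 1615) (nat_lit 240) (nat_lit 1432) .nil))))) (nat_lit 1616) (nat_lit 304) (nat_lit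
  1681) (.node (.node (.node (.node (.node (.node .nil (nat_lit 1617) (nat_lit 305) (nat_lit 49) .nil)
  (nat_lit 1618) (nat_lit 288) (nat_lit 1160) (.node .nil (nat_lit 1619) (nat_lit 256) (nat_lit 997) .nil))
  (nat_lit 1620) (nat_lit 337) (nat_lit 1628) (.node (.node .nil (nat_lit 1621) (nat_lit 305) (nat_lit 1604)
  .nil) (nat_lit 1622) (nat_lit 320) (nat_lit 1520) .nil)) (nat_lit 1623) (nat_lit 224) (nat_lit 1191) (.node
  (.node (.node .nil (nat_lit 1624) (nat_lit 257) (nat_lit 1599) .nil) (nat_lit 1625) (nat_lit 320) (nat_lit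
  1188) (.node .nil (nat_lit 1626) (nat_lit 241) (nat_lit 1601) .nil)) (nat_lit 1627) (nat_lit 241) (nat_lit
  1623) (.node (.node .nil (nat_lit 1628) (nat_lit 320) (nat_lit 784) .nil) (nat_lit 1629) (nat_lit 320)
  (nat_lit 454) .nil))) (nat_lit 1630) (nat_lit 208) (nat_lit 1631) (.node (.node (.node (.node .nil (nat_lit
  1631) (nat_lit 192) (nat_lit 1102) .nil) (nat_lit 1632) (nat_lit 161) (nat_lit 298) (.node .nil (nat_lit
  1633) (nat_lit 305) (nat_lit 325) .nil)) (nat_lit 1634) (nat_lit 321) (nat_lit 235) (.node (.node .nil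
  (nat_lit 1635) (nat_lit 273) (nat_lit 886) .nil) (nat_lit 1636) (nat_lit 257) (nat_lit 1489) .nil)) (nat_lit
  1637) (nat_lit 273) (nat_lit 1274) (.node (.node (.node .nil (nat_lit 1638) (nat_lit 288) (nat_lit 1440)
  .nil) (nat_lit 1639) (nat_lit 273) (nat_lit 1271) (.node .nil (nat_lit 1640) (nat_lit 240) (nat_lit 1724)
  .nil)) (nat_lit 1641) (nat_lit 273) (nat_lit 875) (.node (.node .nil (nat_lit 1642) (nat_lit 193) (nat_lit
  1481) .nil) (nat_lit 1643) (nat_lit 272) (nat_lit 928) .nil)))) (nat_lit 1644) (nat_lit 192) (nat_lit 721)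
  (.node (.node (.node (.node (.node .nil (nat_lit 1645) (nat_lit 240) (nat_lit 1126) .nil) (nat_lit 1646)
  (nat_lit 289) (nat_lit 627) (.node .nil (nat_lit 1647) (nat_lit 337) (nat_lit 1671) .nil)) (nat_lit 1648)
  (nat_lit 160) (nat_lit 1172) (.node (.node .nil (nat_lit 1649) (nat_lit 160) (nat_lit 515) .nil) (nat_lit
  1650) (nat_lit 336) (nat_lit 1559) .nil)) (nat_lit 1651) (nat_lit 304) (nat_lit 277) (.node (.node (.node
  .nil (nat_lit 1652) (nat_lit 240) (nat_lit 1548) .nil) (nat_lit 1653) (nat_lit 273) (nat_lit 255) (.node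
  .nil (nat_lit 1654) (nat_lit 320) (nat_lit 1175) .nil)) (nat_lit 1655) (nat_lit 224) (nat_lit 3) (.node
  (.node .nil (nat_lit 1656) (nat_lit 257) (nat_lit 52) .nil) (nat_lit 1657) (nat_lit 305) (nat_lit 128)
  .nil))) (nat_lit 1658) (nat_lit 240) (nat_lit 757) (.node (.node (.node (.node .nil (nat_lit 1659) (nat_lit
  208) (nat_lit 922) .nil) (nat_lit 1660) (nat_lit 256) (nat_lit 177) (.node .nil (nat_lit 1661) (nat_lit 288)
  (nat_lit 682) .nil)) (nat_lit 1662) (nat_lit 225) (nat_lit 364) (.node (.node .nil (nat_lit 1663) (nat_lit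
  241) (nat_lit 1171) .nil) (nat_lit 1664) (nat_lit 337) (nat_lit 362) .nil)) (nat_lit 1665) (nat_lit 305)
  (nat_lit 272) (.node (.node (.node .nil (nat_lit 1666) (nat_lit 320) (nat_lit 337) .nil) (nat_lit 1667)
  (nat_lit 161) (nat_lit 284) .nil) (nat_lit 1668) (nat_lit 257) (nat_lit 358) (.node (.node .nil (nat_lit
  1669) (nat_lit 321) (nat_lit 1517) .nil) (nat_lit 1670) (nat_lit 368) (nat_lit 726) .nil))))))
def x50t_15 : T := (.node (.node (.node (.node (.node (.node (.node .nil (nat_lit 1672) (nat_lit 289) (nat_lit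
  1160) .nil) (nat_lit 1673) (nat_lit 177) (nat_lit 1649) (.node .nil (nat_lit 1674) (nat_lit 288) (nat_lit
  708) .nil)) (nat_lit 1675) (nat_lit 288) (nat_lit 1078) (.node (.node .nil (nat_lit 1676) (nat_lit 336)
  (nat_lit 993) .nil) (nat_lit 1677) (nat_lit 176) (nat_lit 343) .nil)) (nat_lit 1678) (nat_lit 305) (nat_lit
  1674) (.node (.node (.node .nil (nat_lit 1679) (nat_lit 256) (nat_lit 116) .nil) (nat_lit 1680) (nat_lit
  337) (nat_lit 359) (.node .nil (nat_lit 1681) (nat_lit 289) (nat_lit 297) .nil)) (nat_lit 1682) (nat_lit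
  256) (nat_lit 1515) (.node (.node .nil (nat_lit 1683) (nat_lit 304) (nat_lit 49) .nil) (nat_lit 1684)
  (nat_lit 224) (nat_lit 1630) .nil))) (nat_lit 1685) (nat_lit 208) (nat_lit 584) (.node (.node (.node (.node
  .nil (nat_lit 1686) (nat_lit 241) (nat_lit 28) .nil) (nat_lit 1687) (nat_lit 272) (nat_lit 1624) (.node .nil
  (nat_lit 1688) (nat_lit 289) (nat_lit 33) .nil)) (nat_lit 1689) (nat_lit 336) (nat_lit 1535) (.node (.node
  .nil (nat_lit 1690) (nat_lit 192) (nat_lit 288) .nil) (nat_lit 1691) (nat_lit 225) (nat_lit 129) .nil))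
  (nat_lit 1692) (nat_lit 320) (nat_lit 1248) (.node (.node (.node .nil (nat_lit 1693) (nat_lit 321) (nat_lit
  87) .nil) (nat_lit 1694) (nat_lit 160) (nat_lit 76) (.node .nil (nat_lit 1695) (nat_lit 209) (nat_lit 486)
  .nil)) (nat_lit 1696) (nat_lit 192) (nat_lit 1593) (.node (.node .nil (nat_lit 1697) (nat_lit 256) (nat_lit
  1468) .nil) (nat_lit 1698) (nat_lit 305) (nat_lit 199) .nil)))) (nat_lit 1699) (nat_lit 273) (nat_lit 178)
  (.node (.node (.node (.node (.node .nil (nat_lit 1700) (nat_lit 320) (nat_lit 1159) .nil) (nat_lit 1701)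
  (nat_lit 321) (nat_lit 92) (.node .nil (nat_lit 1702) (nat_lit 288) (nat_lit 1774) .nil)) (nat_lit 1703)
  (nat_lit 97) (nat_lit 152) (.node (.node .nil (nat_lit 1704) (nat_lit 305) (nat_lit 500) .nil) (nat_lit
  1705) (nat_lit 272) (nat_lit 1451) .nil)) (nat_lit 1706) (nat_lit 289) (nat_lit 187) (.node (.node (.node
  .nil (nat_lit 1707) (nat_lit 80) (nat_lit 475) .nil) (nat_lit 1708) (nat_lit 304) (nat_lit 140) (.node .nil
  (nat_lit 1709) (nat_lit 273) (nat_lit 189) .nil)) (nat_lit 1710) (nat_lit 240) (nat_lit 1414) (.node (.node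
  .nil (nat_lit 1711) (nat_lit 320) (nat_lit 1074) .nil) (nat_lit 1712) (nat_lit 161) (nat_lit 106) .nil)))
  (nat_lit 1713) (nat_lit 209) (nat_lit 252) (.node (.node (.node (.node .nil (nat_lit 1714) (nat_lit 320)
  (nat_lit 280) .nil) (nat_lit 1715) (nat_lit 337) (nat_lit 163) (.node .nil (nat_lit 1716) (nat_lit 321)
  (nat_lit 196) .nil)) (nat_lit 1717) (nat_lit 176) (nat_lit 706) (.node (.node .nil (nat_lit 1718) (nat_lit
  128) (nat_lit 531) .nil) (nat_lit 1719) (nat_lit 176) (nat_lit 1667) .nil)) (nat_lit 1720) (nat_lit 384)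
  (nat_lit 893) (.node (.node (.node .nil (nat_lit 1721) (nat_lit 337) (nat_lit 496) .nil) (nat_lit 1722)
  (nat_lit 192) (nat_lit 945) (.node .nil (nat_lit 1723) (nat_lit 161) (nat_lit 497) .nil)) (nat_lit 1724)
  (nat_lit 224) (nat_lit 251) (.node (.node .nil (nat_lit 1725) (nat_lit 305) (nat_lit 107) .nil) (nat_lit
  1726) (nat_lit 336) (nat_lit 1452) .nil))))) (nat_lit 1727) (nat_lit 241) (nat_lit 181) (.node (.node (.node
  (.node (.node (.node .nil (nat_lit 1728) (nat_lit 257) (nat_lit 491) .nil) (nat_lit 1729) (nat_lit 288)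
  (nat_lit 478) (.node .nil (nat_lit 1730) (nat_lit 224) (nat_lit 1241) .nil)) (nat_lit 1731) (nat_lit 192)
  (nat_lit 1054) (.node (.node .nil (nat_lit 1732) (nat_lit 256) (nat_lit 1627) .nil) (nat_lit 1733) (nat_lit
  160) (nat_lit 1772) .nil)) (nat_lit 1734) (nat_lit 241) (nat_lit 757) (.node (.node (.node .nil (nat_lit
  1735) (nat_lit 241) (nat_lit 447) .nil) (nat_lit 1736) (nat_lit 257) (nat_lit 436) (.node .nil (nat_lit
  1737) (nat_lit 240) (nat_lit 1080) .nil)) (nat_lit 1738) (nat_lit 336) (nat_lit 1701) (.node (.node .nil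
  (nat_lit 1739) (nat_lit 304) (nat_lit 1646) .nil) (nat_lit 1740) (nat_lit 321) (nat_lit 753) .nil)))
  (nat_lit 1741) (nat_lit 161) (nat_lit 741) (.node (.node (.node (.node .nil (nat_lit 1742) (nat_lit 288)
  (nat_lit 724) .nil) (nat_lit 1743) (nat_lit 209) (nat_lit 380) (.node .nil (nat_lit 1744) (nat_lit 304)
  (nat_lit 1675) .nil)) (nat_lit 1745) (nat_lit 288) (nat_lit 65) (.node (.node .nil (nat_lit 1746) (nat_lit
  289) (nat_lit 248) .nil) (nat_lit 1747) (nat_lit 240) (nat_lit 286) .nil)) (nat_lit 1748) (nat_lit 145)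
  (nat_lit 375) (.node (.node (.node .nil (nat_lit 1749) (nat_lit 160) (nat_lit 1196) .nil) (nat_lit 1750)
  (nat_lit 272) (nat_lit 90) (.node .nil (nat_lit 1751) (nat_lit 305) (nat_lit 134) .nil)) (nat_lit 1752)
  (nat_lit 80) (nat_lit 220) (.node (.node .nil (nat_lit 1753) (nat_lit 240) (nat_lit 411) .nil) (nat_lit
  1754) (nat_lit 273) (nat_lit 197) .nil)))) (nat_lit 1755) (nat_lit 288) (nat_lit 1113) (.node (.node (.node
  (.node (.node .nil (nat_lit 1756) (nat_lit 224) (nat_lit 1073) .nil) (nat_lit 1757) (nat_lit 353) (nat_lit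
  179) (.node .nil (nat_lit 1758) (nat_lit 224) (nat_lit 228) .nil)) (nat_lit 1759) (nat_lit 193) (nat_lit
  379) (.node (.node .nil (nat_lit 1760) (nat_lit 289) (nat_lit 249) .nil) (nat_lit 1761) (nat_lit 336)
  (nat_lit 477) .nil)) (nat_lit 1762) (nat_lit 241) (nat_lit 200) (.node (.node (.node .nil (nat_lit 1763)
  (nat_lit 257) (nat_lit 133) .nil) (nat_lit 1764) (nat_lit 320) (nat_lit 1545) (.node .nil (nat_lit 1765)
  (nat_lit 336) (nat_lit 438) .nil)) (nat_lit 1766) (nat_lit 288) (nat_lit 1010) (.node (.node .nil (nat_lit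
  1767) (nat_lit 256) (nat_lit 143) .nil) (nat_lit 1768) (nat_lit 304) (nat_lit 581) .nil))) (nat_lit 1769)
  (nat_lit 256) (nat_lit 1441) (.node (.node (.node (.node .nil (nat_lit 1770) (nat_lit 161) (nat_lit 502)
  .nil) (nat_lit 1771) (nat_lit 352) (nat_lit 373) (.node .nil (nat_lit 1772) (nat_lit 144) (nat_lit 1106)
  .nil)) (nat_lit 1773) (nat_lit 241) (nat_lit 374) (.node (.node .nil (nat_lit 1774) (nat_lit 272) (nat_lit
  315) .nil) (nat_lit 1775) (nat_lit 176) (nat_lit 1405) .nil)) (nat_lit 1776) (nat_lit 337) (nat_lit 144)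
  (.node (.node (.node .nil (nat_lit 1777) (nat_lit 304) (nat_lit 198) .nil) (nat_lit 1778) (nat_lit 289)
  (nat_lit 467) .nil) (nat_lit 1779) (nat_lit 320) (nat_lit 1725) (.node (.node .nil (nat_lit 1780) (nat_lit
  208) (nat_lit 1538) .nil) (nat_lit 1781) (nat_lit 240) (nat_lit 1425) .nil))))))
def x50t : T := (.node (.node (.node (.node x50t_0 (nat_lit 111) (nat_lit 336) (nat_lit 125) x50t_1) (nat_lit
  222) (nat_lit 273) (nat_lit 559) (.node x50t_2 (nat_lit 334) (nat_lit 241) (nat_lit 1323) x50t_3)) (nat_lit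
  445) (nat_lit 320) (nat_lit 1539) (.node (.node x50t_4 (nat_lit 557) (nat_lit 257) (nat_lit 211) x50t_5)
  (nat_lit 668) (nat_lit 352) (nat_lit 1000) (.node x50t_6 (nat_lit 780) (nat_lit 112) (nat_lit 1093)
  x50t_7))) (nat_lit 891) (nat_lit 304) (nat_lit 1688) (.node (.node (.node x50t_8 (nat_lit 1003) (nat_lit
  176) (nat_lit 1565) x50t_9) (nat_lit 1114) (nat_lit 320) (nat_lit 1392) (.node x50t_10 (nat_lit 1226)
  (nat_lit 65) (nat_lit 853) x50t_11)) (nat_lit 1337) (nat_lit 209) (nat_lit 153) (.node (.node x50t_12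
  (nat_lit 1449) (nat_lit 192) (nat_lit 792) x50t_13) (nat_lit 1560) (nat_lit 240) (nat_lit 959) (.node
  x50t_14 (nat_lit 1671) (nat_lit 320) (nat_lit 1657) x50t_15))))
def x50 : Lvl := ⟨nat_lit 1194, [nat_lit 5, nat_lit 14], [], x50t⟩
def x51t_0 : T := (.node (.node (.node (.node (.node (.node (.node .nil (nat_lit 5) (nat_lit 129) (nat_lit
  1574) .nil) (nat_lit 12) (nat_lit 129) (nat_lit 450) (.node .nil (nat_lit 13) (nat_lit 145) (nat_lit 1596)
  .nil)) (nat_lit 14) (nat_lit 112) (nat_lit 475) (.node (.node .nil (nat_lit 18) (nat_lit 97) (nat_lit 392)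
  .nil) (nat_lit 20) (nat_lit 144) (nat_lit 28) .nil)) (nat_lit 21) (nat_lit 97) (nat_lit 714) (.node (.node
  (.node .nil (nat_lit 28) (nat_lit 129) (nat_lit 583) .nil) (nat_lit 31) (nat_lit 65) (nat_lit 344) (.node
  .nil (nat_lit 37) (nat_lit 129) (nat_lit 1202) .nil)) (nat_lit 39) (nat_lit 129) (nat_lit 814) (.node (.node
  .nil (nat_lit 40) (nat_lit 112) (nat_lit 1091) .nil) (nat_lit 44) (nat_lit 64) (nat_lit 131) .nil)))
  (nat_lit 48) (nat_lit 113) (nat_lit 410) (.node (.node (.node (.node .nil (nat_lit 65) (nat_lit 96) (nat_lit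
  251) .nil) (nat_lit 67) (nat_lit 129) (nat_lit 1617) (.node .nil (nat_lit 73) (nat_lit 113) (nat_lit 705)
  .nil)) (nat_lit 77) (nat_lit 96) (nat_lit 1097) (.node (.node .nil (nat_lit 79) (nat_lit 144) (nat_lit 1074)
  .nil) (nat_lit 87) (nat_lit 160) (nat_lit 1410) .nil)) (nat_lit 92) (nat_lit 160) (nat_lit 494) (.node
  (.node (.node .nil (nat_lit 96) (nat_lit 113) (nat_lit 754) .nil) (nat_lit 108) (nat_lit 128) (nat_lit 469)
  .nil) (nat_lit 110) (nat_lit 129) (nat_lit 1724) (.node (.node .nil (nat_lit 111) (nat_lit 96) (nat_lit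
  1179) .nil) (nat_lit 112) (nat_lit 144) (nat_lit 1333) .nil)))) (nat_lit 121) (nat_lit 129) (nat_lit 369)
  (.node (.node (.node (.node (.node .nil (nat_lit 122) (nat_lit 129) (nat_lit 469) .nil) (nat_lit 128)
  (nat_lit 145) (nat_lit 1100) (.node .nil (nat_lit 131) (nat_lit 48) (nat_lit 731) .nil)) (nat_lit 133)
  (nat_lit 144) (nat_lit 186) (.node (.node .nil (nat_lit 136) (nat_lit 128) (nat_lit 272) .nil) (nat_lit 139)
  (nat_lit 97) (nat_lit 476) .nil)) (nat_lit 145) (nat_lit 160) (nat_lit 1560) (.node (.node (.node .nil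
  (nat_lit 150) (nat_lit 64) (nat_lit 172) .nil) (nat_lit 155) (nat_lit 112) (nat_lit 1290) .nil) (nat_lit
  157) (nat_lit 97) (nat_lit 1130) (.node (.node .nil (nat_lit 160) (nat_lit 145) (nat_lit 226) .nil) (nat_lit
  161) (nat_lit 145) (nat_lit 949) .nil))) (nat_lit 167) (nat_lit 128) (nat_lit 912) (.node (.node (.node
  (.node .nil (nat_lit 172) (nat_lit 48) (nat_lit 1086) .nil) (nat_lit 174) (nat_lit 144) (nat_lit 1000)
  (.node .nil (nat_lit 179) (nat_lit 64) (nat_lit 364) .nil)) (nat_lit 186) (nat_lit 128) (nat_lit 815) (.node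
  (.node .nil (nat_lit 188) (nat_lit 145) (nat_lit 1172) .nil) (nat_lit 191) (nat_lit 80) (nat_lit 1454)
  .nil)) (nat_lit 196) (nat_lit 112) (nat_lit 1066) (.node (.node (.node .nil (nat_lit 197) (nat_lit 144)
  (nat_lit 1173) .nil) (nat_lit 212) (nat_lit 112) (nat_lit 157) .nil) (nat_lit 213) (nat_lit 128) (nat_lit
  1240) (.node (.node .nil (nat_lit 214) (nat_lit 128) (nat_lit 794) .nil) (nat_lit 215) (nat_lit 65) (nat_lit
  131) .nil))))) (nat_lit 217) (nat_lit 128) (nat_lit 1529) (.node (.node (.node (.node (.node (.node .nil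
  (nat_lit 226) (nat_lit 128) (nat_lit 814) .nil) (nat_lit 228) (nat_lit 160) (nat_lit 160) (.node .nil
  (nat_lit 238) (nat_lit 128) (nat_lit 994) .nil)) (nat_lit 240) (nat_lit 113) (nat_lit 1153) (.node (.node
  .nil (nat_lit 245) (nat_lit 113) (nat_lit 1518) .nil) (nat_lit 251) (nat_lit 81) (nat_lit 1190) .nil))
  (nat_lit 253) (nat_lit 145) (nat_lit 691) (.node (.node (.node .nil (nat_lit 263) (nat_lit 112) (nat_lit
  1264) .nil) (nat_lit 266) (nat_lit 113) (nat_lit 941) .nil) (nat_lit 271) (nat_lit 65) (nat_lit 1291) (.node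
  (.node .nil (nat_lit 272) (nat_lit 113) (nat_lit 139) .nil) (nat_lit 273) (nat_lit 80) (nat_lit 1144)
  .nil))) (nat_lit 277) (nat_lit 144) (nat_lit 352) (.node (.node (.node (.node .nil (nat_lit 297) (nat_lit
  129) (nat_lit 550) .nil) (nat_lit 298) (nat_lit 128) (nat_lit 1470) (.node .nil (nat_lit 303) (nat_lit 128)
  (nat_lit 339) .nil)) (nat_lit 307) (nat_lit 145) (nat_lit 167) (.node (.node .nil (nat_lit 308) (nat_lit
  145) (nat_lit 37) .nil) (nat_lit 309) (nat_lit 129) (nat_lit 245) .nil)) (nat_lit 318) (nat_lit 80) (nat_lit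
  179) (.node (.node (.node .nil (nat_lit 323) (nat_lit 128) (nat_lit 1621) .nil) (nat_lit 331) (nat_lit 96)
  (nat_lit 950) .nil) (nat_lit 339) (nat_lit 113) (nat_lit 1264) (.node (.node .nil (nat_lit 344) (nat_lit 48)
  (nat_lit 669) .nil) (nat_lit 349) (nat_lit 177) (nat_lit 92) .nil)))) (nat_lit 352) (nat_lit 128) (nat_lit
  1750) (.node (.node (.node (.node (.node .nil (nat_lit 353) (nat_lit 129) (nat_lit 1157) .nil) (nat_lit 355)
  (nat_lit 113) (nat_lit 1653) (.node .nil (nat_lit 363) (nat_lit 144) (nat_lit 688) .nil)) (nat_lit 364)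
  (nat_lit 49) (nat_lit 1086) (.node (.node .nil (nat_lit 368) (nat_lit 160) (nat_lit 174) .nil) (nat_lit 369)
  (nat_lit 112) (nat_lit 1332) .nil)) (nat_lit 372) (nat_lit 112) (nat_lit 1153) (.node (.node (.node .nil
  (nat_lit 373) (nat_lit 96) (nat_lit 1211) .nil) (nat_lit 375) (nat_lit 81) (nat_lit 1440) .nil) (nat_lit
  384) (nat_lit 96) (nat_lit 714) (.node (.node .nil (nat_lit 386) (nat_lit 129) (nat_lit 1534) .nil) (nat_lit
  389) (nat_lit 161) (nat_lit 684) .nil))) (nat_lit 392) (nat_lit 80) (nat_lit 1190) (.node (.node (.node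
  (.node .nil (nat_lit 394) (nat_lit 113) (nat_lit 373) .nil) (nat_lit 395) (nat_lit 129) (nat_lit 1059)
  (.node .nil (nat_lit 408) (nat_lit 160) (nat_lit 1462) .nil)) (nat_lit 410) (nat_lit 96) (nat_lit 752)
  (.node (.node .nil (nat_lit 415) (nat_lit 128) (nat_lit 1010) .nil) (nat_lit 417) (nat_lit 145) (nat_lit
  1319) .nil)) (nat_lit 427) (nat_lit 145) (nat_lit 1028) (.node (.node (.node .nil (nat_lit 431) (nat_lit
  161) (nat_lit 133) .nil) (nat_lit 433) (nat_lit 128) (nat_lit 73) .nil) (nat_lit 439) (nat_lit 161) (nat_lit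
  1590) (.node (.node .nil (nat_lit 447) (nat_lit 160) (nat_lit 977) .nil) (nat_lit 450) (nat_lit 113)
  (nat_lit 1290) .nil))))))
def x51t_1 : T := (.node (.node (.node (.node (.node (.node (.node .nil (nat_lit 469) (nat_lit 113) (nat_lit
  1539) .nil) (nat_lit 471) (nat_lit 112) (nat_lit 741) (.node .nil (nat_lit 475) (nat_lit 96) (nat_lit 507)
  .nil)) (nat_lit 476) (nat_lit 81) (nat_lit 740) (.node (.node .nil (nat_lit 482) (nat_lit 17) (nat_lit 1382)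
  .nil) (nat_lit 485) (nat_lit 97) (nat_lit 950) .nil)) (nat_lit 488) (nat_lit 129) (nat_lit 196) (.node
  (.node (.node .nil (nat_lit 493) (nat_lit 145) (nat_lit 108) .nil) (nat_lit 494) (nat_lit 145) (nat_lit 662)
  .nil) (nat_lit 501) (nat_lit 97) (nat_lit 860) (.node (.node .nil (nat_lit 503) (nat_lit 128) (nat_lit 1202)
  .nil) (nat_lit 504) (nat_lit 113) (nat_lit 1066) .nil))) (nat_lit 507) (nat_lit 81) (nat_lit 271) (.node
  (.node (.node (.node .nil (nat_lit 510) (nat_lit 129) (nat_lit 811) .nil) (nat_lit 516) (nat_lit 112)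
  (nat_lit 1740) (.node .nil (nat_lit 525) (nat_lit 113) (nat_lit 475) .nil)) (nat_lit 530) (nat_lit 96)
  (nat_lit 375) (.node (.node .nil (nat_lit 533) (nat_lit 145) (nat_lit 694) .nil) (nat_lit 538) (nat_lit 145)
  (nat_lit 1742) .nil)) (nat_lit 540) (nat_lit 145) (nat_lit 136) (.node (.node (.node .nil (nat_lit 542)
  (nat_lit 128) (nat_lit 1534) .nil) (nat_lit 545) (nat_lit 97) (nat_lit 1565) .nil) (nat_lit 547) (nat_lit
  145) (nat_lit 986) (.node (.node .nil (nat_lit 550) (nat_lit 113) (nat_lit 21) .nil) (nat_lit 558) (nat_lit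
  112) (nat_lit 1564) .nil)))) (nat_lit 563) (nat_lit 129) (nat_lit 394) (.node (.node (.node (.node (.node
  .nil (nat_lit 565) (nat_lit 81) (nat_lit 1454) .nil) (nat_lit 569) (nat_lit 145) (nat_lit 688) (.node .nil
  (nat_lit 570) (nat_lit 145) (nat_lit 873) .nil)) (nat_lit 581) (nat_lit 161) (nat_lit 1152) (.node (.node
  .nil (nat_lit 583) (nat_lit 113) (nat_lit 501) .nil) (nat_lit 585) (nat_lit 128) (nat_lit 1498) .nil))
  (nat_lit 596) (nat_lit 129) (nat_lit 1303) (.node (.node (.node .nil (nat_lit 606) (nat_lit 144) (nat_lit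
  297) .nil) (nat_lit 610) (nat_lit 128) (nat_lit 702) .nil) (nat_lit 612) (nat_lit 80) (nat_lit 1767) (.node
  (.node .nil (nat_lit 613) (nat_lit 112) (nat_lit 384) .nil) (nat_lit 615) (nat_lit 128) (nat_lit 1605)
  .nil))) (nat_lit 618) (nat_lit 128) (nat_lit 355) (.node (.node (.node (.node .nil (nat_lit 623) (nat_lit
  144) (nat_lit 743) .nil) (nat_lit 627) (nat_lit 112) (nat_lit 139) (.node .nil (nat_lit 628) (nat_lit 145)
  (nat_lit 542) .nil)) (nat_lit 629) (nat_lit 144) (nat_lit 433) (.node (.node .nil (nat_lit 631) (nat_lit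
  128) (nat_lit 1002) .nil) (nat_lit 649) (nat_lit 113) (nat_lit 1501) .nil)) (nat_lit 653) (nat_lit 112)
  (nat_lit 1542) (.node (.node (.node .nil (nat_lit 655) (nat_lit 128) (nat_lit 1724) .nil) (nat_lit 662)
  (nat_lit 128) (nat_lit 1099) .nil) (nat_lit 667) (nat_lit 145) (nat_lit 415) (.node (.node .nil (nat_lit
  668) (nat_lit 144) (nat_lit 37) .nil) (nat_lit 669) (nat_lit 32) (nat_lit 1674) .nil))))) (nat_lit 684)
  (nat_lit 144) (nat_lit 1464) (.node (.node (.node (.node (.node (.node .nil (nat_lit 686) (nat_lit 112)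
  (nat_lit 1718) .nil) (nat_lit 688) (nat_lit 128) (nat_lit 1685) (.node .nil (nat_lit 690) (nat_lit 161)
  (nat_lit 915) .nil)) (nat_lit 691) (nat_lit 128) (nat_lit 266) (.node (.node .nil (nat_lit 694) (nat_lit
  129) (nat_lit 649) .nil) (nat_lit 696) (nat_lit 160) (nat_lit 700) .nil)) (nat_lit 699) (nat_lit 129)
  (nat_lit 653) (.node (.node (.node .nil (nat_lit 700) (nat_lit 145) (nat_lit 881) .nil) (nat_lit 702)
  (nat_lit 113) (nat_lit 545) .nil) (nat_lit 705) (nat_lit 97) (nat_lit 612) (.node (.node .nil (nat_lit 712)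
  (nat_lit 144) (nat_lit 415) .nil) (nat_lit 714) (nat_lit 80) (nat_lit 1133) .nil))) (nat_lit 724) (nat_lit
  128) (nat_lit 212) (.node (.node (.node (.node .nil (nat_lit 729) (nat_lit 128) (nat_lit 1059) .nil)
  (nat_lit 730) (nat_lit 145) (nat_lit 974) (.node .nil (nat_lit 731) (nat_lit 33) (nat_lit 1674) .nil))
  (nat_lit 739) (nat_lit 97) (nat_lit 1426) (.node (.node .nil (nat_lit 740) (nat_lit 65) (nat_lit 998) .nil)
  (nat_lit 741) (nat_lit 97) (nat_lit 1466) .nil)) (nat_lit 743) (nat_lit 129) (nat_lit 1342) (.node (.node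
  (.node .nil (nat_lit 752) (nat_lit 80) (nat_lit 1440) .nil) (nat_lit 754) (nat_lit 96) (nat_lit 860) .nil)
  (nat_lit 758) (nat_lit 144) (nat_lit 67) (.node (.node .nil (nat_lit 771) (nat_lit 80) (nat_lit 271) .nil)
  (nat_lit 773) (nat_lit 145) (nat_lit 939) .nil)))) (nat_lit 777) (nat_lit 128) (nat_lit 240) (.node (.node
  (.node (.node (.node .nil (nat_lit 791) (nat_lit 113) (nat_lit 1564) .nil) (nat_lit 794) (nat_lit 113)
  (nat_lit 1270) (.node .nil (nat_lit 808) (nat_lit 81) (nat_lit 1144) .nil)) (nat_lit 811) (nat_lit 112)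
  (nat_lit 1539) (.node (.node .nil (nat_lit 814) (nat_lit 112) (nat_lit 1737) .nil) (nat_lit 815) (nat_lit
  112) (nat_lit 1217) .nil)) (nat_lit 819) (nat_lit 128) (nat_lit 558) (.node (.node (.node .nil (nat_lit 824)
  (nat_lit 128) (nat_lit 369) .nil) (nat_lit 839) (nat_lit 32) (nat_lit 482) .nil) (nat_lit 843) (nat_lit 145)
  (nat_lit 1613) (.node (.node .nil (nat_lit 860) (nat_lit 80) (nat_lit 1756) .nil) (nat_lit 864) (nat_lit
  145) (nat_lit 1165) .nil))) (nat_lit 868) (nat_lit 129) (nat_lit 815) (.node (.node (.node (.node .nil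
  (nat_lit 873) (nat_lit 128) (nat_lit 583) .nil) (nat_lit 877) (nat_lit 161) (nat_lit 667) (.node .nil
  (nat_lit 880) (nat_lit 145) (nat_lit 510) .nil)) (nat_lit 881) (nat_lit 129) (nat_lit 1060) (.node (.node
  .nil (nat_lit 892) (nat_lit 145) (nat_lit 699) .nil) (nat_lit 894) (nat_lit 96) (nat_lit 771) .nil))
  (nat_lit 898) (nat_lit 81) (nat_lit 44) (.node (.node (.node .nil (nat_lit 901) (nat_lit 128) (nat_lit 48)
  .nil) (nat_lit 902) (nat_lit 145) (nat_lit 1333) .nil) (nat_lit 909) (nat_lit 161) (nat_lit 712) (.node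
  (.node .nil (nat_lit 912) (nat_lit 112) (nat_lit 705) .nil) (nat_lit 915) (nat_lit 145) (nat_lit 1250)
  .nil))))))
def x51t_2 : T := (.node (.node (.node (.node (.node (.node (.node .nil (nat_lit 928) (nat_lit 145) (nat_lit
  954) .nil) (nat_lit 929) (nat_lit 145) (nat_lit 942) (.node .nil (nat_lit 931) (nat_lit 128) (nat_lit 155)
  .nil)) (nat_lit 939) (nat_lit 129) (nat_lit 272) (.node (.node .nil (nat_lit 941) (nat_lit 96) (nat_lit 191)
  .nil) (nat_lit 942) (nat_lit 129) (nat_lit 1213) .nil)) (nat_lit 948) (nat_lit 128) (nat_lit 1303) (.node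
  (.node (.node .nil (nat_lit 949) (nat_lit 128) (nat_lit 1397) .nil) (nat_lit 950) (nat_lit 81) (nat_lit 215)
  .nil) (nat_lit 952) (nat_lit 129) (nat_lit 1240) (.node (.node .nil (nat_lit 954) (nat_lit 128) (nat_lit
  627) .nil) (nat_lit 957) (nat_lit 81) (nat_lit 179) .nil))) (nat_lit 958) (nat_lit 144) (nat_lit 655) (.node
  (.node (.node (.node .nil (nat_lit 972) (nat_lit 128) (nat_lit 1490) .nil) (nat_lit 974) (nat_lit 128)
  (nat_lit 1417) (.node .nil (nat_lit 977) (nat_lit 145) (nat_lit 5) .nil)) (nat_lit 985) (nat_lit 113)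
  (nat_lit 1436) (.node (.node .nil (nat_lit 986) (nat_lit 129) (nat_lit 1690) .nil) (nat_lit 994) (nat_lit
  112) (nat_lit 1518) .nil)) (nat_lit 998) (nat_lit 49) (nat_lit 669) (.node (.node (.node .nil (nat_lit 1000)
  (nat_lit 129) (nat_lit 1541) .nil) (nat_lit 1002) (nat_lit 112) (nat_lit 1689) .nil) (nat_lit 1003) (nat_lit
  160) (nat_lit 667) (.node (.node .nil (nat_lit 1005) (nat_lit 129) (nat_lit 1099) .nil) (nat_lit 1010)
  (nat_lit 112) (nat_lit 21) .nil)))) (nat_lit 1014) (nat_lit 145) (nat_lit 952) (.node (.node (.node (.node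
  (.node .nil (nat_lit 1025) (nat_lit 145) (nat_lit 824) .nil) (nat_lit 1028) (nat_lit 129) (nat_lit 1711)
  (.node .nil (nat_lit 1032) (nat_lit 80) (nat_lit 1456) .nil)) (nat_lit 1038) (nat_lit 129) (nat_lit 686)
  (.node (.node .nil (nat_lit 1041) (nat_lit 144) (nat_lit 986) .nil) (nat_lit 1050) (nat_lit 129) (nat_lit
  155) .nil)) (nat_lit 1056) (nat_lit 129) (nat_lit 1444) (.node (.node (.node .nil (nat_lit 1058) (nat_lit
  97) (nat_lit 808) .nil) (nat_lit 1059) (nat_lit 113) (nat_lit 18) .nil) (nat_lit 1060) (nat_lit 113)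
  (nat_lit 65) (.node (.node .nil (nat_lit 1066) (nat_lit 97) (nat_lit 957) .nil) (nat_lit 1069) (nat_lit 160)
  (nat_lit 1347) .nil))) (nat_lit 1070) (nat_lit 145) (nat_lit 110) (.node (.node (.node (.node .nil (nat_lit
  1074) (nat_lit 128) (nat_lit 1293) .nil) (nat_lit 1076) (nat_lit 96) (nat_lit 1499) (.node .nil (nat_lit
  1079) (nat_lit 128) (nat_lit 504) .nil)) (nat_lit 1086) (nat_lit 33) (nat_lit 482) (.node (.node .nil
  (nat_lit 1091) (nat_lit 96) (nat_lit 1426) .nil) (nat_lit 1092) (nat_lit 144) (nat_lit 1100) .nil)) (nat_lit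
  1097) (nat_lit 80) (nat_lit 31) (.node (.node (.node .nil (nat_lit 1099) (nat_lit 113) (nat_lit 1542) .nil)
  (nat_lit 1100) (nat_lit 129) (nat_lit 240) .nil) (nat_lit 1103) (nat_lit 144) (nat_lit 1028) (.node (.node
  .nil (nat_lit 1121) (nat_lit 129) (nat_lit 1498) .nil) (nat_lit 1122) (nat_lit 144) (nat_lit 901) .nil)))))
  (nat_lit 1126) (nat_lit 96) (nat_lit 1275) (.node (.node (.node (.node (.node (.node .nil (nat_lit 1127)
  (nat_lit 144) (nat_lit 217) .nil) (nat_lit 1130) (nat_lit 81) (nat_lit 31) (.node .nil (nat_lit 1133)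
  (nat_lit 64) (nat_lit 344) .nil)) (nat_lit 1143) (nat_lit 112) (nat_lit 1524) (.node (.node .nil (nat_lit
  1144) (nat_lit 64) (nat_lit 1633) .nil) (nat_lit 1152) (nat_lit 144) (nat_lit 226) .nil)) (nat_lit 1153)
  (nat_lit 97) (nat_lit 1771) (.node (.node (.node .nil (nat_lit 1156) (nat_lit 144) (nat_lit 510) .nil)
  (nat_lit 1157) (nat_lit 113) (nat_lit 1450) .nil) (nat_lit 1165) (nat_lit 128) (nat_lit 791) (.node (.node
  .nil (nat_lit 1166) (nat_lit 144) (nat_lit 972) .nil) (nat_lit 1172) (nat_lit 128) (nat_lit 1157) .nil)))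
  (nat_lit 1173) (nat_lit 129) (nat_lit 1529) (.node (.node (.node (.node .nil (nat_lit 1177) (nat_lit 49)
  (nat_lit 839) .nil) (nat_lit 1179) (nat_lit 80) (nat_lit 1362) (.node .nil (nat_lit 1181) (nat_lit 128)
  (nat_lit 811) .nil)) (nat_lit 1190) (nat_lit 64) (nat_lit 998) (.node (.node .nil (nat_lit 1196) (nat_lit
  144) (nat_lit 309) .nil) (nat_lit 1202) (nat_lit 112) (nat_lit 1450) .nil)) (nat_lit 1207) (nat_lit 161)
  (nat_lit 569) (.node (.node (.node .nil (nat_lit 1211) (nat_lit 80) (nat_lit 44) .nil) (nat_lit 1213)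
  (nat_lit 112) (nat_lit 1448) .nil) (nat_lit 1214) (nat_lit 145) (nat_lit 503) (.node (.node .nil (nat_lit
  1217) (nat_lit 97) (nat_lit 1097) .nil) (nat_lit 1230) (nat_lit 144) (nat_lit 1596) .nil)))) (nat_lit 1240)
  (nat_lit 113) (nat_lit 530) (.node (.node (.node (.node (.node .nil (nat_lit 1247) (nat_lit 80) (nat_lit
  215) .nil) (nat_lit 1249) (nat_lit 112) (nat_lit 530) (.node .nil (nat_lit 1250) (nat_lit 129) (nat_lit
  1490) .nil)) (nat_lit 1252) (nat_lit 128) (nat_lit 613) (.node (.node .nil (nat_lit 1259) (nat_lit 112)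
  (nat_lit 1639) .nil) (nat_lit 1264) (nat_lit 96) (nat_lit 808) .nil)) (nat_lit 1269) (nat_lit 113) (nat_lit
  1217) (.node (.node (.node .nil (nat_lit 1270) (nat_lit 96) (nat_lit 476) .nil) (nat_lit 1275) (nat_lit 81)
  (nat_lit 150) .nil) (nat_lit 1276) (nat_lit 176) (nat_lit 1322) (.node (.node .nil (nat_lit 1284) (nat_lit
  161) (nat_lit 1548) .nil) (nat_lit 1290) (nat_lit 97) (nat_lit 273) .nil))) (nat_lit 1291) (nat_lit 48)
  (nat_lit 839) (.node (.node (.node (.node .nil (nat_lit 1293) (nat_lit 112) (nat_lit 410) .nil) (nat_lit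
  1299) (nat_lit 145) (nat_lit 1577) (.node .nil (nat_lit 1303) (nat_lit 113) (nat_lit 894) .nil)) (nat_lit
  1305) (nat_lit 96) (nat_lit 392) (.node (.node .nil (nat_lit 1319) (nat_lit 129) (nat_lit 1685) .nil)
  (nat_lit 1322) (nat_lit 160) (nat_lit 712) .nil)) (nat_lit 1326) (nat_lit 145) (nat_lit 948) (.node (.node
  (.node .nil (nat_lit 1329) (nat_lit 177) (nat_lit 389) .nil) (nat_lit 1332) (nat_lit 97) (nat_lit 1032)
  .nil) (nat_lit 1333) (nat_lit 128) (nat_lit 263) (.node (.node .nil (nat_lit 1342) (nat_lit 113) (nat_lit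
  157) .nil) (nat_lit 1344) (nat_lit 113) (nat_lit 1635) .nil))))))
def x51t_3 : T := (.node (.node (.node (.node (.node (.node (.node .nil (nat_lit 1349) (nat_lit 129) (nat_lit
  1397) .nil) (nat_lit 1350) (nat_lit 145) (nat_lit 238) (.node .nil (nat_lit 1359) (nat_lit 160) (nat_lit
  112) .nil)) (nat_lit 1360) (nat_lit 97) (nat_lit 318) (.node (.node .nil (nat_lit 1362) (nat_lit 65)
  (nat_lit 364) .nil) (nat_lit 1378) (nat_lit 161) (nat_lit 427) .nil)) (nat_lit 1382) (nat_lit 0) (nat_lit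
  1382) (.node (.node (.node .nil (nat_lit 1388) (nat_lit 160) (nat_lit 188) .nil) (nat_lit 1390) (nat_lit
  145) (nat_lit 1588) .nil) (nat_lit 1397) (nat_lit 113) (nat_lit 331) (.node (.node .nil (nat_lit 1407)
  (nat_lit 177) (nat_lit 909) .nil) (nat_lit 1408) (nat_lit 113) (nat_lit 1076) .nil))) (nat_lit 1410)
  (nat_lit 145) (nat_lit 1779) (.node (.node (.node (.node .nil (nat_lit 1414) (nat_lit 145) (nat_lit 1717)
  .nil) (nat_lit 1415) (nat_lit 145) (nat_lit 1659) (.node .nil (nat_lit 1417) (nat_lit 112) (nat_lit 1436)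
  .nil)) (nat_lit 1426) (nat_lit 81) (nat_lit 1767) (.node (.node .nil (nat_lit 1436) (nat_lit 97) (nat_lit
  898) .nil) (nat_lit 1437) (nat_lit 129) (nat_lit 1682) .nil)) (nat_lit 1440) (nat_lit 65) (nat_lit 172)
  (.node (.node (.node .nil (nat_lit 1444) (nat_lit 112) (nat_lit 1126) .nil) (nat_lit 1448) (nat_lit 97)
  (nat_lit 752) .nil) (nat_lit 1450) (nat_lit 96) (nat_lit 1247) (.node (.node .nil (nat_lit 1454) (nat_lit
  64) (nat_lit 1291) .nil) (nat_lit 1456) (nat_lit 64) (nat_lit 1177) .nil)))) (nat_lit 1459) (nat_lit 145)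
  (nat_lit 303) (.node (.node (.node (.node (.node .nil (nat_lit 1462) (nat_lit 144) (nat_lit 136) .nil)
  (nat_lit 1464) (nat_lit 128) (nat_lit 450) (.node .nil (nat_lit 1466) (nat_lit 81) (nat_lit 1362) .nil))
  (nat_lit 1470) (nat_lit 112) (nat_lit 1360) (.node (.node .nil (nat_lit 1477) (nat_lit 144) (nat_lit 110)
  .nil) (nat_lit 1478) (nat_lit 112) (nat_lit 1270) .nil)) (nat_lit 1480) (nat_lit 80) (nat_lit 740) (.node
  (.node (.node .nil (nat_lit 1486) (nat_lit 128) (nat_lit 471) .nil) (nat_lit 1490) (nat_lit 112) (nat_lit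
  941) .nil) (nat_lit 1498) (nat_lit 112) (nat_lit 545) (.node (.node .nil (nat_lit 1499) (nat_lit 81)
  (nat_lit 1456) .nil) (nat_lit 1501) (nat_lit 97) (nat_lit 507) .nil))) (nat_lit 1504) (nat_lit 160) (nat_lit
  1590) (.node (.node (.node (.node .nil (nat_lit 1506) (nat_lit 112) (nat_lit 754) .nil) (nat_lit 1509)
  (nat_lit 128) (nat_lit 1617) (.node .nil (nat_lit 1510) (nat_lit 144) (nat_lit 1181) .nil)) (nat_lit 1518)
  (nat_lit 97) (nat_lit 191) (.node (.node .nil (nat_lit 1524) (nat_lit 96) (nat_lit 1771) .nil) (nat_lit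
  1529) (nat_lit 112) (nat_lit 77) .nil)) (nat_lit 1533) (nat_lit 160) (nat_lit 538) (.node (.node (.node .nil
  (nat_lit 1534) (nat_lit 113) (nat_lit 1639) .nil) (nat_lit 1539) (nat_lit 96) (nat_lit 273) .nil) (nat_lit
  1541) (nat_lit 112) (nat_lit 1501) (.node (.node .nil (nat_lit 1542) (nat_lit 97) (nat_lit 1480) .nil)
  (nat_lit 1548) (nat_lit 144) (nat_lit 303) .nil))))) (nat_lit 1555) (nat_lit 129) (nat_lit 1506) (.node
  (.node (.node (.node (.node (.node .nil (nat_lit 1559) (nat_lit 161) (nat_lit 277) .nil) (nat_lit 1560)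
  (nat_lit 144) (nat_lit 881) (.node .nil (nat_lit 1564) (nat_lit 96) (nat_lit 898) .nil)) (nat_lit 1565)
  (nat_lit 81) (nat_lit 1756) (.node (.node .nil (nat_lit 1574) (nat_lit 113) (nat_lit 1737) .nil) (nat_lit
  1577) (nat_lit 129) (nat_lit 794) .nil)) (nat_lit 1588) (nat_lit 129) (nat_lit 1143) (.node (.node (.node
  .nil (nat_lit 1590) (nat_lit 145) (nat_lit 1181) .nil) (nat_lit 1595) (nat_lit 144) (nat_lit 974) .nil)
  (nat_lit 1596) (nat_lit 129) (nat_lit 613) (.node (.node .nil (nat_lit 1605) (nat_lit 112) (nat_lit 1635)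
  .nil) (nat_lit 1612) (nat_lit 97) (nat_lit 1179) .nil))) (nat_lit 1613) (nat_lit 128) (nat_lit 394) (.node
  (.node (.node (.node .nil (nat_lit 1615) (nat_lit 144) (nat_lit 1763) .nil) (nat_lit 1616) (nat_lit 145)
  (nat_lit 298) (.node .nil (nat_lit 1617) (nat_lit 112) (nat_lit 373) .nil)) (nat_lit 1621) (nat_lit 113)
  (nat_lit 384) (.node (.node .nil (nat_lit 1622) (nat_lit 160) (nat_lit 1415) .nil) (nat_lit 1633) (nat_lit
  49) (nat_lit 731) .nil)) (nat_lit 1635) (nat_lit 96) (nat_lit 1130) (.node (.node (.node .nil (nat_lit 1639)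
  (nat_lit 97) (nat_lit 251) .nil) (nat_lit 1640) (nat_lit 144) (nat_lit 699) .nil) (nat_lit 1653) (nat_lit
  96) (nat_lit 318) (.node (.node .nil (nat_lit 1659) (nat_lit 128) (nat_lit 40) .nil) (nat_lit 1662) (nat_lit
  144) (nat_lit 724) .nil)))) (nat_lit 1674) (nat_lit 16) (nat_lit 1382) (.node (.node (.node (.node (.node
  .nil (nat_lit 1677) (nat_lit 161) (nat_lit 112) .nil) (nat_lit 1682) (nat_lit 113) (nat_lit 1718) (.node
  .nil (nat_lit 1685) (nat_lit 113) (nat_lit 1524) .nil)) (nat_lit 1689) (nat_lit 97) (nat_lit 771) (.node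
  (.node .nil (nat_lit 1690) (nat_lit 112) (nat_lit 18) .nil) (nat_lit 1693) (nat_lit 160) (nat_lit 363)
  .nil)) (nat_lit 1710) (nat_lit 129) (nat_lit 1269) (.node (.node (.node .nil (nat_lit 1711) (nat_lit 112)
  (nat_lit 1653) .nil) (nat_lit 1717) (nat_lit 129) (nat_lit 1408) .nil) (nat_lit 1718) (nat_lit 96) (nat_lit
  1032) (.node (.node .nil (nat_lit 1721) (nat_lit 144) (nat_lit 1252) .nil) (nat_lit 1723) (nat_lit 144)
  (nat_lit 1710) .nil))) (nat_lit 1724) (nat_lit 112) (nat_lit 65) (.node (.node (.node (.node .nil (nat_lit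
  1731) (nat_lit 144) (nat_lit 323) .nil) (nat_lit 1737) (nat_lit 96) (nat_lit 612) (.node .nil (nat_lit 1740)
  (nat_lit 96) (nat_lit 1480) .nil)) (nat_lit 1742) (nat_lit 128) (nat_lit 1478) (.node (.node .nil (nat_lit
  1750) (nat_lit 112) (nat_lit 739) .nil) (nat_lit 1756) (nat_lit 65) (nat_lit 1633) .nil)) (nat_lit 1758)
  (nat_lit 128) (nat_lit 1506) (.node (.node (.node .nil (nat_lit 1760) (nat_lit 145) (nat_lit 1486) .nil)
  (nat_lit 1763) (nat_lit 128) (nat_lit 1060) .nil) (nat_lit 1767) (nat_lit 65) (nat_lit 1177) (.node (.node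
  .nil (nat_lit 1771) (nat_lit 81) (nat_lit 1133) .nil) (nat_lit 1779) (nat_lit 128) (nat_lit 550) .nil))))))
def x51t : T := (.node (.node x51t_0 (nat_lit 462) (nat_lit 128) (nat_lit 525) x51t_1) (nat_lit 916) (nat_lit
  160) (nat_lit 1196) (.node x51t_2 (nat_lit 1347) (nat_lit 144) (nat_lit 298) x51t_3))
def x51 : Lvl := ⟨nat_lit 1382, [nat_lit 0xe50a05, nat_lit 0xf7142e], [], x51t⟩
def x52t_0 : T := (.node (.node (.node (.node (.node (.node (.node (.node .nil (nat_lit 0) (nat_lit 0)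
  (nat_lit 0) .nil) (nat_lit 1) (nat_lit 176) (nat_lit 473) .nil) (nat_lit 16) (nat_lit 176) (nat_lit 459)
  (.node .nil (nat_lit 32) (nat_lit 192) (nat_lit 370) .nil)) (nat_lit 34) (nat_lit 208) (nat_lit 204) (.node
  (.node (.node .nil (nat_lit 47) (nat_lit 192) (nat_lit 1572) .nil) (nat_lit 54) (nat_lit 209) (nat_lit 1608)
  .nil) (nat_lit 68) (nat_lit 225) (nat_lit 1162) (.node .nil (nat_lit 72) (nat_lit 225) (nat_lit 1096)
  .nil))) (nat_lit 80) (nat_lit 209) (nat_lit 1515) (.node (.node (.node (.node .nil (nat_lit 89) (nat_lit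
  144) (nat_lit 1725) .nil) (nat_lit 90) (nat_lit 144) (nat_lit 390) .nil) (nat_lit 94) (nat_lit 209) (nat_lit
  296) (.node .nil (nat_lit 95) (nat_lit 80) (nat_lit 437) .nil)) (nat_lit 101) (nat_lit 145) (nat_lit 1642)
  (.node (.node (.node .nil (nat_lit 104) (nat_lit 208) (nat_lit 296) .nil) (nat_lit 109) (nat_lit 208)
  (nat_lit 1402) .nil) (nat_lit 113) (nat_lit 128) (nat_lit 905) (.node .nil (nat_lit 124) (nat_lit 273)
  (nat_lit 768) .nil)))) (nat_lit 125) (nat_lit 161) (nat_lit 314) (.node (.node (.node (.node (.node .nil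
  (nat_lit 135) (nat_lit 225) (nat_lit 888) .nil) (nat_lit 137) (nat_lit 177) (nat_lit 765) .nil) (nat_lit
  143) (nat_lit 128) (nat_lit 1416) (.node .nil (nat_lit 147) (nat_lit 161) (nat_lit 1006) .nil)) (nat_lit
  158) (nat_lit 192) (nat_lit 1335) (.node (.node (.node .nil (nat_lit 162) (nat_lit 144) (nat_lit 532) .nil)
  (nat_lit 175) (nat_lit 144) (nat_lit 1535) .nil) (nat_lit 176) (nat_lit 177) (nat_lit 1537) (.node .nil
  (nat_lit 185) (nat_lit 209) (nat_lit 531) .nil))) (nat_lit 195) (nat_lit 145) (nat_lit 278) (.node (.node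
  (.node (.node .nil (nat_lit 199) (nat_lit 193) (nat_lit 1467) .nil) (nat_lit 200) (nat_lit 177) (nat_lit
  1536) .nil) (nat_lit 203) (nat_lit 112) (nat_lit 1261) (.node .nil (nat_lit 204) (nat_lit 192) (nat_lit
  1768) .nil)) (nat_lit 206) (nat_lit 144) (nat_lit 1433) (.node (.node (.node .nil (nat_lit 221) (nat_lit
  160) (nat_lit 288) .nil) (nat_lit 241) (nat_lit 240) (nat_lit 1161) .nil) (nat_lit 250) (nat_lit 176)
  (nat_lit 1220) (.node .nil (nat_lit 261) (nat_lit 128) (nat_lit 203) .nil))))) (nat_lit 264) (nat_lit 192)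
  (nat_lit 1457) (.node (.node (.node (.node (.node (.node .nil (nat_lit 275) (nat_lit 144) (nat_lit 261)
  .nil) (nat_lit 278) (nat_lit 128) (nat_lit 391) .nil) (nat_lit 281) (nat_lit 144) (nat_lit 278) (.node .nil
  (nat_lit 283) (nat_lit 288) (nat_lit 1024) .nil)) (nat_lit 284) (nat_lit 161) (nat_lit 801) (.node (.node
  (.node .nil (nat_lit 287) (nat_lit 257) (nat_lit 419) .nil) (nat_lit 288) (nat_lit 145) (nat_lit 113) .nil)
  (nat_lit 289) (nat_lit 193) (nat_lit 370) (.node .nil (nat_lit 294) (nat_lit 176) (nat_lit 803) .nil)))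
  (nat_lit 296) (nat_lit 192) (nat_lit 1351) (.node (.node (.node (.node .nil (nat_lit 314) (nat_lit 144)
  (nat_lit 1413) .nil) (nat_lit 316) (nat_lit 192) (nat_lit 706) .nil) (nat_lit 321) (nat_lit 145) (nat_lit
  713) (.node .nil (nat_lit 322) (nat_lit 193) (nat_lit 1335) .nil)) (nat_lit 343) (nat_lit 209) (nat_lit
  1519) (.node (.node (.node .nil (nat_lit 365) (nat_lit 240) (nat_lit 886) .nil) (nat_lit 370) (nat_lit 176)
  (nat_lit 1376) .nil) (nat_lit 371) (nat_lit 161) (nat_lit 1366) (.node .nil (nat_lit 380) (nat_lit 64)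
  (nat_lit 1609) .nil)))) (nat_lit 387) (nat_lit 208) (nat_lit 899) (.node (.node (.node (.node (.node .nil
  (nat_lit 390) (nat_lit 129) (nat_lit 1664) .nil) (nat_lit 391) (nat_lit 113) (nat_lit 591) .nil) (nat_lit
  405) (nat_lit 145) (nat_lit 491) (.node .nil (nat_lit 407) (nat_lit 209) (nat_lit 1429) .nil)) (nat_lit 419)
  (nat_lit 240) (nat_lit 867) (.node (.node (.node .nil (nat_lit 421) (nat_lit 113) (nat_lit 1273) .nil)
  (nat_lit 437) (nat_lit 64) (nat_lit 1680) .nil) (nat_lit 445) (nat_lit 192) (nat_lit 1307) (.node .nil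
  (nat_lit 448) (nat_lit 96) (nat_lit 1652) .nil))) (nat_lit 456) (nat_lit 208) (nat_lit 922) (.node (.node
  (.node (.node .nil (nat_lit 459) (nat_lit 161) (nat_lit 1314) .nil) (nat_lit 464) (nat_lit 177) (nat_lit
  803) .nil) (nat_lit 472) (nat_lit 160) (nat_lit 1645) (.node .nil (nat_lit 473) (nat_lit 161) (nat_lit 90)
  .nil)) (nat_lit 479) (nat_lit 208) (nat_lit 933) (.node (.node .nil (nat_lit 483) (nat_lit 192) (nat_lit
  1083) .nil) (nat_lit 491) (nat_lit 128) (nat_lit 687) (.node .nil (nat_lit 496) (nat_lit 209) (nat_lit 32)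
  .nil)))))) (nat_lit 505) (nat_lit 193) (nat_lit 925) (.node (.node (.node (.node (.node (.node (.node .nil
  (nat_lit 531) (nat_lit 192) (nat_lit 464) .nil) (nat_lit 532) (nat_lit 129) (nat_lit 905) .nil) (nat_lit
  541) (nat_lit 177) (nat_lit 221) (.node .nil (nat_lit 546) (nat_lit 241) (nat_lit 657) .nil)) (nat_lit 554)
  (nat_lit 209) (nat_lit 899) (.node (.node (.node .nil (nat_lit 564) (nat_lit 192) (nat_lit 1215) .nil)
  (nat_lit 568) (nat_lit 113) (nat_lit 1585) .nil) (nat_lit 571) (nat_lit 192) (nat_lit 654) (.node .nil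
  (nat_lit 574) (nat_lit 208) (nat_lit 1432) .nil))) (nat_lit 584) (nat_lit 161) (nat_lit 206) (.node (.node
  (.node (.node .nil (nat_lit 588) (nat_lit 192) (nat_lit 200) .nil) (nat_lit 591) (nat_lit 96) (nat_lit 816)
  .nil) (nat_lit 592) (nat_lit 113) (nat_lit 1201) (.node .nil (nat_lit 598) (nat_lit 224) (nat_lit 104)
  .nil)) (nat_lit 603) (nat_lit 193) (nat_lit 706) (.node (.node (.node .nil (nat_lit 625) (nat_lit 129)
  (nat_lit 687) .nil) (nat_lit 637) (nat_lit 65) (nat_lit 1680) .nil) (nat_lit 639) (nat_lit 208) (nat_lit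
  1608) (.node .nil (nat_lit 643) (nat_lit 224) (nat_lit 1289) .nil)))) (nat_lit 648) (nat_lit 208) (nat_lit
  505) (.node (.node (.node (.node (.node .nil (nat_lit 654) (nat_lit 176) (nat_lit 1022) .nil) (nat_lit 657)
  (nat_lit 224) (nat_lit 1096) .nil) (nat_lit 658) (nat_lit 241) (nat_lit 841) (.node .nil (nat_lit 660)
  (nat_lit 224) (nat_lit 1650) .nil)) (nat_lit 661) (nat_lit 177) (nat_lit 866) (.node (.node (.node .nil
  (nat_lit 672) (nat_lit 209) (nat_lit 158) .nil) (nat_lit 685) (nat_lit 113) (nat_lit 1579) .nil) (nat_lit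
  687) (nat_lit 112) (nat_lit 1201) (.node .nil (nat_lit 689) (nat_lit 240) (nat_lit 1485) .nil))) (nat_lit
  692) (nat_lit 209) (nat_lit 1302) (.node (.node (.node (.node .nil (nat_lit 706) (nat_lit 176) (nat_lit
  1599) .nil) (nat_lit 708) (nat_lit 144) (nat_lit 625) .nil) (nat_lit 713) (nat_lit 128) (nat_lit 592) (.node
  .nil (nat_lit 715) (nat_lit 128) (nat_lit 685) .nil)) (nat_lit 728) (nat_lit 176) (nat_lit 1278) (.node
  (.node (.node .nil (nat_lit 737) (nat_lit 80) (nat_lit 637) .nil) (nat_lit 751) (nat_lit 192) (nat_lit 541)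
  .nil) (nat_lit 753) (nat_lit 160) (nat_lit 1366) (.node .nil (nat_lit 759) (nat_lit 176) (nat_lit 1205)
  .nil))))) (nat_lit 762) (nat_lit 192) (nat_lit 1355) (.node (.node (.node (.node (.node (.node .nil (nat_lit
  765) (nat_lit 160) (nat_lit 831) .nil) (nat_lit 767) (nat_lit 224) (nat_lit 888) .nil) (nat_lit 768)
  (nat_lit 256) (nat_lit 241) (.node .nil (nat_lit 770) (nat_lit 240) (nat_lit 68) .nil)) (nat_lit 774)
  (nat_lit 256) (nat_lit 770) (.node (.node (.node .nil (nat_lit 779) (nat_lit 176) (nat_lit 1537) .nil)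
  (nat_lit 781) (nat_lit 176) (nat_lit 1075) .nil) (nat_lit 785) (nat_lit 225) (nat_lit 1704) (.node .nil
  (nat_lit 787) (nat_lit 128) (nat_lit 1365) .nil))) (nat_lit 789) (nat_lit 225) (nat_lit 1272) (.node (.node
  (.node (.node .nil (nat_lit 796) (nat_lit 145) (nat_lit 143) .nil) (nat_lit 800) (nat_lit 145) (nat_lit 715)
  .nil) (nat_lit 801) (nat_lit 144) (nat_lit 713) (.node .nil (nat_lit 803) (nat_lit 160) (nat_lit 162) .nil))
  (nat_lit 810) (nat_lit 209) (nat_lit 751) (.node (.node (.node .nil (nat_lit 813) (nat_lit 240) (nat_lit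
  1749) .nil) (nat_lit 816) (nat_lit 81) (nat_lit 1395) .nil) (nat_lit 829) (nat_lit 145) (nat_lit 1171)
  (.node .nil (nat_lit 831) (nat_lit 144) (nat_lit 715) .nil)))) (nat_lit 837) (nat_lit 128) (nat_lit 1664)
  (.node (.node (.node (.node (.node .nil (nat_lit 841) (nat_lit 224) (nat_lit 479) .nil) (nat_lit 846)
  (nat_lit 177) (nat_lit 1220) .nil) (nat_lit 847) (nat_lit 224) (nat_lit 496) (.node .nil (nat_lit 852)
  (nat_lit 192) (nat_lit 661) .nil)) (nat_lit 853) (nat_lit 160) (nat_lit 101) (.node (.node (.node .nil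
  (nat_lit 854) (nat_lit 257) (nat_lit 1140) .nil) (nat_lit 863) (nat_lit 193) (nat_lit 779) .nil) (nat_lit
  866) (nat_lit 160) (nat_lit 1006) (.node .nil (nat_lit 867) (nat_lit 224) (nat_lit 554) .nil))) (nat_lit
  878) (nat_lit 193) (nat_lit 1) (.node (.node (.node (.node .nil (nat_lit 879) (nat_lit 208) (nat_lit 1641)
  .nil) (nat_lit 886) (nat_lit 224) (nat_lit 672) .nil) (nat_lit 888) (nat_lit 208) (nat_lit 1150) (.node .nil
  (nat_lit 890) (nat_lit 128) (nat_lit 421) .nil)) (nat_lit 899) (nat_lit 192) (nat_lit 728) (.node (.node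
  .nil (nat_lit 905) (nat_lit 112) (nat_lit 1579) .nil) (nat_lit 911) (nat_lit 193) (nat_lit 1355) (.node .nil
  (nat_lit 919) (nat_lit 161) (nat_lit 281) .nil)))))))
def x52t_1 : T := (.node (.node (.node (.node (.node (.node (.node (.node .nil (nat_lit 923) (nat_lit 176)
  (nat_lit 125) .nil) (nat_lit 925) (nat_lit 176) (nat_lit 1665) .nil) (nat_lit 926) (nat_lit 192) (nat_lit
  1551) (.node .nil (nat_lit 930) (nat_lit 112) (nat_lit 1502) .nil)) (nat_lit 933) (nat_lit 193) (nat_lit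
  654) (.node (.node (.node .nil (nat_lit 959) (nat_lit 176) (nat_lit 1536) .nil) (nat_lit 966) (nat_lit 48)
  (nat_lit 1030) .nil) (nat_lit 967) (nat_lit 256) (nat_lit 1298) (.node .nil (nat_lit 981) (nat_lit 112)
  (nat_lit 448) .nil))) (nat_lit 982) (nat_lit 208) (nat_lit 199) (.node (.node (.node (.node .nil (nat_lit
  991) (nat_lit 176) (nat_lit 1372) .nil) (nat_lit 1006) (nat_lit 144) (nat_lit 1642) .nil) (nat_lit 1008)
  (nat_lit 144) (nat_lit 890) (.node .nil (nat_lit 1009) (nat_lit 225) (nat_lit 1080) .nil)) (nat_lit 1011)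
  (nat_lit 97) (nat_lit 1652) (.node (.node (.node .nil (nat_lit 1022) (nat_lit 160) (nat_lit 829) .nil)
  (nat_lit 1024) (nat_lit 272) (nat_lit 774) .nil) (nat_lit 1030) (nat_lit 32) (nat_lit 1651) (.node .nil
  (nat_lit 1040) (nat_lit 224) (nat_lit 1318) .nil)))) (nat_lit 1043) (nat_lit 176) (nat_lit 853) (.node
  (.node (.node (.node (.node .nil (nat_lit 1053) (nat_lit 225) (nat_lit 879) .nil) (nat_lit 1054) (nat_lit
  81) (nat_lit 380) .nil) (nat_lit 1057) (nat_lit 225) (nat_lit 1089) (.node .nil (nat_lit 1061) (nat_lit 145)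
  (nat_lit 890) .nil)) (nat_lit 1073) (nat_lit 208) (nat_lit 445) (.node (.node (.node .nil (nat_lit 1075)
  (nat_lit 160) (nat_lit 195) .nil) (nat_lit 1080) (nat_lit 208) (nat_lit 1246) .nil) (nat_lit 1081) (nat_lit
  176) (nat_lit 472) (.node .nil (nat_lit 1082) (nat_lit 224) (nat_lit 1089) .nil))) (nat_lit 1083) (nat_lit
  177) (nat_lit 1525) (.node (.node (.node (.node .nil (nat_lit 1088) (nat_lit 80) (nat_lit 1500) .nil)
  (nat_lit 1089) (nat_lit 208) (nat_lit 588) .nil) (nat_lit 1095) (nat_lit 208) (nat_lit 32) (.node .nil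
  (nat_lit 1096) (nat_lit 208) (nat_lit 751) .nil)) (nat_lit 1104) (nat_lit 177) (nat_lit 1512) (.node (.node
  (.node .nil (nat_lit 1105) (nat_lit 161) (nat_lit 162) .nil) (nat_lit 1136) (nat_lit 112) (nat_lit 591)
  .nil) (nat_lit 1138) (nat_lit 161) (nat_lit 708) (.node .nil (nat_lit 1139) (nat_lit 240) (nat_lit 1053)
  .nil))))) (nat_lit 1140) (nat_lit 240) (nat_lit 789) (.node (.node (.node (.node (.node (.node .nil (nat_lit
  1150) (nat_lit 192) (nat_lit 1587) .nil) (nat_lit 1161) (nat_lit 225) (nat_lit 109) .nil) (nat_lit 1162)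
  (nat_lit 208) (nat_lit 531) (.node .nil (nat_lit 1167) (nat_lit 177) (nat_lit 753) .nil)) (nat_lit 1170)
  (nat_lit 256) (nat_lit 1497) (.node (.node (.node .nil (nat_lit 1171) (nat_lit 128) (nat_lit 568) .nil)
  (nat_lit 1187) (nat_lit 256) (nat_lit 365) .nil) (nat_lit 1195) (nat_lit 160) (nat_lit 708) (.node .nil
  (nat_lit 1200) (nat_lit 144) (nat_lit 113) .nil))) (nat_lit 1201) (nat_lit 96) (nat_lit 737) (.node (.node
  (.node (.node .nil (nat_lit 1204) (nat_lit 81) (nat_lit 437) .nil) (nat_lit 1205) (nat_lit 160) (nat_lit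
  801) .nil) (nat_lit 1206) (nat_lit 177) (nat_lit 1205) (.node .nil (nat_lit 1215) (nat_lit 176) (nat_lit
  221) .nil)) (nat_lit 1220) (nat_lit 160) (nat_lit 321) (.node (.node (.node .nil (nat_lit 1246) (nat_lit
  193) (nat_lit 294) .nil) (nat_lit 1251) (nat_lit 225) (nat_lit 104) .nil) (nat_lit 1261) (nat_lit 96)
  (nat_lit 1054) (.node .nil (nat_lit 1263) (nat_lit 176) (nat_lit 1195) .nil)))) (nat_lit 1272) (nat_lit 208)
  (nat_lit 1429) (.node (.node (.node (.node (.node .nil (nat_lit 1273) (nat_lit 96) (nat_lit 95) .nil)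
  (nat_lit 1278) (nat_lit 160) (nat_lit 1770) .nil) (nat_lit 1279) (nat_lit 176) (nat_lit 1525) (.node .nil
  (nat_lit 1280) (nat_lit 160) (nat_lit 1745) .nil)) (nat_lit 1288) (nat_lit 192) (nat_lit 250) (.node (.node
  (.node .nil (nat_lit 1289) (nat_lit 208) (nat_lit 863) .nil) (nat_lit 1298) (nat_lit 241) (nat_lit 867)
  .nil) (nat_lit 1300) (nat_lit 160) (nat_lit 800) (.node .nil (nat_lit 1302) (nat_lit 192) (nat_lit 16)
  .nil))) (nat_lit 1307) (nat_lit 176) (nat_lit 1300) (.node (.node (.node (.node .nil (nat_lit 1309) (nat_lit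
  177) (nat_lit 472) .nil) (nat_lit 1314) (nat_lit 144) (nat_lit 1171) .nil) (nat_lit 1318) (nat_lit 208)
  (nat_lit 762) (.node .nil (nat_lit 1334) (nat_lit 193) (nat_lit 16) .nil)) (nat_lit 1335) (nat_lit 176)
  (nat_lit 584) (.node (.node .nil (nat_lit 1348) (nat_lit 129) (nat_lit 930) .nil) (nat_lit 1351) (nat_lit
  176) (nat_lit 1105) (.node .nil (nat_lit 1355) (nat_lit 176) (nat_lit 1138) .nil)))))) (nat_lit 1356)
  (nat_lit 193) (nat_lit 728) (.node (.node (.node (.node (.node (.node (.node .nil (nat_lit 1357) (nat_lit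
  272) (nat_lit 1766) .nil) (nat_lit 1365) (nat_lit 112) (nat_lit 1011) .nil) (nat_lit 1366) (nat_lit 144)
  (nat_lit 787) (.node .nil (nat_lit 1368) (nat_lit 224) (nat_lit 810) .nil)) (nat_lit 1371) (nat_lit 145)
  (nat_lit 1433) (.node (.node (.node .nil (nat_lit 1372) (nat_lit 161) (nat_lit 175) .nil) (nat_lit 1376)
  (nat_lit 161) (nat_lit 275) .nil) (nat_lit 1389) (nat_lit 161) (nat_lit 1008) (.node .nil (nat_lit 1395)
  (nat_lit 64) (nat_lit 966) .nil))) (nat_lit 1400) (nat_lit 224) (nat_lit 1162) (.node (.node (.node (.node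
  .nil (nat_lit 1402) (nat_lit 193) (nat_lit 1707) .nil) (nat_lit 1413) (nat_lit 129) (nat_lit 203) .nil)
  (nat_lit 1416) (nat_lit 113) (nat_lit 1261) (.node .nil (nat_lit 1429) (nat_lit 192) (nat_lit 781) .nil))
  (nat_lit 1432) (nat_lit 192) (nat_lit 1309) (.node (.node (.node .nil (nat_lit 1433) (nat_lit 128) (nat_lit
  1484) .nil) (nat_lit 1445) (nat_lit 33) (nat_lit 1651) .nil) (nat_lit 1457) (nat_lit 177) (nat_lit 853)
  (.node .nil (nat_lit 1467) (nat_lit 176) (nat_lit 371) .nil)))) (nat_lit 1471) (nat_lit 225) (nat_lit 1318)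
  (.node (.node (.node (.node (.node .nil (nat_lit 1484) (nat_lit 113) (nat_lit 448) .nil) (nat_lit 1485)
  (nat_lit 224) (nat_lit 1531) .nil) (nat_lit 1491) (nat_lit 144) (nat_lit 143) (.node .nil (nat_lit 1497)
  (nat_lit 241) (nat_lit 1368) .nil)) (nat_lit 1500) (nat_lit 65) (nat_lit 966) (.node (.node (.node .nil
  (nat_lit 1502) (nat_lit 97) (nat_lit 737) .nil) (nat_lit 1512) (nat_lit 160) (nat_lit 405) .nil) (nat_lit
  1515) (nat_lit 192) (nat_lit 294) (.node .nil (nat_lit 1519) (nat_lit 192) (nat_lit 1520) .nil))) (nat_lit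
  1520) (nat_lit 177) (nat_lit 1665) (.node (.node (.node (.node .nil (nat_lit 1525) (nat_lit 160) (nat_lit
  1491) .nil) (nat_lit 1526) (nat_lit 209) (nat_lit 1150) .nil) (nat_lit 1530) (nat_lit 192) (nat_lit 925)
  (.node .nil (nat_lit 1531) (nat_lit 208) (nat_lit 1356) .nil)) (nat_lit 1535) (nat_lit 129) (nat_lit 1365)
  (.node (.node (.node .nil (nat_lit 1536) (nat_lit 160) (nat_lit 90) .nil) (nat_lit 1537) (nat_lit 160)
  (nat_lit 1314) .nil) (nat_lit 1551) (nat_lit 176) (nat_lit 147) (.node .nil (nat_lit 1567) (nat_lit 144)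
  (nat_lit 1348) .nil))))) (nat_lit 1572) (nat_lit 177) (nat_lit 1075) (.node (.node (.node (.node (.node
  (.node .nil (nat_lit 1579) (nat_lit 96) (nat_lit 1204) .nil) (nat_lit 1582) (nat_lit 256) (nat_lit 546)
  .nil) (nat_lit 1584) (nat_lit 176) (nat_lit 765) (.node .nil (nat_lit 1585) (nat_lit 96) (nat_lit 1088)
  .nil)) (nat_lit 1586) (nat_lit 256) (nat_lit 419) (.node (.node (.node .nil (nat_lit 1587) (nat_lit 177)
  (nat_lit 1280) .nil) (nat_lit 1599) (nat_lit 161) (nat_lit 1491) .nil) (nat_lit 1608) (nat_lit 192) (nat_lit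
  1) (.node .nil (nat_lit 1609) (nat_lit 49) (nat_lit 1030) .nil))) (nat_lit 1638) (nat_lit 209) (nat_lit
  1288) (.node (.node (.node (.node .nil (nat_lit 1641) (nat_lit 192) (nat_lit 1467) .nil) (nat_lit 1642)
  (nat_lit 128) (nat_lit 930) .nil) (nat_lit 1643) (nat_lit 240) (nat_lit 1009) (.node .nil (nat_lit 1645)
  (nat_lit 145) (nat_lit 261) .nil)) (nat_lit 1647) (nat_lit 193) (nat_lit 781) (.node (.node (.node .nil
  (nat_lit 1648) (nat_lit 209) (nat_lit 588) .nil) (nat_lit 1650) (nat_lit 208) (nat_lit 1334) .nil) (nat_lit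
  1651) (nat_lit 16) (nat_lit 0) (.node .nil (nat_lit 1652) (nat_lit 80) (nat_lit 380) .nil)))) (nat_lit 1664)
  (nat_lit 112) (nat_lit 1585) (.node (.node (.node (.node (.node .nil (nat_lit 1665) (nat_lit 160) (nat_lit
  314) .nil) (nat_lit 1668) (nat_lit 161) (nat_lit 831) .nil) (nat_lit 1672) (nat_lit 177) (nat_lit 1300)
  (.node .nil (nat_lit 1673) (nat_lit 160) (nat_lit 281) .nil)) (nat_lit 1680) (nat_lit 48) (nat_lit 1445)
  (.node (.node (.node .nil (nat_lit 1681) (nat_lit 193) (nat_lit 1279) .nil) (nat_lit 1686) (nat_lit 177)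
  (nat_lit 1022) .nil) (nat_lit 1704) (nat_lit 208) (nat_lit 1288) (.node .nil (nat_lit 1707) (nat_lit 176)
  (nat_lit 1389) .nil))) (nat_lit 1725) (nat_lit 128) (nat_lit 1136) (.node (.node (.node (.node .nil (nat_lit
  1745) (nat_lit 145) (nat_lit 837) .nil) (nat_lit 1748) (nat_lit 224) (nat_lit 692) .nil) (nat_lit 1749)
  (nat_lit 225) (nat_lit 1095) (.node .nil (nat_lit 1759) (nat_lit 241) (nat_lit 643) .nil)) (nat_lit 1766)
  (nat_lit 256) (nat_lit 1759) (.node (.node .nil (nat_lit 1768) (nat_lit 176) (nat_lit 284) .nil) (nat_lit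
  1770) (nat_lit 145) (nat_lit 1725) (.node .nil (nat_lit 1773) (nat_lit 257) (nat_lit 770) .nil)))))))
def x52t : T := (.node x52t_0 (nat_lit 922) (nat_lit 192) (nat_lit 923) x52t_1)
def x52 : Lvl := ⟨nat_lit 0, [nat_lit 1, nat_lit 13], [], x52t⟩
def x5 : List Lvl := [x50, x51, x52]
def s50t : T := (.node (.node .nil (nat_lit 1194) (nat_lit 0) (nat_lit 1194) .nil) (nat_lit 1382) (nat_lit 16)
  (nat_lit 1194) .nil)
def s50 : Lvl := ⟨nat_lit 1194, [nat_lit 5], [], s50t⟩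
def s51t : T := (.node .nil (nat_lit 1382) (nat_lit 0) (nat_lit 1382) .nil)
def s51 : Lvl := ⟨nat_lit 1382, [], [], s51t⟩
def s52t : T := (.node (.node (.node (.node .nil (nat_lit 0) (nat_lit 0) (nat_lit 0) .nil) (nat_lit 80)
  (nat_lit 49) (nat_lit 1170) (.node .nil (nat_lit 496) (nat_lit 64) (nat_lit 80) .nil)) (nat_lit 658)
  (nat_lit 49) (nat_lit 1030) (.node (.node .nil (nat_lit 785) (nat_lit 81) (nat_lit 1395) .nil) (nat_lit 847)
  (nat_lit 65) (nat_lit 658) (.node .nil (nat_lit 966) (nat_lit 48) (nat_lit 1030) .nil))) (nat_lit 967)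
  (nat_lit 48) (nat_lit 1298) (.node (.node (.node .nil (nat_lit 1030) (nat_lit 32) (nat_lit 1651) .nil)
  (nat_lit 1170) (nat_lit 33) (nat_lit 1651) (.node .nil (nat_lit 1298) (nat_lit 33) (nat_lit 1497) .nil))
  (nat_lit 1395) (nat_lit 64) (nat_lit 966) (.node (.node .nil (nat_lit 1497) (nat_lit 17) (nat_lit 0) .nil)
  (nat_lit 1638) (nat_lit 65) (nat_lit 966) (.node .nil (nat_lit 1651) (nat_lit 16) (nat_lit 0) .nil))))
def s52 : Lvl := ⟨nat_lit 0, [nat_lit 1, nat_lit 7], [], s52t⟩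
def s5 : List Lvl := [s50, s51, s52]
def tF_0 : T := (.node (.node (.node (.node (.node (.node (.node .nil (nat_lit 0xd984bd9e18) (nat_lit
  0xc6a9ab5adab) (nat_lit 0) .nil) (nat_lit 0xd992d18cc0) (nat_lit 0xd6354d) (nat_lit 0) (.node .nil (nat_lit
  0xd9a97b451f) (nat_lit 0xb6adac) (nat_lit 0) .nil)) (nat_lit 0xd9b2c07449) (nat_lit 0x16d62daa) (nat_lit 0)
  (.node (.node .nil (nat_lit 0xd9b3a7e606) (nat_lit 0x5356b6adaa) (nat_lit 0) .nil) (nat_lit 0xd9bc35c9e9)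
  (nat_lit 0xb6a94d5354a) (nat_lit 0) (.node .nil (nat_lit 0xd9e570192f) (nat_lit 0x1ab5b54d) (nat_lit 0)
  .nil))) (nat_lit 0xda0f4b9275) (nat_lit 0x6adaa6a9ab) (nat_lit 0) (.node (.node (.node .nil (nat_lit
  0xda10a344b3) (nat_lit 0x29aa6a94d529ab) (nat_lit 0) .nil) (nat_lit 0xda1621413b) (nat_lit 0x18d5b54a6adaa)
  (nat_lit 0) (.node .nil (nat_lit 0xda60c7110e) (nat_lit 0xd62dab6a9aa) (nat_lit 0) .nil)) (nat_lit
  0xdab09b1c19) (nat_lit 0xd5354d5b54a) (nat_lit 0) (.node (.node .nil (nat_lit 0xdd78084d82) (nat_lit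
  0x14a6a94d5356d) (nat_lit 0) .nil) (nat_lit 0xdd89d88e75) (nat_lit 0x1ab6a9ab) (nat_lit 0) (.node .nil
  (nat_lit 0xdd9df9fd06) (nat_lit 0x16d5354a6a94a) (nat_lit 0) .nil)))) (nat_lit 0xddd41b1ae9) (nat_lit
  0x356d6354a5354a) (nat_lit 0) (.node (.node (.node (.node .nil (nat_lit 0xdde0b72a62) (nat_lit
  0x358b6a94a6adaa) (nat_lit 0) .nil) (nat_lit 0xddf1940524) (nat_lit 0x6ad6d5b54d) (nat_lit 0) (.node .nil
  (nat_lit 0xde53602fc4) (nat_lit 0x356d5adaa) (nat_lit 0) .nil)) (nat_lit 0xde6766148e) (nat_lit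
  0xa6a94a6a9ab) (nat_lit 0) (.node (.node .nil (nat_lit 0xde6d29d6d5) (nat_lit 0x14d5adaa529aa) (nat_lit 0)
  .nil) (nat_lit 0xde846f4045) (nat_lit 0x5adaa5356d) (nat_lit 0) (.node .nil (nat_lit 0xde874d058d) (nat_lit
  0x1aa5354d529ab) (nat_lit 0) .nil))) (nat_lit 0xde9a911216) (nat_lit 0x18d5b56b6adaa) (nat_lit 0) (.node
  (.node (.node .nil (nat_lit 0xdeca79aca1) (nat_lit 0x2d6d5b54d) (nat_lit 0) .nil) (nat_lit 0xded0248385)
  (nat_lit 0x5adac5b54d) (nat_lit 0) (.node .nil (nat_lit 0xdef1b0e924) (nat_lit 0x2d6d5adab6a9aa) (nat_lit 0)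
  .nil)) (nat_lit 0xdef85cf6de) (nat_lit 0x1aa6a94a6a9ab) (nat_lit 0) (.node (.node .nil (nat_lit
  0xdef8e2c56a) (nat_lit 0x16b6b1aa6a9ab) (nat_lit 0) .nil) (nat_lit 0xdf084cbc7f) (nat_lit 0xb6a9ab) (nat_lit
  0) .nil)))) (nat_lit 0xdf1b9bc1f7) (nat_lit 0x16d6354a5354a) (nat_lit 0) (.node (.node (.node (.node (.node
  .nil (nat_lit 0xdf35c3af39) (nat_lit 0xa5354d529ab) (nat_lit 0) .nil) (nat_lit 0xdf54709573) (nat_lit
  0x18b6a94a6adaa) (nat_lit 0) (.node .nil (nat_lit 0xdf56ccd12b) (nat_lit 0x2dab5b56d6294a) (nat_lit 0)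
  .nil)) (nat_lit 0xdf5b136e63) (nat_lit 0x356d5354a6a94a) (nat_lit 0) (.node (.node .nil (nat_lit
  0xdf5b9f1c48) (nat_lit 0x16d5adaa) (nat_lit 0) .nil) (nat_lit 0xe16c9ea5b3) (nat_lit 0x356d5ad6d5b54a)
  (nat_lit 0) (.node .nil (nat_lit 0xe170f11b5a) (nat_lit 0x1aa6ad6b) (nat_lit 0) .nil))) (nat_lit
  0xe174164041) (nat_lit 0x6adac5b56b) (nat_lit 0) (.node (.node (.node .nil (nat_lit 0xe17a8dc258) (nat_lit
  0x6b16d5ad6d) (nat_lit 0) .nil) (nat_lit 0xe1808c00b1) (nat_lit 404907) (nat_lit 0) (.node .nil (nat_lit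
  0xe183e98c87) (nat_lit 0x5356d5354d) (nat_lit 0) .nil)) (nat_lit 0xe1a3fa66ea) (nat_lit 0xc5b54d5ad6d)
  (nat_lit 0) (.node (.node .nil (nat_lit 0xe1c7eab258) (nat_lit 0x1ab5b56b6b14a) (nat_lit 0) .nil) (nat_lit
  0xe1e5638738) (nat_lit 0x18d5354d5b56b) (nat_lit 0) .nil))) (nat_lit 0xe1fe97aadb) (nat_lit 0x5356b6a9aa)
  (nat_lit 0) (.node (.node (.node (.node .nil (nat_lit 0xe260939249) (nat_lit 0xd62d6b) (nat_lit 0) .nil)
  (nat_lit 0xe28e75780c) (nat_lit 0x5b56d529ab) (nat_lit 0) (.node .nil (nat_lit 0xe962f2126c) (nat_lit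
  437613) (nat_lit 0) .nil)) (nat_lit 0xe96f67a464) (nat_lit 0xd62daa5354d) (nat_lit 0) (.node (.node .nil
  (nat_lit 0xe982c235f6) (nat_lit 0xd5356b) (nat_lit 0) .nil) (nat_lit 0xe992acb5e3) (nat_lit 0x18d5354a6a9aa)
  (nat_lit 0) (.node .nil (nat_lit 0xe9952687ef) (nat_lit 0x14a6adab5b56d) (nat_lit 0) .nil))) (nat_lit
  0xe99737f993) (nat_lit 0x6b1ab6ad6b) (nat_lit 0) (.node (.node (.node .nil (nat_lit 0xe99e96d806) (nat_lit
  0x5b56b5b58a) (nat_lit 0) .nil) (nat_lit 0xe9cc3847cd) (nat_lit 0x5354a5356d) (nat_lit 0) (.node .nil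
  (nat_lit 0xe9e3c412a6) (nat_lit 0x1aa6a94d5adab) (nat_lit 0) .nil)) (nat_lit 0xea2f037028) (nat_lit
  0x5adac5b56d) (nat_lit 0) (.node (.node .nil (nat_lit 0xea578070a7) (nat_lit 0x316d5adaa6a94a) (nat_lit 0)
  .nil) (nat_lit 0xea5ff53d32) (nat_lit 0x294d5adaa6a94a) (nat_lit 0) .nil))))) (nat_lit 0xed4c486e09)
  (nat_lit 0x6a9aa529aa) (nat_lit 0) (.node (.node (.node (.node (.node (.node .nil (nat_lit 0xed56ff456a)
  (nat_lit 0x294a5354d) (nat_lit 0) .nil) (nat_lit 0xed814ef2ec) (nat_lit 0x16d6356b5b54a) (nat_lit 0) (.node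
  .nil (nat_lit 0xed8aa85b6e) (nat_lit 0x16d5b56b) (nat_lit 0) .nil)) (nat_lit 0xed946e7fd3) (nat_lit
  0xd5b54d529ab) (nat_lit 0) (.node (.node .nil (nat_lit 0xed99b89008) (nat_lit 0x2d6b6adaa5354a) (nat_lit 0)
  .nil) (nat_lit 0xeda820172a) (nat_lit 0xa529ab6a9aa) (nat_lit 0) (.node .nil (nat_lit 0xeda98a869f) (nat_lit
  0x18d5b54d529ab) (nat_lit 0) .nil))) (nat_lit 0xedb02d277d) (nat_lit 0x5adac6a9aa) (nat_lit 0) (.node (.node
  (.node .nil (nat_lit 0xee224cde85) (nat_lit 0x5ad6d5b58a) (nat_lit 0) .nil) (nat_lit 0xee4b6be588) (nat_lit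
  0x316d5b56b) (nat_lit 0) (.node .nil (nat_lit 0xee55f44566) (nat_lit 0xc6a9aa529aa) (nat_lit 0) .nil))
  (nat_lit 0xefee8f80e5) (nat_lit 0x1ab6a9aa5354a) (nat_lit 0) (.node (.node .nil (nat_lit 0xeff8db10d3)
  (nat_lit 0xd62dab6ad6d) (nat_lit 0) .nil) (nat_lit 0xf0277fab77) (nat_lit 0x6adab5b58b) (nat_lit 0) .nil)))
  (nat_lit 0xf02e071738) (nat_lit 0xd5adab6b1ab) (nat_lit 0) (.node (.node (.node (.node .nil (nat_lit
  0xf03b4a6847) (nat_lit 0x356d5294d5b54a) (nat_lit 0) .nil) (nat_lit 0xf04c34b341) (nat_lit 0x18b6a94d5356d)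
  (nat_lit 0) (.node .nil (nat_lit 0xf050a1e2a0) (nat_lit 0x16b6b16d5adaa) (nat_lit 0) .nil)) (nat_lit
  0xf062a4994a) (nat_lit 0xb6b1aa529aa) (nat_lit 0) (.node (.node .nil (nat_lit 0xf078ae92da) (nat_lit
  0xd5b58d) (nat_lit 0) .nil) (nat_lit 0xf0e00b2e95) (nat_lit 0xb5b58b6a9ab) (nat_lit 0) (.node .nil (nat_lit
  0xf0edfce834) (nat_lit 0x6356b5b56d) (nat_lit 0) .nil))) (nat_lit 0xf1167b11a4) (nat_lit 0x16d5ad6d6354d)
  (nat_lit 0) (.node (.node (.node .nil (nat_lit 0xf13ff91b22) (nat_lit 0x354d5adaa6a94a) (nat_lit 0) .nil)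
  (nat_lit 0xf1407133cb) (nat_lit 0x1ac5b54a5356d) (nat_lit 0) (.node .nil (nat_lit 0xf14a169a69) (nat_lit
  0x1ac6ad6d5294d) (nat_lit 0) .nil)) (nat_lit 0xf177b318cb) (nat_lit 0x1ab6ad6d) (nat_lit 0) (.node (.node
  .nil (nat_lit 0xf17f37404c) (nat_lit 0x16d6356d5354a) (nat_lit 0) .nil) (nat_lit 0xf18c86677d) (nat_lit
  0x6b16b6ad6d) (nat_lit 0) .nil)))) (nat_lit 0xf1a1ee133c) (nat_lit 0xd62d6d5356b) (nat_lit 0) (.node (.node
  (.node (.node (.node .nil (nat_lit 0xf1cc80247e) (nat_lit 0x14a5356d) (nat_lit 0) .nil) (nat_lit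
  0xf2153a56ca) (nat_lit 0x356d5356b) (nat_lit 0) (.node .nil (nat_lit 0xf2315e837a) (nat_lit 0x16d5adab6b14a)
  (nat_lit 0) .nil)) (nat_lit 0xf24096056e) (nat_lit 0xb6b16b6adab) (nat_lit 0) (.node (.node .nil (nat_lit
  0xf24747df6b) (nat_lit 0x16b6b16d5b54a) (nat_lit 0) .nil) (nat_lit 0xf291f1c109) (nat_lit 0x16b6a94d5356d)
  (nat_lit 0) (.node .nil (nat_lit 0xf2948c3d84) (nat_lit 0x5b56b5b56d) (nat_lit 0) .nil))) (nat_lit
  0xf2c9f65753) (nat_lit 0x14d5294d5b54d) (nat_lit 0) (.node (.node (.node .nil (nat_lit 0xf2cf61e62f)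
  (nat_lit 0x1ac6a9aa5354a) (nat_lit 0) .nil) (nat_lit 0xf2cfdd4773) (nat_lit 0xd529aa6adab) (nat_lit 0)
  (.node .nil (nat_lit 0xf2decaf747) (nat_lit 0x14a6ad6d5adaa) (nat_lit 0) .nil)) (nat_lit 0xf2f17ad0e6)
  (nat_lit 0xd5adab6ad6d) (nat_lit 0) (.node (.node .nil (nat_lit 0xf31eda7801) (nat_lit 0xa6adaa529aa)
  (nat_lit 0) .nil) (nat_lit 0xf35f242f1d) (nat_lit 0xd5356d) (nat_lit 0) .nil))) (nat_lit 0xf366b0f914)
  (nat_lit 0x358d5294d5b54a) (nat_lit 0) (.node (.node (.node (.node .nil (nat_lit 0xf36a4660bc) (nat_lit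
  0xa5356b6a9ab) (nat_lit 0) .nil) (nat_lit 0xf39213a0f1) (nat_lit 0x6a9aa5356b) (nat_lit 0) (.node .nil
  (nat_lit 0xf68ff047b9) (nat_lit 0xb6b16d5b54a) (nat_lit 0) .nil)) (nat_lit 0xf696442b7a) (nat_lit
  0x16b6adaa5356d) (nat_lit 0) (.node (.node .nil (nat_lit 0xf69c556a4c) (nat_lit 0x29ab6ad6d) (nat_lit 0)
  .nil) (nat_lit 0xf6afa77f31) (nat_lit 0xd5adab6b14a) (nat_lit 0) (.node .nil (nat_lit 0xf6ba28b9f7) (nat_lit
  0x18d529aa6a94a) (nat_lit 0) .nil))) (nat_lit 0xf6bf88b66b) (nat_lit 0x5356d5356b) (nat_lit 0) (.node (.node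
  (.node .nil (nat_lit 0xf6c20f1907) (nat_lit 0x6b16b6adab) (nat_lit 0) .nil) (nat_lit 0xf6dc5e825d) (nat_lit
  0x1ab5b56d5354a) (nat_lit 0) (.node .nil (nat_lit 0xf70cce98be) (nat_lit 0x16d5b54d529aa) (nat_lit 0) .nil))
  (nat_lit 0xf759c34f1a) (nat_lit 0x1aa6a9aa) (nat_lit 0) (.node (.node .nil (nat_lit 0xf7845cd9c4) (nat_lit
  0xd6356d5354a) (nat_lit 0) .nil) (nat_lit 0xf7aa4d8df6) (nat_lit 0x5b54a6a94a) (nat_lit 0) .nil))))))
def tF_1 : T := (.node (.node (.node (.node (.node (.node (.node .nil (nat_lit 0xf9267b8eb0) (nat_lit 395)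
  (nat_lit 395) .nil) (nat_lit 0xf94a9b6569) (nat_lit 0x14a6a94d5b54a) (nat_lit 0) (.node .nil (nat_lit
  0xf961f40c22) (nat_lit 0x14d5b56d5354d) (nat_lit 0) .nil)) (nat_lit 0xf9702e9553) (nat_lit 0x14d5294d5354a)
  (nat_lit 0) (.node (.node .nil (nat_lit 0xf99c243d16) (nat_lit 0xd62d6d) (nat_lit 0) .nil) (nat_lit
  0xf99c6bf421) (nat_lit 0x5b54d5adab) (nat_lit 0) (.node .nil (nat_lit 0xf9b3637780) (nat_lit 0x2d6d62dab)
  (nat_lit 0) .nil))) (nat_lit 0xf9fe742895) (nat_lit 0x356d529ab6a94a) (nat_lit 0) (.node (.node (.node .nil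
  (nat_lit 0xfa0f1d2c25) (nat_lit 0x31ab5adaa) (nat_lit 0) .nil) (nat_lit 0xfa2889c8c4) (nat_lit 0xb6ad6b)
  (nat_lit 0) (.node .nil (nat_lit 0xfa2f80252d) (nat_lit 0xc5b56b6a94a) (nat_lit 0) .nil)) (nat_lit
  0xfa774c0935) (nat_lit 0xb6ad6b6b14a) (nat_lit 0) (.node (.node .nil (nat_lit 0xfa7b26007d) (nat_lit
  0x1ab5adac6a9aa) (nat_lit 0) .nil) (nat_lit 0xfa9c9bf65d) (nat_lit 0x354a5354d) (nat_lit 0) .nil))) (nat_lit
  0xfab1ca7757) (nat_lit 0x6ad6d5b56b) (nat_lit 0) (.node (.node (.node (.node .nil (nat_lit 0xfab730d8bb)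
  (nat_lit 0xa6a94a6adaa) (nat_lit 0) .nil) (nat_lit 0xfabdcf1a25) (nat_lit 0xb6adab5b54a) (nat_lit 0) (.node
  .nil (nat_lit 0xfad939a738) (nat_lit 0x2dab6b1ab5b56b) (nat_lit 0) .nil)) (nat_lit 0xfb0407fd38) (nat_lit
  0x31ab6ad6b6adaa) (nat_lit 0) (.node (.node .nil (nat_lit 0xfb590acf86) (nat_lit 0xb6a9ab6adaa) (nat_lit 0)
  .nil) (nat_lit 0xfb720d0412) (nat_lit 0x31aa6adaa) (nat_lit 0) (.node .nil (nat_lit 0xfb799b7111) (nat_lit
  0x358d5b56b) (nat_lit 0) .nil))) (nat_lit 0xfb7a7d0d97) (nat_lit 0x6354d529ab) (nat_lit 0) (.node (.node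
  (.node .nil (nat_lit 0xfd181bfa82) (nat_lit 0x14a5356d529ab) (nat_lit 0) .nil) (nat_lit 0xfd1a5d5ac5)
  (nat_lit 0x6a94a6a9aa) (nat_lit 0) (.node .nil (nat_lit 0xfd3e94e083) (nat_lit 0x18d5294a) (nat_lit 0)
  .nil)) (nat_lit 0xfd4026a61a) (nat_lit 0x29ab5b54a) (nat_lit 0) (.node (.node .nil (nat_lit 0xfd55e09fa0)
  (nat_lit 0x16d5354a) (nat_lit 0) .nil) (nat_lit 0xfd6405cb73) (nat_lit 0x356b6adab) (nat_lit 0) .nil))))
  (nat_lit 0xfd69343139) (nat_lit 0xb6b14a) (nat_lit 0) (.node (.node (.node (.node (.node .nil (nat_lit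
  0xfd69649624) (nat_lit 0xc6adab5b56b) (nat_lit 0) .nil) (nat_lit 0xfd901c68fe) (nat_lit 0x2dab6a94d5b54a)
  (nat_lit 0) (.node .nil (nat_lit 0xfd9036a0c3) (nat_lit 0x31aa6a94d) (nat_lit 0) .nil)) (nat_lit
  0xfe21df01d2) (nat_lit 0xc6ad6d5adab) (nat_lit 0) (.node (.node .nil (nat_lit 0xfe48dbe540) (nat_lit
  0x16d5b58b6a94a) (nat_lit 0) .nil) (nat_lit 0xfe6bcbc191) (nat_lit 0xc5b54d529ab) (nat_lit 0) (.node .nil
  (nat_lit 0xfe865d577f) (nat_lit 0x6adab5b54a) (nat_lit 0) .nil))) (nat_lit 0xfe96d3df9c) (nat_lit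
  0x5354a5354d) (nat_lit 0) (.node (.node (.node .nil (nat_lit 0xfea9c9bbe9) (nat_lit 0x358b5adab) (nat_lit 0)
  .nil) (nat_lit 0xfeabdec9c7) (nat_lit 0x16d5b58b6a9ab) (nat_lit 0) (.node .nil (nat_lit 0xfeb4228fea)
  (nat_lit 0x14a6a94a6adaa) (nat_lit 0) .nil)) (nat_lit 0xfec9897fbf) (nat_lit 0x1ab5b56b6adab) (nat_lit 0)
  (.node (.node .nil (nat_lit 0xfef2566fe4) (nat_lit 0xa6ad6d5b56b) (nat_lit 0) .nil) (nat_lit 0xfef5dd7f24)
  (nat_lit 0x6a9ab6adaa) (nat_lit 0) .nil))) (nat_lit 0xff42d26298) (nat_lit 0x6ad6b6b14a) (nat_lit 0) (.node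
  (.node (.node (.node .nil (nat_lit 0xff4e07a01b) (nat_lit 0x1ab6b1ab5b56b) (nat_lit 0) .nil) (nat_lit
  0xff7334b354) (nat_lit 0x62daa6adaa) (nat_lit 0) (.node .nil (nat_lit 0x108f33d1525) (nat_lit 0x1ac5ad6d)
  (nat_lit 0) .nil)) (nat_lit 0x108f757f4ae) (nat_lit 0x356d5adab5b58a) (nat_lit 0) (.node (.node .nil
  (nat_lit 0x1090ab10381) (nat_lit 0x16b6a9aa529aa) (nat_lit 0) .nil) (nat_lit 0x1090e631066) (nat_lit
  0xa5354d) (nat_lit 0) (.node .nil (nat_lit 0x1092c3fcec7) (nat_lit 0xc5b54d5b54a) (nat_lit 0) .nil)))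
  (nat_lit 0x10935cdb686) (nat_lit 0x18b6adaa5354a) (nat_lit 0) (.node (.node (.node .nil (nat_lit
  0x10944b821d5) (nat_lit 0xd6356b) (nat_lit 0) .nil) (nat_lit 0x1095347c664) (nat_lit 0xd5b56b5b54a) (nat_lit
  0) (.node .nil (nat_lit 0x10954a357c3) (nat_lit 0x1ac6adab5adaa) (nat_lit 0) .nil)) (nat_lit 0x1096bc228a6)
  (nat_lit 0xd5b58d5adab) (nat_lit 0) (.node (.node .nil (nat_lit 0x109e7613c70) (nat_lit 0x29ab6a9aa)
  (nat_lit 0) .nil) (nat_lit 0x109f76ea52e) (nat_lit 0x529ab6a94a) (nat_lit 0) .nil))))) (nat_lit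
  0x110ddf57a1a) (nat_lit 13706) (nat_lit 0) (.node (.node (.node (.node (.node (.node .nil (nat_lit
  0x110e99362a7) (nat_lit 0xd529ab6a94d) (nat_lit 0) .nil) (nat_lit 0x11108f4fa79) (nat_lit 0x6b16b6a94d)
  (nat_lit 0) (.node .nil (nat_lit 0x1111bbae632) (nat_lit 0x294d5b54a) (nat_lit 0) .nil)) (nat_lit
  0x11124938ecc) (nat_lit 0x1aa5354a) (nat_lit 0) (.node (.node .nil (nat_lit 0x1112cad71b5) (nat_lit
  0x6adac5adaa) (nat_lit 0) .nil) (nat_lit 0x1113b97af3a) (nat_lit 0xa6a94d5b56b) (nat_lit 0) (.node .nil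
  (nat_lit 0x11167e0879a) (nat_lit 0x5356b5b54d) (nat_lit 0) .nil))) (nat_lit 0x1116a01623d) (nat_lit
  0x18b6a94a) (nat_lit 0) (.node (.node (.node .nil (nat_lit 0x1116b74744f) (nat_lit 0xb5b54d5294d) (nat_lit
  0) .nil) (nat_lit 0x111e07987dd) (nat_lit 0x6b1aa529ab) (nat_lit 0) (.node .nil (nat_lit 0x111e538ee15)
  (nat_lit 0xc5b56d529aa) (nat_lit 0) .nil)) (nat_lit 0x1122cd33605) (nat_lit 0xd6354d529aa) (nat_lit 0)
  (.node (.node .nil (nat_lit 0x11249a36fc4) (nat_lit 0xc6adaa5356d) (nat_lit 0) .nil) (nat_lit 0x11254b988ab)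
  (nat_lit 0x6ad6d5b54a) (nat_lit 0) .nil))) (nat_lit 0x11264de7ed7) (nat_lit 0x6b1aa5294a) (nat_lit 0) (.node
  (.node (.node (.node .nil (nat_lit 0x1127cb59d3f) (nat_lit 0xb5b58d5356b) (nat_lit 0) .nil) (nat_lit
  0x1128c3d2177) (nat_lit 0xd6354a6a94d) (nat_lit 0) (.node .nil (nat_lit 0x113058b7c23) (nat_lit 0x358b5b56b)
  (nat_lit 0) .nil)) (nat_lit 0x113067bded2) (nat_lit 0x5adac6ad6d) (nat_lit 0) (.node (.node .nil (nat_lit
  0x11321953ee1) (nat_lit 0x5b54a6a9aa) (nat_lit 0) .nil) (nat_lit 0x113305ddf71) (nat_lit 0xd5356b5b54a)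
  (nat_lit 0) (.node .nil (nat_lit 0x11336644a70) (nat_lit 0xd529aa5354d) (nat_lit 0) .nil))) (nat_lit
  0x1133abf2950) (nat_lit 0xb6ad6b6adab) (nat_lit 0) (.node (.node (.node .nil (nat_lit 0x13b1b39b994)
  (nat_lit 0x358d5adaa) (nat_lit 0) .nil) (nat_lit 0x13b21bd58ce) (nat_lit 0x6b16d5b54d) (nat_lit 0) (.node
  .nil (nat_lit 0x13b2ca6a9dc) (nat_lit 0x1ac6a9ab) (nat_lit 0) .nil)) (nat_lit 0x13b3ce99e1b) (nat_lit
  0x1ab5b56d5adac) (nat_lit 0) (.node (.node .nil (nat_lit 0x13b469f6de1) (nat_lit 0x18d5354a6a94a) (nat_lit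
  0) .nil) (nat_lit 0x13b55ef03ef) (nat_lit 0x354d5b54a5354a) (nat_lit 0) .nil)))) (nat_lit 0x13b645eb1e9)
  (nat_lit 0x62daa5356d) (nat_lit 0) (.node (.node (.node (.node (.node .nil (nat_lit 0x13b8f3e5558) (nat_lit
  0x356b6a94a6adaa) (nat_lit 0) .nil) (nat_lit 0x13bde6c1a17) (nat_lit 0x16b6ad6d5b58d) (nat_lit 0) (.node
  .nil (nat_lit 0x13be8e6a8d7) (nat_lit 0x16d62daa529aa) (nat_lit 0) .nil)) (nat_lit 0x13bf3190e3c) (nat_lit
  0xb6ad6b6adac) (nat_lit 0) (.node (.node .nil (nat_lit 0x13c0e6f5162) (nat_lit 0x1aa6a94d5354a) (nat_lit 0)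
  .nil) (nat_lit 0x14048b9ffcb) (nat_lit 0x356d5ad6d5b58a) (nat_lit 0) (.node .nil (nat_lit 0x14049e177c3)
  (nat_lit 0x31ab5b54a) (nat_lit 0) .nil))) (nat_lit 0x1404c0c963a) (nat_lit 0x14d5294a) (nat_lit 0) (.node
  (.node (.node .nil (nat_lit 0x1404c222655) (nat_lit 0x16b6a9ab5b56b) (nat_lit 0) .nil) (nat_lit
  0x1407200bc4f) (nat_lit 0x5b58d529ab) (nat_lit 0) (.node .nil (nat_lit 0x1408798854d) (nat_lit
  0xa6ad6d5adab) (nat_lit 0) .nil)) (nat_lit 0x140d65d2938) (nat_lit 0x29aa6a94d) (nat_lit 0) (.node (.node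
  .nil (nat_lit 0x140d90f3801) (nat_lit 0xc5b56b6adab) (nat_lit 0) .nil) (nat_lit 0x14134c8407b) (nat_lit
  0xa6adab5b56b) (nat_lit 0) .nil))) (nat_lit 0x1415394145e) (nat_lit 0x2dac6adaa) (nat_lit 0) (.node (.node
  (.node (.node .nil (nat_lit 0x1415512061e) (nat_lit 0xa529aa) (nat_lit 0) .nil) (nat_lit 0x1417aa7761e)
  (nat_lit 0x18b6a94a6a9aa) (nat_lit 0) (.node .nil (nat_lit 0x1443ef5495c) (nat_lit 0xc6a94a6a9ab) (nat_lit
  0) .nil)) (nat_lit 0x14440c03827) (nat_lit 0x1ac5b56d5adaa) (nat_lit 0) (.node (.node .nil (nat_lit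
  0x14444a0d58c) (nat_lit 0x18d5adaa529aa) (nat_lit 0) .nil) (nat_lit 0x14454ebc6dd) (nat_lit 0x2d6d5b58d)
  (nat_lit 0) (.node .nil (nat_lit 0x14458183a63) (nat_lit 0x2d6d5adab6b1ab) (nat_lit 0) .nil))) (nat_lit
  0x14479e36348) (nat_lit 0x358d5adaa529aa) (nat_lit 0) (.node (.node (.node .nil (nat_lit 0x1447f684504)
  (nat_lit 0x18b6ad6d5b54d) (nat_lit 0) .nil) (nat_lit 0x14485277b8b) (nat_lit 0x14d5b56b6adaa) (nat_lit 0)
  (.node .nil (nat_lit 0x1448ec23d64) (nat_lit 0x5b58b5b56d) (nat_lit 0) .nil)) (nat_lit 0x144b5c6adbc)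
  (nat_lit 0x6ad6d5b58d) (nat_lit 0) (.node (.node .nil (nat_lit 0x144cec15f73) (nat_lit 0x16b6adab5b58b)
  (nat_lit 0) .nil) (nat_lit 0x14542058591) (nat_lit 0xc5b56d5adaa) (nat_lit 0) .nil))))))
def tF_2 : T := (.node (.node (.node (.node (.node (.node (.node .nil (nat_lit 0x145a2daf4be) (nat_lit
  0xa6adaa6a9ab) (nat_lit 0) .nil) (nat_lit 0x145b64d660b) (nat_lit 0x18d5adab6a9aa) (nat_lit 0) (.node .nil
  (nat_lit 0x145cca80965) (nat_lit 0x356d6356b6a94a) (nat_lit 0) .nil)) (nat_lit 0x145dbc04cdd) (nat_lit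
  0xd62daa) (nat_lit 0) (.node (.node .nil (nat_lit 0x145df2b779d) (nat_lit 437676) (nat_lit 0) .nil) (nat_lit
  0x14606d70b2e) (nat_lit 0x6a94d5354a) (nat_lit 0) (.node .nil (nat_lit 0x1461a22dad4) (nat_lit 0x18d5b54d)
  (nat_lit 0) .nil))) (nat_lit 0x1461c6a7846) (nat_lit 0x1ab5b56b6a9aa) (nat_lit 0) (.node (.node (.node .nil
  (nat_lit 0x14679fc5839) (nat_lit 0xa5356b6adaa) (nat_lit 0) .nil) (nat_lit 0x14683f95690) (nat_lit
  0x316d5b54a6adaa) (nat_lit 0) (.node .nil (nat_lit 0x14693e4d3aa) (nat_lit 0xd5b54a5354a) (nat_lit 0) .nil))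
  (nat_lit 0x1555ddc62d5) (nat_lit 0x16d5b58d) (nat_lit 0) (.node (.node .nil (nat_lit 0x15582b76055) (nat_lit
  0x1aa6a94d5356b) (nat_lit 0) .nil) (nat_lit 0x1559aedc53d) (nat_lit 0x16b6b1aa529aa) (nat_lit 0) .nil)))
  (nat_lit 0x155a091de5f) (nat_lit 0xd5354a6ad6d) (nat_lit 0) (.node (.node (.node (.node .nil (nat_lit
  0x155a15dca4a) (nat_lit 0x358b5b56d) (nat_lit 0) .nil) (nat_lit 0x155a94a76d3) (nat_lit 0x316b6ad6d5b54d)
  (nat_lit 0) (.node .nil (nat_lit 0x155af995f29) (nat_lit 0x16d5adab6b1ab) (nat_lit 0) .nil)) (nat_lit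
  0x155be509af2) (nat_lit 0x16d62dab6ad6d) (nat_lit 0) (.node (.node .nil (nat_lit 0x155e791168f) (nat_lit
  0x2dab6a9aa5354a) (nat_lit 0) .nil) (nat_lit 0x155ef3ef895) (nat_lit 0x18b6a94a6a9ab) (nat_lit 0) (.node
  .nil (nat_lit 0x1563651a204) (nat_lit 0xc6a94d5356d) (nat_lit 0) .nil))) (nat_lit 0x15662d52073) (nat_lit
  0xb6adab5b58b) (nat_lit 0) (.node (.node (.node .nil (nat_lit 0x16921d1eac7) (nat_lit 0x1ac6a94a6adaa)
  (nat_lit 0) .nil) (nat_lit 0x169385f96a7) (nat_lit 0x16b6a9aa5356b) (nat_lit 0) (.node .nil (nat_lit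
  0x1693edc92a1) (nat_lit 0x2dab6b1ab5b54a) (nat_lit 0) .nil)) (nat_lit 0x16963c118c6) (nat_lit 0x6a9aa6adaa)
  (nat_lit 0) (.node (.node .nil (nat_lit 0x16973277234) (nat_lit 0x16d5294d5b54d) (nat_lit 0) .nil) (nat_lit
  0x1697d9a723f) (nat_lit 0x14d5ad6d5356d) (nat_lit 0) .nil)))) (nat_lit 0x1698177005a) (nat_lit 0x6ad6d5adaa)
  (nat_lit 0) (.node (.node (.node (.node (.node .nil (nat_lit 0x169fa84212c) (nat_lit 0x29ab6a9aa6adaa)
  (nat_lit 0) .nil) (nat_lit 0x169ff556c6f) (nat_lit 0x2d6d5356d) (nat_lit 0) (.node .nil (nat_lit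
  0x16a0626dd9d) (nat_lit 0x529aa5356d) (nat_lit 0) .nil)) (nat_lit 0x16a16d8c9cb) (nat_lit 0x356b6a9ab)
  (nat_lit 0) (.node (.node .nil (nat_lit 0x16a25864339) (nat_lit 0x2dac5b56b6adaa) (nat_lit 0) .nil) (nat_lit
  0x16bd2cd6f15) (nat_lit 0x6ad6d5354a) (nat_lit 0) (.node .nil (nat_lit 0x16be94f46ed) (nat_lit 0xb5b54a)
  (nat_lit 0) .nil))) (nat_lit 0x16c04ef9064) (nat_lit 0x16b6a9aa529ab) (nat_lit 0) (.node (.node (.node .nil
  (nat_lit 0x16c060af5dc) (nat_lit 0x356b6b14a) (nat_lit 0) .nil) (nat_lit 0x16c064476a2) (nat_lit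
  0x1aa5356d529ab) (nat_lit 0) (.node .nil (nat_lit 0x16c0e36d2d0) (nat_lit 0x14d5ad6d5b54a) (nat_lit 0)
  .nil)) (nat_lit 0x16c2825e424) (nat_lit 0xd5b56b6adab) (nat_lit 0) (.node (.node .nil (nat_lit
  0x16c2fd96282) (nat_lit 0x5adab6a94d) (nat_lit 0) .nil) (nat_lit 0x16ca8af5f28) (nat_lit 0x31ab5b56b)
  (nat_lit 0) .nil))) (nat_lit 0x16ccf28c10b) (nat_lit 0x316d5adab) (nat_lit 0) (.node (.node (.node (.node
  .nil (nat_lit 0x16cd1c85bd1) (nat_lit 0x2dab5b58a) (nat_lit 0) .nil) (nat_lit 0x16cecf2fcde) (nat_lit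
  0x18a5294a) (nat_lit 0x18a5294a) (.node .nil (nat_lit 0x1710c914e3c) (nat_lit 12651) (nat_lit 12651) .nil))
  (nat_lit 0x17120abeed8) (nat_lit 0x294a6a94d5b54a) (nat_lit 0) (.node (.node .nil (nat_lit 0x1712e8d387a)
  (nat_lit 0x16d5356b6a9aa) (nat_lit 0) .nil) (nat_lit 0x171375c2045) (nat_lit 0x356d5ad6d) (nat_lit 0) (.node
  .nil (nat_lit 0x17144ddf613) (nat_lit 0x294d5294d5354a) (nat_lit 0) .nil))) (nat_lit 0x1714603d687) (nat_lit
  437611) (nat_lit 0) (.node (.node (.node .nil (nat_lit 0x17151d2d37e) (nat_lit 0x62dab5adaa) (nat_lit 0)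
  .nil) (nat_lit 0x171711d20cb) (nat_lit 0x5adac5b56b) (nat_lit 0) (.node .nil (nat_lit 0x171e1672fe9)
  (nat_lit 0x18d5ad6d) (nat_lit 0) .nil)) (nat_lit 0x171ed20d47f) (nat_lit 0x354d5adab) (nat_lit 0) (.node
  (.node .nil (nat_lit 0x17216f01bea) (nat_lit 0x16d62dab) (nat_lit 0) .nil) (nat_lit 0x17239a37419) (nat_lit
  0x16b6a9aa5354d) (nat_lit 0) .nil))))) (nat_lit 0x177ba44af82) (nat_lit 0x356b6b1aa) (nat_lit 0) (.node
  (.node (.node (.node (.node (.node .nil (nat_lit 0x177bab52458) (nat_lit 0x5ad6d529ab) (nat_lit 0) .nil)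
  (nat_lit 0x177cda5fa2e) (nat_lit 0x62d6d529ab) (nat_lit 0) (.node .nil (nat_lit 0x177ce7f6428) (nat_lit
  0x316b6adaa) (nat_lit 0) .nil)) (nat_lit 0x177d8b78015) (nat_lit 0x354a6adaa) (nat_lit 0) (.node (.node .nil
  (nat_lit 0x177df7f215e) (nat_lit 0x6ad6d5adac) (nat_lit 0) .nil) (nat_lit 0x178176af681) (nat_lit
  0x5354a6a9ab) (nat_lit 0) (.node .nil (nat_lit 0x17830a06d53) (nat_lit 0x1ab6b16b6a9ab) (nat_lit 0) .nil)))
  (nat_lit 0x17831126bce) (nat_lit 0x5b56b6adac) (nat_lit 0) (.node (.node (.node .nil (nat_lit 0x178839b041f)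
  (nat_lit 0x6a94d529ab) (nat_lit 0) .nil) (nat_lit 0x178c7f73663) (nat_lit 0x2d6b6adaa) (nat_lit 0) (.node
  .nil (nat_lit 0x178d01265b9) (nat_lit 0x1aa6ad6b6a9ab) (nat_lit 0) .nil)) (nat_lit 0x17e43702be6) (nat_lit
  0x1aa5354d5adaa) (nat_lit 0) (.node (.node .nil (nat_lit 0x17e4a0a13c5) (nat_lit 0xc6adab) (nat_lit 0) .nil)
  (nat_lit 0x17e72a06a35) (nat_lit 0xb6adac5b54a) (nat_lit 0) .nil))) (nat_lit 0x17e772057bd) (nat_lit
  0xb6adaa6a94d) (nat_lit 0) (.node (.node (.node (.node .nil (nat_lit 0x17e782cd676) (nat_lit 0x356d6356b)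
  (nat_lit 0) .nil) (nat_lit 0x17e7ed94a22) (nat_lit 0x14d5354a5354a) (nat_lit 0) (.node .nil (nat_lit
  0x17e835217b4) (nat_lit 0xb6a9aa) (nat_lit 0) .nil)) (nat_lit 0x17ec50b49ff) (nat_lit 0x316d5b56d) (nat_lit
  0) (.node (.node .nil (nat_lit 0x17f19f3ea06) (nat_lit 0x18d5b54d5ad6d) (nat_lit 0) .nil) (nat_lit
  0x17f3b7c9ba0) (nat_lit 0x2d6d5b54a6a94a) (nat_lit 0) (.node .nil (nat_lit 0x17f416797b9) (nat_lit 0xd5354d)
  (nat_lit 0) .nil))) (nat_lit 0x17f5e44879d) (nat_lit 0x6a9ab6a94a) (nat_lit 0) (.node (.node (.node .nil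
  (nat_lit 0x180d90ef637) (nat_lit 0x6356d5354a6a94a) (nat_lit 0) .nil) (nat_lit 0x180ded5d8ff) (nat_lit
  0x316d5adaa) (nat_lit 0) (.node .nil (nat_lit 0x180f5f44e8f) (nat_lit 0xb6a94a6adaa) (nat_lit 0) .nil))
  (nat_lit 0x1810761fdb9) (nat_lit 0xd5adab5b58d) (nat_lit 0) (.node (.node .nil (nat_lit 0x181186aa52e)
  (nat_lit 0x14a6a94d5354a) (nat_lit 0) .nil) (nat_lit 0x18125a6f812) (nat_lit 0x62d6d5adab6a9aa) (nat_lit 0)
  .nil)))) (nat_lit 0x1812a3b59d2) (nat_lit 0x16b6ad6d5b56b) (nat_lit 0) (.node (.node (.node (.node (.node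
  .nil (nat_lit 0x18169a8d6ef) (nat_lit 0x2dab6b1aa) (nat_lit 0) .nil) (nat_lit 0x1816a36ece8) (nat_lit
  0xb5b54a5354d) (nat_lit 0) (.node .nil (nat_lit 0x181b58ed225) (nat_lit 0x2dac6ad6b6adaa) (nat_lit 0) .nil))
  (nat_lit 0x181bada34af) (nat_lit 0x18b6a9ab) (nat_lit 0) (.node (.node .nil (nat_lit 0x18209536ccc) (nat_lit
  0x5b56d5adac) (nat_lit 0) .nil) (nat_lit 0x18238a65694) (nat_lit 0x2dab6a9ab) (nat_lit 0) (.node .nil
  (nat_lit 0x1823f064b8b) (nat_lit 0xb6ad6d5b54d) (nat_lit 0) .nil))) (nat_lit 0x18245258bfe) (nat_lit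
  0xa6a94d5356d) (nat_lit 0) (.node (.node (.node .nil (nat_lit 0x1824e0a6f2e) (nat_lit 0xd5adaa529aa)
  (nat_lit 0) .nil) (nat_lit 0x182630466c8) (nat_lit 0xb5adaa5356d) (nat_lit 0) (.node .nil (nat_lit
  0x1826cbf4a26) (nat_lit 0x6a94a6a9ab) (nat_lit 0) .nil)) (nat_lit 0x1828519fa9d) (nat_lit 0xd6356b6adaa)
  (nat_lit 0) (.node (.node .nil (nat_lit 0x182a1bce58c) (nat_lit 0x5b56d5adaa) (nat_lit 0) .nil) (nat_lit
  0x183028a978a) (nat_lit 0x29ab5b56d5adaa) (nat_lit 0) .nil))) (nat_lit 0x183049eb45f) (nat_lit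
  0xd62dab5b54d) (nat_lit 0) (.node (.node (.node (.node .nil (nat_lit 0x1832f21e2dc) (nat_lit
  0x5b56d6354a5354a) (nat_lit 0) .nil) (nat_lit 0x18335aa5709) (nat_lit 0x6a94d5adab6a9aa) (nat_lit 0) (.node
  .nil (nat_lit 0x18e2d13c5ea) (nat_lit 0xb5adaa5354a) (nat_lit 0) .nil)) (nat_lit 0x18e33e1af67) (nat_lit
  0x2dac5294a) (nat_lit 0) (.node (.node .nil (nat_lit 0x18e43cb7a9b) (nat_lit 0x1aa6ad6d) (nat_lit 0) .nil)
  (nat_lit 0x18e454cb564) (nat_lit 0xa529aa5354d) (nat_lit 0) (.node .nil (nat_lit 0x18e4fc947fc) (nat_lit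
  0xc5b56d5adab) (nat_lit 0) .nil))) (nat_lit 0x18e528abca1) (nat_lit 0x16b6a94d5b56b) (nat_lit 0) (.node
  (.node (.node .nil (nat_lit 0x18e8fdf4817) (nat_lit 0xc5b54d529aa) (nat_lit 0) .nil) (nat_lit 0x18e9692ad72)
  (nat_lit 0x5b58d529aa) (nat_lit 0) (.node .nil (nat_lit 0x18e973219cf) (nat_lit 0xc5b54a6a94d) (nat_lit 0)
  .nil)) (nat_lit 0x18ed75a2df9) (nat_lit 0x2daa6ad6d5354a) (nat_lit 0) (.node (.node .nil (nat_lit
  0x18ee7b8cc4e) (nat_lit 0x16d5b54a) (nat_lit 0) .nil) (nat_lit 0x18f36162d7f) (nat_lit 0x16b5b58a) (nat_lit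
  0) .nil))))))
def tF_3 : T := (.node (.node (.node (.node (.node (.node (.node .nil (nat_lit 0x193891d4a9a) (nat_lit
  0x5b54a6adab) (nat_lit 0) .nil) (nat_lit 0x1938b960e5a) (nat_lit 0x2dab6b1ab) (nat_lit 0) (.node .nil
  (nat_lit 0x1938d8c063b) (nat_lit 0x5b54d5b56d) (nat_lit 0) .nil)) (nat_lit 0x1939503286f) (nat_lit
  0xd5294d5b54a) (nat_lit 0) (.node (.node .nil (nat_lit 0x193a5e13079) (nat_lit 0x1ac6a9ab5adaa) (nat_lit 0)
  .nil) (nat_lit 0x193d62c427c) (nat_lit 0x1ab5adaa5354d) (nat_lit 0) (.node .nil (nat_lit 0x193da4b966c)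
  (nat_lit 0xb5b58d5294d) (nat_lit 0) .nil))) (nat_lit 0x19423555879) (nat_lit 0x1ab5b58b) (nat_lit 0) (.node
  (.node (.node .nil (nat_lit 0x1944fe5e214) (nat_lit 0x18d5b56b5b56d) (nat_lit 0) .nil) (nat_lit
  0x194565a35db) (nat_lit 0x6a9aa5354a) (nat_lit 0) (.node .nil (nat_lit 0x19473af85aa) (nat_lit 13709)
  (nat_lit 0) .nil)) (nat_lit 0x1989e77b1cc) (nat_lit 0xa5356d5adab) (nat_lit 0) (.node (.node .nil (nat_lit
  0x198a5f73894) (nat_lit 0x31aa5354d) (nat_lit 0) .nil) (nat_lit 0x198d0be0ce5) (nat_lit 0xd6356d5ad6d)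
  (nat_lit 0) .nil))) (nat_lit 0x198d2b4576b) (nat_lit 13675) (nat_lit 0) (.node (.node (.node (.node .nil
  (nat_lit 0x198d96a9711) (nat_lit 0x18d529ab6a94a) (nat_lit 0) .nil) (nat_lit 0x198db13c4a8) (nat_lit
  0xa5354d529aa) (nat_lit 0) (.node .nil (nat_lit 0x198f087f229) (nat_lit 0x6a94d5adab) (nat_lit 0) .nil))
  (nat_lit 0x1992063a521) (nat_lit 0x1ac6ad6b) (nat_lit 0) (.node (.node .nil (nat_lit 0x19969d4a2ad) (nat_lit
  0xa5354a6a94d) (nat_lit 0) .nil) (nat_lit 0x19975023553) (nat_lit 0x6adab5adaa) (nat_lit 0) (.node .nil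
  (nat_lit 0x1999540097d) (nat_lit 0x356d62daa6ad6b) (nat_lit 0) .nil))) (nat_lit 0x1999b1bf781) (nat_lit
  372077) (nat_lit 0) (.node (.node (.node .nil (nat_lit 0x19b33f0cf4b) (nat_lit 0xd6354a6adaa) (nat_lit 0)
  .nil) (nat_lit 0x19b35d22f59) (nat_lit 0x16b6adac) (nat_lit 0) (.node .nil (nat_lit 0x19b3897b672) (nat_lit
  0x2dab5b54d) (nat_lit 0) .nil)) (nat_lit 0x19b4870647d) (nat_lit 0x16b6a94d5354a) (nat_lit 0) (.node (.node
  .nil (nat_lit 0x19b4a0d02b2) (nat_lit 0x6adac5adab) (nat_lit 0) .nil) (nat_lit 0x19b5a241b4b) (nat_lit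
  0x2d6d62daa) (nat_lit 0) .nil)))) (nat_lit 0x19b7dac662a) (nat_lit 0x16d5354d5b54a) (nat_lit 0) (.node
  (.node (.node (.node (.node .nil (nat_lit 0x19b8df3660b) (nat_lit 0x356b6adaa) (nat_lit 0) .nil) (nat_lit
  0x19b92a3f6c1) (nat_lit 0x16d6354d) (nat_lit 0) (.node .nil (nat_lit 0x19bab3f02a4) (nat_lit 0xb6adaa6a9ab)
  (nat_lit 0) .nil)) (nat_lit 0x19bc416b254) (nat_lit 0x16d62dab6a9aa) (nat_lit 0) (.node (.node .nil (nat_lit
  0x19c5435fbf8) (nat_lit 0x1aa6a94d529ab) (nat_lit 0) .nil) (nat_lit 0x1ab069342bf) (nat_lit 0x294a6a94d)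
  (nat_lit 0) (.node .nil (nat_lit 0x1ab09533584) (nat_lit 372075) (nat_lit 372075) .nil))) (nat_lit
  0x1ab0f398ab4) (nat_lit 0x18d5ad6d5b54a) (nat_lit 0) (.node (.node (.node .nil (nat_lit 0x1ab15de5d21)
  (nat_lit 0x5b58d5ad6d) (nat_lit 0) .nil) (nat_lit 0x1ab1941aa1f) (nat_lit 0xd5adab) (nat_lit 0) (.node .nil
  (nat_lit 0x1ab3001d939) (nat_lit 0x18b6ad6d5354a) (nat_lit 0) .nil)) (nat_lit 0x1ab5d4b3ba0) (nat_lit
  0xc6a9aa5354d) (nat_lit 0) (.node (.node .nil (nat_lit 0x1ab7ab6ec6d) (nat_lit 0x294d529aa) (nat_lit 0)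
  .nil) (nat_lit 0x1ab901de1ff) (nat_lit 0xd5b58b6a9aa) (nat_lit 0) .nil))) (nat_lit 0x1ab936ec655) (nat_lit
  0xb6b16b) (nat_lit 0) (.node (.node (.node (.node .nil (nat_lit 0x1ab946589bc) (nat_lit 0x5b56d62dab)
  (nat_lit 0) .nil) (nat_lit 0x1abf5ed297f) (nat_lit 0x29ab5b56b) (nat_lit 0) (.node .nil (nat_lit
  0x1d93680fb27) (nat_lit 0x1ac5b54d5adaa) (nat_lit 0) .nil)) (nat_lit 0x1d93916693d) (nat_lit 0x16d6354a)
  (nat_lit 0) (.node (.node .nil (nat_lit 0x1d9439dc92e) (nat_lit 0x5adab6b16d) (nat_lit 0) .nil) (nat_lit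
  0x1d94ce9ff9c) (nat_lit 0xa6ad6b6a94d) (nat_lit 0) (.node .nil (nat_lit 0x1d94d3f73c9) (nat_lit 333)
  (nat_lit 0) .nil))) (nat_lit 0x1d94de6be15) (nat_lit 0x6adab6a9aa) (nat_lit 0) (.node (.node (.node .nil
  (nat_lit 0x1d95ef70f82) (nat_lit 0x358b5b54d) (nat_lit 0) .nil) (nat_lit 0x1d9aac7e514) (nat_lit
  0x5b56d529aa) (nat_lit 0) (.node .nil (nat_lit 0x1d9b04d9845) (nat_lit 0xb6a94a) (nat_lit 0) .nil)) (nat_lit
  0x1d9f6638555) (nat_lit 0xa6adaa529ab) (nat_lit 0) (.node (.node .nil (nat_lit 0x1d9f8e56ad1) (nat_lit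
  0x6ad6d6356b) (nat_lit 0) .nil) (nat_lit 0x1d9fb160448) (nat_lit 0x31aa5354a) (nat_lit 0) .nil))))) (nat_lit
  0x1dd1239c663) (nat_lit 0x529ab6ad6d) (nat_lit 0) (.node (.node (.node (.node (.node (.node .nil (nat_lit
  0x1dd23efa5d6) (nat_lit 0x6b16d5b54a) (nat_lit 0) .nil) (nat_lit 0x1dd37010d31) (nat_lit 0xd5b58b5b54a)
  (nat_lit 0) (.node .nil (nat_lit 0x1dd4b9e6639) (nat_lit 0xc6ad6b6adab) (nat_lit 0) .nil)) (nat_lit
  0x1dd6e3c7459) (nat_lit 0xd5b54d529aa) (nat_lit 0) (.node (.node .nil (nat_lit 0x1dd8badf277) (nat_lit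
  0xb6adaa5356d) (nat_lit 0) .nil) (nat_lit 0x1ddec4cbaa8) (nat_lit 0xa5356d5356b) (nat_lit 0) (.node .nil
  (nat_lit 0x1ddefe186ad) (nat_lit 0x6354a6a9aa) (nat_lit 0) .nil))) (nat_lit 0x1ddf53a4004) (nat_lit
  0x354a6a94a) (nat_lit 0) (.node (.node (.node .nil (nat_lit 0x1de1ea9e08a) (nat_lit 0xd5b54a6a94d) (nat_lit
  0) .nil) (nat_lit 0x1de21795121) (nat_lit 0x1aa5294d) (nat_lit 0) (.node .nil (nat_lit 0x1de34ba867b)
  (nat_lit 0x29ab5b56d5354a) (nat_lit 0) .nil)) (nat_lit 0x1e257e60794) (nat_lit 0x18d5354d) (nat_lit 0)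
  (.node (.node .nil (nat_lit 0x1e26c6cae2f) (nat_lit 0xd5b58b6ad6b) (nat_lit 0) .nil) (nat_lit 0x1e26d3389d1)
  (nat_lit 0x5354d5b56b) (nat_lit 0) .nil))) (nat_lit 0x1e2d054fb7f) (nat_lit 0x1aa6a94d529aa) (nat_lit 0)
  (.node (.node (.node (.node .nil (nat_lit 0x1e2d0ab7b9c) (nat_lit 0xd5b54d5ad6d) (nat_lit 0) .nil) (nat_lit
  0x1e2e5ed836a) (nat_lit 0xb6adaa5356b) (nat_lit 0) (.node .nil (nat_lit 0x1e2e95f56b4) (nat_lit 0x16d5b56d)
  (nat_lit 0) .nil)) (nat_lit 0x1e32f48b93e) (nat_lit 0x16b6b1aa5356b) (nat_lit 0) (.node (.node .nil (nat_lit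
  0x1e3360e1faa) (nat_lit 437675) (nat_lit 0) .nil) (nat_lit 0x1e3437492c3) (nat_lit 0x6b1aa6ad6b) (nat_lit 0)
  (.node .nil (nat_lit 0x1e34d81622f) (nat_lit 0x18b6a9aa) (nat_lit 0) .nil))) (nat_lit 0x1e35d66e816)
  (nat_lit 0x14a6a9ab5b54a) (nat_lit 0) (.node (.node (.node .nil (nat_lit 0x1ece63d5e54) (nat_lit
  0x16b6ad6d5b54d) (nat_lit 0) .nil) (nat_lit 0x1ece6e72554) (nat_lit 0x16d6356b6adaa) (nat_lit 0) (.node .nil
  (nat_lit 0x1ed1b744901) (nat_lit 0x294d529aa6adab) (nat_lit 0) .nil)) (nat_lit 0x1ed1e089433) (nat_lit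
  0x6a94d5356d) (nat_lit 0) (.node (.node .nil (nat_lit 0x1ed1f2371f6) (nat_lit 0xb5b56d5adaa) (nat_lit 0)
  .nil) (nat_lit 0x1ed483f4994) (nat_lit 0x5356b5b56d) (nat_lit 0) .nil)))) (nat_lit 0x1ed5a4370b5) (nat_lit
  0x14a6a9aa5356b) (nat_lit 0) (.node (.node (.node (.node (.node .nil (nat_lit 0x1ed7164c5b9) (nat_lit
  0xb6a94a6a9ab) (nat_lit 0) .nil) (nat_lit 0x1ed72f3633d) (nat_lit 0x1ab5b56d5adaa) (nat_lit 0) (.node .nil
  (nat_lit 0x1ede5aade01) (nat_lit 0x16d5adaa529aa) (nat_lit 0) .nil)) (nat_lit 0x1ededb57269) (nat_lit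
  0x294d5356d) (nat_lit 0) (.node (.node .nil (nat_lit 0x1ee0e2bccff) (nat_lit 0x356d5adaa529aa) (nat_lit 0)
  .nil) (nat_lit 0x1f2278b5c56) (nat_lit 0x1ac6a9ab5adab) (nat_lit 0) (.node .nil (nat_lit 0x1f22ba5d334)
  (nat_lit 0xb5b54d) (nat_lit 0) .nil))) (nat_lit 0x1f23657c167) (nat_lit 0x2dab6a9ab5adab) (nat_lit 0) (.node
  (.node (.node .nil (nat_lit 0x1f240e35905) (nat_lit 0x16b6b1aa5354a) (nat_lit 0) .nil) (nat_lit
  0x1f2429f2573) (nat_lit 0x5b54d5adaa) (nat_lit 0) (.node .nil (nat_lit 0x1f288dad701) (nat_lit 406861)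
  (nat_lit 0) .nil)) (nat_lit 0x1f28f7418b0) (nat_lit 0x2daa6a9ab) (nat_lit 0) (.node (.node .nil (nat_lit
  0x1f301a452e8) (nat_lit 0x356d62daa) (nat_lit 0) .nil) (nat_lit 0x1f31b8f2250) (nat_lit 0x1ab6adac) (nat_lit
  0) .nil))) (nat_lit 0x1f31c119440) (nat_lit 0xa6adaa5354a) (nat_lit 0) (.node (.node (.node (.node .nil
  (nat_lit 0x1f32ab1f498) (nat_lit 0x5354d5b54a) (nat_lit 0) .nil) (nat_lit 0x1f32ba97a57) (nat_lit
  0x62dab6a9aa) (nat_lit 0) (.node .nil (nat_lit 0x1f7743fe995) (nat_lit 0x1ab6ad6d5b58b) (nat_lit 0) .nil))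
  (nat_lit 0x1f77a178c8b) (nat_lit 0x14d5356d) (nat_lit 0) (.node (.node .nil (nat_lit 0x1f7a99ec5fa) (nat_lit
  0xa6a9aa5356b) (nat_lit 0) .nil) (nat_lit 0x1f7af370cfb) (nat_lit 0x356b5b56d) (nat_lit 0) (.node .nil
  (nat_lit 0x1f7b0097a65) (nat_lit 0xd5b56b6b16d) (nat_lit 0) .nil))) (nat_lit 0x1f7b7f3ad7d) (nat_lit
  0x31ab6a9aa5354a) (nat_lit 0) (.node (.node (.node .nil (nat_lit 0x1f7b905c8e0) (nat_lit 0xb6a94d5356d)
  (nat_lit 0) .nil) (nat_lit 0x1f7ba06fb48) (nat_lit 0x16b6a94a6a9ab) (nat_lit 0) (.node .nil (nat_lit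
  0x1f7d28b76c5) (nat_lit 0x14d529aa6adab) (nat_lit 0) .nil)) (nat_lit 0x1f7f636500d) (nat_lit
  0x294d5294d5b54d) (nat_lit 0) (.node (.node .nil (nat_lit 0x1f851ce5fe2) (nat_lit 0x14d5adab6ad6d) (nat_lit
  0) .nil) (nat_lit 0x1f8715f8cb1) (nat_lit 0x14a6adaa529aa) (nat_lit 0) .nil))))))
def tF_4 : T := (.node (.node (.node (.node (.node (.node (.node .nil (nat_lit 0x1f8cc23aead) (nat_lit
  0x62daa6ad6b) (nat_lit 0) .nil) (nat_lit 0x1f8f56c416e) (nat_lit 0x354d5ad6d) (nat_lit 0) (.node .nil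
  (nat_lit 0x1f8fc5d65cf) (nat_lit 0x6356b6a9aa) (nat_lit 0) .nil)) (nat_lit 0x1f900119e57) (nat_lit
  0xd5b56b6a94a) (nat_lit 0) (.node (.node .nil (nat_lit 0x1f905ca05b6) (nat_lit 0x18b5b56d529ab) (nat_lit 0)
  .nil) (nat_lit 0x1f91a4842f3) (nat_lit 0xb6adac5b54d) (nat_lit 0) (.node .nil (nat_lit 0x1f922229646)
  (nat_lit 0xd5adaa529ab) (nat_lit 0) .nil))) (nat_lit 0x1f929b9885d) (nat_lit 427) (nat_lit 0) (.node (.node
  (.node .nil (nat_lit 0x1f9a2c21ae7) (nat_lit 0xb5adaa) (nat_lit 0) .nil) (nat_lit 0x1f9c928b9ff) (nat_lit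
  0x6356d5354d) (nat_lit 0) (.node .nil (nat_lit 0x1f9e71d3b44) (nat_lit 0x14a6a9ab5b56b) (nat_lit 0) .nil))
  (nat_lit 0x21b3824ed43) (nat_lit 0x1ab6b1ab) (nat_lit 0) (.node (.node .nil (nat_lit 0x21b5ad8b089) (nat_lit
  0x1ab5b56d6356b) (nat_lit 0) .nil) (nat_lit 0x21b5b0ecb42) (nat_lit 0x2dab6b16d5356b) (nat_lit 0) .nil)))
  (nat_lit 0x21b67734409) (nat_lit 0xa6a9aa5354a) (nat_lit 0) (.node (.node (.node (.node .nil (nat_lit
  0x21bd8faa00c) (nat_lit 0x354a6adab) (nat_lit 0) .nil) (nat_lit 0x21be1c51775) (nat_lit 406893) (nat_lit 0)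
  (.node .nil (nat_lit 0x21bee5baac5) (nat_lit 0x354d5b56d) (nat_lit 0) .nil)) (nat_lit 0x21bf3ff2d11)
  (nat_lit 0xb6a94d5356b) (nat_lit 0) (.node (.node .nil (nat_lit 0x21c0d68b9f1) (nat_lit 0x5b58d5294d)
  (nat_lit 0) .nil) (nat_lit 0x21c0e1d91fe) (nat_lit 0x31aa5356b) (nat_lit 0) (.node .nil (nat_lit
  0x21c216b622f) (nat_lit 0x16d5b56b6ad6d) (nat_lit 0) .nil))) (nat_lit 0x21c30184042) (nat_lit
  0x14d5294d5b54a) (nat_lit 0) (.node (.node (.node .nil (nat_lit 0x21da16963fe) (nat_lit 0x354d5adaa)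
  (nat_lit 0) .nil) (nat_lit 0x21da6a8d81a) (nat_lit 374093) (nat_lit 0) (.node .nil (nat_lit 0x21da96baa50)
  (nat_lit 0x5b56d6354a) (nat_lit 0) .nil)) (nat_lit 0x21dc638c544) (nat_lit 0x5adab6a9aa) (nat_lit 0) (.node
  (.node .nil (nat_lit 0x21dd029d0ba) (nat_lit 0x6354d5adaa) (nat_lit 0) .nil) (nat_lit 0x21e2d2089d7)
  (nat_lit 0x31aa6a9ab) (nat_lit 0) .nil)))) (nat_lit 0x21e2e851e6d) (nat_lit 0x14a6adaa5354a) (nat_lit 0)
  (.node (.node (.node (.node (.node .nil (nat_lit 0x21e2fcd5b38) (nat_lit 0x1aa6a9ab) (nat_lit 0) .nil)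
  (nat_lit 0x21e31bc3c84) (nat_lit 0xc5b54d) (nat_lit 0) (.node .nil (nat_lit 0x21e86c35403) (nat_lit
  0xb6b1aa5354a) (nat_lit 0) .nil)) (nat_lit 0x21e87f2e4a2) (nat_lit 0x1ab6a9ab5adab) (nat_lit 0) (.node
  (.node .nil (nat_lit 0x21ead2b12a1) (nat_lit 0x31ab6a9ab5adab) (nat_lit 0) .nil) (nat_lit 0x21f095f00c3)
  (nat_lit 0x18b6a94d5354a) (nat_lit 0) (.node .nil (nat_lit 0x21f10ba52a8) (nat_lit 0xc6adaa6a9ab) (nat_lit
  0) .nil))) (nat_lit 0x21f21386eda) (nat_lit 0x294d5adaa) (nat_lit 0) (.node (.node (.node .nil (nat_lit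
  0x21f3cd43146) (nat_lit 0x14d5adab6a9aa) (nat_lit 0) .nil) (nat_lit 0x21f45031484) (nat_lit 0x358b6adaa)
  (nat_lit 0) (.node .nil (nat_lit 0x21f7cccf3b3) (nat_lit 0x18d5354d5b54a) (nat_lit 0) .nil)) (nat_lit
  0x21f8255baaf) (nat_lit 0xd5b54a6adaa) (nat_lit 0) (.node (.node .nil (nat_lit 0x21f83cd3dec) (nat_lit
  0x14a6a9ab) (nat_lit 0) .nil) (nat_lit 0x21fcd4efd4b) (nat_lit 0x31ab5b54d) (nat_lit 0) .nil))) (nat_lit
  0x21fd8799fb5) (nat_lit 0x14d5b54d) (nat_lit 0) (.node (.node (.node (.node .nil (nat_lit 0x21ffd8913c1)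
  (nat_lit 0x1ab6ad6d5adac) (nat_lit 0) .nil) (nat_lit 0x21ffea6ae87) (nat_lit 0x6a9ab5adab) (nat_lit 0)
  (.node .nil (nat_lit 0x22059afc9d2) (nat_lit 0x1aa6adab5b54a) (nat_lit 0) .nil)) (nat_lit 0x22068aabc69)
  (nat_lit 0xc5b56b5b56d) (nat_lit 0) (.node (.node .nil (nat_lit 0x2207312bfc5) (nat_lit 0x5b58b6a9ab)
  (nat_lit 0) .nil) (nat_lit 0x2207da606ae) (nat_lit 0xb6b16d5adaa) (nat_lit 0) (.node .nil (nat_lit
  0x2208ee00cf2) (nat_lit 0x18d5356d) (nat_lit 0) .nil))) (nat_lit 0x220bca80693) (nat_lit 0xc6a9aa5356b)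
  (nat_lit 0) (.node (.node (.node .nil (nat_lit 0x220d04a60bc) (nat_lit 0x1aa6a9ab6adaa) (nat_lit 0) .nil)
  (nat_lit 0x220d42542f3) (nat_lit 0x316b6a94d5356d) (nat_lit 0) (.node .nil (nat_lit 0x2211f6f81d7) (nat_lit
  0x6b1aa529aa) (nat_lit 0) .nil)) (nat_lit 0x22147d3b72d) (nat_lit 0x1ab5b56b6adaa) (nat_lit 0) (.node (.node
  .nil (nat_lit 0x22149e6d098) (nat_lit 0xd5ad6d6354d) (nat_lit 0) .nil) (nat_lit 0x2216dc42b36) (nat_lit
  0x1ab6b1ab6a9ab) (nat_lit 0) .nil))))) (nat_lit 0x221960310fa) (nat_lit 0x358b6ad6d) (nat_lit 0) (.node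
  (.node (.node (.node (.node (.node .nil (nat_lit 0x221978bb405) (nat_lit 0x62daa6a94a) (nat_lit 0) .nil)
  (nat_lit 0x22199652945) (nat_lit 0xd5b54a5356d) (nat_lit 0) (.node .nil (nat_lit 0x221af3a80e6) (nat_lit
  0x6ad6d5356b) (nat_lit 0) .nil)) (nat_lit 0x221c431ff1e) (nat_lit 0x2d6d5294d) (nat_lit 0) (.node (.node
  .nil (nat_lit 0x222224f5676) (nat_lit 0x6b16d5356b) (nat_lit 0) .nil) (nat_lit 0x222242cd2ea) (nat_lit
  0x31ab5b56d) (nat_lit 0) (.node .nil (nat_lit 0x22224ff92f2) (nat_lit 0x5adaa6a94a) (nat_lit 0) .nil)))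
  (nat_lit 0x222267257ca) (nat_lit 0xd6354a5356d) (nat_lit 0) (.node (.node (.node .nil (nat_lit
  0x2226d8ff011) (nat_lit 0x2dab5b56d) (nat_lit 0) .nil) (nat_lit 0x2227bcb2ad3) (nat_lit 0x356b6ad6d)
  (nat_lit 0) (.node .nil (nat_lit 0x2229b5bfb62) (nat_lit 0x316d5294d) (nat_lit 0) .nil)) (nat_lit
  0x22437efd30b) (nat_lit 0x529aa529ab) (nat_lit 0) (.node (.node .nil (nat_lit 0x224388b14b8) (nat_lit
  0xb6b16d5354a) (nat_lit 0) .nil) (nat_lit 0x2244eabcdbd) (nat_lit 0xc6a9aa529ab) (nat_lit 0) .nil)))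
  (nat_lit 0x2244ff56876) (nat_lit 436557) (nat_lit 0) (.node (.node (.node (.node .nil (nat_lit
  0x2245c991bce) (nat_lit 0x5adab5b56b) (nat_lit 0) .nil) (nat_lit 0x22498d0d1d6) (nat_lit 0x1aa6adab6a9aa)
  (nat_lit 0) (.node .nil (nat_lit 0x224c21e9dd6) (nat_lit 0x16d529aa) (nat_lit 0) .nil)) (nat_lit
  0x224c67d2645) (nat_lit 0x31ab6a94d) (nat_lit 0) (.node (.node .nil (nat_lit 0x224c6ddc204) (nat_lit 406858)
  (nat_lit 0) .nil) (nat_lit 0x22511b550cc) (nat_lit 10570) (nat_lit 10570) (.node .nil (nat_lit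
  0x225133b9f4a) (nat_lit 0x1ac6a94d5b56b) (nat_lit 0) .nil))) (nat_lit 0x225167a9cc1) (nat_lit
  0x316b6a94d5b54a) (nat_lit 0) (.node (.node (.node .nil (nat_lit 0x25f81e8646a) (nat_lit 0x2d6d529ab)
  (nat_lit 0) .nil) (nat_lit 0x25f831172f3) (nat_lit 0x1ab6adaa6a9ab) (nat_lit 0) (.node .nil (nat_lit
  0x25fab2bf5a6) (nat_lit 0x356d5354d5b54a) (nat_lit 0) .nil)) (nat_lit 0x25fd412e15a) (nat_lit 0x6354a6adaa)
  (nat_lit 0) (.node (.node .nil (nat_lit 0x25fd451bb94) (nat_lit 0x16b6adaa) (nat_lit 0) .nil) (nat_lit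
  0x25ffb066fc2) (nat_lit 0x2dac5adab) (nat_lit 0) .nil)))) (nat_lit 0x25ffb43895f) (nat_lit 0xc6a94d529ab)
  (nat_lit 0) (.node (.node (.node (.node (.node .nil (nat_lit 0x2600f8ceff5) (nat_lit 0xa6a94d529ab) (nat_lit
  0) .nil) (nat_lit 0x2605d3e6c38) (nat_lit 0xa5354a6a9ab) (nat_lit 0) (.node .nil (nat_lit 0x2606ddcd387)
  (nat_lit 0x356d6354d) (nat_lit 0) .nil)) (nat_lit 0x260875636d5) (nat_lit 0x356b6adac) (nat_lit 0) (.node
  (.node .nil (nat_lit 0x2608e4fc742) (nat_lit 0x5354a6adaa) (nat_lit 0) .nil) (nat_lit 0x268c32d9721)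
  (nat_lit 0xa5356d) (nat_lit 0) (.node .nil (nat_lit 0x268c8f03754) (nat_lit 0x316d5294d5b54a) (nat_lit 0)
  .nil))) (nat_lit 0x268e02582c2) (nat_lit 0x529aa5356b) (nat_lit 0) (.node (.node (.node .nil (nat_lit
  0x268e91f4d7b) (nat_lit 0x5b56d5356b) (nat_lit 0) .nil) (nat_lit 0x268fe3c56c2) (nat_lit 0x16d62d6d5356b)
  (nat_lit 0) (.node .nil (nat_lit 0x26907f77a68) (nat_lit 0x2dab6ad6d) (nat_lit 0) .nil)) (nat_lit
  0x2690d3027dd) (nat_lit 0x18b6a9aa5354a) (nat_lit 0) (.node (.node .nil (nat_lit 0x2691bd70fef) (nat_lit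
  0x29aa6adaa529aa) (nat_lit 0) .nil) (nat_lit 0x269451d5239) (nat_lit 0x14d5b56b5b56d) (nat_lit 0) .nil)))
  (nat_lit 0x2694cdb85a6) (nat_lit 0x18b5b54d5b56d) (nat_lit 0) (.node (.node (.node (.node .nil (nat_lit
  0x2694da1cfb9) (nat_lit 0x1aa5356d5adaa) (nat_lit 0) .nil) (nat_lit 0x269a0bd45be) (nat_lit
  0x354a6ad6d5b54d) (nat_lit 0) (.node .nil (nat_lit 0x26b6050f573) (nat_lit 0x6ad6d62dab) (nat_lit 0) .nil))
  (nat_lit 0x26b61a2809b) (nat_lit 0x1ab6ad6b) (nat_lit 0) (.node (.node .nil (nat_lit 0x26b645df107) (nat_lit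
  0x1ac5b56b6a94a) (nat_lit 0) .nil) (nat_lit 0x26b7455193f) (nat_lit 0x2daa5354d) (nat_lit 0) (.node .nil
  (nat_lit 0x26b75d87aed) (nat_lit 404845) (nat_lit 0) .nil))) (nat_lit 0x26b852ac81f) (nat_lit 0xb5b58d5adab)
  (nat_lit 0) (.node (.node (.node .nil (nat_lit 0x26b8c814923) (nat_lit 0x354d5294d5354a) (nat_lit 0) .nil)
  (nat_lit 0x26baaac49bf) (nat_lit 13707) (nat_lit 0) (.node .nil (nat_lit 0x26bbe704732) (nat_lit
  0x6b1ab5adaa) (nat_lit 0) .nil)) (nat_lit 0x26be79f31b4) (nat_lit 0x2d6d5b56b6b14a) (nat_lit 0) (.node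
  (.node .nil (nat_lit 0x26befc018d8) (nat_lit 0x16d529ab6a94a) (nat_lit 0) .nil) (nat_lit 0x26c8f7e5187)
  (nat_lit 0x5354d5294d) (nat_lit 0) .nil))))))
def tF_5 : T := (.node (.node (.node (.node (.node (.node (.node .nil (nat_lit 0x27de5691160) (nat_lit
  0x16b6adaa6a9ab) (nat_lit 0) .nil) (nat_lit 0x27df7359a79) (nat_lit 0x6b1ab6a9ab) (nat_lit 0) (.node .nil
  (nat_lit 0x27e1136b281) (nat_lit 0x14a6a9ab6adaa) (nat_lit 0) .nil)) (nat_lit 0x27e1273cced) (nat_lit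
  0x14a6adab5b54a) (nat_lit 0) (.node (.node .nil (nat_lit 0x27e1804f393) (nat_lit 0x2d6d6354d) (nat_lit 0)
  .nil) (nat_lit 0x27e19cc8ff6) (nat_lit 0x5adab5b54d) (nat_lit 0) (.node .nil (nat_lit 0x27e1cd3aa51)
  (nat_lit 0x16d6354a6adaa) (nat_lit 0) .nil))) (nat_lit 0x27e2b6cb909) (nat_lit 0x31ab6a9aa5356b) (nat_lit 0)
  (.node (.node (.node .nil (nat_lit 0x27eaa40b936) (nat_lit 0x2d6d62dab6a9aa) (nat_lit 0) .nil) (nat_lit
  0x27eac5ddc55) (nat_lit 0x62daa529aa) (nat_lit 0) (.node .nil (nat_lit 0x27ed58f99d3) (nat_lit 0x5b56b6adaa)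
  (nat_lit 0) .nil)) (nat_lit 0x284699d5044) (nat_lit 0x6a94d5b54a) (nat_lit 0) (.node (.node .nil (nat_lit
  0x2846ad5c6b6) (nat_lit 0x16d5294d5354a) (nat_lit 0) .nil) (nat_lit 0x284756ba39e) (nat_lit 0x529ab6a94d)
  (nat_lit 0) .nil))) (nat_lit 0x2847db57f0f) (nat_lit 0xa5354a) (nat_lit 0) (.node (.node (.node (.node .nil
  (nat_lit 0x284a3a1d4df) (nat_lit 0x1ab5b54d5294d) (nat_lit 0) .nil) (nat_lit 0x284a77e5536) (nat_lit 394)
  (nat_lit 394) (.node .nil (nat_lit 0x284c2340896) (nat_lit 0x2dac5adaa) (nat_lit 0) .nil)) (nat_lit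
  0x284ccacb22d) (nat_lit 0x358b6a94a) (nat_lit 0) (.node (.node .nil (nat_lit 0x284f958dac1) (nat_lit
  0x1ac5b56d529aa) (nat_lit 0) .nil) (nat_lit 0x2853edb999e) (nat_lit 0x31aa529ab) (nat_lit 0) (.node .nil
  (nat_lit 0x28540d53f76) (nat_lit 0x316b6a94d) (nat_lit 0) .nil))) (nat_lit 0x28588a85a20) (nat_lit
  0xd5356b5b54d) (nat_lit 0) (.node (.node (.node .nil (nat_lit 0x285ba94688b) (nat_lit 0x2d6b6adab) (nat_lit
  0) .nil) (nat_lit 0x285c920ba81) (nat_lit 0xd6354a6a94a) (nat_lit 0) (.node .nil (nat_lit 0x285cd1f9e1a)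
  (nat_lit 0x18b6a9ab5b54a) (nat_lit 0) .nil)) (nat_lit 0x285deccc799) (nat_lit 0x14d5b54a6a94a) (nat_lit 0)
  (.node (.node .nil (nat_lit 0x285e06ed033) (nat_lit 0x5b58d5294a) (nat_lit 0) .nil) (nat_lit 0x285f4978b4b)
  (nat_lit 0x5b56d5354a) (nat_lit 0) .nil)))) (nat_lit 0x285f8ff11fd) (nat_lit 0x6adac6ad6d) (nat_lit 0)
  (.node (.node (.node (.node (.node .nil (nat_lit 0x285fa3067c8) (nat_lit 0xb6a9ab5b54a) (nat_lit 0) .nil)
  (nat_lit 0x28604a19f32) (nat_lit 0x2dab6b14a) (nat_lit 0) (.node .nil (nat_lit 0x2863045b840) (nat_lit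
  0xa6a9ab6ad6d) (nat_lit 0) .nil)) (nat_lit 0x286a6d32ff1) (nat_lit 0x14a6a9aa) (nat_lit 0) (.node (.node
  .nil (nat_lit 0x286bd504ded) (nat_lit 0xc5b56d5354a) (nat_lit 0) .nil) (nat_lit 0x28ef4fc988c) (nat_lit
  0xd6356b6a94a) (nat_lit 0) (.node .nil (nat_lit 0x28ef5622f07) (nat_lit 0x16b5b56d529ab) (nat_lit 0) .nil)))
  (nat_lit 0x28eff33a7c7) (nat_lit 0xd62daa529ab) (nat_lit 0) (.node (.node (.node .nil (nat_lit
  0x28effca12e5) (nat_lit 0x5b56d5354d) (nat_lit 0) .nil) (nat_lit 0x28f2f720372) (nat_lit 0x16b6adac5b56b)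
  (nat_lit 0) (.node .nil (nat_lit 0x28f3211722f) (nat_lit 0x356d62d6d) (nat_lit 0) .nil)) (nat_lit
  0x28f38c16d44) (nat_lit 0x354a5354a) (nat_lit 0) (.node (.node .nil (nat_lit 0x28f3b3dc326) (nat_lit 428)
  (nat_lit 0) .nil) (nat_lit 0x28f55550682) (nat_lit 0x5294d5354a) (nat_lit 0) .nil))) (nat_lit 0x28fe56a22d3)
  (nat_lit 0xc5adaa) (nat_lit 0) (.node (.node (.node (.node .nil (nat_lit 0x28ffeda51a2) (nat_lit
  0xa6a9ab5b54d) (nat_lit 0) .nil) (nat_lit 0x2901a2c8a92) (nat_lit 0x5b56b6a9aa) (nat_lit 0) (.node .nil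
  (nat_lit 0x290426318fe) (nat_lit 0x356d5b58d) (nat_lit 0) .nil)) (nat_lit 0x29043f8ce13) (nat_lit
  0xa5354d5b56d) (nat_lit 0) (.node (.node .nil (nat_lit 0x29045d81086) (nat_lit 0x62daa6adab) (nat_lit 0)
  .nil) (nat_lit 0x2905b8edf98) (nat_lit 0x294a6a9aa5354a) (nat_lit 0) (.node .nil (nat_lit 0x2905c69eca4)
  (nat_lit 0x5354a6ad6d) (nat_lit 0) .nil))) (nat_lit 0x2906aebbe94) (nat_lit 0x14d5adab5b56d) (nat_lit 0)
  (.node (.node (.node .nil (nat_lit 0x29080783580) (nat_lit 0x16d5b58d5adaa) (nat_lit 0) .nil) (nat_lit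
  0x290d2e1a0da) (nat_lit 0xa5354a6adab) (nat_lit 0) (.node .nil (nat_lit 0x2912d9d0f2b) (nat_lit
  0xb6b1aa5356d) (nat_lit 0) .nil)) (nat_lit 0x291366598c5) (nat_lit 0xa6a94d5356b) (nat_lit 0) (.node (.node
  .nil (nat_lit 0x29146ec21bd) (nat_lit 0x18b5b56d) (nat_lit 0) .nil) (nat_lit 0x29147c283e8) (nat_lit
  0x16b6ad6d5b54a) (nat_lit 0) .nil))))) (nat_lit 0x29ae2c0d084) (nat_lit 0x16d5ad6d529ab) (nat_lit 0) (.node
  (.node (.node (.node (.node (.node .nil (nat_lit 0x29ae3f13c51) (nat_lit 0x14d529ab) (nat_lit 0) .nil)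
  (nat_lit 0x29ae5fb0048) (nat_lit 0xb6ad6b6adaa) (nat_lit 0) (.node .nil (nat_lit 0x29af0ae1ecd) (nat_lit
  0xb6b16b6adaa) (nat_lit 0) .nil)) (nat_lit 0x29b350973b4) (nat_lit 0x1ac6ad6d5b56b) (nat_lit 0) (.node
  (.node .nil (nat_lit 0x29b561b8a5c) (nat_lit 0xa6adaa) (nat_lit 0) .nil) (nat_lit 0x29b569023e0) (nat_lit
  0x16d62d6d529ab) (nat_lit 0) (.node .nil (nat_lit 0x29b5ace6ed8) (nat_lit 0x6ad6b6a9ab) (nat_lit 0) .nil)))
  (nat_lit 0x29b5b0c506a) (nat_lit 0x2d6b6b1aa) (nat_lit 0) (.node (.node (.node .nil (nat_lit 0x29b5c48c97b)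
  (nat_lit 0x62dab5adab) (nat_lit 0) .nil) (nat_lit 0x29ba74dea08) (nat_lit 0x18b5b54a6a9ab) (nat_lit 0)
  (.node .nil (nat_lit 0x29bb1d4b3eb) (nat_lit 0x16d5354a6a9ab) (nat_lit 0) .nil)) (nat_lit 0x2a164c33109)
  (nat_lit 0xc5b54d5b56d) (nat_lit 0) (.node (.node .nil (nat_lit 0x2a1667c908e) (nat_lit 0x29aa5356b)
  (nat_lit 0) .nil) (nat_lit 0x2a167a89d50) (nat_lit 0x5adab6ad6d) (nat_lit 0) .nil))) (nat_lit 0x2a16a4a73a3)
  (nat_lit 0x316b6a94d5356b) (nat_lit 0) (.node (.node (.node (.node .nil (nat_lit 0x2a17d0b9a74) (nat_lit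
  0x529aa6adab) (nat_lit 0) .nil) (nat_lit 0x2a17ddb3c62) (nat_lit 0xc6a9aa5354a) (nat_lit 0) (.node .nil
  (nat_lit 0x2a19fa635bc) (nat_lit 0xd5b56b5b56d) (nat_lit 0) .nil)) (nat_lit 0x2a1aad5336b) (nat_lit
  0x1aa6adaa529aa) (nat_lit 0) (.node (.node .nil (nat_lit 0x2a1c7550ebe) (nat_lit 0x31ab5adaa5354d) (nat_lit
  0) .nil) (nat_lit 0x2a234d173fc) (nat_lit 0x18d5294d5b54a) (nat_lit 0) (.node .nil (nat_lit 0x2a23c887a1a)
  (nat_lit 341357) (nat_lit 0) .nil))) (nat_lit 0x2a2454d10f5) (nat_lit 0xc5b54a6adab) (nat_lit 0) (.node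
  (.node (.node .nil (nat_lit 0x2a2c8caaf9f) (nat_lit 0x354d5b54d) (nat_lit 0) .nil) (nat_lit 0x2a2cb63954e)
  (nat_lit 0xb5b56b6adac) (nat_lit 0) (.node .nil (nat_lit 0x2a2f013c833) (nat_lit 0x29ab5adab) (nat_lit 0)
  .nil)) (nat_lit 0x2a2f14ec455) (nat_lit 0x354a6a9ab) (nat_lit 0) (.node (.node .nil (nat_lit 0x2a2f279d7cd)
  (nat_lit 0x358d5354d5b54a) (nat_lit 0) .nil) (nat_lit 0x2a30fc15ab3) (nat_lit 0x1ac6adaa6a9ab) (nat_lit 0)
  .nil)))) (nat_lit 0x2a30ff5c202) (nat_lit 0x18b6adaa) (nat_lit 0) (.node (.node (.node (.node (.node .nil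
  (nat_lit 0x2a3148382e3) (nat_lit 0x5b56b6b1aa) (nat_lit 0) .nil) (nat_lit 0x2a31a3a5a7c) (nat_lit
  0x5b54a6adaa) (nat_lit 0) (.node .nil (nat_lit 0x2a32d1d06aa) (nat_lit 0xb6a94d529ab) (nat_lit 0) .nil))
  (nat_lit 0x2a346eca95f) (nat_lit 0xb6ad6d5adac) (nat_lit 0) (.node (.node .nil (nat_lit 0x2a38e7f7c4b)
  (nat_lit 0x316d529ab) (nat_lit 0) .nil) (nat_lit 0x2aa9f0fd4a9) (nat_lit 0x6356d5ad6d) (nat_lit 0) (.node
  .nil (nat_lit 0x2aaa0410bbb) (nat_lit 0x294d5adab) (nat_lit 0) .nil))) (nat_lit 0x2aaaad3f87d) (nat_lit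
  0x16b6ad6d6354a) (nat_lit 0) (.node (.node (.node .nil (nat_lit 0x2aab07da40b) (nat_lit 0x2dab5adaa)
  (nat_lit 0) .nil) (nat_lit 0x2aab3118ca6) (nat_lit 0x358d529ab6a94a) (nat_lit 0) (.node .nil (nat_lit
  0x2aac4abcf28) (nat_lit 0x1aa5354d529aa) (nat_lit 0) .nil)) (nat_lit 0x2aad7d5786c) (nat_lit 0xd5ad6d)
  (nat_lit 0) (.node (.node .nil (nat_lit 0x2aad8ec91b6) (nat_lit 0xc6ad6b) (nat_lit 0) .nil) (nat_lit
  0x2aafc309f7b) (nat_lit 0xb5b56b6a94a) (nat_lit 0) .nil))) (nat_lit 0x2ab14bc6709) (nat_lit 0x6354d5adab)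
  (nat_lit 0) (.node (.node (.node (.node .nil (nat_lit 0x2ab746d6893) (nat_lit 0x16d62daa6ad6b) (nat_lit 0)
  .nil) (nat_lit 0x2ab74a28a90) (nat_lit 363) (nat_lit 363) (.node .nil (nat_lit 0x2abfaa4b516) (nat_lit
  0x16d5354d) (nat_lit 0) .nil)) (nat_lit 0x2ac0158ead8) (nat_lit 0x14a6adaa5356b) (nat_lit 0) (.node (.node
  .nil (nat_lit 0x2ac01a73410) (nat_lit 0x6adaa6ad6b) (nat_lit 0) .nil) (nat_lit 0x2ac3ac9dd7b) (nat_lit
  0x18d5b56d) (nat_lit 0) (.node .nil (nat_lit 0x2ac5806d034) (nat_lit 0x16b6adac5b54a) (nat_lit 0) .nil)))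
  (nat_lit 0x2ac66230f13) (nat_lit 0xd6354d5ad6d) (nat_lit 0) (.node (.node (.node .nil (nat_lit
  0x2ac774417d1) (nat_lit 0x16b6adaa6a94d) (nat_lit 0) .nil) (nat_lit 0x2ac7bc5cda8) (nat_lit 0x5b56d6356b)
  (nat_lit 0) (.node .nil (nat_lit 0x2acbf49fee2) (nat_lit 0xc6adaa5356b) (nat_lit 0) .nil)) (nat_lit
  0x2acca73306d) (nat_lit 0x16b6a9aa) (nat_lit 0) (.node (.node .nil (nat_lit 0x2acd8bbd3c1) (nat_lit
  0xd5354a5354a) (nat_lit 0) .nil) (nat_lit 0x2ad1e0268ef) (nat_lit 438699) (nat_lit 0) .nil))))))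
def tF_6 : T := (.node (.node (.node (.node (.node (.node (.node .nil (nat_lit 0x2ad41910d0d) (nat_lit
  0x6adab6b1ab) (nat_lit 0) .nil) (nat_lit 0x2ad44d8633d) (nat_lit 0x29aa5354a) (nat_lit 0) (.node .nil
  (nat_lit 0x2ad4fc8554e) (nat_lit 0xd5b54a6adab) (nat_lit 0) .nil)) (nat_lit 0x2ad672bcd00) (nat_lit 397)
  (nat_lit 0) (.node (.node .nil (nat_lit 0x2ad7753ee43) (nat_lit 0x5294d5b54a) (nat_lit 0) .nil) (nat_lit
  0x2ad818c42e0) (nat_lit 0xb5b58b) (nat_lit 0) (.node .nil (nat_lit 0x2ad8bc82f3f) (nat_lit 0xc6ad6b6a94d)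
  (nat_lit 0) .nil))) (nat_lit 0x2ada6fbb828) (nat_lit 0x18b5b56d529aa) (nat_lit 0) (.node (.node (.node .nil
  (nat_lit 0x2ada94c14f7) (nat_lit 0xc6a9ab5adaa) (nat_lit 0) .nil) (nat_lit 0x2adc8953569) (nat_lit
  0xb5adaa5354d) (nat_lit 0) (.node .nil (nat_lit 0x2ae1763bc2e) (nat_lit 0x5b54d5294d) (nat_lit 0) .nil))
  (nat_lit 0x2afe2d422e0) (nat_lit 0x529aa6a94a) (nat_lit 0) (.node (.node .nil (nat_lit 0x2afe5d443d7)
  (nat_lit 0xb6ad6d5294d) (nat_lit 0) .nil) (nat_lit 0x2aff8da95d9) (nat_lit 0xc6ad6d) (nat_lit 0) .nil)))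
  (nat_lit 0x2affb466631) (nat_lit 0xb6b1ab5b56d) (nat_lit 0) (.node (.node (.node (.node .nil (nat_lit
  0x2affc11f0ca) (nat_lit 0x16d62daa6a94a) (nat_lit 0) .nil) (nat_lit 0x2b023dcbdf5) (nat_lit 0x16d5adaa6a94a)
  (nat_lit 0) (.node .nil (nat_lit 0x2b059af8b7f) (nat_lit 0xb6b16d5294d) (nat_lit 0) .nil)) (nat_lit
  0x2b072a0cbc8) (nat_lit 0xb5b54a5356d) (nat_lit 0) (.node (.node .nil (nat_lit 0x2b0b31c781a) (nat_lit
  0x294d5294d) (nat_lit 0) .nil) (nat_lit 0x2b0be418a18) (nat_lit 0x18d5356b) (nat_lit 0) (.node .nil (nat_lit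
  0x2b0c39acbf5) (nat_lit 0xd5354a6a9aa) (nat_lit 0) .nil))) (nat_lit 0x2b0e5ff92fb) (nat_lit 0x356b5b58d)
  (nat_lit 0) (.node (.node (.node .nil (nat_lit 0x2b286576d03) (nat_lit 0x6a9aa6adab) (nat_lit 0) .nil)
  (nat_lit 0x2b28689ecc3) (nat_lit 0x6354d5294d) (nat_lit 0) (.node .nil (nat_lit 0x2b294f1d088) (nat_lit 365)
  (nat_lit 0) .nil)) (nat_lit 0x2b2ac529711) (nat_lit 0xd6354a6adab) (nat_lit 0) (.node (.node .nil (nat_lit
  0x2b2d07b375a) (nat_lit 0xa5356b) (nat_lit 0) .nil) (nat_lit 0x2b2df036012) (nat_lit 0x16b5b56d529aa)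
  (nat_lit 0) .nil)))) (nat_lit 0x2b2e48c96f9) (nat_lit 0x16b6ad6d6356b) (nat_lit 0) (.node (.node (.node
  (.node (.node .nil (nat_lit 0x2b2fc194673) (nat_lit 0xc5adaa5354d) (nat_lit 0) .nil) (nat_lit 0x2b35db5afa6)
  (nat_lit 0xb6ad6d6294a) (nat_lit 0) (.node .nil (nat_lit 0x2b35fdf909b) (nat_lit 0xb6ad6b6a94d) (nat_lit 0)
  .nil)) (nat_lit 0x2b3893164ec) (nat_lit 0xb6a9ab5adaa) (nat_lit 0) (.node (.node .nil (nat_lit
  0x2b39268a318) (nat_lit 0x5ad6d6354a) (nat_lit 0) .nil) (nat_lit 0x2d231813722) (nat_lit 0x16d5294a)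
  (nat_lit 0) (.node .nil (nat_lit 0x2d24b6b80c1) (nat_lit 0x18d5354a) (nat_lit 0) .nil))) (nat_lit
  0x2d25e8b6899) (nat_lit 0x31ab6a94d5b54a) (nat_lit 0) (.node (.node (.node .nil (nat_lit 0x2d260e97ec6)
  (nat_lit 0x2dac5b54a) (nat_lit 0) .nil) (nat_lit 0x2d2638a1808) (nat_lit 0x14d5356b6a94a) (nat_lit 0) (.node
  .nil (nat_lit 0x2d27e2d1677) (nat_lit 0x16b5b58d529ab) (nat_lit 0) .nil)) (nat_lit 0x2d27e5e0278) (nat_lit
  0xb6adab5b56b) (nat_lit 0) (.node (.node .nil (nat_lit 0x2d288bf1b3b) (nat_lit 10666) (nat_lit 0) .nil)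
  (nat_lit 0x2d29b77856b) (nat_lit 0x2daa6a94d) (nat_lit 0) .nil))) (nat_lit 0x2d2fb111cf1) (nat_lit
  0x358b6adab) (nat_lit 0) (.node (.node (.node (.node .nil (nat_lit 0x2d2fb772a42) (nat_lit 0xd62d6d5b56d)
  (nat_lit 0) .nil) (nat_lit 0x2d344ae6a1b) (nat_lit 0xb6ad6d5adab) (nat_lit 0) (.node .nil (nat_lit
  0x2d8bd4096c9) (nat_lit 0x14a6a94d) (nat_lit 0) .nil)) (nat_lit 0x2d8ce477f09) (nat_lit 0x14d529aa) (nat_lit
  0) (.node (.node .nil (nat_lit 0x2d8d03e09c9) (nat_lit 0x18b5b54a) (nat_lit 0) .nil) (nat_lit 0x2d9318fa4ab)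
  (nat_lit 0xb5b56d62dab) (nat_lit 0) (.node .nil (nat_lit 0x2d944c109b8) (nat_lit 0x1ab6ad6d5b58a) (nat_lit
  0) .nil))) (nat_lit 0x2d9459479d0) (nat_lit 0x1ab5b56b) (nat_lit 0) (.node (.node (.node .nil (nat_lit
  0x2d98b0bda43) (nat_lit 0xd62d6d5b54a) (nat_lit 0) .nil) (nat_lit 0x2d990eb0404) (nat_lit 0xd62daa6ad6d)
  (nat_lit 0) (.node .nil (nat_lit 0x2d992b1d7c6) (nat_lit 0xa5294a) (nat_lit 0xa5294a) .nil)) (nat_lit
  0x2d993711143) (nat_lit 0xc6ad6d5354a) (nat_lit 0) (.node (.node .nil (nat_lit 0x2d99f22c33b) (nat_lit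
  0x16d5adab) (nat_lit 0) .nil) (nat_lit 0x2d9e9f04b65) (nat_lit 0xc5adab6a94d) (nat_lit 0) .nil))))) (nat_lit
  0x2de05a87e9b) (nat_lit 0xc6adaa5354a) (nat_lit 0) (.node (.node (.node (.node (.node (.node .nil (nat_lit
  0x2de192cf52c) (nat_lit 0x16d6356b) (nat_lit 0) .nil) (nat_lit 0x2de2c893da9) (nat_lit 0x16d5b58d5adab)
  (nat_lit 0) (.node .nil (nat_lit 0x2de3a112da2) (nat_lit 341325) (nat_lit 0) .nil)) (nat_lit 0x2de5ab2a3d4)
  (nat_lit 0x29aa6adaa529ab) (nat_lit 0) (.node (.node .nil (nat_lit 0x2de64635308) (nat_lit 0x6354d5b54a)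
  (nat_lit 0) .nil) (nat_lit 0x2de896f2f41) (nat_lit 0x16d5b56b5b54a) (nat_lit 0) (.node .nil (nat_lit
  0x2de8aaab7e5) (nat_lit 0x1ab6a9aa) (nat_lit 0) .nil))) (nat_lit 0x2ded696f483) (nat_lit 0x18b5b54d5adaa)
  (nat_lit 0) (.node (.node (.node .nil (nat_lit 0x2ded8fb4c12) (nat_lit 0x1ac6adab) (nat_lit 0) .nil)
  (nat_lit 0x2dee3207901) (nat_lit 0x29ab6a94a) (nat_lit 0) (.node .nil (nat_lit 0x2dee4524452) (nat_lit
  0xa5354d5adaa) (nat_lit 0) .nil)) (nat_lit 0x2e345363407) (nat_lit 0xb5b56b6a9ab) (nat_lit 0) (.node (.node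
  .nil (nat_lit 0x2e357f54cfe) (nat_lit 0x14a6ad6d5b54d) (nat_lit 0) .nil) (nat_lit 0x2e35ce863f5) (nat_lit
  0x29ab5adaa6adab) (nat_lit 0) .nil))) (nat_lit 0x2e35d94dbe2) (nat_lit 0x31ab6ad6d5b54a) (nat_lit 0) (.node
  (.node (.node (.node .nil (nat_lit 0x2e371e14090) (nat_lit 0x529ab6a9ab) (nat_lit 0) .nil) (nat_lit
  0x2e381b461cc) (nat_lit 0x14d5b54d5356d) (nat_lit 0) (.node .nil (nat_lit 0x2e3d1450513) (nat_lit
  0x1aa5356d) (nat_lit 0) .nil)) (nat_lit 0x2e3d1bc04b4) (nat_lit 0xd5b56d5356b) (nat_lit 0) (.node (.node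
  .nil (nat_lit 0x2e41b41bc94) (nat_lit 0xa5356d5adaa) (nat_lit 0) .nil) (nat_lit 0x2e4297a1d6a) (nat_lit
  0x16d5ad6d5356d) (nat_lit 0) (.node .nil (nat_lit 0x2e42ef4c91a) (nat_lit 0x2dab6ad6d5adaa) (nat_lit 0)
  .nil))) (nat_lit 0x2e43792950e) (nat_lit 0xd529aa5356b) (nat_lit 0) (.node (.node (.node .nil (nat_lit
  0x2e9debc3e64) (nat_lit 0x5adaa529ab) (nat_lit 0) .nil) (nat_lit 0x2e9eb37cacf) (nat_lit 0xb6ad6d6354a)
  (nat_lit 0) (.node .nil (nat_lit 0x2e9f4b5f414) (nat_lit 0x5b56b6a94a) (nat_lit 0) .nil)) (nat_lit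
  0x2e9f52c3cc6) (nat_lit 0x14d5ad6d) (nat_lit 0) (.node (.node .nil (nat_lit 0x2ea027e88b1) (nat_lit
  0xb5adac6a94d) (nat_lit 0) .nil) (nat_lit 0x2ea3b698e7b) (nat_lit 0xd62daa6ad6b) (nat_lit 0) .nil))))
  (nat_lit 0x2ea51f8cfac) (nat_lit 0x18b6ad6b) (nat_lit 0) (.node (.node (.node (.node (.node .nil (nat_lit
  0x2ea6b7ccd39) (nat_lit 0x358b5b56d529ab) (nat_lit 0) .nil) (nat_lit 0x2eabe14a39b) (nat_lit 0xc5b54d5adab)
  (nat_lit 0) (.node .nil (nat_lit 0x2ead6f390bb) (nat_lit 0xd6356d5354d) (nat_lit 0) .nil)) (nat_lit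
  0x2eae87e9c03) (nat_lit 11) (nat_lit 11) (.node (.node .nil (nat_lit 0x2eb02672f9a) (nat_lit 0x1ab5adaa)
  (nat_lit 0) .nil) (nat_lit 0x2f1c3f4810b) (nat_lit 0x29ab5b56b6adab) (nat_lit 0) (.node .nil (nat_lit
  0x2f1c5b85bd1) (nat_lit 0x1ab6b16d5adaa) (nat_lit 0) .nil))) (nat_lit 0x2f1c63f965d) (nat_lit
  0x1ac6a9aa5356b) (nat_lit 0) (.node (.node (.node .nil (nat_lit 0x2f1ea3f6ea1) (nat_lit 0xb6b1ab6a9ab)
  (nat_lit 0) .nil) (nat_lit 0x2f1fa848354) (nat_lit 0x358d5356d) (nat_lit 0) (.node .nil (nat_lit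
  0x2f20ef7f64e) (nat_lit 0xa5354a5354d) (nat_lit 0) .nil)) (nat_lit 0x2f22a257900) (nat_lit 0x5ad6d6354d)
  (nat_lit 0) (.node (.node .nil (nat_lit 0x2f24b9bd70c) (nat_lit 0xa6a9ab6adaa) (nat_lit 0) .nil) (nat_lit
  0x2f2501f7221) (nat_lit 0xa6adab5b54a) (nat_lit 0) .nil))) (nat_lit 0x2f2535762c1) (nat_lit 0x31aa529aa)
  (nat_lit 0) (.node (.node (.node (.node .nil (nat_lit 0x2f2b082b636) (nat_lit 0xd5b58b6a9ab) (nat_lit 0)
  .nil) (nat_lit 0x2f2ed6c18d0) (nat_lit 0xb5b56b6adaa) (nat_lit 0) (.node .nil (nat_lit 0x2f34c114c62)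
  (nat_lit 0x14d5adaa6a94a) (nat_lit 0) .nil)) (nat_lit 0x2f34eab5bd9) (nat_lit 0xa6ad6d5294d) (nat_lit 0)
  (.node (.node .nil (nat_lit 0x2f34fcd4106) (nat_lit 0x354a5356d) (nat_lit 0) .nil) (nat_lit 0x2f3563c1641)
  (nat_lit 0x18d5adaa6a94a) (nat_lit 0) (.node .nil (nat_lit 0x2f3745bc65f) (nat_lit 0xc6ad6d5294d) (nat_lit
  0) .nil))) (nat_lit 0x2f38adc12cd) (nat_lit 0xc5b54a5356d) (nat_lit 0) (.node (.node (.node .nil (nat_lit
  0x2f3a0d0c0c4) (nat_lit 0x316b6ad6d) (nat_lit 0) .nil) (nat_lit 0x2f3a1f2e184) (nat_lit 0x62d6d5356b)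
  (nat_lit 0) (.node .nil (nat_lit 0x2f3ec25b57b) (nat_lit 0xc6adab5b56d) (nat_lit 0) .nil)) (nat_lit
  0x2f408581f92) (nat_lit 0x16d5356b) (nat_lit 0) (.node (.node .nil (nat_lit 0x2f41783c5d6) (nat_lit
  0xa6adab5b56d) (nat_lit 0) .nil) (nat_lit 0x2f41e4d0d5a) (nat_lit 0xb6ad6d) (nat_lit 0) .nil))))))
def tF_7 : T := (.node (.node (.node (.node (.node (.node (.node .nil (nat_lit 0x2f71e52b938) (nat_lit
  0x1aa6adaa529ab) (nat_lit 0) .nil) (nat_lit 0x2f720381376) (nat_lit 0x1ab6a94a) (nat_lit 0) (.node .nil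
  (nat_lit 0x2f74978bcd3) (nat_lit 0x356d6354a) (nat_lit 0) .nil)) (nat_lit 0x2f7535f7336) (nat_lit 13645)
  (nat_lit 0) (.node (.node .nil (nat_lit 0x2f766e2d600) (nat_lit 0x2d6d6356b) (nat_lit 0) .nil) (nat_lit
  0x2f77f4dd1f9) (nat_lit 0xc5b54d5adaa) (nat_lit 0) (.node .nil (nat_lit 0x2f7e1173f0d) (nat_lit
  0x1aa6ad6b6a94d) (nat_lit 0) .nil))) (nat_lit 0x2f7fb02b76e) (nat_lit 0xd5adab6b16d) (nat_lit 0) (.node
  (.node (.node .nil (nat_lit 0x2f7fb700119) (nat_lit 0x2dab6a9aa) (nat_lit 0) .nil) (nat_lit 0x2f80b0d1664)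
  (nat_lit 0x6b1aa5354a) (nat_lit 0) (.node .nil (nat_lit 0x2f814c265bc) (nat_lit 0x18b5b54d) (nat_lit 0)
  .nil)) (nat_lit 0x2f86f467f6c) (nat_lit 0xc5adab5b56d) (nat_lit 0) (.node (.node .nil (nat_lit
  0x2f880a75e42) (nat_lit 0xb6b16d) (nat_lit 0) .nil) (nat_lit 0x2f89a953b0d) (nat_lit 0x29ab5b56d) (nat_lit
  0) .nil))) (nat_lit 0x2f8a8cd1da6) (nat_lit 0x2d6d5354a6a9aa) (nat_lit 0) (.node (.node (.node (.node .nil
  (nat_lit 0x2f8b4857853) (nat_lit 0xa5356b6ad6d) (nat_lit 0) .nil) (nat_lit 0x2f8e32568f0) (nat_lit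
  0x1ab5b54d529aa) (nat_lit 0) (.node .nil (nat_lit 0x2f9325d7113) (nat_lit 0xc5b56b6ad6d) (nat_lit 0) .nil))
  (nat_lit 0x2f93629d58c) (nat_lit 0xd5294d) (nat_lit 0) (.node (.node .nil (nat_lit 0x2f946f21138) (nat_lit
  0x1aa6a94a) (nat_lit 0) .nil) (nat_lit 0x2f94d9a5392) (nat_lit 0x16d5b58b) (nat_lit 0) (.node .nil (nat_lit
  0x2f95c61ccf1) (nat_lit 0x14a6ad6d5356b) (nat_lit 0) .nil))) (nat_lit 0x2f966d61961) (nat_lit
  0x1ab5b56d5adab) (nat_lit 0) (.node (.node (.node .nil (nat_lit 0x30ec0acd404) (nat_lit 0xc6ad6d5b54a)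
  (nat_lit 0) .nil) (nat_lit 0x30ec0cfb6ee) (nat_lit 0x18b6ad6b6adab) (nat_lit 0) (.node .nil (nat_lit
  0x30ec5a7bc78) (nat_lit 0xb5adaa6adab) (nat_lit 0) .nil)) (nat_lit 0x30eccfe4d25) (nat_lit 0x5b54d5356d)
  (nat_lit 0) (.node (.node .nil (nat_lit 0x30f0b6ab964) (nat_lit 0xc5b54a6a9aa) (nat_lit 0) .nil) (nat_lit
  0x30f263640bb) (nat_lit 0x16b6ad6d5b58b) (nat_lit 0) .nil)))) (nat_lit 0x30f48ac847e) (nat_lit 0x6adaa5356d)
  (nat_lit 0) (.node (.node (.node (.node (.node .nil (nat_lit 0x30f49fe6fe8) (nat_lit 0x18d529aa5354d)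
  (nat_lit 0) .nil) (nat_lit 0x30f4f4c1e93) (nat_lit 0xd5356d5adaa) (nat_lit 0) (.node .nil (nat_lit
  0x30f5026f677) (nat_lit 0x5354a6a94a) (nat_lit 0) .nil)) (nat_lit 0x30fb29f6aa2) (nat_lit 0x18d5356b5b54a)
  (nat_lit 0) (.node (.node .nil (nat_lit 0x30fef409b4c) (nat_lit 0x29aa5294d) (nat_lit 0) .nil) (nat_lit
  0x31556b0f5ef) (nat_lit 0xa6a94d5adab) (nat_lit 0) (.node .nil (nat_lit 0x3155778bd9b) (nat_lit
  0x16d6354a6adab) (nat_lit 0) .nil))) (nat_lit 0x31559133d22) (nat_lit 0xa6adab5adaa) (nat_lit 0) (.node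
  (.node (.node .nil (nat_lit 0x3155ab64e53) (nat_lit 0x316d529ab6a94a) (nat_lit 0) .nil) (nat_lit
  0x3156342883c) (nat_lit 11629) (nat_lit 0) (.node .nil (nat_lit 0x31565c2fa21) (nat_lit 0xb6a9aa6adab)
  (nat_lit 0) .nil)) (nat_lit 0x3158bf8af19) (nat_lit 0x62daa5354d) (nat_lit 0) (.node (.node .nil (nat_lit
  0x3158d4649c5) (nat_lit 0xd5b56b5b58a) (nat_lit 0) .nil) (nat_lit 0x315e6471d4e) (nat_lit 0xd5adac5b56d)
  (nat_lit 0) .nil))) (nat_lit 0x3162d3b79d5) (nat_lit 0x31ab6ad6b) (nat_lit 0) (.node (.node (.node (.node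
  .nil (nat_lit 0x3164355b339) (nat_lit 341355) (nat_lit 0) .nil) (nat_lit 0x3168038cbe7) (nat_lit
  0x14a5354d529aa) (nat_lit 0) (.node .nil (nat_lit 0x316a5e1391d) (nat_lit 0xc6a94d) (nat_lit 0) .nil))
  (nat_lit 0x316aa42e638) (nat_lit 0x31aa6adab6a9aa) (nat_lit 0) (.node (.node .nil (nat_lit 0x316ad3cc009)
  (nat_lit 0x6ad6d529aa) (nat_lit 0) .nil) (nat_lit 0x316b324ac6c) (nat_lit 0x1ab6a94d) (nat_lit 0) (.node
  .nil (nat_lit 0x316b9de88f1) (nat_lit 0x16b6a94d5b54a) (nat_lit 0) .nil))) (nat_lit 0x316bd4b2b8a) (nat_lit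
  0x14a6ad6d5354a) (nat_lit 0) (.node (.node (.node .nil (nat_lit 0x316d3e1cacd) (nat_lit 0x2dab5adac)
  (nat_lit 0) .nil) (nat_lit 0x316dd234d37) (nat_lit 0x6a9aa529ab) (nat_lit 0) (.node .nil (nat_lit
  0x3173421ae57) (nat_lit 13642) (nat_lit 0) .nil)) (nat_lit 0x317376907af) (nat_lit 0x2daa6a94a6a9aa)
  (nat_lit 0) (.node (.node .nil (nat_lit 0x31737fac6ac) (nat_lit 403786) (nat_lit 403786) .nil) (nat_lit
  0x317d19a508f) (nat_lit 0x316d529aa) (nat_lit 0) .nil))))) (nat_lit 0x35889c4977a) (nat_lit 0xa6a94a6a9aa)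
  (nat_lit 0) (.node (.node (.node (.node (.node (.node .nil (nat_lit 0x3589dd9657d) (nat_lit 0xb5adac)
  (nat_lit 0) .nil) (nat_lit 0x358a06c1784) (nat_lit 0xd5b58b6a94a) (nat_lit 0) (.node .nil (nat_lit
  0x358c204f062) (nat_lit 0x5356b6adab) (nat_lit 0) .nil)) (nat_lit 0x358c99322e3) (nat_lit 438602) (nat_lit
  0) (.node (.node .nil (nat_lit 0x358eecff65d) (nat_lit 0xd62d6d529aa) (nat_lit 0) .nil) (nat_lit
  0x358f0f1cbf7) (nat_lit 0x18b6adab5b56b) (nat_lit 0) (.node .nil (nat_lit 0x359135f6519) (nat_lit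
  0xb6adab5adab) (nat_lit 0) .nil))) (nat_lit 0x3595e9cc3cb) (nat_lit 0x1ab6a94d5b54a) (nat_lit 0) (.node
  (.node (.node .nil (nat_lit 0x3596a4aac81) (nat_lit 0x62daa6a94d) (nat_lit 0) .nil) (nat_lit 0x359834533e6)
  (nat_lit 0x358b6a94d) (nat_lit 0) (.node .nil (nat_lit 0x359b6bcc67b) (nat_lit 0xd5354a) (nat_lit 0) .nil))
  (nat_lit 0x359d8340c14) (nat_lit 0x6a94d529aa) (nat_lit 0) (.node (.node .nil (nat_lit 0x359f5243741)
  (nat_lit 0x16d5354d5b56b) (nat_lit 0) .nil) (nat_lit 0x359fc352cd6) (nat_lit 0x6a9ab5b56b) (nat_lit 0)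
  .nil))) (nat_lit 0x35a052e8644) (nat_lit 0x5b58b6a9aa) (nat_lit 0) (.node (.node (.node (.node .nil (nat_lit
  0x35a18bf425d) (nat_lit 0xa529aa6a94d) (nat_lit 0) .nil) (nat_lit 0x35a1f83c8e1) (nat_lit 0x1ab6b16b)
  (nat_lit 0) (.node .nil (nat_lit 0x35a3bd9f111) (nat_lit 0x6a94a6a94d) (nat_lit 0) .nil)) (nat_lit
  0x35a65440637) (nat_lit 0xd5ad6b) (nat_lit 0) (.node (.node .nil (nat_lit 0x35aaf06c9a0) (nat_lit 372139)
  (nat_lit 0) .nil) (nat_lit 0x35ab224c839) (nat_lit 0x5b58d5354d) (nat_lit 0) (.node .nil (nat_lit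
  0x35abd9ba3b9) (nat_lit 0x358d5ad6d5b54a) (nat_lit 0) .nil))) (nat_lit 0x35ae1d080e3) (nat_lit 0x6356d529ab)
  (nat_lit 0) (.node (.node (.node .nil (nat_lit 0x35b28ecaafa) (nat_lit 0x1ac6a94d) (nat_lit 0) .nil)
  (nat_lit 0x35b4408a255) (nat_lit 0x29aa529ab) (nat_lit 0) (.node .nil (nat_lit 0x35b566fed6f) (nat_lit 330)
  (nat_lit 330) .nil)) (nat_lit 0x35b659d6b2f) (nat_lit 0x2d6d529aa) (nat_lit 0) (.node (.node .nil (nat_lit
  0x35b6a09ddf2) (nat_lit 0x6adab5adac) (nat_lit 0) .nil) (nat_lit 0x35b70ca08a9) (nat_lit 0x2daa6adab6a9aa)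
  (nat_lit 0) .nil)))) (nat_lit 0x35ba0c9fd99) (nat_lit 0x31aa6a94a6a9aa) (nat_lit 0) (.node (.node (.node
  (.node (.node .nil (nat_lit 0x35c00317ea0) (nat_lit 0x18b6a94d5b54a) (nat_lit 0) .nil) (nat_lit
  0x35c009cf6bf) (nat_lit 0xd6294a) (nat_lit 0) (.node .nil (nat_lit 0x35c03890638) (nat_lit 0x16b6b16d5354a)
  (nat_lit 0) .nil)) (nat_lit 0x35c0ee56c80) (nat_lit 0xb6a94d) (nat_lit 0) (.node (.node .nil (nat_lit
  0x35c2c291f9c) (nat_lit 0x6b16d529aa) (nat_lit 0) .nil) (nat_lit 0x36082100cbb) (nat_lit 0x356d5adac)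
  (nat_lit 0) (.node .nil (nat_lit 0x360969d2457) (nat_lit 0x1ab6b1aa) (nat_lit 0) .nil))) (nat_lit
  0x360b7965644) (nat_lit 0x2dab5adac6a9aa) (nat_lit 0) (.node (.node (.node .nil (nat_lit 0x360bb5c92cf)
  (nat_lit 0x1ac6ad6b6adaa) (nat_lit 0) .nil) (nat_lit 0x360cebecd88) (nat_lit 0x62d6d5adaa) (nat_lit 0)
  (.node .nil (nat_lit 0x360d8ccf8a6) (nat_lit 0xb6ad6d5b56b) (nat_lit 0) .nil)) (nat_lit 0x360e6d064b5)
  (nat_lit 0x16b6a9ab6adaa) (nat_lit 0) (.node (.node .nil (nat_lit 0x360fb3e315c) (nat_lit 0x354d5ad6d529ab)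
  (nat_lit 0) .nil) (nat_lit 0x360fc9c1691) (nat_lit 0x6a94a6adaa) (nat_lit 0) .nil))) (nat_lit 0x361002ba3cf)
  (nat_lit 0x316b6a9ab) (nat_lit 0) (.node (.node (.node (.node .nil (nat_lit 0x3614a36dac1) (nat_lit
  0x5b54a5354d) (nat_lit 0) .nil) (nat_lit 0x361597be7e4) (nat_lit 0x16b6adab5b54a) (nat_lit 0) (.node .nil
  (nat_lit 0x37aca08ce23) (nat_lit 0x5354a6a94d) (nat_lit 0) .nil)) (nat_lit 0x37ace10f4f7) (nat_lit
  0x6356b5b54a) (nat_lit 0) (.node (.node .nil (nat_lit 0x37acf512c9b) (nat_lit 0x2dac6ad6b) (nat_lit 0) .nil)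
  (nat_lit 0x37ad534b375) (nat_lit 0xb5ad6d) (nat_lit 0) (.node .nil (nat_lit 0x37adbce8b08) (nat_lit
  0x358b6a9aa529aa) (nat_lit 0) .nil))) (nat_lit 0x37b08f49757) (nat_lit 0x6ad6d5b58a) (nat_lit 0) (.node
  (.node (.node .nil (nat_lit 0x37b0a079d1c) (nat_lit 0x5354d529aa) (nat_lit 0) .nil) (nat_lit 0x37b1509e790)
  (nat_lit 0xd5adac6a94a) (nat_lit 0) (.node .nil (nat_lit 0x37b2c3240de) (nat_lit 0xb6adab5adaa) (nat_lit 0)
  .nil)) (nat_lit 0x37b56dec6bd) (nat_lit 374123) (nat_lit 0) (.node (.node .nil (nat_lit 0x37bcc6d8e32)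
  (nat_lit 0xc5adaa6ad6d) (nat_lit 0) .nil) (nat_lit 0x37bd341f47f) (nat_lit 0x5356d5adab) (nat_lit 0)
  .nil))))))
def tF_8 : T := (.node (.node (.node (.node (.node (.node (.node .nil (nat_lit 0x37c344c47b5) (nat_lit
  0x358b6a9aa529ab) (nat_lit 0) .nil) (nat_lit 0x37c47f75ac3) (nat_lit 0x6adab5b56b) (nat_lit 0) (.node .nil
  (nat_lit 0x37c51d6ad1f) (nat_lit 0xd62dab6a94d) (nat_lit 0) .nil)) (nat_lit 0x37c52280dcc) (nat_lit 338346)
  (nat_lit 0) (.node (.node .nil (nat_lit 0x37c7a79daac) (nat_lit 0x6356b6adab) (nat_lit 0) .nil) (nat_lit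
  0x37ca4e94e31) (nat_lit 0x6ad6d5adab) (nat_lit 0) (.node .nil (nat_lit 0x37caa2ae7c1) (nat_lit
  0xb5b58d529ab) (nat_lit 0) .nil))) (nat_lit 0x37cfd22378e) (nat_lit 0x1aa6a94d) (nat_lit 0) (.node (.node
  (.node .nil (nat_lit 0x37d161653d3) (nat_lit 0x316d5354a) (nat_lit 0) .nil) (nat_lit 0x37d27ab8f8e) (nat_lit
  0xc6a94a6a9aa) (nat_lit 0) (.node .nil (nat_lit 0x37d498c351b) (nat_lit 0x1ac5b54a) (nat_lit 0) .nil))
  (nat_lit 0x37ebb1c35a7) (nat_lit 0x14a5354d) (nat_lit 0) (.node (.node .nil (nat_lit 0x37ec0737573) (nat_lit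
  0x16d5b54d529ab) (nat_lit 0) .nil) (nat_lit 0x37ec2ff85ff) (nat_lit 0x2d6d5b56b) (nat_lit 0) .nil)))
  (nat_lit 0x37ed69ee20c) (nat_lit 0x14d5b56b5b54a) (nat_lit 0) (.node (.node (.node (.node .nil (nat_lit
  0x37eff2191fd) (nat_lit 0x18d5b56b) (nat_lit 0) .nil) (nat_lit 0x37f17f3f957) (nat_lit 0xb6a9aa529aa)
  (nat_lit 0) (.node .nil (nat_lit 0x37f21b3794a) (nat_lit 0x316b6adaa5354a) (nat_lit 0) .nil)) (nat_lit
  0x37f46b6df2f) (nat_lit 0x529ab6a9aa) (nat_lit 0) (.node (.node .nil (nat_lit 0x37f4b642270) (nat_lit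
  0x1ab6ad6b6b14a) (nat_lit 0) .nil) (nat_lit 0x37f9408eabb) (nat_lit 0xd6354d529ab) (nat_lit 0) (.node .nil
  (nat_lit 0x37fc6e67820) (nat_lit 0x31ab5ad6d) (nat_lit 0) .nil))) (nat_lit 0x37fc779ad3e) (nat_lit
  0xb5adac6a9aa) (nat_lit 0) (.node (.node (.node .nil (nat_lit 0x384031db74e) (nat_lit 0x1ac5b56b6adab)
  (nat_lit 0) .nil) (nat_lit 0x38403748ec2) (nat_lit 0xb5b54d529ab) (nat_lit 0) (.node .nil (nat_lit
  0x384071f9e4e) (nat_lit 0x1aa529aa) (nat_lit 0) .nil)) (nat_lit 0x38428a0c68c) (nat_lit 0x16d5ad6d5b58a)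
  (nat_lit 0) (.node (.node .nil (nat_lit 0x3844c2bceb4) (nat_lit 0xb6b16d5b56b) (nat_lit 0) .nil) (nat_lit
  0x3844d7e638c) (nat_lit 0x14d5356b6a9ab) (nat_lit 0) .nil)))) (nat_lit 0x38461325c83) (nat_lit
  0x1aa6adab5b56b) (nat_lit 0) (.node (.node (.node (.node (.node .nil (nat_lit 0x38479d13fc2) (nat_lit
  0x6b1ab5b54a) (nat_lit 0) .nil) (nat_lit 0x3848a6be058) (nat_lit 0x18b5b56b6adaa) (nat_lit 0) (.node .nil
  (nat_lit 0x38493720e07) (nat_lit 0x6adac6adaa) (nat_lit 0) .nil)) (nat_lit 0x38522b97f9e) (nat_lit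
  0x5adaa6adaa) (nat_lit 0) (.node (.node .nil (nat_lit 0x3853229b5f4) (nat_lit 0x354d5294a) (nat_lit 0) .nil)
  (nat_lit 0x397c745751c) (nat_lit 0x18b5adab) (nat_lit 0) (.node .nil (nat_lit 0x397c8592f30) (nat_lit
  0xb5b56b6adab) (nat_lit 0) .nil))) (nat_lit 0x397d8985634) (nat_lit 0xb6b1ab5b56b) (nat_lit 0) (.node (.node
  (.node .nil (nat_lit 0x397ece230d4) (nat_lit 0xb6b16d5adab) (nat_lit 0) .nil) (nat_lit 0x398027d7c4e)
  (nat_lit 0x5356d529ab) (nat_lit 0) (.node .nil (nat_lit 0x3980511c8ea) (nat_lit 0x16b6a94a6a9aa) (nat_lit 0)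
  .nil)) (nat_lit 0x3981fa88610) (nat_lit 0x2dab5b54a) (nat_lit 0) (.node (.node .nil (nat_lit 0x3982466c5ba)
  (nat_lit 0x2d6b6b14a) (nat_lit 0) .nil) (nat_lit 0x39856eaa332) (nat_lit 0xb6adab5b58a) (nat_lit 0) .nil)))
  (nat_lit 0x3989cd260ba) (nat_lit 0x18b6a9ab5b56b) (nat_lit 0) (.node (.node (.node (.node .nil (nat_lit
  0x3989e64b792) (nat_lit 0xd5354a5354d) (nat_lit 0) .nil) (nat_lit 0x398e6380cfa) (nat_lit 0x29ab6adaa)
  (nat_lit 0) (.node .nil (nat_lit 0x3a3a260613e) (nat_lit 0x14d5b54a6adab) (nat_lit 0) .nil)) (nat_lit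
  0x3a3a2ae77ef) (nat_lit 0x2dab6ad6b) (nat_lit 0) (.node (.node .nil (nat_lit 0x3a3c6ae20fc) (nat_lit 12653)
  (nat_lit 0) .nil) (nat_lit 0x3a3c8556fb8) (nat_lit 0xc6a9aa6adab) (nat_lit 0) (.node .nil (nat_lit
  0x3a3dc7d5fa8) (nat_lit 0x18b6a9ab5adaa) (nat_lit 0) .nil))) (nat_lit 0x3a3e0cfa3f4) (nat_lit 0x5adaa5354d)
  (nat_lit 0) (.node (.node (.node .nil (nat_lit 0x3a3e7ca6c73) (nat_lit 0xb6b1ab5adaa) (nat_lit 0) .nil)
  (nat_lit 0x3a3e97e251a) (nat_lit 0xd529ab5b56d) (nat_lit 0) (.node .nil (nat_lit 0x3a4006bf934) (nat_lit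
  0x529aa5354a) (nat_lit 0) .nil)) (nat_lit 0x3a479e751b2) (nat_lit 0x2d6d529ab6a94a) (nat_lit 0) (.node
  (.node .nil (nat_lit 0x3a48ea047aa) (nat_lit 374155) (nat_lit 0) .nil) (nat_lit 0x3a4ae628d63) (nat_lit
  0x354d5294d) (nat_lit 0) .nil))))) (nat_lit 0x3b21e0e3e90) (nat_lit 0x358d5adab) (nat_lit 0) (.node (.node
  (.node (.node (.node (.node .nil (nat_lit 0x3b220534fe5) (nat_lit 0xd5adab5b58a) (nat_lit 0) .nil) (nat_lit
  0x3b2332dc0d6) (nat_lit 0xd5b56b6b14a) (nat_lit 0) (.node .nil (nat_lit 0x3b245a0225c) (nat_lit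
  0x14d529ab6a94a) (nat_lit 0) .nil)) (nat_lit 0x3b24b930e7f) (nat_lit 0x5adaa6ad6d) (nat_lit 0) (.node (.node
  .nil (nat_lit 0x3b26ea1d661) (nat_lit 0x5ad6d5b54a) (nat_lit 0) .nil) (nat_lit 0x3b29670720f) (nat_lit
  0x29aa5354d) (nat_lit 0) (.node .nil (nat_lit 0x3b2a9a68983) (nat_lit 0x16b5b58d529aa) (nat_lit 0) .nil)))
  (nat_lit 0x3b2abe9be60) (nat_lit 0x1ac5ad6b) (nat_lit 0) (.node (.node (.node .nil (nat_lit 0x3b2af5f4f7b)
  (nat_lit 0xc5b56b) (nat_lit 0) .nil) (nat_lit 0x3b2afa8ba23) (nat_lit 0x356b5b54a) (nat_lit 0) (.node .nil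
  (nat_lit 0x3b2fbfe91d3) (nat_lit 0x1ab5adab6a94d) (nat_lit 0) .nil)) (nat_lit 0x3b500877604) (nat_lit
  0x5adaa6a94d) (nat_lit 0) (.node (.node .nil (nat_lit 0x3b503348c9d) (nat_lit 426) (nat_lit 0) .nil)
  (nat_lit 0x3b50cec27f4) (nat_lit 0x1ac6a94d5b54a) (nat_lit 0) .nil))) (nat_lit 0x3b51bc0da8e) (nat_lit
  0xd5ad6d529aa) (nat_lit 0) (.node (.node (.node (.node .nil (nat_lit 0x3b5392b3c11) (nat_lit 0x5b58b6adab)
  (nat_lit 0) .nil) (nat_lit 0x3b54c44fdb8) (nat_lit 0xc6adab5adab) (nat_lit 0) (.node .nil (nat_lit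
  0x3b54c809c31) (nat_lit 0x356b6a94d) (nat_lit 0) .nil)) (nat_lit 0x3b5513c7326) (nat_lit 0x16d62d6d5b56d)
  (nat_lit 0) (.node (.node .nil (nat_lit 0x3b551bd3e2d) (nat_lit 0x356d6294a) (nat_lit 0) .nil) (nat_lit
  0x3b5c52b66be) (nat_lit 0xd5356b6a94a) (nat_lit 0) (.node .nil (nat_lit 0x3b5c5e10fba) (nat_lit
  0x16b6adab5b56b) (nat_lit 0) .nil))) (nat_lit 0x3b5cbf6d9c4) (nat_lit 0xa529ab) (nat_lit 0) (.node (.node
  (.node .nil (nat_lit 0x3c4d27179e8) (nat_lit 341322) (nat_lit 0) .nil) (nat_lit 0x3c4d2b6f669) (nat_lit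
  0x5b58b6a94a) (nat_lit 0) (.node .nil (nat_lit 0x3c4eb40af66) (nat_lit 0x16d5356b5b54d) (nat_lit 0) .nil))
  (nat_lit 0x3c4ec74c48e) (nat_lit 0xd62daa6a94d) (nat_lit 0) (.node (.node .nil (nat_lit 0x3c5085f0a40)
  (nat_lit 0xa6a9aa529ab) (nat_lit 0) .nil) (nat_lit 0x3c508975361) (nat_lit 0x1ab5adac) (nat_lit 0) .nil))))
  (nat_lit 0x3c594b8a0b1) (nat_lit 12618) (nat_lit 12618) (.node (.node (.node (.node (.node .nil (nat_lit
  0x3c594e90b4b) (nat_lit 0x1aa6a94a6a9aa) (nat_lit 0) .nil) (nat_lit 0x3c5957ae198) (nat_lit 0x62d6d529aa)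
  (nat_lit 0) (.node .nil (nat_lit 0x3c595a4cffe) (nat_lit 0xb6a94d5b54a) (nat_lit 0) .nil)) (nat_lit
  0x3c59b5860f8) (nat_lit 0x18b6a94d) (nat_lit 0) (.node (.node .nil (nat_lit 0x3c59b88ce90) (nat_lit
  0x29ab6a94d) (nat_lit 0) .nil) (nat_lit 0x3cc77e19a42) (nat_lit 0x18d5ad6d5356d) (nat_lit 0) (.node .nil
  (nat_lit 0x3cc8c47c184) (nat_lit 0x31ab6ad6d5adaa) (nat_lit 0) .nil))) (nat_lit 0x3cca08b2450) (nat_lit
  0x16d6354d5356d) (nat_lit 0) (.node (.node (.node .nil (nat_lit 0x3cd042eebb0) (nat_lit 0x1aa5354a6a9aa)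
  (nat_lit 0) .nil) (nat_lit 0x3cd05754c87) (nat_lit 0xd5adab5b58b) (nat_lit 0) (.node .nil (nat_lit
  0x3cd062f09ac) (nat_lit 0xb5b58d5adaa) (nat_lit 0) .nil)) (nat_lit 0x3cd06ce6af1) (nat_lit 0xc5b56b6a9ab)
  (nat_lit 0) (.node (.node .nil (nat_lit 0x3cd4f962357) (nat_lit 0xd6356d5356b) (nat_lit 0) .nil) (nat_lit
  0x3cd634c3216) (nat_lit 0x16b6b16d5b54d) (nat_lit 0) .nil))) (nat_lit 0x3cd6bdb3ad6) (nat_lit 0x1ab5b58d)
  (nat_lit 0) (.node (.node (.node (.node .nil (nat_lit 0x3cd7c504a51) (nat_lit 0x354d529aa6a94a) (nat_lit 0)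
  .nil) (nat_lit 0x3cd7d51b0d8) (nat_lit 0x5adac6a9ab) (nat_lit 0) (.node .nil (nat_lit 0x420cbeb3a2e)
  (nat_lit 0x1ab6b14a) (nat_lit 0) .nil)) (nat_lit 0x420ccef81f8) (nat_lit 0x18d5b54a6a94a) (nat_lit 0) (.node
  (.node .nil (nat_lit 0x420e07184cf) (nat_lit 0x6b1aa6a94d) (nat_lit 0) .nil) (nat_lit 0x420e20e597b)
  (nat_lit 0x294d5b54a6a94a) (nat_lit 0) (.node .nil (nat_lit 0x420f15f1627) (nat_lit 0x358d5294a) (nat_lit 0)
  .nil))) (nat_lit 0x420f8b796c4) (nat_lit 0x16b6adab) (nat_lit 0) (.node (.node (.node .nil (nat_lit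
  0x42115ae43a9) (nat_lit 0x6a9ab5b54a) (nat_lit 0) .nil) (nat_lit 0x4211708b624) (nat_lit 0x294a6a9aa)
  (nat_lit 0) (.node .nil (nat_lit 0x42125eac62a) (nat_lit 0xb6adac6a94a) (nat_lit 0) .nil)) (nat_lit
  0x421433606ef) (nat_lit 0x316b6a9ab5b54a) (nat_lit 0) (.node (.node .nil (nat_lit 0x42153e943fd) (nat_lit
  0x356d5354a) (nat_lit 0) .nil) (nat_lit 0x4215d16e530) (nat_lit 0x1ac6ad6d5adab) (nat_lit 0) .nil))))))
def tF_9 : T := (.node (.node (.node (.node (.node (.node (.node .nil (nat_lit 0x4239245870b) (nat_lit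
  0x1ac6a94d529aa) (nat_lit 0) .nil) (nat_lit 0x423a9bf03b9) (nat_lit 0x6354a6a9ab) (nat_lit 0) (.node .nil
  (nat_lit 0x423b03b5d88) (nat_lit 0xc5b54a6adaa) (nat_lit 0) .nil)) (nat_lit 0x423b5b8526e) (nat_lit
  0x358d5ad6b) (nat_lit 0) (.node (.node .nil (nat_lit 0x423d4f37005) (nat_lit 0xa5354a6adaa) (nat_lit 0)
  .nil) (nat_lit 0x423d799d816) (nat_lit 0xb6adaa) (nat_lit 0) (.node .nil (nat_lit 0x423f6f660df) (nat_lit
  0xd5adab5b54a) (nat_lit 0) .nil))) (nat_lit 0x423f9ff92bc) (nat_lit 0x356b6adab5b58a) (nat_lit 0) (.node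
  (.node (.node .nil (nat_lit 0x42445502cd1) (nat_lit 0x1ac5adab) (nat_lit 0) .nil) (nat_lit 0x424510eb566)
  (nat_lit 0x18b6a94d529ab) (nat_lit 0) (.node .nil (nat_lit 0x42469db8a13) (nat_lit 0x16d5356d5b54d) (nat_lit
  0) .nil)) (nat_lit 0x424c21fa18a) (nat_lit 0x16b6b1ab5b54a) (nat_lit 0) (.node (.node .nil (nat_lit
  0x424c2a10f83) (nat_lit 0x294d5b54d) (nat_lit 0) .nil) (nat_lit 0x424c4663169) (nat_lit 0x294d5adab6a9aa)
  (nat_lit 0) .nil))) (nat_lit 0x424cce2c514) (nat_lit 0x6adab6a9ab) (nat_lit 0) (.node (.node (.node (.node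
  .nil (nat_lit 0x424f58c34e1) (nat_lit 0x16b6adac6adaa) (nat_lit 0) .nil) (nat_lit 0x425011a8ba5) (nat_lit
  0x14d5b54a6adaa) (nat_lit 0) (.node .nil (nat_lit 0x4250b566ab3) (nat_lit 0x5adaa529aa) (nat_lit 0) .nil))
  (nat_lit 0x4252693ef44) (nat_lit 0x2dab6a9aa5356b) (nat_lit 0) (.node (.node .nil (nat_lit 0x42528d86ecb)
  (nat_lit 0x6356b6adaa) (nat_lit 0) .nil) (nat_lit 0x4254cacfd47) (nat_lit 0x18b6adaa6a9ab) (nat_lit 0)
  (.node .nil (nat_lit 0x4254fd68e95) (nat_lit 0x62dab5b54d) (nat_lit 0) .nil))) (nat_lit 0x42596da9289)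
  (nat_lit 0x294a6a9ab) (nat_lit 0) (.node (.node (.node .nil (nat_lit 0x42613808c7e) (nat_lit 0x14a6adaa)
  (nat_lit 0) .nil) (nat_lit 0x426141360f4) (nat_lit 0xd5354a6a9ab) (nat_lit 0) (.node .nil (nat_lit
  0x42634e4a1d3) (nat_lit 0xb6b16b6a9ab) (nat_lit 0) .nil)) (nat_lit 0x42646f4a78a) (nat_lit 0xd5ad6d529ab)
  (nat_lit 0) (.node (.node .nil (nat_lit 0x4265084abcf) (nat_lit 0xd62d6d529ab) (nat_lit 0) .nil) (nat_lit
  0x42651be220e) (nat_lit 0x16b6b1aa) (nat_lit 0) .nil)))) (nat_lit 0x42651ddf25e) (nat_lit 0xa6ad6b6a9ab)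
  (nat_lit 0) (.node (.node (.node (.node (.node .nil (nat_lit 0x426577a9670) (nat_lit 0xd5b56b6adac) (nat_lit
  0) .nil) (nat_lit 0x4266bd5cfff) (nat_lit 0x294d529ab) (nat_lit 0) (.node .nil (nat_lit 0x426f4533489)
  (nat_lit 0x6ad6b6adaa) (nat_lit 0) .nil)) (nat_lit 0x427040bd6dd) (nat_lit 0x6b16b6adaa) (nat_lit 0) (.node
  (.node .nil (nat_lit 0x4271d661c67) (nat_lit 0x2d6d5adac) (nat_lit 0) .nil) (nat_lit 0x42760c8c845) (nat_lit
  0x16d5ad6d5b54a) (nat_lit 0) (.node .nil (nat_lit 0x427614a5e10) (nat_lit 0xb6a9aa5354d) (nat_lit 0) .nil)))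
  (nat_lit 0x4277c0e9c58) (nat_lit 0x16b6ad6d5354a) (nat_lit 0) (.node (.node (.node .nil (nat_lit
  0x4277e41a0b1) (nat_lit 0xb5b56b6b14a) (nat_lit 0) .nil) (nat_lit 0x42785852380) (nat_lit 404843) (nat_lit
  404843) (.node .nil (nat_lit 0x427c2245b23) (nat_lit 0x316d5ad6d) (nat_lit 0) .nil)) (nat_lit 0x427d8d7cddc)
  (nat_lit 0xa6ad6b) (nat_lit 0) (.node (.node .nil (nat_lit 0x427edc26148) (nat_lit 0x5354d5adab) (nat_lit 0)
  .nil) (nat_lit 0x427ee97aa35) (nat_lit 0x2dac5b56b) (nat_lit 0) .nil))) (nat_lit 0x428382a496a) (nat_lit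
  0x5356d5ad6d) (nat_lit 0) (.node (.node (.node (.node .nil (nat_lit 0x428389c7ce3) (nat_lit 0xd5356b6a9aa)
  (nat_lit 0) .nil) (nat_lit 0x4283b595d07) (nat_lit 0xd62dab) (nat_lit 0) (.node .nil (nat_lit 0x49b56f51a49)
  (nat_lit 0xd5294d5354a) (nat_lit 0) .nil)) (nat_lit 0x49b6375f376) (nat_lit 0xa529ab6a94d) (nat_lit 0)
  (.node (.node .nil (nat_lit 0x49b7acd2b57) (nat_lit 0xa6a94d5b54a) (nat_lit 0) .nil) (nat_lit 0x49b806bb9c0)
  (nat_lit 0x16d62d6d) (nat_lit 0) (.node .nil (nat_lit 0x49b8141996a) (nat_lit 0x1ac5adaa) (nat_lit 0)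
  .nil))) (nat_lit 0x49b8b1b7d13) (nat_lit 12) (nat_lit 12) (.node (.node (.node .nil (nat_lit 0x49b8b75381f)
  (nat_lit 0x6356b6a94a) (nat_lit 0) .nil) (nat_lit 0x49b924a4d48) (nat_lit 0xb5b54d5adab) (nat_lit 0) (.node
  .nil (nat_lit 0x49bb3a852c4) (nat_lit 0x62daa529ab) (nat_lit 0) .nil)) (nat_lit 0x49bca4b0104) (nat_lit
  0x356b5b56d529ab) (nat_lit 0) (.node (.node .nil (nat_lit 0x49bde33e89d) (nat_lit 0xd5b56d5354d) (nat_lit 0)
  .nil) (nat_lit 0x49be3c168bb) (nat_lit 0x14a5354a) (nat_lit 0) .nil))))) (nat_lit 0x49e34e4f24b) (nat_lit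
  0x16b6a94d529ab) (nat_lit 0) (.node (.node (.node (.node (.node (.node .nil (nat_lit 0x49e3748806a) (nat_lit
  0x1ab6a94d529aa) (nat_lit 0) .nil) (nat_lit 0x49e377cce6b) (nat_lit 0xb5b54a6adaa) (nat_lit 0) (.node .nil
  (nat_lit 0x49e4142db71) (nat_lit 0x1ab5adab) (nat_lit 0) .nil)) (nat_lit 0x49e6d33677d) (nat_lit
  0xd62dab5b54a) (nat_lit 0) (.node (.node .nil (nat_lit 0x49e7f7915e8) (nat_lit 0x354a529aa) (nat_lit 0)
  .nil) (nat_lit 0x49e7ffbfff5) (nat_lit 0xb5b56b6b1aa) (nat_lit 0) (.node .nil (nat_lit 0x49e8079f231)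
  (nat_lit 0xd529aa6a94d) (nat_lit 0) .nil))) (nat_lit 0x49e80b1bc46) (nat_lit 0x18d5356d5b54d) (nat_lit 0)
  (.node (.node (.node .nil (nat_lit 0x49ef993bd13) (nat_lit 0x5b54a6a9ab) (nat_lit 0) .nil) (nat_lit
  0x49efa2bb0d0) (nat_lit 0xc6adaa) (nat_lit 0) (.node .nil (nat_lit 0x49f00053114) (nat_lit 0x18d529ab)
  (nat_lit 0) .nil)) (nat_lit 0x4a1e8385e67) (nat_lit 0xb6ad6d5354a) (nat_lit 0) (.node (.node .nil (nat_lit
  0x4a1e8cea90d) (nat_lit 0x18d5adab) (nat_lit 0) .nil) (nat_lit 0x4a202009342) (nat_lit 0x1ac5b56b) (nat_lit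
  0) .nil))) (nat_lit 0x4a2395a39a1) (nat_lit 0xc5ad6b) (nat_lit 0xc5ad6b) (.node (.node (.node (.node .nil
  (nat_lit 0x4a272a0af2a) (nat_lit 0xa5354d5adab) (nat_lit 0) .nil) (nat_lit 0x4a275e6f562) (nat_lit
  0x6a9aa5354d) (nat_lit 0) (.node .nil (nat_lit 0x4a276be9664) (nat_lit 0xd5ad6d5b54a) (nat_lit 0) .nil))
  (nat_lit 0x4a2770b9676) (nat_lit 0xd5adaa6ad6d) (nat_lit 0) (.node (.node .nil (nat_lit 0x4a277371e0e)
  (nat_lit 0x5b56b6b14a) (nat_lit 0) .nil) (nat_lit 0x4a2784c4e2e) (nat_lit 0x5adab5b58a) (nat_lit 0) (.node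
  .nil (nat_lit 0x4a2c38b3591) (nat_lit 0x16b5b54a) (nat_lit 0) .nil))) (nat_lit 0x4a2c6a51167) (nat_lit
  0xb5adab6a94d) (nat_lit 0) (.node (.node (.node .nil (nat_lit 0x4a5e9f33ab9) (nat_lit 0x356d5adab) (nat_lit
  0) .nil) (nat_lit 0x4a60a99c41e) (nat_lit 0x16d5adac6a94a) (nat_lit 0) (.node .nil (nat_lit 0x4a62620b307)
  (nat_lit 0x358b5b54a) (nat_lit 0) .nil)) (nat_lit 0x4a62a01b9a8) (nat_lit 0xb5b56b) (nat_lit 0) (.node
  (.node .nil (nat_lit 0x4a63d35589b) (nat_lit 0x354a6a94d) (nat_lit 0) .nil) (nat_lit 0x4a66680bd40) (nat_lit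
  0xb6ad6d5b58a) (nat_lit 0) .nil)))) (nat_lit 0x4a669af8029) (nat_lit 0x14a5356d529aa) (nat_lit 0) (.node
  (.node (.node (.node (.node .nil (nat_lit 0x4a66b2590d9) (nat_lit 0x354d529aa) (nat_lit 0) .nil) (nat_lit
  0x4a66ea46c7f) (nat_lit 0x62daa6ad6d) (nat_lit 0) (.node .nil (nat_lit 0x4a6ae65db9d) (nat_lit 0x1aa5294a)
  (nat_lit 0) .nil)) (nat_lit 0x4a6b60d429a) (nat_lit 0x62d6d5b54a) (nat_lit 0) (.node (.node .nil (nat_lit
  0x4a70d38172e) (nat_lit 0x1ac5adab6a94d) (nat_lit 0) .nil) (nat_lit 0x4a9d3f6d5bd) (nat_lit 0xb6a9ab5b56b)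
  (nat_lit 0) (.node .nil (nat_lit 0x4a9df51f93f) (nat_lit 0x18d5354a5354d) (nat_lit 0) .nil))) (nat_lit
  0x4a9ea7fc226) (nat_lit 0xb5b58b6a9aa) (nat_lit 0) (.node (.node (.node .nil (nat_lit 0x4a9fee17e28)
  (nat_lit 0xb5adab) (nat_lit 0) .nil) (nat_lit 0x4aa1949dee5) (nat_lit 0x1ab5b56b6b1aa) (nat_lit 0) (.node
  .nil (nat_lit 0x4aa38858a9f) (nat_lit 0x14a529aa) (nat_lit 0) .nil)) (nat_lit 0x4aa38e67a87) (nat_lit
  0x1ac6adaa) (nat_lit 0) (.node (.node .nil (nat_lit 0x4aa5a564e74) (nat_lit 0x529aa6a94d) (nat_lit 0) .nil)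
  (nat_lit 0x4aa5dad2a6c) (nat_lit 0x62dab5b54a) (nat_lit 0) .nil))) (nat_lit 0x4aacd7e34fa) (nat_lit
  0x358d529ab) (nat_lit 0) (.node (.node (.node (.node .nil (nat_lit 0x4aade5889d8) (nat_lit 0xb5b58d5354d)
  (nat_lit 0) .nil) (nat_lit 0x4ab00e8697a) (nat_lit 0xb6a94d529aa) (nat_lit 0) (.node .nil (nat_lit
  0x4ab21204e01) (nat_lit 0xb5b56d5354d) (nat_lit 0) .nil)) (nat_lit 0x4ab45cbb08e) (nat_lit 404906) (nat_lit
  0) (.node (.node .nil (nat_lit 0x4ab7247cbe7) (nat_lit 0xb5b56b6a9aa) (nat_lit 0) .nil) (nat_lit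
  0x4ab8205a8e2) (nat_lit 0x1aa5356b6adaa) (nat_lit 0) (.node .nil (nat_lit 0x4ab8a2b1d88) (nat_lit
  0x5b54a5354a) (nat_lit 0) .nil))) (nat_lit 0x4abab3fffdb) (nat_lit 0x16d6356b6a94a) (nat_lit 0) (.node
  (.node (.node .nil (nat_lit 0x4ababa3593f) (nat_lit 0x358d5b54d) (nat_lit 0) .nil) (nat_lit 0x4abaedee778)
  (nat_lit 0x294d5354a) (nat_lit 0) (.node .nil (nat_lit 0x4abafa61a38) (nat_lit 11692) (nat_lit 0) .nil))
  (nat_lit 0x4abb14fa724) (nat_lit 0x6a9ab5b54d) (nat_lit 0) (.node (.node .nil (nat_lit 0x4abfaf2e164)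
  (nat_lit 0x316d5356b6a94a) (nat_lit 0) .nil) (nat_lit 0x4ac06e85abe) (nat_lit 0xa6adab5adab) (nat_lit 0)
  .nil))))))
def tF_10 : T := (.node (.node (.node (.node (.node (.node (.node .nil (nat_lit 0x4af4414fe80) (nat_lit
  0xa6a94a) (nat_lit 0) .nil) (nat_lit 0x4af5e6d5de1) (nat_lit 0xb5b54d529aa) (nat_lit 0) (.node .nil (nat_lit
  0x4af5f2f2602) (nat_lit 0xb5b54a6a94d) (nat_lit 0) .nil)) (nat_lit 0x4af81681e20) (nat_lit 0xb5b56d5adab)
  (nat_lit 0) (.node (.node .nil (nat_lit 0x4afa37f1d78) (nat_lit 0x31aa6ad6d5354a) (nat_lit 0) .nil) (nat_lit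
  0x4afeed7d9ac) (nat_lit 0x18d5b54a) (nat_lit 0) (.node .nil (nat_lit 0x4aff1aa89e8) (nat_lit
  0x18b6a94d5b56b) (nat_lit 0) .nil))) (nat_lit 0x4aff3b0f157) (nat_lit 338253) (nat_lit 0) (.node (.node
  (.node .nil (nat_lit 0x4aff9c30321) (nat_lit 0xc5b56b5b54d) (nat_lit 0) .nil) (nat_lit 0x4b03eda3736)
  (nat_lit 0x1ab6b16d) (nat_lit 0) (.node .nil (nat_lit 0x4b046150bb4) (nat_lit 0x5356d529aa) (nat_lit 0)
  .nil)) (nat_lit 0x4b309a7a1e5) (nat_lit 0xd5adac) (nat_lit 0) (.node (.node .nil (nat_lit 0x4b30e383f67)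
  (nat_lit 0x2dab5adab) (nat_lit 0) .nil) (nat_lit 0x4b310e59685) (nat_lit 0x16b5b54a6adaa) (nat_lit 0)
  .nil))) (nat_lit 0x4b317a4d5bf) (nat_lit 0x16d529aa6a94d) (nat_lit 0) (.node (.node (.node (.node .nil
  (nat_lit 0x4b340dd2cf2) (nat_lit 0x16d62dab5b54a) (nat_lit 0) .nil) (nat_lit 0x4b382732ee1) (nat_lit
  0x354d5354a) (nat_lit 0) (.node .nil (nat_lit 0x4b397d9e6fc) (nat_lit 0xc6ad6b6a9ab) (nat_lit 0) .nil))
  (nat_lit 0x4b39b1bd747) (nat_lit 0xb5b54a6a9ab) (nat_lit 0) (.node (.node .nil (nat_lit 0x4b39c26f0b3)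
  (nat_lit 0xd6356b6a94d) (nat_lit 0) .nil) (nat_lit 0x4b3fdaae1b8) (nat_lit 0x18b6ad6b6adaa) (nat_lit 0)
  (.node .nil (nat_lit 0x4b42b8304d0) (nat_lit 0xd5b58d5b54d) (nat_lit 0) .nil))) (nat_lit 0x4b43553add1)
  (nat_lit 438698) (nat_lit 0) (.node (.node (.node .nil (nat_lit 0x4b4b6119625) (nat_lit 0x1ab6adaa) (nat_lit
  0) .nil) (nat_lit 0x4b4b7315f99) (nat_lit 0xa5356d5354d) (nat_lit 0) (.node .nil (nat_lit 0x4b4d32f1b41)
  (nat_lit 0x16b6adab5b58a) (nat_lit 0) .nil)) (nat_lit 0x4b4e563ad8d) (nat_lit 0x1aa5354a6adaa) (nat_lit 0)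
  (.node (.node .nil (nat_lit 0x4b4e5f4b650) (nat_lit 0x18d5ad6b) (nat_lit 0) .nil) (nat_lit 0x4b4e68740fd)
  (nat_lit 0x5adab5b54a) (nat_lit 0) .nil)))) (nat_lit 0x4b4e6af5aa0) (nat_lit 0x356d529ab) (nat_lit 0) (.node
  (.node (.node (.node (.node .nil (nat_lit 0x4b4eb58982b) (nat_lit 0xc6a9ab5b56b) (nat_lit 0) .nil) (nat_lit
  0x4b4ebfed3c8) (nat_lit 0xc6a94d529aa) (nat_lit 0) (.node .nil (nat_lit 0x4b55f4e4233) (nat_lit
  0xa5356b6a9aa) (nat_lit 0) .nil)) (nat_lit 0x4b560519ab5) (nat_lit 0xc5adab) (nat_lit 0) (.node (.node .nil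
  (nat_lit 0x4b565fed1b9) (nat_lit 0x16d5354a5354d) (nat_lit 0) .nil) (nat_lit 0x4b87ca750de) (nat_lit
  0xd5adac6ad6d) (nat_lit 0) (.node .nil (nat_lit 0x4b8990eb78c) (nat_lit 0x31aa5294a) (nat_lit 0) .nil)))
  (nat_lit 0x4b8aa064f00) (nat_lit 0xb5b58d529aa) (nat_lit 0) (.node (.node (.node .nil (nat_lit
  0x4b8ba8d5ca9) (nat_lit 0x1ab6ad6b6adab) (nat_lit 0) .nil) (nat_lit 0x4b8c7853717) (nat_lit 0x6354d529aa)
  (nat_lit 0) (.node .nil (nat_lit 0x4b8dca67923) (nat_lit 0x6356d5adab) (nat_lit 0) .nil)) (nat_lit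
  0x4b8e14f492e) (nat_lit 0x529aa5354d) (nat_lit 0) (.node (.node .nil (nat_lit 0x4b927e9e259) (nat_lit
  0x2daa6ad6d) (nat_lit 0) .nil) (nat_lit 0x4b928c27ba1) (nat_lit 0x6354a6a94d) (nat_lit 0) .nil))) (nat_lit
  0x4b92aac51e0) (nat_lit 0x5356b5b54a) (nat_lit 0) (.node (.node (.node (.node .nil (nat_lit 0x4b944285e53)
  (nat_lit 0x18b5b56b) (nat_lit 0) .nil) (nat_lit 0x4b977d7ee32) (nat_lit 0x2d6d5b54a) (nat_lit 0) (.node .nil
  (nat_lit 0x4b9a27f0f28) (nat_lit 0x29ab6a9ab) (nat_lit 0) .nil)) (nat_lit 0x4b9aee032d8) (nat_lit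
  0x358d529aa5354d) (nat_lit 0) (.node (.node .nil (nat_lit 0x4b9c57644b5) (nat_lit 0x5356d5adaa) (nat_lit 0)
  .nil) (nat_lit 0x4b9ceddaf85) (nat_lit 0x358d5356b5b54a) (nat_lit 0) (.node .nil (nat_lit 0x4b9ec8de7b3)
  (nat_lit 0x14a6a94a6a9ab) (nat_lit 0) .nil))) (nat_lit 0x4ba08069557) (nat_lit 0x2daa5356d) (nat_lit 0)
  (.node (.node (.node .nil (nat_lit 0x4ba2a8f520f) (nat_lit 0xa6ad6d5b54d) (nat_lit 0) .nil) (nat_lit
  0x4ba2bdbc279) (nat_lit 0xd5b54d5356d) (nat_lit 0) (.node .nil (nat_lit 0x4ba2c6321de) (nat_lit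
  0x1ac5b54a6a9aa) (nat_lit 0) .nil)) (nat_lit 0x4ba2dbb90a2) (nat_lit 0x1ab5adaa6adab) (nat_lit 0) (.node
  (.node .nil (nat_lit 0x4ba77ca5c7c) (nat_lit 0xd5354a6a94a) (nat_lit 0) .nil) (nat_lit 0x4bad131399c)
  (nat_lit 0x1ac6ad6d5b54a) (nat_lit 0) .nil))))) (nat_lit 0x4bc5ffab4f4) (nat_lit 0xb5b56d6356b) (nat_lit 0)
  (.node (.node (.node (.node (.node (.node .nil (nat_lit 0x4bc711c3723) (nat_lit 0x14d5b56d) (nat_lit 0)
  .nil) (nat_lit 0x4bc7168805a) (nat_lit 0x16d5354a5354a) (nat_lit 0) (.node .nil (nat_lit 0x4bc8272bb98)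
  (nat_lit 0xd5b58d5294d) (nat_lit 0) .nil)) (nat_lit 0x4bc8ccdfb7b) (nat_lit 0xb6b1ab) (nat_lit 0) (.node
  (.node .nil (nat_lit 0x4bc94391b54) (nat_lit 0x316d5354a5354a) (nat_lit 0) .nil) (nat_lit 0x4bcae4cb208)
  (nat_lit 0x6b1aa5356b) (nat_lit 0) (.node .nil (nat_lit 0x4bccd203daf) (nat_lit 0xb6adaa6ad6b) (nat_lit 0)
  .nil))) (nat_lit 0x4bccf7bb3d9) (nat_lit 0x14d5356d5294d) (nat_lit 0) (.node (.node (.node .nil (nat_lit
  0x4bd1462ae67) (nat_lit 0x14a6adab) (nat_lit 0) .nil) (nat_lit 0x4bd1f9dce63) (nat_lit 0xd6356d) (nat_lit 0)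
  (.node .nil (nat_lit 0x4bd7335413d) (nat_lit 0xa6adaa5356b) (nat_lit 0) .nil)) (nat_lit 0x4bdd3da4c9a)
  (nat_lit 0x356d62dab) (nat_lit 0) (.node (.node .nil (nat_lit 0x4bdd63d66e6) (nat_lit 0x18d5356b6a9aa)
  (nat_lit 0) .nil) (nat_lit 0x4bde047443e) (nat_lit 0x16d5ad6d) (nat_lit 0) .nil))) (nat_lit 0x4bdf038bfdc)
  (nat_lit 0x14d5adab) (nat_lit 0) (.node (.node (.node (.node .nil (nat_lit 0x4be0c6695d3) (nat_lit
  0x316b6ad6d5354a) (nat_lit 0) .nil) (nat_lit 0x4be1e5e4e88) (nat_lit 0x5294d529aa) (nat_lit 0) (.node .nil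
  (nat_lit 0x4be1eda8deb) (nat_lit 0x529ab5b56b) (nat_lit 0) .nil)) (nat_lit 0x4be2463fc54) (nat_lit 11627)
  (nat_lit 11627) (.node (.node .nil (nat_lit 0x4be24f21017) (nat_lit 0x18b6a9aa5354d) (nat_lit 0) .nil)
  (nat_lit 0x4be98868d52) (nat_lit 438635) (nat_lit 0) (.node .nil (nat_lit 0x4be9973569d) (nat_lit
  0x358d5ad6d) (nat_lit 0) .nil))) (nat_lit 0x4be9f539dd7) (nat_lit 0x316d5ad6d5b54a) (nat_lit 0) (.node
  (.node (.node .nil (nat_lit 0x4c18bde3c37) (nat_lit 0xd529aa5354a) (nat_lit 0) .nil) (nat_lit 0x4c18efc6d60)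
  (nat_lit 0x2d6d5adaa6a94a) (nat_lit 0) (.node .nil (nat_lit 0x4c19ec979ca) (nat_lit 0x529ab5b56d) (nat_lit
  0) .nil)) (nat_lit 0x4c1aeb40540) (nat_lit 438637) (nat_lit 0) (.node (.node .nil (nat_lit 0x4c1b5e18130)
  (nat_lit 0xd5adaa5354d) (nat_lit 0) .nil) (nat_lit 0x4c1b6486c7e) (nat_lit 0xd5b58b) (nat_lit 0) .nil))))
  (nat_lit 0x4c1d45ff7f1) (nat_lit 0x29aa6a94a) (nat_lit 0) (.node (.node (.node (.node (.node .nil (nat_lit
  0x4c1e7d76420) (nat_lit 0x2d6d62daa6a94a) (nat_lit 0) .nil) (nat_lit 0x4c1f392e331) (nat_lit 0x14d5294d)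
  (nat_lit 0) (.node .nil (nat_lit 0x4c21939ef40) (nat_lit 0x5b56b5b58d) (nat_lit 0) .nil)) (nat_lit
  0x4c2b0cbe96d) (nat_lit 0x16d5354a6a9aa) (nat_lit 0) (.node (.node .nil (nat_lit 0x4c2b8ef1e0b) (nat_lit
  0x16b6b1ab5b56d) (nat_lit 0) .nil) (nat_lit 0x4c57d2ca712) (nat_lit 0x2dab6ad6b6adaa) (nat_lit 0) (.node
  .nil (nat_lit 0x4c57f917ba8) (nat_lit 0xb6ad6b6b1aa) (nat_lit 0) .nil))) (nat_lit 0x4c589af1754) (nat_lit
  0x29aa6adab5b56b) (nat_lit 0) (.node (.node (.node .nil (nat_lit 0x4c595b0db04) (nat_lit 0x356d5b56b)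
  (nat_lit 0) .nil) (nat_lit 0x4c5a98b111a) (nat_lit 0xd5ad6d5b58a) (nat_lit 0) (.node .nil (nat_lit
  0x4c5a9de988e) (nat_lit 0x5b54d529ab) (nat_lit 0) .nil)) (nat_lit 0x4c5bb89f96c) (nat_lit 0xc6a9ab6adaa)
  (nat_lit 0) (.node (.node .nil (nat_lit 0x4c5dc3aebb8) (nat_lit 0x29aa529aa) (nat_lit 0) .nil) (nat_lit
  0x4c6061eabb0) (nat_lit 0xc6adab5b54a) (nat_lit 0) .nil))) (nat_lit 0x4c6076cdcf9) (nat_lit 0x2daa6adaa)
  (nat_lit 0) (.node (.node (.node (.node .nil (nat_lit 0x4c6559b0be4) (nat_lit 0x1aa529ab6a9aa) (nat_lit 0)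
  .nil) (nat_lit 0x4c6a7524f9c) (nat_lit 0x6b16d5b56b) (nat_lit 0) (.node .nil (nat_lit 0x4cc14db8887)
  (nat_lit 0x31aa5294d) (nat_lit 0) .nil)) (nat_lit 0x4cc196a9531) (nat_lit 0xd5b56d5354a) (nat_lit 0) (.node
  (.node .nil (nat_lit 0x4cc2cefdb70) (nat_lit 0x16d529aa6a94a) (nat_lit 0) .nil) (nat_lit 0x4cc38e947b3)
  (nat_lit 0xa6ad6d5b54a) (nat_lit 0) (.node .nil (nat_lit 0x4cc402aa654) (nat_lit 0x2dac6ad6d) (nat_lit 0)
  .nil))) (nat_lit 0x4cc407fa42d) (nat_lit 0x354a6a9aa) (nat_lit 0) (.node (.node (.node .nil (nat_lit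
  0x4cc5077c40c) (nat_lit 0x6354a6a94a) (nat_lit 0) .nil) (nat_lit 0x4cc7a7dd756) (nat_lit 0x1ac5b56d5354a)
  (nat_lit 0) (.node .nil (nat_lit 0x4cc9f39e03c) (nat_lit 0x18d5b54d529aa) (nat_lit 0) .nil)) (nat_lit
  0x4cca084755f) (nat_lit 0x18b6adaa5356d) (nat_lit 0) (.node (.node .nil (nat_lit 0x4cd3b1fd3e7) (nat_lit
  0x5b58d5356b) (nat_lit 0) .nil) (nat_lit 0x4cd43426967) (nat_lit 0x6ad6b6adab) (nat_lit 0) .nil))))))
def tF_11 : T := (.node (.node (.node (.node (.node (.node (.node .nil (nat_lit 0x4d01c0ec082) (nat_lit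
  0x5b54d5ad6d) (nat_lit 0) .nil) (nat_lit 0x4d01d5d4aed) (nat_lit 0x16b6adac5b54d) (nat_lit 0) (.node .nil
  (nat_lit 0x4d01f402fcf) (nat_lit 0x16b5adaa) (nat_lit 0) .nil)) (nat_lit 0x4d05680c4ec) (nat_lit
  0xa6a9ab5b56b) (nat_lit 0) (.node (.node .nil (nat_lit 0x4d066398bd3) (nat_lit 0x31aa6ad6b) (nat_lit 0)
  .nil) (nat_lit 0x4d06e4974a6) (nat_lit 0xc5b56d529ab) (nat_lit 0) (.node .nil (nat_lit 0x4d092fd635a)
  (nat_lit 0xa6a94d529aa) (nat_lit 0) .nil))) (nat_lit 0x4d0946d2d15) (nat_lit 0xd5354d5b56b) (nat_lit 0)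
  (.node (.node (.node .nil (nat_lit 0x4d0df2b3ade) (nat_lit 0x358b6a9aa) (nat_lit 0) .nil) (nat_lit
  0x4d0e3d95fad) (nat_lit 11691) (nat_lit 0) (.node .nil (nat_lit 0x4d0eb1a67c5) (nat_lit 0x5b58b6ad6b)
  (nat_lit 0) .nil)) (nat_lit 0x4d1568d394e) (nat_lit 0xb5b56b6ad6d) (nat_lit 0) (.node (.node .nil (nat_lit
  0x4d168595c67) (nat_lit 0xa6ad6d) (nat_lit 0) .nil) (nat_lit 0x4d17b4121e8) (nat_lit 0x16b6b16d5356b)
  (nat_lit 0) .nil))) (nat_lit 0x4d17ca1ffd7) (nat_lit 0x2dac5b56d) (nat_lit 0) (.node (.node (.node (.node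
  .nil (nat_lit 0x4d18fefba2f) (nat_lit 0x1ac5b56d5adab) (nat_lit 0) .nil) (nat_lit 0x4d1bf54ecb0) (nat_lit
  0x1ac5b54d529aa) (nat_lit 0) (.node .nil (nat_lit 0x4d230b4a020) (nat_lit 0x316d5354a6a9aa) (nat_lit 0)
  .nil)) (nat_lit 0x4d231e7117d) (nat_lit 0xa5354a5356d) (nat_lit 0) (.node (.node .nil (nat_lit
  0x4d2344de27c) (nat_lit 0x14d5356b) (nat_lit 0) .nil) (nat_lit 0x4d24609f0bf) (nat_lit 0x6adac5294a)
  (nat_lit 0) (.node .nil (nat_lit 0x4d26520e325) (nat_lit 0xb5b58b6ad6d) (nat_lit 0) .nil))) (nat_lit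
  0x4d287d531b2) (nat_lit 0x356b5b58a) (nat_lit 0) (.node (.node (.node .nil (nat_lit 0x4d2ab66abde) (nat_lit
  0x16d5b54a6a94a) (nat_lit 0) .nil) (nat_lit 0x4d2b720264e) (nat_lit 0x14d5354d) (nat_lit 0) (.node .nil
  (nat_lit 0x4d2beaac13e) (nat_lit 0x6adaa6a94d) (nat_lit 0) .nil)) (nat_lit 0x4d2c5e9f1a4) (nat_lit
  0x294d5354a5354a) (nat_lit 0) (.node (.node .nil (nat_lit 0x4d2eb67f148) (nat_lit 0x62d6d5b56d) (nat_lit 0)
  .nil) (nat_lit 0x4d2f3b6f415) (nat_lit 0x358d5354a) (nat_lit 0) .nil)))) (nat_lit 0x4d2fa284bfb) (nat_lit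
  0xa6a9ab6a94a) (nat_lit 0) (.node (.node (.node (.node (.node .nil (nat_lit 0x4d331f44cc5) (nat_lit
  0x6adac5b54a) (nat_lit 0) .nil) (nat_lit 0x4d335896487) (nat_lit 0x1ab6ad6d5adab) (nat_lit 0) (.node .nil
  (nat_lit 0x4d33770ac4c) (nat_lit 436650) (nat_lit 0) .nil)) (nat_lit 0x4d3adfb9fd0) (nat_lit 0x18b6adab)
  (nat_lit 0) (.node (.node .nil (nat_lit 0x4d3b3ee3d85) (nat_lit 0x2d6d6354a6a94a) (nat_lit 0) .nil) (nat_lit
  0x4d3f9e6c492) (nat_lit 0xb5b56d62daa) (nat_lit 0) (.node .nil (nat_lit 0x4d4113e8b91) (nat_lit 0x1ab6adab)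
  (nat_lit 0) .nil))) (nat_lit 0x4d413066e8d) (nat_lit 0x1ac6a9aa) (nat_lit 0) (.node (.node (.node .nil
  (nat_lit 0x4d414f5d634) (nat_lit 0x14d5356d5adab) (nat_lit 0) .nil) (nat_lit 0x4d432f60c3f) (nat_lit
  0x14d5b56b) (nat_lit 0) (.node .nil (nat_lit 0x4d44641d7b7) (nat_lit 0x14a6a9aa529aa) (nat_lit 0) .nil))
  (nat_lit 0x4d44b64d9d4) (nat_lit 0x5b54d5b54a) (nat_lit 0) (.node (.node .nil (nat_lit 0x4d461dfee25)
  (nat_lit 0x18d5b56b5b54a) (nat_lit 0) .nil) (nat_lit 0x4d472393058) (nat_lit 0x16d5b58a) (nat_lit 0) .nil)))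
  (nat_lit 0x4d4ee5b1f54) (nat_lit 0x2dac6a94a) (nat_lit 0) (.node (.node (.node (.node .nil (nat_lit
  0x4d4fd14b4d6) (nat_lit 0xb6adaa5354a) (nat_lit 0) .nil) (nat_lit 0x4d507a5752b) (nat_lit 0x14d5354a6a94d)
  (nat_lit 0) (.node .nil (nat_lit 0x4d69cf4f226) (nat_lit 0x1aa5354d5b56b) (nat_lit 0) .nil)) (nat_lit
  0x4d6d505273c) (nat_lit 0x2daa5356b) (nat_lit 0) (.node (.node .nil (nat_lit 0x4d6ecd8e41b) (nat_lit
  0x356b6b1ab) (nat_lit 0) .nil) (nat_lit 0x4d6edfa166f) (nat_lit 0x29aa6ad6d5356b) (nat_lit 0) (.node .nil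
  (nat_lit 0x4d6f8955882) (nat_lit 0x5356d5294d) (nat_lit 0) .nil))) (nat_lit 0x4d7278073e3) (nat_lit
  0x1ac6adaa6ad6b) (nat_lit 0) (.node (.node (.node .nil (nat_lit 0x4d775acb24e) (nat_lit 374125) (nat_lit 0)
  .nil) (nat_lit 0x4d77a414fb4) (nat_lit 0x16d5ad6d6354a) (nat_lit 0) (.node .nil (nat_lit 0x4d7810eac91)
  (nat_lit 0xc6a94d5356b) (nat_lit 0) .nil)) (nat_lit 0x4d78b40ec93) (nat_lit 0x356d6356d) (nat_lit 0) (.node
  (.node .nil (nat_lit 0x4d7a68d2508) (nat_lit 0x18d5b56b6ad6d) (nat_lit 0) .nil) (nat_lit 0x4d7aae50436)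
  (nat_lit 0x1aa6adab) (nat_lit 0) .nil))))) (nat_lit 0x4daada55ef1) (nat_lit 0x6354a529aa) (nat_lit 0) (.node
  (.node (.node (.node (.node (.node .nil (nat_lit 0x4daccd70ad0) (nat_lit 437674) (nat_lit 0) .nil) (nat_lit
  0x4dad15eb7a8) (nat_lit 0x14d5adab5b54a) (nat_lit 0) (.node .nil (nat_lit 0x4daf196e6cb) (nat_lit
  0x31ab5adab) (nat_lit 0) .nil)) (nat_lit 0x4daf46ae200) (nat_lit 0x18d529aa6a94d) (nat_lit 0) (.node (.node
  .nil (nat_lit 0x4db081a6c39) (nat_lit 0xc5b54a6a9ab) (nat_lit 0) .nil) (nat_lit 0x4db1d35643a) (nat_lit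
  0xd5b56b6a94d) (nat_lit 0) (.node .nil (nat_lit 0x4db1de259a3) (nat_lit 0x14a5354a6adaa) (nat_lit 0) .nil)))
  (nat_lit 0x4db67e4ce1b) (nat_lit 0xb6ad6b6a9ab) (nat_lit 0) (.node (.node (.node .nil (nat_lit
  0x4db763b13c5) (nat_lit 0xd529ab) (nat_lit 0) .nil) (nat_lit 0x4db93688c75) (nat_lit 0x18b5b54a6adaa)
  (nat_lit 0) (.node .nil (nat_lit 0x4db9a64fda6) (nat_lit 0xd5356d5b54d) (nat_lit 0) .nil)) (nat_lit
  0x692a1e63c18) (nat_lit 0x2dac6a9ab) (nat_lit 0) (.node (.node .nil (nat_lit 0x692b8530548) (nat_lit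
  0x1ab5b54a6a9aa) (nat_lit 0) .nil) (nat_lit 0x692dff89a40) (nat_lit 0x1ab6ad6d5b54a) (nat_lit 0) .nil)))
  (nat_lit 0x692e1637cbc) (nat_lit 0x5b58d5adaa) (nat_lit 0) (.node (.node (.node (.node .nil (nat_lit
  0x692e2099427) (nat_lit 0x18b5b56b6a9ab) (nat_lit 0) .nil) (nat_lit 0x692e7deceea) (nat_lit 0xb6b16d5b54d)
  (nat_lit 0) (.node .nil (nat_lit 0x6932a09eb49) (nat_lit 0x31aa5356d) (nat_lit 0) .nil)) (nat_lit
  0x6932d63993c) (nat_lit 0xd5b58b5b56b) (nat_lit 0) (.node (.node .nil (nat_lit 0x693932bcda7) (nat_lit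
  0x1ac5adaa6adab) (nat_lit 0) .nil) (nat_lit 0x6939c001470) (nat_lit 0xd6354d5356d) (nat_lit 0) (.node .nil
  (nat_lit 0x693aa381977) (nat_lit 0x356d529aa5354d) (nat_lit 0) .nil))) (nat_lit 0x693c76faec7) (nat_lit
  0x356d5356b5b54a) (nat_lit 0) (.node (.node (.node .nil (nat_lit 0x6b8f88220ad) (nat_lit 0x29ab5b56b6adaa)
  (nat_lit 0) .nil) (nat_lit 0x6b8f9dddcd7) (nat_lit 0x6adab6b1aa) (nat_lit 0) (.node .nil (nat_lit
  0x6b92fb362d3) (nat_lit 0x1ab6a94a6adaa) (nat_lit 0) .nil)) (nat_lit 0x6b93012083f) (nat_lit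
  0x18d5294d5b54d) (nat_lit 0) (.node (.node .nil (nat_lit 0x6b94d3b6bc6) (nat_lit 0x29aa6adab5b54a) (nat_lit
  0) .nil) (nat_lit 0x6b9af2da8fd) (nat_lit 0x18b6a9aa5356b) (nat_lit 0) .nil)))) (nat_lit 0x6b9b1890f66)
  (nat_lit 0x358b6a9ab) (nat_lit 0) (.node (.node (.node (.node (.node .nil (nat_lit 0x6b9b6c461b5) (nat_lit
  0x2dac6a9aa6adaa) (nat_lit 0) .nil) (nat_lit 0x6b9c8fb5a75) (nat_lit 0x5adab5b58d) (nat_lit 0) (.node .nil
  (nat_lit 0x6b9e037a045) (nat_lit 0x6b16d5adaa) (nat_lit 0) .nil)) (nat_lit 0x6b9e248016d) (nat_lit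
  0x16d62d6d5356d) (nat_lit 0) (.node (.node .nil (nat_lit 0x6ba051fe57d) (nat_lit 0x316d5356d) (nat_lit 0)
  .nil) (nat_lit 0x6bba58ba4ec) (nat_lit 0x16d6356d) (nat_lit 0) (.node .nil (nat_lit 0x6bbbfd6769e) (nat_lit
  0xc6adaa6ad6b) (nat_lit 0) .nil))) (nat_lit 0x6bbc154867b) (nat_lit 0x6adaa5356b) (nat_lit 0) (.node (.node
  (.node .nil (nat_lit 0x6bbd277d7e6) (nat_lit 0x2d6d5354a5354a) (nat_lit 0) .nil) (nat_lit 0x6bbe2d1d631)
  (nat_lit 0xa6adab) (nat_lit 0) (.node .nil (nat_lit 0x6bbefd490b8) (nat_lit 0xa5354d5b56b) (nat_lit 0)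
  .nil)) (nat_lit 0x6bc04e4a8f2) (nat_lit 0x16b6b1ab) (nat_lit 0) (.node (.node .nil (nat_lit 0x6bc099d9720)
  (nat_lit 0x16d5b58d5294d) (nat_lit 0) .nil) (nat_lit 0x6bc54f0e060) (nat_lit 0xb6b1aa5356b) (nat_lit 0)
  .nil))) (nat_lit 0x6bc5b057f9d) (nat_lit 0xd5356d5294d) (nat_lit 0) (.node (.node (.node (.node .nil
  (nat_lit 0x6bc6c75186e) (nat_lit 0xd5b56d) (nat_lit 0) .nil) (nat_lit 0x6bc9f62abb0) (nat_lit
  0x18d5354a5354a) (nat_lit 0) (.node .nil (nat_lit 0x6bf7bfcea2d) (nat_lit 0xa6adab6a9ab) (nat_lit 0) .nil))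
  (nat_lit 0x6bf80116f3c) (nat_lit 0xb6b1ab5b54a) (nat_lit 0) (.node (.node .nil (nat_lit 0x6bfa781d5fd)
  (nat_lit 0xc5b56b6adaa) (nat_lit 0) .nil) (nat_lit 0x6bfacfebc04) (nat_lit 0x1aa6ad6d5adaa) (nat_lit 0)
  (.node .nil (nat_lit 0x6bfb2d1c762) (nat_lit 0x1ab6a9aa5356b) (nat_lit 0) .nil))) (nat_lit 0x6bfb4820338)
  (nat_lit 0x2daa529aa) (nat_lit 0) (.node (.node (.node .nil (nat_lit 0x6bfc6121eb6) (nat_lit 0x5294d5b54d)
  (nat_lit 0) .nil) (nat_lit 0x6bfcb9833e1) (nat_lit 0x2dac5b56b6adab) (nat_lit 0) (.node .nil (nat_lit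
  0x6bfe33bfbc1) (nat_lit 0xb6adac6adaa) (nat_lit 0) .nil)) (nat_lit 0x6c046f34de5) (nat_lit 0xc5adab5b54d)
  (nat_lit 0) (.node (.node .nil (nat_lit 0x6c059a7fe91) (nat_lit 0xd5356b6a9ab) (nat_lit 0) .nil) (nat_lit
  0x6c0798965b6) (nat_lit 0x356d5356d) (nat_lit 0) .nil))))))
def tF_12 : T := (.node (.node (.node (.node (.node (.node (.node .nil (nat_lit 0x6c225156b8c) (nat_lit
  0x14a6ad6d5b54a) (nat_lit 0) .nil) (nat_lit 0x6c22792fd32) (nat_lit 0xa6ad6b6adab) (nat_lit 0) (.node .nil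
  (nat_lit 0x6c24f9c6d0d) (nat_lit 0x356d62daa6a94a) (nat_lit 0) .nil)) (nat_lit 0x6c2500d8997) (nat_lit
  0x14d5b56d5354a) (nat_lit 0) (.node (.node .nil (nat_lit 0x6c25559c42e) (nat_lit 0x1ab5b54a5356d) (nat_lit
  0) .nil) (nat_lit 0x6c25efb5df6) (nat_lit 0xd529aa6a94a) (nat_lit 0) (.node .nil (nat_lit 0x6c271c34329)
  (nat_lit 0x1ab6ad6d5294d) (nat_lit 0) .nil))) (nat_lit 0x6c285eb5140) (nat_lit 0x1ac6ad6d) (nat_lit 0)
  (.node (.node (.node .nil (nat_lit 0x6c2e6e8694a) (nat_lit 0x6a94d5294d) (nat_lit 0) .nil) (nat_lit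
  0x6c2ea676b00) (nat_lit 0x5354a6a9aa) (nat_lit 0) (.node .nil (nat_lit 0x6c2efc747e1) (nat_lit 0x358d5356b)
  (nat_lit 0) .nil)) (nat_lit 0x6c6042e051a) (nat_lit 0x31aa6adab) (nat_lit 0) (.node (.node .nil (nat_lit
  0x6c608e91b7e) (nat_lit 0x5354a6adab) (nat_lit 0) .nil) (nat_lit 0x6c615566e10) (nat_lit 0xd5b58b6ad6d)
  (nat_lit 0) .nil))) (nat_lit 0x6c630459ee8) (nat_lit 0x1ab6b16d5356b) (nat_lit 0) (.node (.node (.node
  (.node .nil (nat_lit 0x6c64df59bf3) (nat_lit 0x5354d5b56d) (nat_lit 0) .nil) (nat_lit 0x6c68d25966a)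
  (nat_lit 0xd5b56b6ad6d) (nat_lit 0) (.node .nil (nat_lit 0x6c68dae42f4) (nat_lit 0x6a94d5356b) (nat_lit 0)
  .nil)) (nat_lit 0x6c68f0ed2ed) (nat_lit 0x14a6a9aa5354a) (nat_lit 0) (.node (.node .nil (nat_lit
  0x6c6927eecb5) (nat_lit 0xd5adab5b56d) (nat_lit 0) .nil) (nat_lit 0x6c693696329) (nat_lit 0xc5b56d) (nat_lit
  0) (.node .nil (nat_lit 0x6c6dbe8f74a) (nat_lit 0x358d5294d) (nat_lit 0) .nil))) (nat_lit 0x6c7327ce6c2)
  (nat_lit 0x354a6ad6d) (nat_lit 0) (.node (.node (.node .nil (nat_lit 0x6c755a5b0d9) (nat_lit 0xb6ad6d5b54a)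
  (nat_lit 0) .nil) (nat_lit 0x6c77755236d) (nat_lit 0xc5adaa6adab) (nat_lit 0) (.node .nil (nat_lit
  0x6c78023fc8c) (nat_lit 0x5b58b5b56b) (nat_lit 0) .nil)) (nat_lit 0x6c7936dadc7) (nat_lit 0x316b5b56d)
  (nat_lit 0) (.node (.node .nil (nat_lit 0x6c79b7b7466) (nat_lit 0x6b1aa5356d) (nat_lit 0) .nil) (nat_lit
  0x6c7ddbb89eb) (nat_lit 0x14a6a94d5356b) (nat_lit 0) .nil)))) (nat_lit 0x6c7e3d90fda) (nat_lit
  0xb5b54a6a9aa) (nat_lit 0) (.node (.node (.node (.node (.node .nil (nat_lit 0x6c82b3c5e55) (nat_lit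
  0x14a5354a6adab) (nat_lit 0) .nil) (nat_lit 0x6c837674250) (nat_lit 0x16d5356b5b54a) (nat_lit 0) (.node .nil
  (nat_lit 0x6c84f9c91f0) (nat_lit 0x16d529aa5354d) (nat_lit 0) .nil)) (nat_lit 0x6c85dd9ffdf) (nat_lit
  0x6354d5356d) (nat_lit 0) (.node (.node .nil (nat_lit 0x6c8832db857) (nat_lit 0xd5b58d5adaa) (nat_lit 0)
  .nil) (nat_lit 0x6cb4b2c5b97) (nat_lit 0xa6a9aa529aa) (nat_lit 0) (.node .nil (nat_lit 0x6cb613be0b6)
  (nat_lit 0xb5b54d5b54a) (nat_lit 0) .nil))) (nat_lit 0x6cb6aa6ea8e) (nat_lit 0x5adac6a94a) (nat_lit 0)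
  (.node (.node (.node .nil (nat_lit 0x6cb74a39bd6) (nat_lit 0x2d6d5b58a) (nat_lit 0) .nil) (nat_lit
  0x6cb823afc09) (nat_lit 0xd5356d5adab) (nat_lit 0) (.node .nil (nat_lit 0x6cb89d9744c) (nat_lit
  0x16b6adaa5354a) (nat_lit 0) .nil)) (nat_lit 0x6cbac7837b9) (nat_lit 0xd5b56b) (nat_lit 0) (.node (.node
  .nil (nat_lit 0x6cbd4375087) (nat_lit 0x2dac6a9aa) (nat_lit 0) .nil) (nat_lit 0x6cbd5ff2d76) (nat_lit
  0xd5354a6a94d) (nat_lit 0) .nil))) (nat_lit 0x6cc2117d159) (nat_lit 0x18b6a9aa529aa) (nat_lit 0) (.node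
  (.node (.node (.node .nil (nat_lit 0x6cc2c6ab76f) (nat_lit 0x1ab5ad6d) (nat_lit 0) .nil) (nat_lit
  0x6cc5246daf0) (nat_lit 0xd6356b5b54a) (nat_lit 0) (.node .nil (nat_lit 0x6cc99f83fbb) (nat_lit 0x1ac5b54d)
  (nat_lit 0) .nil)) (nat_lit 0x6cc9f5dc950) (nat_lit 0xa6a9ab) (nat_lit 0) (.node (.node .nil (nat_lit
  0x6cca52b485d) (nat_lit 0xb6a9ab5adab) (nat_lit 0) .nil) (nat_lit 0x6ccbf8c070a) (nat_lit 0x14d5adaa)
  (nat_lit 0) (.node .nil (nat_lit 0x6ccd4906557) (nat_lit 0xd5b56d6354a) (nat_lit 0) .nil))) (nat_lit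
  0x6ccd8d6830f) (nat_lit 0xc6a94d5354a) (nat_lit 0) (.node (.node (.node .nil (nat_lit 0x6cce0ad82ef)
  (nat_lit 0x6b1aa6a9ab) (nat_lit 0) .nil) (nat_lit 0x6cce4e609dc) (nat_lit 0xd5adab6a9aa) (nat_lit 0) (.node
  .nil (nat_lit 0x6cce51615ff) (nat_lit 0x16d5b54a6adaa) (nat_lit 0) .nil)) (nat_lit 0x6ccfc041867) (nat_lit
  0xd5b54d) (nat_lit 0) (.node (.node .nil (nat_lit 0x6cd94c0ec70) (nat_lit 0x2dab6ad6d5adac) (nat_lit 0)
  .nil) (nat_lit 0x6cdc0346cad) (nat_lit 0x5b58b6adaa) (nat_lit 0) .nil))))) (nat_lit 0x6cf83d4ec73) (nat_lit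
  0xc5b54a5354d) (nat_lit 0) (.node (.node (.node (.node (.node (.node .nil (nat_lit 0x6cf95bcf66b) (nat_lit
  0x5b56d5354a6a94a) (nat_lit 0) .nil) (nat_lit 0x6cf95d936a9) (nat_lit 0x18b6ad6d5b56b) (nat_lit 0) (.node
  .nil (nat_lit 0x6cfb33c2aec) (nat_lit 0xc6a94a6adaa) (nat_lit 0) .nil)) (nat_lit 0x6d0139994c7) (nat_lit
  0x16b6a9ab) (nat_lit 0) (.node (.node .nil (nat_lit 0x6d0144a7210) (nat_lit 0x2d6d5adaa) (nat_lit 0) .nil)
  (nat_lit 0x6d01680b664) (nat_lit 0x529aa529ab6a9aa) (nat_lit 0) (.node .nil (nat_lit 0x6d0184efe18) (nat_lit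
  0x5354d529ab) (nat_lit 0) .nil))) (nat_lit 0x6d01e530381) (nat_lit 0x316b6a9ab6adaa) (nat_lit 0) (.node
  (.node (.node .nil (nat_lit 0x6d02fd2be20) (nat_lit 0x29ab6ad6b6adaa) (nat_lit 0) .nil) (nat_lit
  0x6d062c8384d) (nat_lit 0xd529aa5356d) (nat_lit 0) (.node .nil (nat_lit 0x6d06adfa26f) (nat_lit 0x29aa6adaa)
  (nat_lit 0) .nil)) (nat_lit 0x6d08b954f41) (nat_lit 0x1ab5b56d62daa) (nat_lit 0) (.node (.node .nil (nat_lit
  0x6d08d406adc) (nat_lit 0x2d6d5b56d) (nat_lit 0) .nil) (nat_lit 0x6d08f978eac) (nat_lit 0x354d5b56b)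
  (nat_lit 0) .nil))) (nat_lit 0x6d0a3409b44) (nat_lit 0x356d5b58a) (nat_lit 0) (.node (.node (.node (.node
  .nil (nat_lit 0x6d0ba05a927) (nat_lit 0x316d5b54a6a94a) (nat_lit 0) .nil) (nat_lit 0x6d0ba8e997d) (nat_lit
  0x6adac6a94a) (nat_lit 0) (.node .nil (nat_lit 0x6d0c2f6abc8) (nat_lit 0xc6adaa6a94d) (nat_lit 0) .nil))
  (nat_lit 0x6d0cb91c380) (nat_lit 0x16d5b54d5ad6d) (nat_lit 0) (.node (.node .nil (nat_lit 0x6d116343d4e)
  (nat_lit 0x16d5b58b6ad6b) (nat_lit 0) .nil) (nat_lit 0x6d11ce6a965) (nat_lit 0xc6a9aa) (nat_lit 0) (.node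
  .nil (nat_lit 0x6d16304b2f5) (nat_lit 0xb6adab) (nat_lit 0) .nil))) (nat_lit 0x6d1b753c005) (nat_lit
  0xa6a9ab5b54a) (nat_lit 0) (.node (.node (.node .nil (nat_lit 0x6d9c3ff3203) (nat_lit 0x1ab6b16b6a94d)
  (nat_lit 0) .nil) (nat_lit 0x6d9e8dac996) (nat_lit 0x6adaa5354a) (nat_lit 0) (.node .nil (nat_lit
  0x6da00653e86) (nat_lit 0xb5b54d5adaa) (nat_lit 0) .nil)) (nat_lit 0x6da07e98c4e) (nat_lit 0x354d5b54a)
  (nat_lit 0) (.node (.node .nil (nat_lit 0x6da210ff75c) (nat_lit 0x16b5b54d) (nat_lit 0) .nil) (nat_lit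
  0x6da5105d2ef) (nat_lit 0x1ac6a94a) (nat_lit 0) .nil)))) (nat_lit 0x6da5251714c) (nat_lit 0xd529aa6ad6d)
  (nat_lit 0) (.node (.node (.node (.node (.node .nil (nat_lit 0x6da9d0c573a) (nat_lit 0xd5b58a) (nat_lit 0)
  .nil) (nat_lit 0x6da9f2e8ad7) (nat_lit 0x1ab6b1aa529ab) (nat_lit 0) (.node .nil (nat_lit 0x6daa9667975)
  (nat_lit 0x31ab6a9aa) (nat_lit 0) .nil)) (nat_lit 0x6dacfc93576) (nat_lit 0x5b56d62daa) (nat_lit 0) (.node
  (.node .nil (nat_lit 0x6dad063ad26) (nat_lit 0x294d5b56b) (nat_lit 0) .nil) (nat_lit 0x6e05e211621) (nat_lit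
  0x16b6b16d) (nat_lit 0) (.node .nil (nat_lit 0x6e0728625bb) (nat_lit 0x5356b6ad6d) (nat_lit 0) .nil)))
  (nat_lit 0x6e07fde4085) (nat_lit 0x14d5b54a5356d) (nat_lit 0) (.node (.node (.node .nil (nat_lit
  0x6e09d7bf387) (nat_lit 0x62dab5b56d) (nat_lit 0) .nil) (nat_lit 0x6e09e12b514) (nat_lit 0x2daa6a94a)
  (nat_lit 0) (.node .nil (nat_lit 0x6e0e97bd884) (nat_lit 0x1ab5b56d) (nat_lit 0) .nil)) (nat_lit
  0x6e0ec57677e) (nat_lit 0x2d6d5b58b) (nat_lit 0) (.node (.node .nil (nat_lit 0x6e1326fabf7) (nat_lit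
  0x16d5294d) (nat_lit 0) .nil) (nat_lit 0x6e133bb75ca) (nat_lit 0xd5b56d6356d) (nat_lit 0) .nil))) (nat_lit
  0x6e13feefeb6) (nat_lit 0xa6ad6d5356b) (nat_lit 0) (.node (.node (.node (.node .nil (nat_lit 0x6e14f427bb7)
  (nat_lit 0xc6ad6d5356b) (nat_lit 0) .nil) (nat_lit 0x6e16663ac4a) (nat_lit 0x6356b6ad6d) (nat_lit 0) (.node
  .nil (nat_lit 0x6e7057aa062) (nat_lit 0x62d6d5356d) (nat_lit 0) .nil)) (nat_lit 0x6e716ed9f50) (nat_lit
  0x16d6356d5356b) (nat_lit 0) (.node (.node .nil (nat_lit 0x6e720645e83) (nat_lit 0x316d5294d5b54d) (nat_lit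
  0) .nil) (nat_lit 0x6e73ed7861f) (nat_lit 0x6356b6a9ab) (nat_lit 0) (.node .nil (nat_lit 0x6e759849796)
  (nat_lit 0xc6ad6d5adaa) (nat_lit 0) .nil))) (nat_lit 0x6e77bf841bc) (nat_lit 0x1ac6ad6d5adaa) (nat_lit 0)
  (.node (.node (.node .nil (nat_lit 0x6e77ddde2db) (nat_lit 0x2dab5b58d) (nat_lit 0) .nil) (nat_lit
  0x6e7829a3f75) (nat_lit 0x29ab6a94a6adaa) (nat_lit 0) (.node .nil (nat_lit 0x6e7838b58fc) (nat_lit
  0x1ac6a9aa6adaa) (nat_lit 0) .nil)) (nat_lit 0x6e7c932c1b1) (nat_lit 0xc6a9aa6adaa) (nat_lit 0) (.node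
  (.node .nil (nat_lit 0x6e7cc15828d) (nat_lit 0xd62d6d5356d) (nat_lit 0) .nil) (nat_lit 0x6e7e5f7c91a)
  (nat_lit 0x2daa5354a6a9aa) (nat_lit 0) .nil))))))
def tF_13 : T := (.node (.node (.node (.node (.node (.node (.node .nil (nat_lit 0x705588d4271) (nat_lit
  0x6ad6d5b58b) (nat_lit 0) .nil) (nat_lit 0x70563f789e9) (nat_lit 0x5b56b6b1ab) (nat_lit 0) (.node .nil
  (nat_lit 0x7056cca3ad9) (nat_lit 0xb5b56d) (nat_lit 0) .nil)) (nat_lit 0x705801644e8) (nat_lit 0x356b6b16d)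
  (nat_lit 0) (.node (.node .nil (nat_lit 0x7058215df5b) (nat_lit 0x5b56d6356d) (nat_lit 0) .nil) (nat_lit
  0x706168dc2cc) (nat_lit 0xd5356b6ad6d) (nat_lit 0) (.node .nil (nat_lit 0x70617f1a465) (nat_lit 0x2daa6adab)
  (nat_lit 0) .nil))) (nat_lit 0x7063356e811) (nat_lit 0x2dac6adaa6ad6b) (nat_lit 0) (.node (.node (.node .nil
  (nat_lit 0x7063c49c516) (nat_lit 0xd6356b6ad6d) (nat_lit 0) .nil) (nat_lit 0x7066790419d) (nat_lit
  0x1aa6ad6d5356b) (nat_lit 0) (.node .nil (nat_lit 0x7066fbaeb00) (nat_lit 0xd62dab5b56d) (nat_lit 0) .nil))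
  (nat_lit 0x7111f09d204) (nat_lit 0x5294d529ab) (nat_lit 0) (.node (.node .nil (nat_lit 0x7113000d318)
  (nat_lit 0x294a6adaa) (nat_lit 0) .nil) (nat_lit 0x71131048e0e) (nat_lit 0x18d5ad6d529ab) (nat_lit 0)
  .nil))) (nat_lit 0x71131f23f10) (nat_lit 0x16b5b54a6a9ab) (nat_lit 0) (.node (.node (.node (.node .nil
  (nat_lit 0x711662ae962) (nat_lit 0xb6b1aa) (nat_lit 0) .nil) (nat_lit 0x71175fb98fa) (nat_lit
  0x1ab6ad6d5b56b) (nat_lit 0) (.node .nil (nat_lit 0x7117b1b37b5) (nat_lit 0x18d5354a6a9ab) (nat_lit 0)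
  .nil)) (nat_lit 0x711932b76d7) (nat_lit 0x14d5ad6d529ab) (nat_lit 0) (.node (.node .nil (nat_lit
  0x711a7262880) (nat_lit 0xc6ad6b6adaa) (nat_lit 0) .nil) (nat_lit 0x711f297d79a) (nat_lit 0x6b16b6a9ab)
  (nat_lit 0) (.node .nil (nat_lit 0x711f563aebf) (nat_lit 0x16d5adac) (nat_lit 0) .nil))) (nat_lit
  0x7121f08e314) (nat_lit 0xa6ad6b6adaa) (nat_lit 0) (.node (.node (.node .nil (nat_lit 0x7166d680e3b)
  (nat_lit 0x1aa6ad6d5354a) (nat_lit 0) .nil) (nat_lit 0x7167405378d) (nat_lit 0xb5b58a) (nat_lit 0) (.node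
  .nil (nat_lit 0x716746c4dd6) (nat_lit 0xb6b1ab6a9aa) (nat_lit 0) .nil)) (nat_lit 0x716889c3c92) (nat_lit
  0x358d529aa) (nat_lit 0) (.node (.node .nil (nat_lit 0x7168dd8b352) (nat_lit 0x5adaa5354a) (nat_lit 0) .nil)
  (nat_lit 0x716a98c4647) (nat_lit 0xb6a94d5b56b) (nat_lit 0) .nil)))) (nat_lit 0x716d8bd4c11) (nat_lit
  0x5b56b5b54d) (nat_lit 0) (.node (.node (.node (.node (.node .nil (nat_lit 0x716f2224a3f) (nat_lit 0xd5b54a)
  (nat_lit 0) .nil) (nat_lit 0x717396a26ac) (nat_lit 0x29aa6ad6d) (nat_lit 0) (.node .nil (nat_lit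
  0x7173c1a0bd0) (nat_lit 0xd62dab5b56b) (nat_lit 0) .nil)) (nat_lit 0x7173cfe67b6) (nat_lit 0x1ac5294a)
  (nat_lit 0) (.node (.node .nil (nat_lit 0x71790b66e41) (nat_lit 0x16b6b1aa529ab) (nat_lit 0) .nil) (nat_lit
  0x719073f869a) (nat_lit 0x5b56b6adab) (nat_lit 0) (.node .nil (nat_lit 0x7191d505676) (nat_lit 0x16b6b14a)
  (nat_lit 0) .nil))) (nat_lit 0x7192b109b81) (nat_lit 0x358a5294a) (nat_lit 0) (.node (.node (.node .nil
  (nat_lit 0x71930c8a492) (nat_lit 0x14d5354a5354d) (nat_lit 0) .nil) (nat_lit 0x7193b36840f) (nat_lit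
  0xb6a94a6a9aa) (nat_lit 0) (.node .nil (nat_lit 0x719426d2f8b) (nat_lit 0x6adab5b58a) (nat_lit 0) .nil))
  (nat_lit 0x7198e4fc7de) (nat_lit 0x2d6d5354a) (nat_lit 0) (.node (.node .nil (nat_lit 0x71993b57cdb)
  (nat_lit 0x1ab5b54a) (nat_lit 0) .nil) (nat_lit 0x719ffa8ed58) (nat_lit 0x6b16d5adab) (nat_lit 0) .nil)))
  (nat_lit 0x71a112abe8a) (nat_lit 0xd5adab6a94d) (nat_lit 0) (.node (.node (.node (.node .nil (nat_lit
  0x71a2adc7906) (nat_lit 0x6b1ab5b56b) (nat_lit 0) .nil) (nat_lit 0x71a331849f6) (nat_lit 0xa5356d529ab)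
  (nat_lit 0) (.node .nil (nat_lit 0x71e75bf633a) (nat_lit 0x316d5adab6a9aa) (nat_lit 0) .nil)) (nat_lit
  0x71e76463349) (nat_lit 0x1ab6ad6b6adac) (nat_lit 0) (.node (.node .nil (nat_lit 0x71e90935ae2) (nat_lit
  0x16b6a94a6adaa) (nat_lit 0) .nil) (nat_lit 0x71e9153fa1d) (nat_lit 0x18d5adaa) (nat_lit 0) (.node .nil
  (nat_lit 0x71e921b1bba) (nat_lit 0xb5b56d5adac) (nat_lit 0) .nil))) (nat_lit 0x71ea324cf57) (nat_lit
  0x316d5b54d) (nat_lit 0) (.node (.node (.node .nil (nat_lit 0x71ea33f440c) (nat_lit 0x14d5b54a5354a)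
  (nat_lit 0) .nil) (nat_lit 0x71eda62c56a) (nat_lit 0xa6a94d5354a) (nat_lit 0) (.node .nil (nat_lit
  0x71f21c7d08e) (nat_lit 0x529ab5b54d) (nat_lit 0) .nil)) (nat_lit 0x71f701a1fb4) (nat_lit 0x14a6adaa6a9ab)
  (nat_lit 0) (.node (.node .nil (nat_lit 0x71f70e989b3) (nat_lit 0xc6a9ab) (nat_lit 0) .nil) (nat_lit
  0x71f783042c1) (nat_lit 0x358d5354a6a94a) (nat_lit 0) .nil))))) (nat_lit 0x74481085a4c) (nat_lit 0xd529aa)
  (nat_lit 0) (.node (.node (.node (.node (.node (.node .nil (nat_lit 0x7448b31caba) (nat_lit 0xd6356b6adab)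
  (nat_lit 0) .nil) (nat_lit 0x7448c0dbe41) (nat_lit 0x2d6d5adab) (nat_lit 0) (.node .nil (nat_lit
  0x744a2865942) (nat_lit 0x1ab5b58d529ab) (nat_lit 0) .nil)) (nat_lit 0x744b495c5aa) (nat_lit
  0x18b6a9aa529ab) (nat_lit 0) (.node (.node .nil (nat_lit 0x744bb7f343c) (nat_lit 338250) (nat_lit 338250)
  .nil) (nat_lit 0x744bf7e77ba) (nat_lit 0xc5b54a) (nat_lit 0) (.node .nil (nat_lit 0x744c784e880) (nat_lit
  0x62dab6a94d) (nat_lit 0) .nil))) (nat_lit 0x744d97877ac) (nat_lit 0xa6a94d) (nat_lit 0) (.node (.node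
  (.node .nil (nat_lit 0x744e8e41467) (nat_lit 0x16d62d6d5b54a) (nat_lit 0) .nil) (nat_lit 0x74571991f51)
  (nat_lit 0x2dab5b56b) (nat_lit 0) (.node .nil (nat_lit 0x745884bfce3) (nat_lit 0x6b16d5354a) (nat_lit 0)
  .nil)) (nat_lit 0x75c344f31c3) (nat_lit 0x18b6ad6d) (nat_lit 0) (.node (.node .nil (nat_lit 0x75c41cb75c1)
  (nat_lit 0x16b6ad6d) (nat_lit 0) .nil) (nat_lit 0x75c61d2df3a) (nat_lit 0x6b1ab5b56d) (nat_lit 0) .nil)))
  (nat_lit 0x75c713b6482) (nat_lit 0x6354a5356d) (nat_lit 0) (.node (.node (.node (.node .nil (nat_lit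
  0x75c80d29723) (nat_lit 0x6ad6d5294d) (nat_lit 0) .nil) (nat_lit 0x75c81b5e5d1) (nat_lit 0x316d5356b)
  (nat_lit 0) (.node .nil (nat_lit 0x75c85f8f90b) (nat_lit 0xd62daa6a94a) (nat_lit 0) .nil)) (nat_lit
  0x75c9a518c57) (nat_lit 0xd5adaa6a94a) (nat_lit 0) (.node (.node .nil (nat_lit 0x75cc5c0b289) (nat_lit
  0x2d6d5356b) (nat_lit 0) .nil) (nat_lit 0x75cc666e159) (nat_lit 0x6adab5b56d) (nat_lit 0) (.node .nil
  (nat_lit 0x75d0c9f3157) (nat_lit 0x6b16d5294d) (nat_lit 0) .nil))) (nat_lit 0x75d3919d726) (nat_lit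
  0x5b54a5356d) (nat_lit 0) (.node (.node (.node .nil (nat_lit 0x78118f5210f) (nat_lit 0xa5356d529aa) (nat_lit
  0) .nil) (nat_lit 0x7811e92d757) (nat_lit 0x5b54a6a94d) (nat_lit 0) (.node .nil (nat_lit 0x78135ed6b21)
  (nat_lit 0x5b54d529aa) (nat_lit 0) .nil)) (nat_lit 0x781402e0a21) (nat_lit 0xd529ab6ad6d) (nat_lit 0) (.node
  (.node .nil (nat_lit 0x78156d3e5f1) (nat_lit 0x316d5b54a) (nat_lit 0) .nil) (nat_lit 0x78162c0d40c) (nat_lit
  0x1ac6ad6b6adab) (nat_lit 0) .nil)))) (nat_lit 0x781659e04e5) (nat_lit 0x5b58b5b54a) (nat_lit 0) (.node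
  (.node (.node (.node (.node .nil (nat_lit 0x78184655c81) (nat_lit 0xa5294d) (nat_lit 0) .nil) (nat_lit
  0x781a56f5ab8) (nat_lit 0x16b6ad6d5b58a) (nat_lit 0) (.node .nil (nat_lit 0x781ea4b8b8d) (nat_lit
  0x5b56d5adab) (nat_lit 0) .nil)) (nat_lit 0x781f5838c33) (nat_lit 0x14a6a94a) (nat_lit 0) (.node (.node .nil
  (nat_lit 0x781fae13137) (nat_lit 0x31aa6ad6d) (nat_lit 0) .nil) (nat_lit 0x783bb1675be) (nat_lit
  0x1ab6b16d5354a) (nat_lit 0) (.node .nil (nat_lit 0x783e2ba7144) (nat_lit 0x62daa5354a) (nat_lit 0) .nil)))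
  (nat_lit 0x783e8a1903b) (nat_lit 0xd6354a) (nat_lit 0) (.node (.node (.node .nil (nat_lit 0x783f955658b)
  (nat_lit 0x356d529aa) (nat_lit 0) .nil) (nat_lit 0x7840827f58a) (nat_lit 0xd5adab5b56b) (nat_lit 0) (.node
  .nil (nat_lit 0x7840b9d1ca2) (nat_lit 0x2dab6b16d) (nat_lit 0) .nil)) (nat_lit 0x78433ab6dad) (nat_lit
  0x6356b5b54d) (nat_lit 0) (.node (.node .nil (nat_lit 0x7844cc6d7ee) (nat_lit 0xc6a94d5b56b) (nat_lit 0)
  .nil) (nat_lit 0x7849277f8dd) (nat_lit 10573) (nat_lit 0) .nil))) (nat_lit 0x784991be886) (nat_lit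
  0x14a6adaa529ab) (nat_lit 0) (.node (.node (.node (.node .nil (nat_lit 0x784a66ccf0d) (nat_lit
  0xa6adab6a9aa) (nat_lit 0) .nil) (nat_lit 0x784b0785405) (nat_lit 436554) (nat_lit 0) (.node .nil (nat_lit
  0x78a540c1b55) (nat_lit 0x14a6ad6d) (nat_lit 0) .nil)) (nat_lit 0x78a54316586) (nat_lit 0xd5354d5b56d)
  (nat_lit 0) (.node (.node .nil (nat_lit 0x78a58ff4542) (nat_lit 0x16d6354a5356d) (nat_lit 0) .nil) (nat_lit
  0x78a6070ec23) (nat_lit 0x5b56b6ad6d) (nat_lit 0) (.node .nil (nat_lit 0x78a656d4e5f) (nat_lit 0x18d5294d)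
  (nat_lit 0) .nil))) (nat_lit 0x78a76e6f427) (nat_lit 0x5adab5b56d) (nat_lit 0) (.node (.node (.node .nil
  (nat_lit 0x78a9e15fc8a) (nat_lit 0x31aa6a94a) (nat_lit 0) .nil) (nat_lit 0x78a9edff766) (nat_lit
  0x294d5356b) (nat_lit 0) (.node .nil (nat_lit 0x78adf3bdcc1) (nat_lit 0xb6ad6d5356b) (nat_lit 0) .nil))
  (nat_lit 0x78b293393e1) (nat_lit 0x1ac5b56d) (nat_lit 0) (.node (.node .nil (nat_lit 0x78b2c16fec1) (nat_lit
  0x5b58b6ad6d) (nat_lit 0) .nil) (nat_lit 0x78b45eb2245) (nat_lit 0xb6b16d5356b) (nat_lit 0) .nil))))))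
def tF_14 : T := (.node (.node (.node (.node (.node (.node (.node .nil (nat_lit 0x7bf50659744) (nat_lit
  0x14d5b56b6a94a) (nat_lit 0) .nil) (nat_lit 0x7bf603011ba) (nat_lit 0x6354a5354a) (nat_lit 0) (.node .nil
  (nat_lit 0x7bf656a4d71) (nat_lit 0xb6b1ab5adab) (nat_lit 0) .nil)) (nat_lit 0x7bf7d6453ab) (nat_lit
  0x356d5b54d) (nat_lit 0) (.node (.node .nil (nat_lit 0x7bf90ab0868) (nat_lit 0xb5b56d6294a) (nat_lit 0)
  .nil) (nat_lit 0x7bfd6f37bc0) (nat_lit 10667) (nat_lit 0) (.node .nil (nat_lit 0x7bfde929e32) (nat_lit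
  0xc5b56b6a9aa) (nat_lit 0) .nil))) (nat_lit 0x7bfdf4dab66) (nat_lit 0xc5b56d5354d) (nat_lit 0) (.node (.node
  (.node .nil (nat_lit 0x7bfe7669bc5) (nat_lit 0x2d6d5356b6a94a) (nat_lit 0) .nil) (nat_lit 0x7bfea503063)
  (nat_lit 0x1ab5b58b6adaa) (nat_lit 0) (.node .nil (nat_lit 0x7c0094c44d9) (nat_lit 372138) (nat_lit 0)
  .nil)) (nat_lit 0x7ea814fbfac) (nat_lit 0x16b6a94a) (nat_lit 0) (.node (.node .nil (nat_lit 0x7ea81ea0662)
  (nat_lit 0xb6ad6d6356b) (nat_lit 0) .nil) (nat_lit 0x7ea824e5c35) (nat_lit 13) (nat_lit 0) .nil))) (nat_lit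
  0x7ea83317f58) (nat_lit 0xc5b54d5294d) (nat_lit 0) (.node (.node (.node (.node .nil (nat_lit 0x7eaa6ab49eb)
  (nat_lit 0xd5adac6a94d) (nat_lit 0) .nil) (nat_lit 0x7eaa75cc86d) (nat_lit 0x6ad6b6a94d) (nat_lit 0) (.node
  .nil (nat_lit 0x7eaae0c9a49) (nat_lit 0x6adaa529ab) (nat_lit 0) .nil)) (nat_lit 0x7eadb383e5f) (nat_lit
  0x6a9ab5adaa) (nat_lit 0) (.node (.node .nil (nat_lit 0x7eb11577a7d) (nat_lit 0x6ad6d6294a) (nat_lit 0)
  .nil) (nat_lit 0x7eb124ed70f) (nat_lit 0x5b58b5b54d) (nat_lit 0) (.node .nil (nat_lit 0x7eba194c82e)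
  (nat_lit 0xb5b56d529aa) (nat_lit 0) .nil))) (nat_lit 0x7ebb0ef65fb) (nat_lit 0x2d6d6354a) (nat_lit 0) (.node
  (.node (.node .nil (nat_lit 0x7f11c33eda4) (nat_lit 0x6a94d5b56b) (nat_lit 0) .nil) (nat_lit 0x7f11d998f74)
  (nat_lit 0x529aa6ad6d) (nat_lit 0) (.node .nil (nat_lit 0x7f12a0d847b) (nat_lit 0xb6b1aa529ab) (nat_lit 0)
  .nil)) (nat_lit 0x7f13db7ad0c) (nat_lit 0xb6b16b6a94d) (nat_lit 0) (.node (.node .nil (nat_lit
  0x7f1635965ef) (nat_lit 0x2daa5354a) (nat_lit 0) .nil) (nat_lit 0x7f1635f07b3) (nat_lit 0xc6a94a) (nat_lit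
  0) .nil)))) (nat_lit 0x7f1fa345905) (nat_lit 0x356b5b54d) (nat_lit 0) (.node (.node (.node (.node (.node
  .nil (nat_lit 0x7f2130d19ea) (nat_lit 0x6356d529aa) (nat_lit 0) .nil) (nat_lit 0x7f21a9885dc) (nat_lit
  0x14d5b54a) (nat_lit 0) (.node .nil (nat_lit 0x7f21b944bf3) (nat_lit 374154) (nat_lit 0) .nil)) (nat_lit
  0x7f22167dcfa) (nat_lit 0x1ab5b54d5adaa) (nat_lit 0) (.node (.node .nil (nat_lit 0x7f23e633d63) (nat_lit
  0x6b1ab6a9aa) (nat_lit 0) .nil) (nat_lit 0x7f3bb6a68ee) (nat_lit 0x1aa5356b) (nat_lit 0) (.node .nil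
  (nat_lit 0x7f3bcbc562a) (nat_lit 0xa5356d5294d) (nat_lit 0) .nil))) (nat_lit 0x7f3f7257cd8) (nat_lit 13677)
  (nat_lit 0) (.node (.node (.node .nil (nat_lit 0x7f405584c3b) (nat_lit 0x6354d5b56d) (nat_lit 0) .nil)
  (nat_lit 0x7f418c0d267) (nat_lit 0x1ab6ad6d6294a) (nat_lit 0) (.node .nil (nat_lit 0x7f42132a3e1) (nat_lit
  0x1ab6a9ab5adaa) (nat_lit 0) .nil)) (nat_lit 0x7f4237858bd) (nat_lit 0x16d5b56b5b56d) (nat_lit 0) (.node
  (.node .nil (nat_lit 0x7f4249b82d8) (nat_lit 0xd5ad6d6354a) (nat_lit 0) .nil) (nat_lit 0x7f445d837d7)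
  (nat_lit 0x1ac5adaa5354d) (nat_lit 0) .nil))) (nat_lit 0x7f4bcf902a1) (nat_lit 0x18b6a94d5356b) (nat_lit 0)
  (.node (.node (.node (.node .nil (nat_lit 0x7f4e1c04710) (nat_lit 0x6354a6adab) (nat_lit 0) .nil) (nat_lit
  0x7f4ea052cf7) (nat_lit 0x29aa6adab) (nat_lit 0) (.node .nil (nat_lit 0x7f50cdddfc4) (nat_lit 0x316b6adab)
  (nat_lit 0) .nil)) (nat_lit 0x7f50df8b699) (nat_lit 0xc6a9ab5b54a) (nat_lit 0) (.node (.node .nil (nat_lit
  0x7f518b7b2af) (nat_lit 0x16d6354a6a94a) (nat_lit 0) .nil) (nat_lit 0x7f51b28889f) (nat_lit 0x294d5354d)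
  (nat_lit 0) (.node .nil (nat_lit 0x7f53274158f) (nat_lit 0xd5b54a6a94a) (nat_lit 0) .nil))) (nat_lit
  0x7f5415173cd) (nat_lit 0x6a9ab6ad6d) (nat_lit 0) (.node (.node (.node .nil (nat_lit 0x7f54cf97912) (nat_lit
  0xa6a9aa) (nat_lit 0) .nil) (nat_lit 0x7f574bbafa7) (nat_lit 0xb5b56d5354a) (nat_lit 0) (.node .nil (nat_lit
  0x7f593ec3f0e) (nat_lit 0xb6adac6ad6d) (nat_lit 0) .nil)) (nat_lit 0x7f5986f928f) (nat_lit 0x16b6a9ab5b54a)
  (nat_lit 0) (.node (.node .nil (nat_lit 0x7f5f8e0b1c4) (nat_lit 0x5adab6b14a) (nat_lit 0) .nil) (nat_lit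
  0x7f635c8a8ed) (nat_lit 0x6356d5354a) (nat_lit 0) .nil))))) (nat_lit 0x7f90cd2a35c) (nat_lit 0x16b6a94d)
  (nat_lit 0) (.node (.node (.node (.node (.node (.node .nil (nat_lit 0x7f91563b3df) (nat_lit 0x2dac6a94d)
  (nat_lit 0) .nil) (nat_lit 0x7f917fe261d) (nat_lit 10) (nat_lit 10) (.node .nil (nat_lit 0x7f9234cbcaf)
  (nat_lit 0x16d6294a) (nat_lit 0) .nil)) (nat_lit 0x7f92c20cfba) (nat_lit 0xc6a94d5b54a) (nat_lit 0) (.node
  (.node .nil (nat_lit 0x7f9399e007a) (nat_lit 0x1aa529ab) (nat_lit 0) .nil) (nat_lit 0x7f93aad7751) (nat_lit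
  0x31ab5b54d5294d) (nat_lit 0) (.node .nil (nat_lit 0x7f9412b6f1f) (nat_lit 0x5356b6a94a) (nat_lit 0) .nil)))
  (nat_lit 0x7f9664a7f9e) (nat_lit 0x18d5356b5b54d) (nat_lit 0) (.node (.node (.node .nil (nat_lit
  0x7f9689a0a46) (nat_lit 0x5ad6d529aa) (nat_lit 0) .nil) (nat_lit 0x7f987cdcc9c) (nat_lit 0xb6adab5adac)
  (nat_lit 0) (.node .nil (nat_lit 0x7fa0bc9d8a1) (nat_lit 0xd5adaa6a94d) (nat_lit 0) .nil)) (nat_lit
  0x7fa534fda73) (nat_lit 0x2d6b6a94d5356d) (nat_lit 0) (.node (.node .nil (nat_lit 0x7fa565dd34d) (nat_lit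
  0x1ac5b56b6adaa) (nat_lit 0) .nil) (nat_lit 0x7fa661dd3bc) (nat_lit 0x6adaa529aa) (nat_lit 0) .nil)))
  (nat_lit 0x7fa69f83c81) (nat_lit 0xa6ad6d5adaa) (nat_lit 0) (.node (.node (.node (.node .nil (nat_lit
  0x7fa7d95c8f8) (nat_lit 0x5356b6a9ab) (nat_lit 0) .nil) (nat_lit 0x7fa8d7c825a) (nat_lit 0x1aa6adab6a9ab)
  (nat_lit 0) (.node .nil (nat_lit 0x7fab9c67dea) (nat_lit 0xd5294d5b54d) (nat_lit 0) .nil)) (nat_lit
  0x7fabafdf81f) (nat_lit 0x16d5356d) (nat_lit 0) (.node (.node .nil (nat_lit 0x7fadc350fab) (nat_lit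
  0x1ab6adac6adaa) (nat_lit 0) .nil) (nat_lit 0x7fadd9425d4) (nat_lit 0x1ab6b1ab5b54a) (nat_lit 0) (.node .nil
  (nat_lit 0x7fae08b1d4f) (nat_lit 0xb6a9aa5356b) (nat_lit 0) .nil))) (nat_lit 0x7fb534747b9) (nat_lit
  0xa529aa5356d) (nat_lit 0) (.node (.node (.node .nil (nat_lit 0x81b43eb1bc8) (nat_lit 0x16d5ad6d529aa)
  (nat_lit 0) .nil) (nat_lit 0x81b4407f23e) (nat_lit 0xc6a9ab5b54d) (nat_lit 0) (.node .nil (nat_lit
  0x81b46bb90a3) (nat_lit 11690) (nat_lit 0) .nil)) (nat_lit 0x81b46e0d835) (nat_lit 0x18b5b56b6a9aa) (nat_lit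
  0) (.node (.node .nil (nat_lit 0x81b4cc4ac26) (nat_lit 338347) (nat_lit 0) .nil) (nat_lit 0x81b4d8a22a4)
  (nat_lit 0x6b1ab5adab) (nat_lit 0) .nil)))) (nat_lit 0x81b6d82f8af) (nat_lit 0xb5b58b6adab) (nat_lit 0)
  (.node (.node (.node (.node (.node .nil (nat_lit 0x81b9aba4794) (nat_lit 0x5b56d6294a) (nat_lit 0) .nil)
  (nat_lit 0x81bd17f9728) (nat_lit 0x16d5356b6a94a) (nat_lit 0) (.node .nil (nat_lit 0x81bd1f6b04e) (nat_lit
  0x5356d5b54d) (nat_lit 0) .nil)) (nat_lit 0x81c615160b7) (nat_lit 0x5b56b6a94d) (nat_lit 0) (.node (.node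
  .nil (nat_lit 0x81c6b33b33d) (nat_lit 0x294d5b56b6a94a) (nat_lit 0) .nil) (nat_lit 0x821ea291493) (nat_lit
  0xb5b58b6adaa) (nat_lit 0) (.node .nil (nat_lit 0x821fe6a7279) (nat_lit 0x354d5b56b6a94a) (nat_lit 0)
  .nil))) (nat_lit 0x82203d40504) (nat_lit 0x16d5adab6a9aa) (nat_lit 0) (.node (.node (.node .nil (nat_lit
  0x82236857796) (nat_lit 0x2dac5b54d) (nat_lit 0) .nil) (nat_lit 0x8224085f0e1) (nat_lit 0xd6354a5354a)
  (nat_lit 0) (.node .nil (nat_lit 0x8225fba369d) (nat_lit 0x1ab5b56d6294a) (nat_lit 0) .nil)) (nat_lit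
  0x822630c0ec9) (nat_lit 0x16d5b54d) (nat_lit 0) (.node (.node .nil (nat_lit 0x822a7a5cd29) (nat_lit
  0x1ac5b56b6a9aa) (nat_lit 0) .nil) (nat_lit 0x822af57b4c0) (nat_lit 436651) (nat_lit 0) .nil))) (nat_lit
  0x822b1d0462d) (nat_lit 0xd5adaa) (nat_lit 0) (.node (.node (.node (.node .nil (nat_lit 0x822b2e00169)
  (nat_lit 0x2d6d5b54a6adaa) (nat_lit 0) .nil) (nat_lit 0x822c14b1c73) (nat_lit 0xb6b1aa6a9ab) (nat_lit 0)
  (.node .nil (nat_lit 0x82329de9379) (nat_lit 0x2dac5b56d5adaa) (nat_lit 0) .nil)) (nat_lit 0x8233e202c6a)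
  (nat_lit 0xd5adab5b54d) (nat_lit 0) (.node (.node .nil (nat_lit 0x82341e12513) (nat_lit 0xc5adaa5356d)
  (nat_lit 0) .nil) (nat_lit 0x8234df685eb) (nat_lit 0x31ab6a9ab) (nat_lit 0) (.node .nil (nat_lit
  0x823552acdd4) (nat_lit 0xb6ad6d5b58d) (nat_lit 0) .nil))) (nat_lit 0x82373a1e3e0) (nat_lit 0x6ad6b6adac)
  (nat_lit 0) (.node (.node (.node .nil (nat_lit 0x82387221f7b) (nat_lit 0x6ad6d62dab6a9aa) (nat_lit 0) .nil)
  (nat_lit 0x8238f83553c) (nat_lit 0xd5b56b6adaa) (nat_lit 0) (.node .nil (nat_lit 0x82391bc40fb) (nat_lit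
  0x5354d5b54a5354a) (nat_lit 0) .nil)) (nat_lit 0x823b57e365b) (nat_lit 0xc6ad6d5b54d) (nat_lit 0) (.node
  (.node .nil (nat_lit 0x823b89119dc) (nat_lit 0x6356d5adaa) (nat_lit 0) .nil) (nat_lit 0x8242b3c328f)
  (nat_lit 0xd62daa529aa) (nat_lit 0) .nil))))))
def tF_15 : T := (.node (.node (.node (.node (.node (.node (.node .nil (nat_lit 0x825cb6e6df2) (nat_lit
  406891) (nat_lit 0) .nil) (nat_lit 0x825cd96e092) (nat_lit 0x16d5b56b6b14a) (nat_lit 0) (.node .nil (nat_lit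
  0x825d7d94402) (nat_lit 0xc6adab5adaa) (nat_lit 0) .nil)) (nat_lit 0x825e135dd6a) (nat_lit 0x5b58d5adab)
  (nat_lit 0) (.node (.node .nil (nat_lit 0x825e3c88141) (nat_lit 0xa5354d5294d) (nat_lit 0) .nil) (nat_lit
  0x825ee5bacc3) (nat_lit 0x29ab6ad6b) (nat_lit 0) (.node .nil (nat_lit 0x826010758e5) (nat_lit 0x1aa5354d)
  (nat_lit 0) .nil))) (nat_lit 0x8262a651443) (nat_lit 0x16d5adab5b58a) (nat_lit 0) (.node (.node (.node .nil
  (nat_lit 0x826a1134a78) (nat_lit 0x356b6a9aa529aa) (nat_lit 0) .nil) (nat_lit 0x826a3b30fc2) (nat_lit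
  0x5b56b5b54a) (nat_lit 0) (.node .nil (nat_lit 0x826a5db896b) (nat_lit 0xd529ab6a94a) (nat_lit 0) .nil))
  (nat_lit 0x8344a1bd749) (nat_lit 0x529aa529aa) (nat_lit 0) (.node (.node .nil (nat_lit 0x8345c44b87a)
  (nat_lit 0x18b6adab5b54a) (nat_lit 0) .nil) (nat_lit 0x8345d0a6fe7) (nat_lit 0x6ad6b6b1aa) (nat_lit 0)
  .nil))) (nat_lit 0x83475856fdf) (nat_lit 0x2d6b6a9ab) (nat_lit 0) (.node (.node (.node (.node .nil (nat_lit
  0x834862303d3) (nat_lit 0x1aa6adaa) (nat_lit 0) .nil) (nat_lit 0x834950c3c79) (nat_lit 0x6354a5354d)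
  (nat_lit 0) (.node .nil (nat_lit 0x834c08b7dfa) (nat_lit 0x18b6a9ab6adaa) (nat_lit 0) .nil)) (nat_lit
  0x834d395b01f) (nat_lit 0x356d62d6d529ab) (nat_lit 0) (.node (.node .nil (nat_lit 0x834d91a65b3) (nat_lit
  0x1ab6ad6b6adaa) (nat_lit 0) .nil) (nat_lit 0x834d9a75266) (nat_lit 0x29aa529ab6a9aa) (nat_lit 0) (.node
  .nil (nat_lit 0x8351f37aecf) (nat_lit 0x354d529ab) (nat_lit 0) .nil))) (nat_lit 0x8354d466112) (nat_lit
  0xc6ad6d5b56b) (nat_lit 0) (.node (.node (.node .nil (nat_lit 0x8398d0dda22) (nat_lit 0x2d6d5294d5b54a)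
  (nat_lit 0) .nil) (nat_lit 0x83994a55ff1) (nat_lit 0x5adab5b58b) (nat_lit 0) (.node .nil (nat_lit
  0x839b1b094ea) (nat_lit 0xb5b58d) (nat_lit 0) .nil)) (nat_lit 0x839ba9fbcbc) (nat_lit 0x1ab5b58d5adaa)
  (nat_lit 0) (.node (.node .nil (nat_lit 0x839d04fbcb6) (nat_lit 0x14d529aa6a94a) (nat_lit 0) .nil) (nat_lit
  0x839d86226fe) (nat_lit 0x16d6356b5b56d) (nat_lit 0) .nil)))) (nat_lit 0x839da51b08c) (nat_lit
  0xa5354a6a9aa) (nat_lit 0) (.node (.node (.node (.node (.node .nil (nat_lit 0x839ed503d6f) (nat_lit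
  0x356b6b16d5b54d) (nat_lit 0) .nil) (nat_lit 0x839f3173678) (nat_lit 0x16b6a9aa5354a) (nat_lit 0) (.node
  .nil (nat_lit 0x83a1f23e911) (nat_lit 0x6356d5356b) (nat_lit 0) .nil)) (nat_lit 0x83a65461314) (nat_lit
  0x31ab6ad6d) (nat_lit 0) (.node (.node .nil (nat_lit 0x83a724ab335) (nat_lit 0x2dab6b1aa529aa) (nat_lit 0)
  .nil) (nat_lit 0x8bff077df51) (nat_lit 372140) (nat_lit 0) (.node .nil (nat_lit 0x8bff1080779) (nat_lit
  0x14d5354a) (nat_lit 0) .nil))) (nat_lit 0x8c00be318b2) (nat_lit 0xa5356b6adab) (nat_lit 0) (.node (.node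
  (.node .nil (nat_lit 0x8c015585005) (nat_lit 0x14a6a94a6a9aa) (nat_lit 0) .nil) (nat_lit 0x8c01e3dd310)
  (nat_lit 0x18d5356b6a94a) (nat_lit 0) (.node .nil (nat_lit 0x8c02d49587e) (nat_lit 0x2d6d6356b6a94a)
  (nat_lit 0) .nil)) (nat_lit 0x8c0386c7eb2) (nat_lit 0x18d5ad6d529aa) (nat_lit 0) (.node (.node .nil (nat_lit
  0x8c05201df7a) (nat_lit 0xb6a9ab5b54d) (nat_lit 0) .nil) (nat_lit 0x8c054e13e70) (nat_lit 0x6adab5adab)
  (nat_lit 0) .nil))) (nat_lit 0x8c07d7dce51) (nat_lit 0x5b58d5b54d) (nat_lit 0) (.node (.node (.node (.node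
  .nil (nat_lit 0x8c0f3ce7c74) (nat_lit 12714) (nat_lit 0) .nil) (nat_lit 0x8c0fadef974) (nat_lit
  0x6356b6a94d) (nat_lit 0) (.node .nil (nat_lit 0x8ecd274dbd8) (nat_lit 0xb6a9aa529ab) (nat_lit 0) .nil))
  (nat_lit 0x8ecd36f70ea) (nat_lit 0x1ab6a94d5b56b) (nat_lit 0) (.node (.node .nil (nat_lit 0x8ed07ab5e33)
  (nat_lit 0x18d529aa) (nat_lit 0) .nil) (nat_lit 0x8ed8e3e8680) (nat_lit 0x2dab6a94d) (nat_lit 0) (.node .nil
  (nat_lit 0x8ed941a6dc6) (nat_lit 374090) (nat_lit 0) .nil))) (nat_lit 0x8ed968a968a) (nat_lit 0x62d6d5adab)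
  (nat_lit 0) (.node (.node (.node .nil (nat_lit 0x8ed96ecf49d) (nat_lit 0x1ab5b58a) (nat_lit 0) .nil)
  (nat_lit 0x8ed9eb44466) (nat_lit 0xc5294a) (nat_lit 0xc5294a) (.node .nil (nat_lit 0x8eda18b0d9e) (nat_lit
  0x1ab6b1ab6a9aa) (nat_lit 0) .nil)) (nat_lit 0x8eda2491817) (nat_lit 0xa6ad6d5354a) (nat_lit 0) (.node
  (.node .nil (nat_lit 0x8edc08f9bff) (nat_lit 0x62dab5b56b) (nat_lit 0) .nil) (nat_lit 0x8eded0cc5de)
  (nat_lit 0x2d6b6a94d5b54a) (nat_lit 0) .nil))))) (nat_lit 0x8f2053cada9) (nat_lit 0xb5b56b6b1ab) (nat_lit 0)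
  (.node (.node (.node (.node (.node (.node .nil (nat_lit 0x8f215eedcc6) (nat_lit 0xa6adaa5356d) (nat_lit 0)
  .nil) (nat_lit 0x8f21bab052a) (nat_lit 0x16b5b56d) (nat_lit 0) (.node .nil (nat_lit 0x8f22a47cc5c) (nat_lit
  0x14d5356d5adaa) (nat_lit 0) .nil)) (nat_lit 0x8f230011292) (nat_lit 0x18b6ad6d5b54a) (nat_lit 0) (.node
  (.node .nil (nat_lit 0x8f23fbce6cc) (nat_lit 0x16d62dab5b56d) (nat_lit 0) .nil) (nat_lit 0x8f28e098f1d)
  (nat_lit 0x316d5356b5b54a) (nat_lit 0) (.node .nil (nat_lit 0x8f28f4ffabf) (nat_lit 0xb6ad6d5b58b) (nat_lit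
  0) .nil))) (nat_lit 0x8f290b10759) (nat_lit 0xb5b56d6356d) (nat_lit 0) (.node (.node (.node .nil (nat_lit
  0x8f2923fe7bc) (nat_lit 0x5adaa6adab) (nat_lit 0) .nil) (nat_lit 0x8f2e77fac6e) (nat_lit 0x354d5356d)
  (nat_lit 0) (.node .nil (nat_lit 0x8f30634efc9) (nat_lit 0x5b56b6b16d) (nat_lit 0) .nil)) (nat_lit
  0x904731b9e4d) (nat_lit 0x2d6b6a94d) (nat_lit 0) (.node (.node .nil (nat_lit 0x904765afe20) (nat_lit
  0x6ad6d6354a) (nat_lit 0) .nil) (nat_lit 0x9049a8f2b60) (nat_lit 0x5adac6a94d) (nat_lit 0) .nil))) (nat_lit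
  0x904c01fb2a7) (nat_lit 0x2daa529ab) (nat_lit 0) (.node (.node (.node (.node .nil (nat_lit 0x904c547eded)
  (nat_lit 0x356b6a94a) (nat_lit 0) .nil) (nat_lit 0x904c54e1cab) (nat_lit 0x29ab5adaa) (nat_lit 0) (.node
  .nil (nat_lit 0x90500a68012) (nat_lit 0x1ab5b56d529aa) (nat_lit 0) .nil)) (nat_lit 0x905033f2a94) (nat_lit
  0x18d5294d5354a) (nat_lit 0) (.node (.node .nil (nat_lit 0x9054e7725bd) (nat_lit 0x2d6d6294a) (nat_lit 0)
  .nil) (nat_lit 0x905785a87fe) (nat_lit 0x1ac5b54d5294d) (nat_lit 0) (.node .nil (nat_lit 0x9057df959df)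
  (nat_lit 0xd5b58b5b54d) (nat_lit 0) .nil))) (nat_lit 0x905a4f1e6d4) (nat_lit 0) (nat_lit 0) (.node (.node
  (.node .nil (nat_lit 0x92578f904e5) (nat_lit 0xd5b56d6356b) (nat_lit 0) .nil) (nat_lit 0x92579fa9df5)
  (nat_lit 0x6354d5ad6d) (nat_lit 0) (.node .nil (nat_lit 0x925bf00df49) (nat_lit 0xb5b56d529ab) (nat_lit 0)
  .nil)) (nat_lit 0x925c41ecf92) (nat_lit 0x5354a5354a) (nat_lit 0) (.node (.node .nil (nat_lit 0x925efa1637b)
  (nat_lit 0x18d5adaa529ab) (nat_lit 0) .nil) (nat_lit 0x925f03ead8f) (nat_lit 0x18b5adaa) (nat_lit 0)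
  .nil)))) (nat_lit 0x9263d5b3840) (nat_lit 0xb6adac5b56b) (nat_lit 0) (.node (.node (.node (.node (.node .nil
  (nat_lit 0x9263e7d1475) (nat_lit 0x14a6a9ab5b54d) (nat_lit 0) .nil) (nat_lit 0x926462560ef) (nat_lit
  0x356b6a9aa) (nat_lit 0) (.node .nil (nat_lit 0x92648fe0b68) (nat_lit 0x2daa6ad6b) (nat_lit 0) .nil))
  (nat_lit 0x92649c3d923) (nat_lit 0x356d5354d) (nat_lit 0) (.node (.node .nil (nat_lit 0x9269483568f)
  (nat_lit 12715) (nat_lit 0) .nil) (nat_lit 0x926cca4aa1e) (nat_lit 0xd5ad6d5356d) (nat_lit 0) (.node .nil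
  (nat_lit 0x926ce8d2b4b) (nat_lit 0x29aa5356d) (nat_lit 0) .nil))) (nat_lit 0x926e2b8a788) (nat_lit
  0x1ab6a9aa6adaa) (nat_lit 0) (.node (.node (.node .nil (nat_lit 0x926f7adfd38) (nat_lit 0x14d5b56d5356b)
  (nat_lit 0) .nil) (nat_lit 0x926fe01bc1d) (nat_lit 0x1ab6ad6d5adaa) (nat_lit 0) (.node .nil (nat_lit
  0x92740533762) (nat_lit 0xb6ad6d5adaa) (nat_lit 0) .nil)) (nat_lit 0x927437b04e0) (nat_lit 0xb6a9aa6adaa)
  (nat_lit 0) (.node (.node .nil (nat_lit 0x927468bac60) (nat_lit 0x5b56b6a9ab) (nat_lit 0) .nil) (nat_lit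
  0x9278c7a3a88) (nat_lit 0x5ad6d5356d) (nat_lit 0) .nil))) (nat_lit 0x92799f8a7e9) (nat_lit 0x31aa5354a6a9aa)
  (nat_lit 0) (.node (.node (.node (.node .nil (nat_lit 0x927dd7c43bb) (nat_lit 0x2d6d5294d5b54d) (nat_lit 0)
  .nil) (nat_lit 0x927e5b04452) (nat_lit 0x2dac6a94a6adaa) (nat_lit 0) (.node .nil (nat_lit 0x92aada6a8f7)
  (nat_lit 0x1ab6b1aa529aa) (nat_lit 0) .nil)) (nat_lit 0x92ab730824c) (nat_lit 0x2dab5adaa5354d) (nat_lit 0)
  (.node (.node .nil (nat_lit 0x92ae23677b3) (nat_lit 0xb6a9aa5354a) (nat_lit 0) .nil) (nat_lit 0x92af9affe3f)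
  (nat_lit 374157) (nat_lit 0) (.node .nil (nat_lit 0x92b0a95699f) (nat_lit 0x62dab6ad6d) (nat_lit 0) .nil)))
  (nat_lit 0x92b36eb7c5e) (nat_lit 0x16d5294d5b54a) (nat_lit 0) (.node (.node (.node .nil (nat_lit
  0x92b3825fcea) (nat_lit 0xb5b54d5b56d) (nat_lit 0) .nil) (nat_lit 0x92b39b4610d) (nat_lit 0x2dab5b58b)
  (nat_lit 0) (.node .nil (nat_lit 0x92b8255ac3a) (nat_lit 0xb5b54a6adab) (nat_lit 0) .nil)) (nat_lit
  0x92bac60a69e) (nat_lit 0x294d529aa6a94a) (nat_lit 0) (.node (.node .nil (nat_lit 0x92bad960341) (nat_lit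
  0x5adab6b1ab) (nat_lit 0) .nil) (nat_lit 0x92bd4e1e8d6) (nat_lit 0xd6356b5b56d) (nat_lit 0) .nil))))))
def tF : T := (.node (.node (.node (.node tF_0 (nat_lit 0xf92652ccad) (nat_lit 0x5b56d5ad6d) (nat_lit 0) tF_1)
  (nat_lit 0x14590b7c4fe) (nat_lit 0x29ab5b54d) (nat_lit 0) (.node tF_2 (nat_lit 0x1936ed01e3f) (nat_lit
  0x16b6a94d5356b) (nat_lit 0) tF_3)) (nat_lit 0x1f8c26777e3) (nat_lit 0x358b6ad6b) (nat_lit 0) (.node (.node
  tF_4 (nat_lit 0x27dd2f7693e) (nat_lit 0x2d6b6adac) (nat_lit 0) tF_5) (nat_lit 0x2ad40c4fafc) (nat_lit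
  0x14a6a94d5b56b) (nat_lit 0) (.node tF_6 (nat_lit 0x2f715ca99de) (nat_lit 0x5354d5adaa) (nat_lit 0) tF_7)))
  (nat_lit 0x37c2a373a9f) (nat_lit 0xd5294a) (nat_lit 0) (.node (.node (.node tF_8 (nat_lit 0x4237bec676e)
  (nat_lit 0x16d529ab) (nat_lit 0) tF_9) (nat_lit 0x4af43a3991b) (nat_lit 0xc5adaa5354a) (nat_lit 0) (.node
  tF_10 (nat_lit 0x4d005fe936f) (nat_lit 0x358d5354d) (nat_lit 0) tF_11)) (nat_lit 0x6c211084437) (nat_lit
  0x16b5b58d) (nat_lit 0) (.node (.node tF_12 (nat_lit 0x70556a97393) (nat_lit 0x356d5294d) (nat_lit 0) tF_13)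
  (nat_lit 0x7bf091bd8f9) (nat_lit 0x6adac5b54d) (nat_lit 0) (.node tF_14 (nat_lit 0x825c9b29e3d) (nat_lit
  0xc5ad6d) (nat_lit 0) tF_15))))
def t20 : T := (.node (.node (.node (.node (.node .nil (nat_lit 0xf9267b8eb0) (nat_lit 395) (nat_lit 0) .nil)
  (nat_lit 0x16cecf2fcde) (nat_lit 0x18a5294a) (nat_lit 0) .nil) (nat_lit 0x1710c914e3c) (nat_lit 12651)
  (nat_lit 0) (.node (.node .nil (nat_lit 0x1ab09533584) (nat_lit 372075) (nat_lit 0) .nil) (nat_lit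
  0x22511b550cc) (nat_lit 10570) (nat_lit 0) .nil)) (nat_lit 0x284a77e5536) (nat_lit 394) (nat_lit 0) (.node
  (.node (.node .nil (nat_lit 0x2ab74a28a90) (nat_lit 363) (nat_lit 0) .nil) (nat_lit 0x2d992b1d7c6) (nat_lit
  0xa5294a) (nat_lit 0) .nil) (nat_lit 0x2eae87e9c03) (nat_lit 11) (nat_lit 0) (.node .nil (nat_lit
  0x31737fac6ac) (nat_lit 403786) (nat_lit 0) .nil))) (nat_lit 0x35b566fed6f) (nat_lit 330) (nat_lit 0) (.node
  (.node (.node (.node .nil (nat_lit 0x3c594b8a0b1) (nat_lit 12618) (nat_lit 0) .nil) (nat_lit 0x42785852380)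
  (nat_lit 404843) (nat_lit 0) .nil) (nat_lit 0x49b8b1b7d13) (nat_lit 12) (nat_lit 0) (.node .nil (nat_lit
  0x4a2395a39a1) (nat_lit 0xc5ad6b) (nat_lit 0) .nil)) (nat_lit 0x4be2463fc54) (nat_lit 11627) (nat_lit 0)
  (.node (.node (.node .nil (nat_lit 0x744bb7f343c) (nat_lit 338250) (nat_lit 0) .nil) (nat_lit 0x7f917fe261d)
  (nat_lit 10) (nat_lit 0) .nil) (nat_lit 0x8ed9eb44466) (nat_lit 0xc5294a) (nat_lit 0) (.node .nil (nat_lit
  0x905a4f1e6d4) (nat_lit 0) (nat_lit 0) .nil))))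
def wP : List (List ℕ) := [[0], [1], [2], [3], [0, 0], [0, 2], [0, 3], [1, 1], [1, 2], [1, 3], [2, 2], [3, 3],
  [0, 0, 2], [0, 0, 3], [0, 2, 2], [0, 3, 3], [1, 1, 2], [1, 1, 3], [1, 2, 2], [1, 3, 3], [0, 0, 2, 2], [0, 0,
  3, 3], [1, 1, 2, 2], [1, 1, 3, 3]]
def tP : T := (.node (.node (.node (.node (.node .nil (nat_lit 0x6b13a3ad8e) (nat_lit 33) (nat_lit 0) .nil)
  (nat_lit 0xaab75bbcf0) (nat_lit 98) (nat_lit 7) (.node .nil (nat_lit 0x12539663205) (nat_lit 129) (nat_lit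
  7) .nil)) (nat_lit 0x1807e74f330) (nat_lit 4129) (nat_lit 231) (.node (.node .nil (nat_lit 0x199e8eeadc7)
  (nat_lit 4225) (nat_lit 231) .nil) (nat_lit 0x1ab09533584) (nat_lit 132) (nat_lit 0) .nil)) (nat_lit
  0x1bd05785f61) (nat_lit 101409) (nat_lit 7) (.node (.node (.node .nil (nat_lit 0x28d45add23a) (nat_lit 3105)
  (nat_lit 231) .nil) (nat_lit 0x2ab74a28a90) (nat_lit 4) (nat_lit 0) .nil) (nat_lit 0x2f9fc9a8597) (nat_lit
  1) (nat_lit 0) (.node (.node .nil (nat_lit 0x343d4eb2967) (nat_lit 66) (nat_lit 0) .nil) (nat_lit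
  0x35b566fed6f) (nat_lit 3) (nat_lit 0) .nil))) (nat_lit 0x4f40b7b04b4) (nat_lit 130) (nat_lit 7) (.node
  (.node (.node (.node .nil (nat_lit 0x55ce6c6f219) (nat_lit 101442) (nat_lit 7) .nil) (nat_lit 0x564030c768e)
  (nat_lit 97) (nat_lit 7) (.node .nil (nat_lit 0x5672bd76b26) (nat_lit 2) (nat_lit 0) .nil)) (nat_lit
  0x5bcb0176016) (nat_lit 3138) (nat_lit 231) (.node (.node .nil (nat_lit 0x5e527c03950) (nat_lit 3169)
  (nat_lit 231) .nil) (nat_lit 0x6396fdcfab3) (nat_lit 135201) (nat_lit 7) .nil)) (nat_lit 0x6475928c4ca)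
  (nat_lit 135234) (nat_lit 7) (.node (.node (.node .nil (nat_lit 0x68418d27aa8) (nat_lit 3170) (nat_lit 231)
  .nil) (nat_lit 0x6e390c6aea8) (nat_lit 4226) (nat_lit 231) .nil) (nat_lit 0x744bb7f343c) (nat_lit 99)
  (nat_lit 0) (.node (.node .nil (nat_lit 0x84467b53ab9) (nat_lit 4162) (nat_lit 231) .nil) (nat_lit
  0x905a4f1e6d4) (nat_lit 0) (nat_lit 0) .nil))))
def w24 : List ℕ := [nat_lit 0, nat_lit 0, nat_lit 0, nat_lit 0, nat_lit 9, nat_lit 293, nat_lit 9381, nat_lit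
  300197, nat_lit 231, nat_lit 7397, nat_lit 236709, nat_lit 0x7394a5, nat_lit 0, nat_lit 5, nat_lit 165,
  nat_lit 5285, nat_lit 0, nat_lit 0, nat_lit 0, nat_lit 0, nat_lit 233, nat_lit 7461, nat_lit 238757, nat_lit
  0x7494a5, nat_lit 295, nat_lit 9445, nat_lit 302245, nat_lit 0x9394a5, nat_lit 7, nat_lit 229, nat_lit 7333,
  nat_lit 234661, nat_lit 0, nat_lit 0, nat_lit 0, nat_lit 0]

end Cfsg.Agent.SZ
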